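import Groth.Agent.Coherent.TopCoh
import Mathlib.Topology.Sheaves.MayerVietoris

/-!
# Mayer-Vietoris for cohomology of abelian sheaves on a space, elementwise

* `resH`, `postH`: restriction and functoriality of `H'`, with compatibilities;
* `subsingleton_H'_bot`;
* `deltaH`, `resH_sup_eq_zero_iff`, `exists_resH_sup`, `deltaH_eq_zero_iff`, naturality;
* `subsingleton_H'_sup`.
-/

set_option autoImplicit false

universe u

open CategoryTheory CategoryTheory.Abelian CategoryTheory.Limits Opposite TopologicalSpace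

namespace Groth.Agent.Coherent

variable {X : TopCat.{u}}

section Res

variable {F G : Sheaf (Opens.grothendieckTopology X) AddCommGrpCat.{u}}

/-- Restriction in cohomology. -/
noncomputable def resH (F : Sheaf (Opens.grothendieckTopology X) AddCommGrpCat.{u}) (n : ℕ)
    {U V : Opens X} (h : U ≤ V) : Ext (freeSh V) F n →+ Ext (freeSh U) F n :=
  (Ext.mk₀ (freeShMap h)).precomp F (zero_add n)

/-- Functoriality of cohomology in the sheaf. -/
noncomputable def postH (φ : F ⟶ G) (n : ℕ) (U : Opens X) :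
    Ext (freeSh U) F n →+ Ext (freeSh U) G n :=
  (Ext.mk₀ φ).postcomp (freeSh U) (add_zero n)

theorem resH_apply (n : ℕ) {U V : Opens X} (h : U ≤ V) (x : Ext (freeSh V) F n) :
    resH F n h x = (Ext.mk₀ (freeShMap h)).comp x (zero_add n) := rfl

theorem postH_apply (φ : F ⟶ G) (n : ℕ) (U : Opens X) (x : Ext (freeSh U) F n) :
    postH φ n U x = x.comp (Ext.mk₀ φ) (add_zero n) := rfl

theorem freeShMap_comp {U V W : Opens X} (h : U ≤ V) (h' : V ≤ W) :
    freeShMap h ≫ freeShMap h' = freeShMap (h.trans h') :=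
  ((yoneda ⋙ (Functor.whiskeringRight _ _ _).obj AddCommGrpCat.free ⋙
    presheafToSheaf (Opens.grothendieckTopology X) AddCommGrpCat.{u}).map_comp _ _).symm

theorem freeShMap_comp_assoc {U V W : Opens X} (h : U ≤ V) (h' : V ≤ W)
    {Z : Sheaf (Opens.grothendieckTopology X) AddCommGrpCat.{u}} (g : freeSh W ⟶ Z) :
    freeShMap h ≫ freeShMap h' ≫ g = freeShMap (h.trans h') ≫ g := by
  rw [← Category.assoc, freeShMap_comp]

theorem resH_resH (n : ℕ) {U V W : Opens X} (h : U ≤ V) (h' : V ≤ W) (x : Ext (freeSh W) F n) :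
    resH F n h (resH F n h' x) = resH F n (h.trans h') x := by
  simp only [resH_apply]
  rw [Ext.mk₀_comp_mk₀_assoc, freeShMap_comp]

theorem resH_refl (n : ℕ) {U : Opens X} (h : U ≤ U) (x : Ext (freeSh U) F n) :
    resH F n h x = x := by
  have e : freeShMap h = 𝟙 (freeSh U) := CategoryTheory.Functor.map_id _ U
  rw [resH_apply, e, Ext.mk₀_id_comp]

theorem resH_postH (φ : F ⟶ G) (n : ℕ) {U V : Opens X} (h : U ≤ V) (x : Ext (freeSh V) F n) :
    resH G n h (postH φ n V x) = postH φ n U (resH F n h x) := by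
  simp only [resH_apply, postH_apply]
  exact (Ext.comp_assoc_of_third_deg_zero _ _ _ _).symm

theorem postH_id (n : ℕ) (U : Opens X) (x : Ext (freeSh U) F n) : postH (𝟙 F) n U x = x :=
  Ext.comp_mk₀_id x

theorem postH_comp {K : Sheaf (Opens.grothendieckTopology X) AddCommGrpCat.{u}} (φ : F ⟶ G)
    (ψ : G ⟶ K) (n : ℕ) (U : Opens X) (x : Ext (freeSh U) F n) :
    postH (φ ≫ ψ) n U x = postH ψ n U (postH φ n U x) := by
  change x.comp (Ext.mk₀ (φ ≫ ψ)) (add_zero n) =
    (x.comp (Ext.mk₀ φ) (add_zero n)).comp (Ext.mk₀ ψ) (add_zero n)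
  rw [← Ext.mk₀_comp_mk₀, Ext.comp_assoc_of_second_deg_zero]

end Res

theorem freeSh_bot_isZero : IsZero (freeSh (⊥ : Opens X)) := by
  rw [IsZero.iff_id_eq_zero]
  apply (freeShEquiv (⊥ : Opens X) (freeSh (⊥ : Opens X))).injective
  exact @Subsingleton.elim _ (AddCommGrpCat.subsingleton_of_isZero
    ((TopCat.Sheaf.isTerminalOfEmpty (F := (freeSh (⊥ : Opens X)))).isZero)) _ _

theorem subsingleton_H'_bot (F : Sheaf (Opens.grothendieckTopology X) AddCommGrpCat.{u}) (n : ℕ) :
    Subsingleton (Sheaf.H' F n (⊥ : Opens X)) := by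
  refine subsingleton_of_forall_eq 0 fun x => ?_
  have key : ∀ y : Ext (freeSh (⊥ : Opens X)) F n, y = 0 := fun y => by
    rw [← Ext.mk₀_id_comp y, freeSh_bot_isZero.eq_of_src (𝟙 _) 0, Ext.mk₀_zero, Ext.zero_comp]
  exact key x

section MV

variable (F : Sheaf (Opens.grothendieckTopology X) AddCommGrpCat.{u}) (U V : Opens X)

/-- `ℤ_{U ⊓ V} → ℤ_U ⊞ ℤ_V → ℤ_{U ⊔ V}`. -/
noncomputable abbrev mvSC : ShortComplex (Sheaf (Opens.grothendieckTopology X) AddCommGrpCat.{u}) where
  X₁ := freeSh (U ⊓ V)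
  X₂ := freeSh U ⊞ freeSh V
  X₃ := freeSh (U ⊔ V)
  f := biprod.lift (freeShMap inf_le_left) (-freeShMap inf_le_right)
  g := biprod.desc (freeShMap le_sup_left) (freeShMap le_sup_right)
  zero := (Opens.mayerVietorisSquare U V).shortComplex.zero

theorem mvSC_shortExact : (mvSC U V).ShortExact :=
  (Opens.mayerVietorisSquare U V).shortComplex_shortExact

/-- The Mayer-Vietoris connecting map. -/
noncomputable def deltaH (n : ℕ) : Ext (freeSh (U ⊓ V)) F n →+ Ext (freeSh (U ⊔ V)) F (n + 1) :=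
  (mvSC_shortExact U V).extClass.precomp F (add_comm 1 n)

theorem deltaH_apply (n : ℕ) (x : Ext (freeSh (U ⊓ V)) F n) :
    deltaH F U V n x = (mvSC_shortExact U V).extClass.comp x (add_comm 1 n) := rfl

variable {F U V}

theorem mk₀_g_comp_eq_zero {n : ℕ} {x : Ext (freeSh (U ⊔ V)) F n}
    (h₁ : resH F n le_sup_left x = 0) (h₂ : resH F n le_sup_right x = 0) :
    (Ext.mk₀ (mvSC U V).g).comp x (zero_add n) = 0 := by
  apply Ext.biprodAddEquiv.injective
  rw [map_zero]
  refine Prod.ext ?_ ?_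
  · change (Ext.mk₀ biprod.inl).comp _ (zero_add n) = 0
    rw [Ext.mk₀_comp_mk₀_assoc, biprod.inl_desc]
    exact h₁
  · change (Ext.mk₀ biprod.inr).comp _ (zero_add n) = 0
    rw [Ext.mk₀_comp_mk₀_assoc, biprod.inr_desc]
    exact h₂

/-- A class vanishing on `U` and `V` comes from the connecting map. -/
theorem exists_deltaH {n : ℕ} {x : Ext (freeSh (U ⊔ V)) F (n + 1)}
    (h₁ : resH F (n + 1) le_sup_left x = 0) (h₂ : resH F (n + 1) le_sup_right x = 0) :
    ∃ w, deltaH F U V n w = x :=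
  Ext.contravariant_sequence_exact₃ (mvSC_shortExact U V) F x (mk₀_g_comp_eq_zero h₁ h₂)
    (add_comm 1 n)

/-- In degree zero restriction to `U` and `V` is injective. -/
theorem eq_zero_of_resH_zero {x : Ext (freeSh (U ⊔ V)) F 0}
    (h₁ : resH F 0 le_sup_left x = 0) (h₂ : resH F 0 le_sup_right x = 0) : x = 0 := by
  have := (mvSC_shortExact U V).epi_g
  refine Ext.precomp_mk₀_injective_of_epi F (mvSC U V).g ?_
  exact (mk₀_g_comp_eq_zero h₁ h₂).trans (map_zero _).symm

/-- Compatible classes on `U` and `V` glue. -/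
theorem exists_resH_sup {n : ℕ} {a : Ext (freeSh U) F n} {b : Ext (freeSh V) F n}
    (h : resH F n inf_le_left a = resH F n inf_le_right b) :
    ∃ x : Ext (freeSh (U ⊔ V)) F n, resH F n le_sup_left x = a ∧ resH F n le_sup_right x = b := by
  obtain ⟨x, hx⟩ := Ext.contravariant_sequence_exact₂ (mvSC_shortExact U V) F
    (n := n) (Ext.biprodAddEquiv.symm (a, b)) (by
      rw [Ext.biprodAddEquiv_symm_apply, Ext.comp_add, Ext.mk₀_comp_mk₀_assoc,
        Ext.mk₀_comp_mk₀_assoc, biprod.lift_fst, biprod.lift_snd, Ext.mk₀_neg, Ext.neg_comp,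
        ← sub_eq_add_neg, sub_eq_zero]
      exact h)
  refine ⟨x, ?_⟩
  have h₁ := congrArg (fun z => (Ext.biprodAddEquiv z).1) hx
  have h₂ := congrArg (fun z => (Ext.biprodAddEquiv z).2) hx
  simp only [AddEquiv.apply_symm_apply] at h₁ h₂
  refine ⟨Eq.trans ?_ h₁, Eq.trans ?_ h₂⟩
  · change _ = (Ext.mk₀ biprod.inl).comp _ (zero_add n)
    rw [Ext.mk₀_comp_mk₀_assoc, biprod.inl_desc]
    rfl
  · change _ = (Ext.mk₀ biprod.inr).comp _ (zero_add n)
    rw [Ext.mk₀_comp_mk₀_assoc, biprod.inr_desc]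
    rfl

/-- A class killed by the connecting map is a difference of restrictions. -/
theorem exists_of_deltaH_eq_zero {n : ℕ} {w : Ext (freeSh (U ⊓ V)) F n}
    (h : deltaH F U V n w = 0) :
    ∃ (a : Ext (freeSh U) F n) (b : Ext (freeSh V) F n),
      resH F n inf_le_left a - resH F n inf_le_right b = w := by
  obtain ⟨z, hz⟩ := Ext.contravariant_sequence_exact₁ (mvSC_shortExact U V) F w (add_comm 1 n) h
  obtain ⟨⟨a, b⟩, rfl⟩ := Ext.biprodAddEquiv.symm.surjective z
  refine ⟨a, b, ?_⟩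
  rw [← hz, Ext.biprodAddEquiv_symm_apply, Ext.comp_add, Ext.mk₀_comp_mk₀_assoc,
    Ext.mk₀_comp_mk₀_assoc, biprod.lift_fst, biprod.lift_snd, Ext.mk₀_neg, Ext.neg_comp,
    ← sub_eq_add_neg]
  rfl

theorem deltaH_sub_eq_zero {n : ℕ} (a : Ext (freeSh U) F n) (b : Ext (freeSh V) F n) :
    deltaH F U V n (resH F n inf_le_left a - resH F n inf_le_right b) = 0 := by
  have e : resH F n inf_le_left a - resH F n inf_le_right b =
      (Ext.mk₀ (mvSC U V).f).comp (Ext.biprodAddEquiv.symm (a, b)) (zero_add n) := by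
    rw [Ext.biprodAddEquiv_symm_apply, Ext.comp_add, Ext.mk₀_comp_mk₀_assoc,
      Ext.mk₀_comp_mk₀_assoc, biprod.lift_fst, biprod.lift_snd, Ext.mk₀_neg, Ext.neg_comp,
      ← sub_eq_add_neg]
    rfl
  rw [e, deltaH_apply]
  exact (mvSC_shortExact U V).extClass_comp_assoc _

theorem resH_deltaH_left {n : ℕ} (w : Ext (freeSh (U ⊓ V)) F n) :
    resH F (n + 1) le_sup_left (deltaH F U V n w) = 0 := by
  have e : freeShMap (le_sup_left : U ≤ U ⊔ V) = biprod.inl ≫ (mvSC U V).g :=
    (biprod.inl_desc _ _).symm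
  rw [resH_apply, e, ← Ext.mk₀_comp_mk₀_assoc, deltaH_apply,
    (mvSC_shortExact U V).comp_extClass_assoc, Ext.comp_zero]

theorem resH_deltaH_right {n : ℕ} (w : Ext (freeSh (U ⊓ V)) F n) :
    resH F (n + 1) le_sup_right (deltaH F U V n w) = 0 := by
  have e : freeShMap (le_sup_right : V ≤ U ⊔ V) = biprod.inr ≫ (mvSC U V).g :=
    (biprod.inr_desc _ _).symm
  rw [resH_apply, e, ← Ext.mk₀_comp_mk₀_assoc, deltaH_apply,
    (mvSC_shortExact U V).comp_extClass_assoc, Ext.comp_zero]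

theorem postH_deltaH {G : Sheaf (Opens.grothendieckTopology X) AddCommGrpCat.{u}} (φ : F ⟶ G)
    (n : ℕ) (w : Ext (freeSh (U ⊓ V)) F n) :
    postH φ (n + 1) (U ⊔ V) (deltaH F U V n w) = deltaH G U V n (postH φ n (U ⊓ V) w) := by
  simp only [postH_apply, deltaH_apply]
  exact Ext.comp_assoc_of_third_deg_zero _ _ _ _

variable {U' V' : Opens X}

/-- Restriction commutes with the connecting map. -/
theorem resH_deltaH (hU : U' ≤ U) (hV : V' ≤ V) (n : ℕ) (w : Ext (freeSh (U ⊓ V)) F n) :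
    resH F (n + 1) (sup_le_sup hU hV) (deltaH F U V n w) =
      deltaH F U' V' n (resH F n (inf_le_inf hU hV) w) := by
  let φ : mvSC U' V' ⟶ mvSC U V :=
    { τ₁ := freeShMap (inf_le_inf hU hV)
      τ₂ := biprod.map (freeShMap hU) (freeShMap hV)
      τ₃ := freeShMap (sup_le_sup hU hV)
      comm₁₂ := by
        apply biprod.hom_ext <;>
          simp <;> exact (freeShMap_comp _ _).trans (freeShMap_comp _ _).symm
      comm₂₃ := by
        apply biprod.hom_ext' <;>
          simp <;> exact (freeShMap_comp _ _).trans (freeShMap_comp _ _).symm }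
  have e := ShortComplex.ShortExact.extClass_naturality (mvSC_shortExact U' V')
    (mvSC_shortExact U V) φ
  simp only [resH_apply, deltaH_apply]
  rw [← Ext.comp_assoc (a₁₂ := 1) _ _ _ (zero_add 1) _ (by omega), ← e,
    Ext.comp_assoc_of_second_deg_zero]

/-- Mayer-Vietoris vanishing. -/
theorem subsingleton_H'_sup (n : ℕ) (hU : Subsingleton (Sheaf.H' F (n + 1) U))
    (hV : Subsingleton (Sheaf.H' F (n + 1) V)) (hW : Subsingleton (Sheaf.H' F n (U ⊓ V))) :
    Subsingleton (Sheaf.H' F (n + 1) (U ⊔ V)) := by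
  refine subsingleton_of_forall_eq 0 fun x => ?_
  obtain ⟨w, rfl⟩ := exists_deltaH (x := (x : Ext (freeSh (U ⊔ V)) F (n + 1)))
    (hU.elim _ _) (hV.elim _ _)
  rw [hW.elim w 0]
  exact map_zero _

end MV

end Groth.Agent.Coherent
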