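import Groth.Agent.Coherent.SchemeCoh
import Groth.Agent.Coherent.MayerVietoris
import Groth.Agent.S0015

/-!
# Vanishing of quasi-coherent cohomology in high degree
-/

set_option autoImplicit false

universe u

open CategoryTheory CategoryTheory.Abelian CategoryTheory.Limits AlgebraicGeometry Opposite
  TopologicalSpace

namespace Groth.Agent.Coherent

variable {X : Scheme.{u}}

theorem subsingleton_H'_qcoh_pos (M : X.Modules) [Coh.IsQCoh M] {U : X.Opens}
    (hU : IsAffineOpen U) {n : ℕ} (hn : 1 ≤ n) : Subsingleton (Sheaf.H' (Coh.toAb M) n U) := by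
  obtain ⟨m, rfl⟩ := Nat.exists_eq_add_of_le hn
  rw [add_comm]
  exact subsingleton_H'_qcoh M hU m

theorem subsingleton_H'_sup_sch (M : X.Modules) {U V : X.Opens} (n : ℕ)
    (hU : Subsingleton (Sheaf.H' (Coh.toAb M) (n + 1) U))
    (hV : Subsingleton (Sheaf.H' (Coh.toAb M) (n + 1) V))
    (hW : Subsingleton (Sheaf.H' (Coh.toAb M) n (U ⊓ V))) :
    Subsingleton (Sheaf.H' (Coh.toAb M) (n + 1) (U ⊔ V)) :=
  subsingleton_H'_sup (X := X.toTopCat) n hU hV hW

/-- With affine intersections, cohomology of a union of `t` affines vanishes from degree `t` on. -/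
theorem subsingleton_H'_iSup_affine
    (hd : ∀ V W : X.Opens, IsAffineOpen V → IsAffineOpen W → IsAffineOpen (V ⊓ W))
    (M : X.Modules) [Coh.IsQCoh M] :
    ∀ (t : ℕ) (U : Fin t → X.Opens), (∀ i, IsAffineOpen (U i)) → ∀ n, t ≤ n →
      Subsingleton (Sheaf.H' (Coh.toAb M) n (⨆ i, U i))
  | 0, U, _, n, _ => by
    rw [iSup_of_empty]
    exact subsingleton_H'_bot (X := X.toTopCat) (Coh.toAb M) n
  | t + 1, U, hU, n, hn => by
    obtain ⟨m, rfl⟩ := Nat.exists_eq_add_of_le hn
    rw [show t + 1 + m = t + m + 1 by omega]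
    have e : (⨆ i, U i) = (⨆ i : Fin t, U i.castSucc) ⊔ U (Fin.last t) := by
      refine le_antisymm (iSup_le fun i => ?_) (sup_le (iSup_le fun i => le_iSup U _) (le_iSup U _))
      induction i using Fin.lastCases with
      | last => exact le_sup_right
      | cast j => exact le_sup_of_le_left (le_iSup (fun i : Fin t => U i.castSucc) j)
    rw [e]
    refine subsingleton_H'_sup_sch M _
      (subsingleton_H'_iSup_affine hd M t (fun i => U i.castSucc) (fun i => hU _) _ (by omega))
      (subsingleton_H'_qcoh_pos M (hU _) (by omega)) ?_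
    rw [iSup_inf_eq]
    exact subsingleton_H'_iSup_affine hd M t (fun i => U i.castSucc ⊓ U (Fin.last t))
      (fun i => hd _ _ (hU _) (hU _)) _ (by omega)

/-- Quasi-compact opens of a quasi-compact quasi-separated scheme have bounded cohomological
dimension for quasi-coherent modules, uniformly in the further intersection with basic opens. -/
theorem exists_bound_subsingleton_H' [CompactSpace X] [QuasiSeparatedSpace X] (U : X.Opens)
    (hU : IsCompact (U : Set X)) :
    ∃ d, ∀ (M : X.Modules), Coh.IsQCoh M → ∀ (r : Γ(X, ⊤)) (p : ℕ), d ≤ p →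
      Subsingleton (Sheaf.H' (Coh.toAb M) p (U ⊓ X.basicOpen r)) := by
  refine Groth.Agent.S0015.result X (fun U => ∃ d, ∀ (M : X.Modules), Coh.IsQCoh M →
    ∀ (r : Γ(X, ⊤)) (p : ℕ), d ≤ p →
      Subsingleton (Sheaf.H' (Coh.toAb M) p (U ⊓ X.basicOpen r))) (fun U hU => ?_) ?_ U hU
  · refine ⟨1, fun M hM r p hp => ?_⟩
    have e : U ⊓ X.basicOpen r = X.basicOpen (X.presheaf.map (homOfLE (le_top (a := U))).op r) :=
      (X.basicOpen_res r _).symm
    rw [e]
    exact subsingleton_H'_qcoh_pos M (hU.basicOpen _) hp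
  · rintro U V - - ⟨a, ha⟩ ⟨b, hb⟩ ⟨c, hc⟩
    refine ⟨max a (max b c) + 1, fun M hM r p hp => ?_⟩
    obtain ⟨q, rfl⟩ := Nat.exists_eq_add_of_le hp
    rw [inf_sup_right, show max a (max b c) + 1 + q = max a (max b c) + q + 1 by omega]
    refine subsingleton_H'_sup_sch M _ (ha M hM r _ (by omega)) (hb M hM r _ (by omega)) ?_
    rw [show U ⊓ X.basicOpen r ⊓ (V ⊓ X.basicOpen r) = U ⊓ V ⊓ X.basicOpen r from
      inf_inf_distrib_right U V (X.basicOpen r) |>.symm]
    exact hc M hM r _ (by omega)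

theorem exists_bound_subsingleton_H'_top [CompactSpace X] [QuasiSeparatedSpace X] :
    ∃ d, ∀ (M : X.Modules), Coh.IsQCoh M → ∀ (p : ℕ), d ≤ p →
      Subsingleton (Sheaf.H' (Coh.toAb M) p (⊤ : X.Opens)) := by
  obtain ⟨d, hd⟩ := exists_bound_subsingleton_H' (X := X) ⊤ isCompact_univ
  refine ⟨d, fun M hM p hp => ?_⟩
  have := hd M hM 1 p hp
  rwa [Scheme.basicOpen_of_isUnit (hf := isUnit_one), top_inf_eq] at this

end Groth.Agent.Coherent
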