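import Groth.Agent.Coherent.ProjSpaceTwist
import Groth.Agent.Coherent.Vanishing
import Mathlib.AlgebraicGeometry.ProjectiveSpectrum.Proper
import Mathlib.RingTheory.MvPolynomial.Homogeneous

/-!
# Cohomology of `O(d)` on projective space: results
-/

set_option autoImplicit false

universe u

open CategoryTheory CategoryTheory.Abelian CategoryTheory.Limits AlgebraicGeometry Opposite
  TopologicalSpace

namespace Groth.Agent.Coherent

variable {n : ℕ} {R : Type u} [CommRing R] {d : ℤ}

theorem sup_DX : ((Finset.univ : Finset (Fin (n + 1))).sup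
    fun i => (DX n R i : (CohB1.ProjSpace n R).Opens)) = ⊤ := by
  rw [Finset.sup_univ_eq_iSup]
  exact ProjLib.iSup_basicOpen_X n R

/-- For a single chart every degree zero class is monomial. -/
theorem MonoData.exists_single_equiv {X : TopCat.{u}}
    {F : Sheaf (Opens.grothendieckTopology X) AddCommGrpCat.{u}} {ι : Type} [DecidableEq ι]
    [Fintype ι] {D : ι → Opens X} {E : Type} {N : E → Finset ι} (m : MonoData F D R N)
    (hι : Fintype.card ι = 1) (hcov : (Finset.univ : Finset ι).sup D = ⊤) :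
    ∃ e : (E →₀ R) ≃+ Ext (freeSh (⊤ : Opens X)) F 0,
      ∀ (r : R) v, postH (m.act r) 0 ⊤ (e v) = e (r • v) := by
  obtain ⟨a, ha⟩ := Finset.card_eq_one.1 ((Finset.card_univ (α := ι)).trans hι)
  have hle : (⊤ : Opens X) ≤ ({a} : Finset ι).inf D := by
    rw [← hcov, ha]; simp
  have hne : ({a} : Finset ι).Nonempty := Finset.singleton_nonempty a
  have hall : ∀ v : E →₀ R, ∀ e ∈ v.support, N e ⊆ ({a} : Finset ι) := fun v e _ => by
    rw [← ha]; exact Finset.subset_univ _
  let f : (E →₀ R) →+ Ext (freeSh (⊤ : Opens X)) F 0 := (resH F 0 hle).comp (m.θ {a})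
  have hf : Function.Bijective f := by
    constructor
    · refine (injective_iff_map_eq_zero f).2 fun v hv => ?_
      exact m.inj hne v (hall v) ((MonoData.resH_eq_zero_iff hle le_top _).1 hv)
    · intro x
      obtain ⟨v, -, hv⟩ := m.surj hne (resH F 0 le_top x)
      exact ⟨v, (congrArg (resH F 0 hle) hv).trans (MonoData.resH_isoOf le_top hle x)⟩
  refine ⟨AddEquiv.ofBijective f hf, fun r v => ?_⟩
  change postH (m.act r) 0 ⊤ (resH F 0 hle (m.θ {a} v)) = resH F 0 hle (m.θ {a} (r • v))
  rw [← resH_postH, m.act_θ hne r v (hall v)]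

/-- Transport of an additive equivalence to global cohomology, linearly. -/
theorem nonempty_linearEquiv_HH {M : Type u} [AddCommGroup M] [Module R M] {q : ℕ}
    (e : M ≃+ Ext (freeSh (X := (CohB1.ProjSpace n R).toTopCat) (⊤ : (CohB1.ProjSpace n R).Opens))
      (Coh.toAb (Twist.twistProjSpace n R d)) q)
    (he : ∀ (r : R) v, postH (X := (CohB1.ProjSpace n R).toTopCat)
      ((projSpaceMonoData n R d).act r) q ⊤ (e v) = e (r • v)) :
    Nonempty (Coh.HH (CohB1.ProjSpace n R) (Twist.twistProjSpace n R d) q ≃ₗ[R] M) := by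
  let g : M ≃+ Coh.HH (CohB1.ProjSpace n R) (Twist.twistProjSpace n R d) q :=
    e.trans (HHTopEquiv (X := CohB1.ProjSpace n R) (Twist.twistProjSpace n R d) q).symm
  refine ⟨LinearEquiv.symm { g with map_smul' := fun r v => ?_ }⟩
  refine (congrArg (HHTopEquiv (X := CohB1.ProjSpace n R) (Twist.twistProjSpace n R d) q).symm
    (he r v).symm).trans ?_
  exact (smul_HH_eq (X := CohB1.ProjSpace n R) (Twist.twistProjSpace n R d) q
    (Coh.toGlobal (CohB1.ProjSpace.toSpec n R) r) (e v)).symm

theorem subsingleton_supported (T : Finset (Fin (n + 1))) (h : ∀ e : Expo n d, negSet e ≠ T) :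
    Subsingleton (Finsupp.supported R R {e : Expo n d | negSet e = T}) := by
  have hz : ∀ v : Finsupp.supported R R {e : Expo n d | negSet e = T}, v = 0 := fun v =>
    Subtype.ext (Finsupp.support_eq_empty.1 (Finset.eq_empty_of_forall_notMem fun e he =>
      h e ((Finsupp.mem_supported R _).1 v.2 he)))
  exact ⟨fun a b => (hz a).trans (hz b).symm⟩

/-- Vanishing of the cohomology of `O(d)`. -/
theorem subsingleton_HH_twist (q : ℕ) (h₀ : ¬ (q = 0 ∧ 0 ≤ d))
    (hn : ¬ (q = n ∧ d ≤ -((n : ℤ) + 1))) :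
    Subsingleton (Coh.HH (CohB1.ProjSpace n R) (Twist.twistProjSpace n R d) q) := by
  suffices h : Subsingleton (Ext (freeSh (X := (CohB1.ProjSpace n R).toTopCat)
      (⊤ : (CohB1.ProjSpace n R).Opens)) (Coh.toAb (Twist.twistProjSpace n R d)) q) from
    @Equiv.subsingleton _ _
      (HHTopEquiv (X := CohB1.ProjSpace n R) (Twist.twistProjSpace n R d) q).toEquiv h
  let m := projSpaceMonoData n R d
  have hzero : d < 0 → ∀ e : Expo n d, negSet e ≠ ∅ := fun hd e he => by
    have : ∀ i, 0 ≤ e.1 i := fun i => not_lt.1 fun hi => by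
      simpa [he] using mem_negSet.2 hi
    have := Finset.sum_nonneg (s := Finset.univ) fun i _ => this i
    rw [e.2] at this
    omega
  have htop : -((n : ℤ) + 1) < d → ∀ e : Expo n d, negSet e ≠ Finset.univ := fun hd e he => by
    have h1 : ∀ i, e.1 i ≤ -1 := fun i => by
      have : e.1 i < 0 := mem_negSet.1 (he ▸ Finset.mem_univ i)
      omega
    have := Finset.sum_le_sum (s := Finset.univ) (g := fun _ => (-1 : ℤ)) fun i _ => h1 i
    rw [e.2] at this
    simp at this
    omega
  rcases q with _ | q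
  · rcases Nat.eq_zero_or_pos n with rfl | hn0
    · obtain ⟨e, -⟩ := m.exists_single_equiv (by simp) sup_DX
      have : IsEmpty (Expo 0 d) := ⟨fun v => by
        by_cases hd : 0 ≤ d
        · exact h₀ ⟨rfl, hd⟩
        · exact hn ⟨rfl, by omega⟩⟩
      exact e.symm.toEquiv.subsingleton
    · obtain ⟨e, -⟩ := m.exists_zero_equiv sup_DX (by simpa using hn0)
      have := subsingleton_supported (R := R) (d := d) ∅
        (hzero (by by_contra h; exact h₀ ⟨rfl, by omega⟩))
      exact e.symm.toEquiv.subsingleton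
  · by_cases hq : q + 1 = n
    · subst hq
      obtain ⟨e, -⟩ := m.exists_top_equiv sup_DX (by simp) q.succ_pos
      have := subsingleton_supported (R := R) (d := d) Finset.univ
        (htop (by by_contra h; exact hn ⟨rfl, by omega⟩))
      exact e.symm.toEquiv.subsingleton
    · have h0 := m.eq_zero_of_cover sup_DX (n := n) (by simp) q hq
      exact ⟨fun a b => (h0 a).trans (h0 b).symm⟩

variable (R)

/-- Families on exponents identified with monomials of degree `k`. -/
theorem nonempty_equiv_homogeneous {σ α : Type} (k : ℕ)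
    (g : α ≃ {μ : σ →₀ ℕ // μ.degree = k}) :
    Nonempty ((α →₀ R) ≃ₗ[R] MvPolynomial.homogeneousSubmodule σ R k) := by
  classical
  let f : (α →₀ R) →ₗ[R] MvPolynomial.homogeneousSubmodule σ R k :=
    Finsupp.linearCombination R fun a =>
      ⟨MvPolynomial.monomial (g a).1 1, MvPolynomial.isHomogeneous_monomial 1 (g a).2⟩
  have hf : ∀ v, (f v).1 = ∑ a ∈ v.support, MvPolynomial.monomial (g a).1 (v a) := fun v => by
    simp [f, Finsupp.linearCombination_apply, Finsupp.sum, MvPolynomial.smul_monomial]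
  have hc : ∀ v a, MvPolynomial.coeff (g a).1 (f v).1 = v a := fun v a => by
    rw [hf, MvPolynomial.coeff_sum, Finset.sum_eq_single a]
    · rw [MvPolynomial.coeff_monomial, if_pos rfl]
    · intro b _ hb
      rw [MvPolynomial.coeff_monomial, if_neg fun h => hb (g.injective (Subtype.ext h))]
    · intro ha
      rw [MvPolynomial.coeff_monomial, if_pos rfl]
      exact Finsupp.notMem_support_iff.1 ha
  refine ⟨LinearEquiv.ofBijective f ⟨fun v w h => Finsupp.ext fun a => ?_, fun P => ?_⟩⟩
  · rw [← hc v a, ← hc w a, h]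
  · have hdeg : ∀ μ ∈ P.1.support, μ.degree = k := fun μ hμ => by
      have := P.2 (MvPolynomial.mem_support_iff.1 hμ)
      rwa [Finsupp.degree_eq_weight_one]
    refine ⟨∑ μ : {μ // μ ∈ P.1.support},
      Finsupp.single (g.symm ⟨μ.1, hdeg μ.1 μ.2⟩) (P.1.coeff μ.1), Subtype.ext ?_⟩
    rw [map_sum, Submodule.coe_sum]
    conv_rhs => rw [P.1.as_sum, ← Finset.sum_coe_sort P.1.support]
    refine Finset.sum_congr rfl fun μ _ => ?_
    simp [f, MvPolynomial.smul_monomial]

variable (n)

/-- Exponents without negative entries. -/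
noncomputable def negSetEmptyEquiv (k : ℕ) :
    {e : Expo n (k : ℤ) // negSet e = ∅} ≃ {μ : Fin (n + 1) →₀ ℕ // μ.degree = k} where
  toFun e := ⟨Finsupp.equivFunOnFinite.symm fun i => (e.1.1 i).toNat, by
    have hnn : ∀ i, 0 ≤ e.1.1 i := fun i => not_lt.1 fun hi => by
      simpa [e.2] using mem_negSet.2 hi
    rw [degree_eq_sum]
    zify
    conv_rhs => rw [← e.1.2]
    exact Finset.sum_congr rfl fun i _ => Int.toNat_of_nonneg (hnn i)⟩
  invFun μ := ⟨⟨fun i => (μ.1 i : ℤ), by rw [← Nat.cast_sum, ← degree_eq_sum, μ.2]⟩,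
    Finset.eq_empty_of_forall_notMem fun i hi =>
      (Int.natCast_nonneg (μ.1 i)).not_gt (mem_negSet.1 hi)⟩
  left_inv e := Subtype.ext (Subtype.ext (funext fun i => by
    have : 0 ≤ e.1.1 i := not_lt.1 fun hi => by simpa [e.2] using mem_negSet.2 hi
    simpa using this))
  right_inv μ := Subtype.ext (Finsupp.ext fun i => by simp)

/-- Exponents with all entries negative. -/
noncomputable def negSetUnivEquiv (k : ℕ) :
    {e : Expo n (-((n : ℤ) + 1 + k)) // negSet e = Finset.univ} ≃
      {μ : Fin (n + 1) →₀ ℕ // μ.degree = k} where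
  toFun e := ⟨Finsupp.equivFunOnFinite.symm fun i => (-e.1.1 i - 1).toNat, by
    have hn : ∀ i, e.1.1 i < 0 := fun i => mem_negSet.1 (e.2.ge (Finset.mem_univ i))
    rw [degree_eq_sum]
    zify
    rw [Finset.sum_congr rfl fun i _ => show ((Finsupp.equivFunOnFinite.symm
        fun i => (-e.1.1 i - 1).toNat) i : ℤ) = -e.1.1 i - 1 from
      Int.toNat_of_nonneg (by have := hn i; omega), Finset.sum_sub_distrib, Finset.sum_neg_distrib,
      e.1.2]
    simp⟩
  invFun μ := ⟨⟨fun i => -(μ.1 i : ℤ) - 1, by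
      rw [Finset.sum_sub_distrib, Finset.sum_neg_distrib, ← Nat.cast_sum, ← degree_eq_sum, μ.2]
      simp
      ring⟩,
    Finset.eq_univ_of_forall fun i => mem_negSet.2 (by simp; omega)⟩
  left_inv e := Subtype.ext (Subtype.ext (funext fun i => by
    have : e.1.1 i < 0 := mem_negSet.1 (e.2.ge (Finset.mem_univ i))
    simp
    omega))
  right_inv μ := Subtype.ext (Finsupp.ext fun i => by simp)

/-- `H^0(P^n, O(k))`. -/
theorem nonempty_HH_zero_twist (k : ℕ) :
    Nonempty (Coh.HH (CohB1.ProjSpace n R) (Twist.twistProjSpace n R (k : ℤ)) 0 ≃ₗ[R]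
      MvPolynomial.homogeneousSubmodule (Fin (n + 1)) R k) := by
  let m := projSpaceMonoData n R (k : ℤ)
  obtain ⟨p⟩ := nonempty_equiv_homogeneous R k (negSetEmptyEquiv n k)
  rcases Nat.eq_zero_or_pos n with rfl | hn0
  · obtain ⟨e, he⟩ := m.exists_single_equiv (by simp) sup_DX
    obtain ⟨f⟩ := nonempty_linearEquiv_HH (n := 0) (R := R) (d := (k : ℤ)) (q := 0) (M := Expo 0 (k : ℤ) →₀ R) e he
    have hall : ∀ x : Expo 0 (k : ℤ), negSet x = ∅ := fun x => by
      refine Finset.eq_empty_of_forall_notMem fun i hi => ?_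
      have := mem_negSet.1 hi
      have := x.2
      rw [Fin.sum_univ_one] at this
      rw [Fin.fin_one_eq_zero i] at *
      omega
    let r : (Expo 0 (k : ℤ) →₀ R) ≃ₗ[R] ({e : Expo 0 (k : ℤ) // negSet e = ∅} →₀ R) :=
      Finsupp.domLCongr (Equiv.subtypeUnivEquiv hall).symm
    exact ⟨(f.trans r).trans p⟩
  · obtain ⟨e, he⟩ := m.exists_zero_equiv sup_DX (by simpa using hn0)
    let w : ({x : Expo n (k : ℤ) // negSet x = ∅} →₀ R) ≃ₗ[R]
        Finsupp.supported R R {x : Expo n (k : ℤ) | negSet x = ∅} :=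
      (Finsupp.supportedEquivFinsupp (M := R) (R := R) {x : Expo n (k : ℤ) | negSet x = ∅}).symm
    obtain ⟨f⟩ := nonempty_linearEquiv_HH (n := n) (R := R) (q := 0)
      (M := {x : Expo n (k : ℤ) // negSet x = ∅} →₀ R) (w.toAddEquiv.trans e)
      (fun r v => (he r (w v)).trans (congrArg e (w.map_smul r v).symm))
    exact ⟨f.trans p⟩

/-- `H^n(P^n, O(-(n+1+k)))`. -/
theorem nonempty_HH_top_twist (k : ℕ) :
    Nonempty (Coh.HH (CohB1.ProjSpace n R) (Twist.twistProjSpace n R (-((n : ℤ) + 1 + k))) n ≃ₗ[R]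
      MvPolynomial.homogeneousSubmodule (Fin (n + 1)) R k) := by
  let m := projSpaceMonoData n R (-((n : ℤ) + 1 + k))
  obtain ⟨p⟩ := nonempty_equiv_homogeneous R k (negSetUnivEquiv n k)
  rcases Nat.eq_zero_or_pos n with rfl | hn0
  · obtain ⟨e, he⟩ := m.exists_single_equiv (by simp) sup_DX
    obtain ⟨f⟩ := nonempty_linearEquiv_HH (n := 0) (R := R) (d := -(((0 : ℕ) : ℤ) + 1 + k)) (q := 0) (M := Expo 0 (-(((0 : ℕ) : ℤ) + 1 + k)) →₀ R) e he
    have hall : ∀ x : Expo 0 (-(((0 : ℕ) : ℤ) + 1 + k)), negSet x = Finset.univ := fun x => by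
      refine Finset.eq_univ_of_forall fun i => mem_negSet.2 ?_
      have := x.2
      rw [Fin.sum_univ_one] at this
      rw [Fin.fin_one_eq_zero i]
      omega
    let r : (Expo 0 (-(((0 : ℕ) : ℤ) + 1 + k)) →₀ R) ≃ₗ[R]
        ({e : Expo 0 (-(((0 : ℕ) : ℤ) + 1 + k)) // negSet e = Finset.univ} →₀ R) :=
      Finsupp.domLCongr (Equiv.subtypeUnivEquiv hall).symm
    exact ⟨(f.trans r).trans p⟩
  · obtain ⟨e, he⟩ := m.exists_top_equiv sup_DX (by simp) hn0
    let w : ({x : Expo n (-((n : ℤ) + 1 + k)) // negSet x = Finset.univ} →₀ R) ≃ₗ[R]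
        Finsupp.supported R R {x : Expo n (-((n : ℤ) + 1 + k)) | negSet x = Finset.univ} :=
      (Finsupp.supportedEquivFinsupp (M := R) (R := R) {x : Expo n (-((n : ℤ) + 1 + k)) | negSet x = Finset.univ}).symm
    obtain ⟨f⟩ := nonempty_linearEquiv_HH (n := n) (R := R) (q := n)
      (M := {x : Expo n (-((n : ℤ) + 1 + k)) // negSet x = Finset.univ} →₀ R) (w.toAddEquiv.trans e)
      (fun r v => (he r (w v)).trans (congrArg e (w.map_smul r v).symm))
    exact ⟨f.trans p⟩

variable {n} {R}

/-- Vanishing above `n` on `P^n`. -/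
theorem subsingleton_HH_projSpace_of_lt (M : (CohB1.ProjSpace n R).Modules) [Coh.IsQCoh M] (i : ℕ)
    (hi : n < i) : Subsingleton (Coh.HH (CohB1.ProjSpace n R) M i) := by
  have : (CohB1.ProjSpace n R).IsSeparated := inferInstanceAs (Proj (CohB1.polyGrading n R)).IsSeparated
  have h := subsingleton_H'_iSup_affine (X := CohB1.ProjSpace n R)
    (fun V W hV hW => hV.inf hW) M (n + 1) (fun j => (DX n R j : (CohB1.ProjSpace n R).Opens))
    (fun j => Proj.isAffineOpen_basicOpen _ _ (ProjLib.X_mem_polyGrading n R j) one_pos) i hi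
  have hc : (⨆ j, (DX n R j : (CohB1.ProjSpace n R).Opens)) = ⊤ := ProjLib.iSup_basicOpen_X n R
  have e := congrArg (fun U => Subsingleton (Sheaf.H' (Coh.toAb M) i U)) hc
  replace h := e.mp h
  exact @Equiv.subsingleton _ _ (HHTopEquiv (X := CohB1.ProjSpace n R) M i).toEquiv h

section Structure

variable (n) (R)

local notation "𝒫" => CohB1.polyGrading n R

theorem one_notMem_point {V : Opens (ProjectiveSpectrum.top 𝒫)} (x : V) :
    (1 : MvPolynomial (Fin (n + 1)) R) ∉ x.1.asHomogeneousIdeal := fun h =>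
  x.1.isPrime.ne_top ((Ideal.eq_top_iff_one _).mpr h)

/-- The section `1` of `O(0)`. -/
noncomputable def oneSec (V : Opens (ProjectiveSpectrum.top 𝒫)) :
    Twist.sectN (𝒜 := 𝒫) 0 (op V) :=
  fracSec (i := 0) (j := 0) 0 V ⟨1, SetLike.GradedOne.one_mem⟩ ⟨1, SetLike.GradedOne.one_mem⟩
    (one_notMem_point n R) rfl

theorem oSmul_oneSec_val (V : Opens (ProjectiveSpectrum.top 𝒫)) (g : Twist.O (𝒜 := 𝒫) (op V))
    (x : V) : ((oSmul g (oneSec n R V)).1 x).1 = (g.1 x).val := by
  refine (oSmul_val g _ x).trans ?_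
  refine (congrArg (_ * ·) (fracSec_val _ _ _ _ _ _ x)).trans ?_
  exact (congrArg (_ * ·) (Localization.mk_self ⟨1, one_notMem_point n R x⟩)).trans (mul_one _)

/-- `O → O(0)`. -/
noncomputable def toTwistZero :
    Coh.structureModule (CohB1.ProjSpace n R) ⟶ Twist.twistProjSpace n R 0 :=
  unitDesc (Twist.twistProjSpace n R 0) (oneSec n R ⊤)

theorem toTwistZero_app_val (V : (CohB1.ProjSpace n R).Opens)
    (g : Γ(CohB1.ProjSpace n R, V)) (x : (V : Opens (ProjectiveSpectrum.top 𝒫))) :
    ((show Twist.sectN (𝒜 := 𝒫) 0 (op V) from (toTwistZero n R).app V g).1 x).1 =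
      ((show Twist.O (𝒜 := 𝒫) (op V) from g).1 x).val := by
  refine Eq.trans ?_ (oSmul_oneSec_val n R V g x)
  have h := (app_unit (toTwistZero n R) g).trans (congrArg (g • ·)
    (unitVal_unitDesc (Twist.twistProjSpace n R 0) (oneSec n R ⊤) V))
  exact congrArg (fun z => (Subtype.val (show Twist.sectN (𝒜 := 𝒫) 0 (op V) from z) x).1) h

instance isIso_toTwistZero : IsIso (toTwistZero n R) := by
  have hinj : ∀ (V : (CohB1.ProjSpace n R).Opens),
      Function.Injective ((toTwistZero n R).app V) := fun V g g' h => by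
    refine Subtype.ext (funext fun x => HomogeneousLocalization.val_injective _ ?_)
    exact (toTwistZero_app_val n R V g x).symm.trans ((congrArg (fun z =>
      ((show Twist.sectN (𝒜 := 𝒫) 0 (op V) from z).1 x).1) h).trans (toTwistZero_app_val n R V g' x))
  have : Mono (toTwistZero n R) := Preadditive.mono_of_cancel_zero _ fun {P} g hg =>
    Scheme.Modules.hom_ext _ _ fun V => ConcreteCategory.hom_ext _ _ fun a => hinj V
      ((congrArg (fun ψ : P ⟶ Twist.twistProjSpace n R 0 => ψ.app V a) hg).trans (map_zero _).symm)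
  have : Epi (toTwistZero n R) := by
    refine epi_of_locally_surjective _ fun W a y hy => ?_
    obtain ⟨i, hi⟩ := TopologicalSpace.Opens.mem_iSup.1
      ((ProjLib.iSup_basicOpen_X n R).ge (Set.mem_univ y))
    let W' : (CohB1.ProjSpace n R).Opens := W ⊓ DX n R i
    obtain ⟨g, hg⟩ := (smul_tauSec_bijective (ProjLib.X_mem_polyGrading n R i) 0 W' inf_le_right).2
      (show Twist.sectN (𝒜 := 𝒫) 0 (op W') from resM (Twist.twistProjSpace n R 0) inf_le_left a)
    refine ⟨W', inf_le_left, ⟨hy, hi⟩, g, sectN_ext (d := 0) fun x => ?_⟩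
    refine (toTwistZero_app_val n R W' g x).trans (Eq.trans ?_
      (congrArg (fun z => (Subtype.val z x).1) hg))
    refine Eq.trans ?_ (oSmul_val g _ x).symm
    refine Eq.trans (mul_one _).symm (congrArg (_ * ·) ?_)
    refine Eq.trans ?_ (tauSec_val (ProjLib.X_mem_polyGrading n R i) 0 W' inf_le_right x).symm
    rw [← Localization.mk_one]
    congr 2
  exact isIso_of_mono_of_epi _

/-- Higher cohomology of the structure sheaf of `P^n` vanishes. -/
theorem subsingleton_HH_structureModule (q : ℕ) (hq : 0 < q) :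
    Subsingleton (Coh.HH (CohB1.ProjSpace n R) (Coh.structureModule (CohB1.ProjSpace n R)) q) := by
  have h := subsingleton_HH_twist (n := n) (R := R) (d := 0) q (by omega) (by omega)
  have h' : Subsingleton (Sheaf.H' (Coh.toAb (Twist.twistProjSpace n R 0)) q
      (⊤ : (CohB1.ProjSpace n R).Opens)) :=
    @Equiv.subsingleton _ _
      (HHTopEquiv (X := CohB1.ProjSpace n R) (Twist.twistProjSpace n R 0) q).toEquiv.symm h
  exact @Equiv.subsingleton _ _
    (HHTopEquiv (X := CohB1.ProjSpace n R) (Coh.structureModule (CohB1.ProjSpace n R)) q).toEquiv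
    (subsingleton_H'_of_iso (asIso (toTwistZero n R)).symm q ⊤ h')

/-- Global functions on `P^n_R` are constants. -/
theorem isIso_appTop_toSpec : IsIso (CohB1.ProjSpace.toSpec n R).appTop := by
  rcases Nat.eq_zero_or_pos n with rfl | hn0
  · have := ProjLib.isIso_toSpec_zero R
    exact inferInstanceAs (IsIso ((CohB1.ProjSpace.toSpec 0 R).app ⊤))
  obtain ⟨s, hs⟩ := ProjLib.exists_section_toSpec n R
  refine (ConcreteCategory.isIso_iff_bijective _).2 ⟨fun a b hab => ?_, fun y => ?_⟩
  · have h : ∀ c, s.appTop ((CohB1.ProjSpace.toSpec n R).appTop c) = c := fun c => by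
      rw [← ConcreteCategory.comp_apply, ← Scheme.Hom.comp_appTop, hs, Scheme.Hom.id_appTop]
      rfl
    rw [← h a, ← h b, hab]
  · classical
    let P := CohB1.ProjSpace n R
    let z := (secH (X := P.toTopCat) (Coh.toAb (Twist.twistProjSpace n R 0)) (⊤ : P.Opens)).symm
      ((toTwistZero n R).app ⊤ y)
    obtain ⟨m, hm, hmi⟩ := (projSpaceMonoData n R 0).exists_param (S := Finset.univ)
      (by simpa using hn0) ∅ (Finset.disjoint_empty_right _) (resH (X := P.toTopCat) _ 0 le_top z)
    let r := ∑ e ∈ m.support, m e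
    refine ⟨(Scheme.ΓSpecIso (CommRingCat.of R)).inv r,
      Subtype.ext (funext fun x => HomogeneousLocalization.val_injective _ ?_)⟩
    refine (val_toGlobal n R r x.1).trans ?_
    obtain ⟨i, hi⟩ := TopologicalSpace.Opens.mem_iSup.1
      ((ProjLib.iSup_basicOpen_X n R).ge (Set.mem_univ x.1))
    have hxA : x.1 ∈ (insert i ∅ : Finset (Fin (n + 1))).inf (DX n R) := by
      rw [Finset.inf_insert, Finset.inf_empty]
      exact ⟨hi, trivial⟩
    have hm0 : ∀ e ∈ m.support, ∀ j, e.1 j = 0 := fun e he => by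
      have h0 : ∀ j, 0 ≤ e.1 j := fun j => not_lt.1 fun hj =>
        absurd (hm e he (mem_negSet.2 hj)) (Finset.notMem_empty j)
      exact fun j => (Finset.sum_eq_zero_iff_of_nonneg fun k _ => h0 k).1 e.2 j (Finset.mem_univ j)
    have hs := monomial_notMem (R := R) (μ := kInd 0 (insert i ∅)) kInd_ne_zero hxA
    have hev := eval_monParam m (fun e he => (hm e he).trans (Finset.empty_subset _))
      ⟨x.1, hxA⟩ (k := 0) (fun _ => 0) (fun e he j => by simp [hm0 e he j, kInd_apply]) hs
    have h1 := (congrArg (secH (X := P.toTopCat) _ _) (hmi i (Finset.mem_univ i))).trans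
      (AddEquiv.apply_symm_apply _ _)
    rw [secH_resH, secH_resH] at h1
    have h2 := congrArg (fun w => (Subtype.val (show Twist.sectN (𝒜 := 𝒫) 0 (op _) from w)
      ⟨x.1, hxA⟩).1) h1
    refine Eq.trans ?_ (toTwistZero_app_val n R ⊤ y x)
    refine Eq.trans ?_ ((h2.trans hev).symm.trans ?_)
    · have : kInd 0 (insert i ∅ : Finset (Fin (n + 1))) = 0 :=
        Finsupp.ext fun j => by simp [kInd_apply]
      simp only [r, Finsupp.sum, ← MvPolynomial.C_apply, ← map_sum]
      congr 2
      refine Subtype.ext ?_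
      change (1 : MvPolynomial (Fin (n + 1)) R) = MvPolynomial.monomial (kInd 0 (insert i ∅)) 1
      rw [this]
      rfl
    · exact congrArg (fun w => (Subtype.val (show Twist.sectN (𝒜 := 𝒫) 0 (op ⊤) from w) x).1)
        ((secH (X := P.toTopCat) (Coh.toAb (Twist.twistProjSpace n R 0)) (⊤ : P.Opens)).apply_symm_apply
          ((toTwistZero n R).app ⊤ y))

end Structure

end Groth.Agent.Coherent
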