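import Groth.Agent.Coherent.TwistGen
import Groth.Agent.Coherent.ProjSpaceCoh

/-!
# Finiteness of coherent cohomology on projective space
-/

set_option autoImplicit false

universe u

open CategoryTheory CategoryTheory.Abelian CategoryTheory.Limits AlgebraicGeometry Opposite
  TopologicalSpace HomogeneousLocalization Groth.Agent.PicLib

namespace Groth.Agent.Coherent

section Biproduct

attribute [local instance] hasFiniteBiproducts

variable {X : Scheme.{u}} {ι : Type} [Fintype ι] (F : ι → X.Modules)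

theorem biproduct_sections_total (U : X.Opens) (x : Γ(⨁ F, U)) :
    ∑ i, (biproduct.ι F i).app U ((biproduct.π F i).app U x) = x := by
  classical
  have key : ∀ s : Finset ι, (∑ i ∈ s, biproduct.π F i ≫ biproduct.ι F i).app U x =
      ∑ i ∈ s, (biproduct.ι F i).app U ((biproduct.π F i).app U x) := fun s => by
    induction s using Finset.induction with
    | empty => simp
    | insert a s ha ih => rw [Finset.sum_insert ha, Finset.sum_insert ha, ← ih]; rfl
  rw [← key, biproduct.total]
  rfl

theorem isQCoh_biproduct (h : ∀ i, Coh.IsQCoh (F i)) : Coh.IsQCoh (⨁ F) := by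
  classical
  refine (isQCoh_iff_localizesOn _).2 fun U hU => ⟨fun f s => ?_, fun f t ht => ?_⟩
  · have hx := fun i => (isQCoh_iff_localizesOn _).1 (h i) U hU |>.exists_pow_smul f ((biproduct.π F i).app _ s)
    choose n t ht using hx
    let N := Finset.univ.sup n
    refine ⟨N, ∑ i, (biproduct.ι F i).app U (f ^ (N - n i) • t i), ?_⟩
    conv_rhs => rw [← biproduct_sections_total F _ s]
    rw [map_sum, Finset.smul_sum]
    refine Finset.sum_congr rfl fun i _ => ?_
    rw [← app_resM, resM_smul, ht, smul_smul, Scheme.Modules.Hom.app_smul, ← map_mul, ← pow_add,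
      Nat.sub_add_cancel (Finset.le_sup (Finset.mem_univ i))]
  · have hx := fun i => (isQCoh_iff_localizesOn _).1 (h i) U hU |>.exists_pow_smul_eq_zero f
      ((biproduct.π F i).app U t) (by rw [← app_resM, ht, map_zero])
    choose n hn using hx
    refine ⟨Finset.univ.sup n, ?_⟩
    rw [← biproduct_sections_total F U t, Finset.smul_sum]
    refine Finset.sum_eq_zero fun i _ => ?_
    rw [← Scheme.Modules.Hom.app_smul]
    obtain ⟨d, hd⟩ := Nat.exists_eq_add_of_le (Finset.le_sup (f := n) (Finset.mem_univ i))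
    rw [hd, add_comm, pow_add, mul_smul, hn, smul_zero, map_zero]

theorem isCoh_biproduct (h : ∀ i, Coh.IsCoh (F i)) : Coh.IsCoh (⨁ F) := by
  classical
  refine (isCoh_iff_finite_sections _).2 ⟨isQCoh_biproduct F fun i => (h i).1, fun U hU => ?_⟩
  have := fun i => ((isCoh_iff_finite_sections _).1 (h i)).2 U hU
  refine Module.Finite.of_surjective
    (LinearMap.lsum Γ(X, U) (fun i => Γ(F i, U)) Γ(X, U) fun i => appLin (biproduct.ι F i) U)
    fun x => ⟨fun i => (biproduct.π F i).app U x, ?_⟩
  simp only [LinearMap.lsum_apply, LinearMap.sum_apply, LinearMap.comp_apply, LinearMap.proj_apply]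
  exact biproduct_sections_total F U x

end Biproduct

variable (n : ℕ) (R : Type u) [CommRing R]

local notation "𝒫" => CohB1.polyGrading n R

/-- `X_i / X_j` on `D_+(X_j)`. -/
noncomputable def ratio (j i : Fin (n + 1)) :
    Γ(CohB1.ProjSpace n R, (DX n R j : (CohB1.ProjSpace n R).Opens)) :=
  (ProjectiveSpectrum.Proj.awayToSection 𝒫 (MvPolynomial.X j)).hom
    (Away.mk 𝒫 (ProjLib.X_mem_polyGrading n R j) 1 (MvPolynomial.X i)
      (by simpa using ProjLib.X_mem_polyGrading n R i))

theorem ratio_val (j i : Fin (n + 1)) (p : (DX n R j : Opens (ProjectiveSpectrum.top 𝒫))) :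
    ((show Twist.O (𝒜 := 𝒫) (op (DX n R j)) from ratio n R j i).1 p).val =
      Localization.mk (MvPolynomial.X i) ⟨MvPolynomial.X j, p.2⟩ := by
  refine (val_awayToSection_mk (ProjLib.X_mem_polyGrading n R j) 1 _ _ p).trans ?_
  congr 2
  exact pow_one _

theorem basicOpen_ratio (j i : Fin (n + 1)) :
    (CohB1.ProjSpace n R).basicOpen (ratio n R j i) =
      (DX n R j : (CohB1.ProjSpace n R).Opens) ⊓ DX n R i := by
  ext x
  by_cases hj : x ∈ (DX n R j : (CohB1.ProjSpace n R).Opens)
  · let p : (DX n R j : Opens (ProjectiveSpectrum.top 𝒫)) := ⟨x, hj⟩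
    have h : x ∈ (CohB1.ProjSpace n R).basicOpen (ratio n R j i) ↔
        IsUnit ((show Twist.O (𝒜 := 𝒫) (op (DX n R j)) from ratio n R j i).1 p) := by
      refine ((CohB1.ProjSpace n R).mem_basicOpen _ _ hj).trans ?_
      refine (isUnit_map_iff (Proj.stalkIso' 𝒫 x) _).symm.trans ?_
      exact iff_of_eq (congrArg IsUnit (Proj.stalkIso'_germ 𝒫 (DX n R j) x hj _))
    refine h.trans ?_
    rw [← HomogeneousLocalization.isUnit_iff_isUnit_val, ratio_val n R j i p,
      Localization.mk_eq_mk', IsLocalization.AtPrime.isUnit_mk'_iff]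
    exact ⟨fun hh => ⟨hj, hh⟩, fun hh => hh.2⟩
  · exact ⟨fun hh => absurd ((CohB1.ProjSpace n R).basicOpen_le _ hh) hj, fun hh => absurd hh.1 hj⟩

theorem ratio_self (i : Fin (n + 1)) : ratio n R i i = 1 := by
  refine Subtype.ext (funext fun p => HomogeneousLocalization.val_injective _ ?_)
  refine (ratio_val n R i i p).trans ?_
  exact (Localization.mk_self ⟨MvPolynomial.X i, p.2⟩).trans (HomogeneousLocalization.val_one).symm

theorem ratio_cocycle (i j k : Fin (n + 1)) :
    PicLib.res (inf_le_left : (DX n R i : (CohB1.ProjSpace n R).Opens) ⊓ DX n R j ≤ DX n R i)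
        (ratio n R i j) *
      PicLib.res (inf_le_right : (DX n R i : (CohB1.ProjSpace n R).Opens) ⊓ DX n R j ≤ DX n R j)
        (ratio n R j k) =
      PicLib.res inf_le_left (ratio n R i k) := by
  refine Subtype.ext (funext fun p => HomogeneousLocalization.val_injective _ ?_)
  refine (HomogeneousLocalization.val_mul _ _).trans ?_
  refine (congrArg₂ (· * ·) (ratio_val n R i j ⟨p.1, p.2.1⟩) (ratio_val n R j k ⟨p.1, p.2.2⟩)).trans ?_
  refine Eq.trans ?_ (ratio_val n R i k ⟨p.1, p.2.1⟩).symm
  rw [Localization.mk_mul]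
  exact Localization.mk_eq_mk_iff.2 (Localization.r_iff_exists.2 ⟨1, by
    simp only [Submonoid.coe_mul, Submonoid.coe_one]; ring⟩)

theorem O_pow_val {V : Opens (ProjectiveSpectrum.top 𝒫)} (g : Twist.O (𝒜 := 𝒫) (op V)) (N : ℕ)
    (x : V) : (g ^ N).1 x = g.1 x ^ N := by
  induction N with
  | zero => rw [pow_zero, pow_zero]; rfl
  | succ N ih => rw [pow_succ, pow_succ, ← ih]; rfl

/-- `D_+(X_i)` as an open of the scheme. -/
noncomputable abbrev DP (i : Fin (n + 1)) : (CohB1.ProjSpace n R).Opens := DX n R i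

/-- `ratio`, typed on `DP`. -/
noncomputable abbrev ratioP (j i : Fin (n + 1)) : Γ(CohB1.ProjSpace n R, DP n R j) := ratio n R j i

theorem tauSec_rel (N : ℕ) (i j : Fin (n + 1)) :
    resM (Twist.twistProjSpace n R (-(N : ℤ)))
        (inf_le_left : DP n R i ⊓ DP n R j ≤ DP n R i)
        (tauSec (ProjLib.X_mem_polyGrading n R i) (-(N : ℤ)) (DX n R i) le_rfl) =
      PicLib.res (inf_le_left : DP n R i ⊓ DP n R j ≤ DP n R i)
          (ratioP n R i j) ^ N •
        resM (Twist.twistProjSpace n R (-(N : ℤ)))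
          (inf_le_right : DP n R i ⊓ DP n R j ≤ DP n R j)
          (tauSec (ProjLib.X_mem_polyGrading n R j) (-(N : ℤ)) (DX n R j) le_rfl) := by
  refine sectN_ext fun p => ?_
  refine (tauSec_val (ProjLib.X_mem_polyGrading n R i) (-(N : ℤ)) (DX n R i) le_rfl ⟨p.1, p.2.1⟩).trans ?_
  refine Eq.trans ?_ (oSmul_val _ _ p).symm
  let g : Twist.O (𝒜 := 𝒫) (op (DX n R i ⊓ DX n R j : Opens (ProjectiveSpectrum.top 𝒫))) :=
    PicLib.res (inf_le_left : (DX n R i : (CohB1.ProjSpace n R).Opens) ⊓ DX n R j ≤ DX n R i)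
      (ratio n R i j)
  have hg : ((g ^ N).1 p).val =
      Localization.mk (MvPolynomial.X j) ⟨MvPolynomial.X i, p.2.1⟩ ^ N := by
    rw [O_pow_val n R g N p, HomogeneousLocalization.val_pow]
    exact congrArg (· ^ N) (ratio_val n R i j ⟨p.1, p.2.1⟩)
  refine Eq.trans ?_ (congrArg₂ (· * ·) hg
    (tauSec_val (ProjLib.X_mem_polyGrading n R j) (-(N : ℤ)) (DX n R j) le_rfl ⟨p.1, p.2.2⟩)).symm
  rw [Localization.mk_pow, Localization.mk_mul]
  exact Localization.mk_eq_mk_iff.2 (Localization.r_iff_exists.2 ⟨1, by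
    simp only [Submonoid.coe_mul, Submonoid.coe_one, SubmonoidClass.coe_pow,
      show (-(N : ℤ)).toNat = 0 by omega, neg_neg, Int.toNat_natCast, pow_zero]
    ring⟩)

/-- The standard cover. -/
noncomputable def projPowCover : PowCover (CohB1.ProjSpace n R) where
  ι := Fin (n + 1)
  D i := DX n R i
  isAffine i := Proj.isAffineOpen_basicOpen 𝒫 _ (ProjLib.X_mem_polyGrading n R i) one_pos
  cover := ProjLib.iSup_basicOpen_X n R
  g := ratio n R
  basicOpen_g := basicOpen_ratio n R
  g_self := ratio_self n R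
  cocycle := ratio_cocycle n R

/-- Generators of `O(-N)`. -/
noncomputable def twistGens (N : ℕ) :
    (projPowCover n R).Gens (Twist.twistProjSpace n R (-(N : ℤ))) N where
  τ i := tauSec (ProjLib.X_mem_polyGrading n R i) (-(N : ℤ)) (DX n R i) le_rfl
  isGen i := fun V h => smul_tauSec_bijective (ProjLib.X_mem_polyGrading n R i) (-(N : ℤ)) V h
  rel := tauSec_rel n R N

set_option backward.isDefEq.respectTransparency.types false in
/-- Projective space is proper over its base. -/
theorem isProper_projSpace_toSpec : IsProper (CohB1.ProjSpace.toSpec n R) := by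
  have : IsScalarTower R ((CohB1.polyGrading n R) 0) (MvPolynomial (Fin (n + 1)) R) :=
    IsScalarTower.of_algebraMap_eq (R := R) (S := (CohB1.polyGrading n R) 0)
      (A := MvPolynomial (Fin (n + 1)) R) fun r => rfl
  have : Algebra.FiniteType ((CohB1.polyGrading n R) 0) (MvPolynomial (Fin (n + 1)) R) :=
    Algebra.FiniteType.of_restrictScalars_finiteType R ((CohB1.polyGrading n R) 0) _
  have hbij : Function.Bijective (algebraMap R ((CohB1.polyGrading n R) 0)) := by
    refine ⟨fun a b h => MvPolynomial.C_injective _ R (congrArg Subtype.val h),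
      fun p => ⟨MvPolynomial.coeff 0 p.1, Subtype.ext ?_⟩⟩
    show MvPolynomial.C (MvPolynomial.coeff 0 p.1) = p.1
    exact (MvPolynomial.totalDegree_eq_zero_iff_eq_C.mp
      (((MvPolynomial.totalDegree_zero_iff_isHomogeneous _).2
        ((MvPolynomial.mem_homogeneousSubmodule 0 p.1).mp p.2)))).symm
  have : IsIso (CommRingCat.ofHom (algebraMap R ((CohB1.polyGrading n R) 0))) :=
    (ConcreteCategory.isIso_iff_bijective _).mpr hbij
  exact show IsProper (Proj.toSpecZero (CohB1.polyGrading n R) ≫ Spec.map (CommRingCat.ofHom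
      (algebraMap R ((CohB1.polyGrading n R) 0)))) from inferInstance

variable {n R}

/-- Modules with local generators are coherent. -/
theorem isCoh_of_gens {X : Scheme.{u}} {L : X.Modules} [Coh.IsQCoh L] {C : PowCover X} {N : ℕ}
    (G : C.Gens L N) : Coh.IsCoh L := by
  refine isCoh_of_finite_sections_cover L inferInstance (fun i : ULift.{u} C.ι => C.D i.down)
    (fun i => C.isAffine i.down) (fun x => ?_) fun i => ?_
  · obtain ⟨i, hi⟩ := TopologicalSpace.Opens.mem_iSup.1 (C.cover.ge (Set.mem_univ x))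
    exact ⟨⟨i⟩, hi⟩
  · refine ⟨⟨{resM L le_rfl (G.τ i.down)}, ?_⟩⟩
    rw [Finset.coe_singleton, Submodule.eq_top_iff']
    intro x
    obtain ⟨r, hr⟩ := ((G.isGen i.down) (C.D i.down) le_rfl).2 x
    exact Submodule.mem_span_singleton.2 ⟨r, hr⟩

theorem isQCoh_twistProjSpace (d : ℤ) : Coh.IsQCoh (Twist.twistProjSpace n R d) :=
  isQCoh_twist (fun i : ULift.{u} (Fin (n + 1)) => MvPolynomial.X i.down)
    (fun i => ProjLib.X_mem_polyGrading n R i.down)
    (top_unique fun x hx => by
      obtain ⟨i, hi⟩ := TopologicalSpace.Opens.mem_iSup.1 ((ProjLib.iSup_basicOpen_X n R).ge hx)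
      exact TopologicalSpace.Opens.mem_iSup.2 ⟨ULift.up i, hi⟩) d

/-- `H^q(O(-N))` is finite for `N` large. -/
theorem finite_HH_twist_neg (N : ℕ) (hN : n + 1 ≤ N) (q : ℕ) :
    Module.Finite R (Coh.HH (CohB1.ProjSpace n R) (Twist.twistProjSpace n R (-(N : ℤ))) q) := by
  by_cases hq : q = n
  · subst hq
    obtain ⟨k, rfl⟩ := Nat.exists_eq_add_of_le hN
    have e := nonempty_HH_top_twist q R k
    rw [show (-(((q + 1 + k : ℕ)) : ℤ)) = -((q : ℤ) + 1 + k) by push_cast; ring]
    obtain ⟨e⟩ := e
    have : Module.Finite R (MvPolynomial.homogeneousSubmodule (Fin (q + 1)) R k) :=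
      Module.Finite.iff_fg.2 (MvPolynomial.homogeneousSubmodule_fg (Fin (q + 1)) R k)
    exact Module.Finite.equiv e.symm
  · have := subsingleton_HH_twist (n := n) (R := R) (d := -(N : ℤ)) q (by omega) (by omega)
    infer_instance

/-- Finiteness on projective space. -/
theorem finCoh_projSpace [IsNoetherianRing R] :
    FinCoh (baseHom R (CohB1.ProjSpace n R)) := by
  have := hasFiniteBiproducts (CohB1.ProjSpace n R)
  have := isProper_projSpace_toSpec n R
  have : IsLocallyNoetherian (CohB1.ProjSpace n R) :=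
    LocallyOfFiniteType.isLocallyNoetherian (CohB1.ProjSpace.toSpec n R)
  let φ := baseHom R (CohB1.ProjSpace n R)
  suffices h : ∀ (k q : ℕ), n < q + k → ∀ M : (CohB1.ProjSpace n R).Modules, Coh.IsCoh M →
      Module.Finite R (HA φ M (⊤ : (CohB1.ProjSpace n R).Opens) q) from
    fun M hM q => h (n + 1) q (by omega) M hM
  intro k
  induction k with
  | zero =>
    intro q hq M hM
    have : Coh.IsQCoh M := hM.1
    have := subsingleton_HH_projSpace_of_lt M q (by omega)
    exact (finite_HH_iff R M q).1 inferInstance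
  | succ k ih =>
    intro q hq M hM
    have : Coh.IsQCoh M := hM.1
    obtain ⟨N₀, hN₀⟩ := (projPowCover n R).exists_epi hM
    let N := N₀ + (n + 1)
    obtain ⟨r, π, hπ⟩ := hN₀ N (by omega) _ (twistGens n R N)
    have := isQCoh_twistProjSpace (n := n) (R := R) (-(N : ℤ))
    have hL := isCoh_of_gens (twistGens n R N)
    have hE : Coh.IsCoh (⨁ fun _ : Fin r => Twist.twistProjSpace n R (-(N : ℤ))) :=
      isCoh_biproduct _ fun _ => hL
    have hK := isCoh_kernel π hE hM.1
    let S : ShortComplex (CohB1.ProjSpace n R).Modules :=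
      ShortComplex.mk (kernel.ι π) π (kernel.condition π)
    have hS : S.ShortExact :=
      { exact := ShortComplex.exact_kernel π, epi_g := hπ, mono_f := inferInstance }
    have h2 : Module.Finite R (HA φ S.X₂ (⊤ : (CohB1.ProjSpace n R).Opens) q) :=
      finite_HA_biproduct φ (fun _ : Fin r => Twist.twistProjSpace n R (-(N : ℤ))) _ q fun _ =>
        (finite_HH_iff R _ q).1 (finite_HH_twist_neg N (by omega) q)
    have h1 : Module.Finite R (HA φ S.X₁ (⊤ : (CohB1.ProjSpace n R).Opens) (q + 1)) :=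
      ih (q + 1) (by omega) _ hK
    exact finite_right φ hS ⊤ q

end Groth.Agent.Coherent
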