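import Groth.Agent.Coherent.Devissage
import Groth.Agent.Coherent.ProjSpaceFinite
import Groth.Prelude.Def_CohB1
import Mathlib.Topology.Sober
import Mathlib.Topology.NoetherianSpace
import Mathlib.RingTheory.Length
import Mathlib.RingTheory.SimpleModule.Basic
import Mathlib.Algebra.Category.ModuleCat.Biproducts

/-!
# Dévissage: Noetherian induction
-/

set_option autoImplicit false

universe u

open CategoryTheory CategoryTheory.Limits AlgebraicGeometry Opposite TopologicalSpace
  Groth.Agent.ModStalk Groth.Agent.AssSch12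

namespace Groth.Agent.Coherent

attribute [local instance] hasFiniteBiproducts

variable {X : Scheme.{u}}

local notation "St" => DerSch.stalkFunctor X

/-- The residue field at `y`, as a module over the local ring. -/
noncomputable abbrev resMod (y : X) : ModuleCat.{u} (X.presheaf.stalk y) :=
  ModuleCat.of (X.presheaf.stalk y)
    (X.presheaf.stalk y ⧸ IsLocalRing.maximalIdeal (X.presheaf.stalk y))

theorem support_biproduct_subset {ι : Type} [Fintype ι] (F : ι → X.Modules) {Z : Set X}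
    (h : ∀ i, CohB1.support (F i) ⊆ Z) : CohB1.support (⨁ F) ⊆ Z := fun z hz => by
  by_contra hzZ
  refine hz (subsingleton_of_forall_eq 0 fun a => ?_)
  let u : (St z).obj (⨁ F) := a
  have hterm : ∀ i, (St z).map (biproduct.π F i ≫ biproduct.ι F i) u = 0 := fun i => by
    rw [← stalk_comp_apply]
    have : Subsingleton ((St z).obj (F i)) := not_not.1 fun hne => hzZ (h i hne)
    rw [Subsingleton.elim ((St z).map (biproduct.π F i) u) 0, map_zero]
  classical
  have key : ∀ s : Finset ι, (St z).map (∑ i ∈ s, biproduct.π F i ≫ biproduct.ι F i) u = 0 :=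
    fun s => by
      induction s using Finset.induction with
      | empty => rw [Finset.sum_empty]; exact stalk_zero_apply u
      | insert i s hi ih => rw [Finset.sum_insert hi, stalk_add_apply, hterm, ih, add_zero]
  have := key Finset.univ
  rw [biproduct.total, stalk_id_apply] at this
  exact this

theorem killed_of_killedByIdeal [IsLocallyNoetherian X] {y : X} {Z : Set X} (hZ : IsClosed Z)
    (hy : Z ⊆ closure {y}) {G : X.Modules} (hG : Coh.IsCoh G)
    (hk : ClSub.KilledByIdeal (Scheme.IdealSheafData.vanishingIdeal ⟨Z, hZ⟩) G) :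
    Killed y 1 G := by
  have := hG.1
  intro r hr a₀
  let a : G.presheaf.stalk y := a₀
  change r • a = 0
  rw [pow_one] at hr
  obtain ⟨W, hyW, f₀, rfl⟩ := X.presheaf.exists_germ_eq r
  obtain ⟨_, ⟨U, hU, rfl⟩, hyU, hUW⟩ :=
    X.isBasis_affineOpens.exists_subset_of_mem_open hyW W.2
  let f := X.presheaf.map (homOfLE (hUW : U ≤ W)).op f₀
  have hf : X.presheaf.germ U y hyU f = X.presheaf.germ W y hyW f₀ :=
    TopCat.Presheaf.germ_res_apply _ _ y hyU f₀
  rw [← hf] at hr ⊢
  have hmem : f ∈ (Scheme.IdealSheafData.vanishingIdeal (⟨Z, hZ⟩ : Closeds X)).ideal ⟨U, hU⟩ := by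
    rw [Scheme.IdealSheafData.vanishingIdeal_ideal]
    refine (PrimeSpectrum.mem_vanishingIdeal _ _).2 fun p hp => ?_
    by_contra hfp
    have hz : hU.fromSpec p ∈ X.basicOpen f := by
      have : p ∈ hU.fromSpec ⁻¹ᵁ X.basicOpen f := by
        rw [hU.fromSpec_preimage_basicOpen]; exact hfp
      exact this
    have hyz : y ⤳ hU.fromSpec p := specializes_iff_mem_closure.2 (hy hp)
    exact (IsLocalRing.mem_maximalIdeal _).1 hr
      ((Scheme.mem_basicOpen _ _ _ hyU).1 (hyz.mem_open (X.basicOpen f).2 hz))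
  obtain ⟨g, m, hg, hm⟩ := QCohLoc.exists_smul_stalk_eq_germ G hU hyU a
  have h0 : f • m = 0 := hk ⟨U, hU⟩ f hmem m
  have h1 := congrArg (G.presheaf.germ U y hyU) h0
  rw [QCohLoc.germ_smul', map_zero, ← hm, smul_smul, mul_comm, mul_smul,
    IsUnit.smul_eq_zero ((Scheme.mem_basicOpen _ _ _ hyU).1 hg)] at h1
  exact h1

variable [IsLocallyNoetherian X] {K : X.Modules → Prop} (hK : DevClass K) {y : X} {Z : Set X}
  (hsm : SmallerIn K y Z)

omit [IsLocallyNoetherian X] in
theorem killed_resMod : ∀ r ∈ IsLocalRing.maximalIdeal (X.presheaf.stalk y) ^ 1,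
    ∀ a : resMod y, r • a = 0 := fun r hr a => by
  obtain ⟨a, rfl⟩ := Submodule.mkQ_surjective _ a
  rw [← map_smul]
  exact (Submodule.Quotient.mk_eq_zero _).2 (Ideal.mul_mem_right _ _ (by rwa [pow_one] at hr))

include hK hsm

theorem oneK_of_length_one {G : X.Modules} (hG : Coh.IsCoh G) (hGK : K G)
    (hGZ : CohB1.support G ⊆ Z)
    (hl : Module.length (X.presheaf.stalk y) (G.presheaf.stalk y) = 1) : OneK K y Z := by
  rintro C hC hCZ ⟨e⟩
  have hsimple : IsSimpleModule (X.presheaf.stalk y) (G.presheaf.stalk y) :=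
    Module.length_eq_one_iff.1 hl
  obtain ⟨I, hI, ⟨eG⟩⟩ := isSimpleModule_iff_quot_maximal.1 hsimple
  obtain rfl := IsLocalRing.eq_maximalIdeal hI
  let eG' : (St y).obj G ≅ resMod y := eG.toModuleIso
  refine (mem_iff_of_stalk_iso hK hsm hC hG hCZ hGZ (e ≪≫ eG'.symm) (k := 1) fun r hr a => ?_).2 hGK
  exact eG.injective ((eG.map_smul r a).trans
    ((killed_resMod r hr _).trans (map_zero eG).symm))

theorem oneK_of_summand
    (hsum : ∀ (M N : X.Modules) (i : N ⟶ M) (r : M ⟶ N), i ≫ r = 𝟙 N → Coh.IsCoh M →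
      Coh.IsCoh N → K M → K N)
    {G : X.Modules} (hG : Coh.IsCoh G) (hGK : K G) (hGZ : CohB1.support G ⊆ Z)
    (hk : Killed y 1 G) (hy : y ∈ CohB1.support G) : OneK K y Z := by
  rintro C hC hCZ ⟨e⟩
  have := finite_stalk hG y
  obtain ⟨n, ⟨eG⟩⟩ := exists_equiv_fin (R := X.presheaf.stalk y) (M := G.presheaf.stalk y)
    fun r hr a => hk r (by rwa [pow_one]) a
  rcases n with _ | n
  · exact absurd (eG.toEquiv.subsingleton) hy
  let F : Fin (n + 1) → X.Modules := fun _ => C
  haveI : PreservesBinaryBiproducts (St y) := preservesBinaryBiproducts_of_preservesBinaryCoproducts _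
  have : (St y).Additive := Functor.additive_of_preservesBinaryBiproducts _
  let eF : (St y).obj (⨁ F) ≅ (St y).obj G :=
    (St y).mapBiproduct F ≪≫ biproduct.mapIso (fun _ => e) ≪≫
      ModuleCat.biproductIsoPi (fun _ : Fin (n + 1) => resMod y) ≪≫
      (eG.symm.toModuleIso : ModuleCat.of _ (Fin (n + 1) → resMod y) ≅ (St y).obj G)
  have hF : Coh.IsCoh (⨁ F) := isCoh_biproduct F fun _ => hC
  exact hsum (⨁ F) C (biproduct.ι F 0) (biproduct.π F 0) (biproduct.ι_π_self F 0) hF hC
    ((mem_iff_of_stalk_iso hK hsm hF hG (support_biproduct_subset F fun _ => hCZ) hGZ eF hk).2 hGK)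

omit hK hsm

omit [IsLocallyNoetherian X] in
/-- Dévissage. -/
theorem mem_of_support [IsNoetherian X] (hK : ExtClass K) (X' : Set X)
    (hgen : ∀ (Z : Set X), IsClosed Z → IsIrreducible Z → Z ⊆ X' → ∀ y : X, closure {y} = Z →
      ∀ Z₀ : Set X, Z ⊆ Z₀ → SmallerIn K y Z₀ → OneK K y Z₀) :
    ∀ (Z : Closeds X), (Z : Set X) ⊆ X' → ∀ F : X.Modules, Coh.IsCoh F →
      CohB1.support F ⊆ Z → K F := by
  classical
  intro Z
  induction Z using WellFoundedLT.induction with
  | ind Z ih =>
    intro hZX' F hF hFZ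
    obtain ⟨S, hS, hirr, hZ⟩ := NoetherianSpace.exists_finite_set_closeds_irreducible Z
    rcases S.eq_empty_or_nonempty with rfl | hne
    · refine hK.zero F (ModStalk.isZero_of_stalks fun z => ?_)
      exact (notMem_support_iff F z).1 fun hz => by
        have := hFZ hz
        rw [hZ, sSup_empty] at this
        exact this
    obtain ⟨Z₁, hZ₁, hmax⟩ := hS.exists_maximal hne
    have hZ₁Z : Z₁ ≤ Z := hZ ▸ le_sSup hZ₁
    have hi := hirr Z₁ hZ₁
    obtain ⟨y, hy⟩ : ∃ y : X, closure {y} = (Z₁ : Set X) :=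
      ⟨hi.genericPoint, hi.closure_genericPoint Z₁.2⟩
    let O : X.Opens := ⟨(⋃ T ∈ S \ {Z₁}, (T : Set X))ᶜ,
      ((hS.subset Set.sdiff_subset).isClosed_biUnion fun T _ => T.2).isOpen_compl⟩
    have hyO : y ∈ O := fun hmem => by
      obtain ⟨T, hT, hyT⟩ := Set.mem_iUnion₂.1 hmem
      have hle : Z₁ ≤ T := fun z hz => by
        have : z ∈ closure {y} := hy ▸ hz
        exact (T.2.closure_subset_iff.2 (Set.singleton_subset_iff.2 hyT)) this
      exact hT.2 ((hmax hT.1 hle).antisymm hle)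
    have hcov : (Z : Set X) ⊆ ⋃ T ∈ S, (T : Set X) := by
      have hcl : IsClosed (⋃ T ∈ S, (T : Set X)) := hS.isClosed_biUnion fun T _ => T.2
      have : sSup S ≤ (⟨_, hcl⟩ : Closeds X) :=
        sSup_le fun T hT z hz => Set.mem_iUnion₂.2 ⟨T, hT, hz⟩
      exact hZ ▸ this
    have hO : CohB1.support F ∩ O ⊆ closure {y} := by
      rintro z ⟨hzF, hzO⟩
      obtain ⟨T, hT, hzT⟩ := Set.mem_iUnion₂.1 (hcov (hFZ hzF))
      by_cases hT1 : T = Z₁
      · rw [hy, ← hT1]; exact hzT
      · exact absurd (Set.mem_iUnion₂.2 ⟨T, ⟨hT, hT1⟩, hzT⟩) hzO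
    have hsm : SmallerIn K y (Z : Set X) := fun M hM hMZ hyM => by
      let T : Closeds X := ⟨CohB1.support M, isClosed_support M (locallyFinGen_of_isFT M hM.2)⟩
      have hlt : T < Z := lt_of_le_of_ne hMZ fun h => hyM (by
        change y ∈ (T : Set X)
        rw [h]
        exact hZ₁Z (show y ∈ (Z₁ : Set X) by rw [← hy]; exact subset_closure rfl))
      exact ih T hlt (hMZ.trans hZX') M hM le_rfl
    obtain ⟨k, hk⟩ := exists_killed hF O hyO hO
    exact mem_of_killed hsm hK
      (hgen Z₁ Z₁.2 hi (Set.Subset.trans hZ₁Z hZX') y hy Z hZ₁Z hsm) k F hF hFZ hk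

end Groth.Agent.Coherent
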