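import Groth.Agent.Coherent.Chow
import Groth.Agent.Coherent.DevissageMain
import Groth.Agent.QCohLoc.Unit

/-!
# Finiteness of coherent cohomology of proper schemes
-/

set_option autoImplicit false

universe u

open CategoryTheory CategoryTheory.Limits AlgebraicGeometry Opposite TopologicalSpace

namespace Groth.Agent.Coherent

theorem isCoh_structureModule (X : Scheme.{u}) [IsLocallyNoetherian X] :
    Coh.IsCoh (Coh.structureModule X) :=
  (isCoh_iff_finite_sections _).2 ⟨QCohLoc.isQCoh_structureModule X,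
    fun V _ => Module.Finite.self Γ(X, V)⟩

theorem notMem_support_of_subsingleton {X : Scheme.{u}} (M : X.Modules) {U : X.Opens} {z : X}
    (hz : z ∈ U) (h : ∀ V : X.Opens, IsAffineOpen V → V ≤ U → Subsingleton Γ(M, V)) :
    z ∉ CohB1.support M := fun hmem => hmem (subsingleton_of_forall_eq 0 fun a => by
  obtain ⟨W, hzW, s, rfl⟩ := M.presheaf.exists_germ_eq a
  obtain ⟨V, hV, hzV, hVW⟩ := Opens.isBasis_iff_nbhd.mp X.isBasis_affineOpens
    (show z ∈ W ⊓ U from ⟨hzW, hz⟩)
  rw [← TopCat.Presheaf.germ_res_apply M.presheaf (homOfLE (hVW.trans inf_le_left)) z hzV,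
    (h V hV (hVW.trans inf_le_right)).elim (M.presheaf.map _ s) 0, map_zero])

theorem isAffineOpen_preimage_of_le {X Y : Scheme.{u}} (π : X ⟶ Y) (U : Y.Opens) [IsIso (π ∣_ U)]
    {W : Y.Opens} (hW : IsAffineOpen W) (hle : W ≤ U) : IsAffineOpen (π ⁻¹ᵁ W) := by
  have h1 : IsAffineOpen (U.ι ⁻¹ᵁ W) :=
    hW.preimage_of_isOpenImmersion U.ι (by rwa [Scheme.Opens.opensRange_ι])
  have h2 := (h1.preimage (π ∣_ U)).image_of_isOpenImmersion (π ⁻¹ᵁ U).ι
  convert h2 using 1
  ext x
  have key : ∀ w : (π ⁻¹ᵁ U).toScheme, w ∈ (π ∣_ U) ⁻¹ᵁ U.ι ⁻¹ᵁ W ↔ π w.1 ∈ W := fun w => by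
    change ((π ∣_ U) w).1 ∈ (W : Set Y) ↔ π w.1 ∈ (W : Set Y)
    exact (congrArg (· ∈ (W : Set Y)) (morphismRestrict_base_coe π U w)).to_iff
  exact ⟨fun hx => ⟨⟨x, hle hx⟩, (key _).2 hx, rfl⟩, by rintro ⟨w, hw, rfl⟩; exact (key w).1 hw⟩

theorem devClass_finAll {X : Scheme.{u}} {A : Type u} [CommRing A] [IsNoetherianRing A]
    (φ : A →+* Γ(X, ⊤)) : DevClass (FinAll φ : X.Modules → Prop) where
  iso e h q := have := h q; Module.Finite.equiv (isoA φ e ⊤ q)
  zero M hM q := by
    have : Subsingleton (HA φ M (⊤ : X.Opens) q) := subsingleton_of_forall_eq 0 fun x => by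
      have h := postHM_id M q (⊤ : X.Opens) x
      rw [hM.eq_of_src (𝟙 M) 0] at h
      exact h.symm.trans (postHM_zero q _ x)
    infer_instance
  ses S hS _ _ _ := by
    refine ⟨fun h1 h2 q => ?_, fun h1 h3 q => ?_, fun h2 h3 q => ?_⟩
    · have := h2 q; have := h1 (q + 1); exact finite_right φ hS ⊤ q
    · have := h1 q; have := h3 q; exact finite_middle φ hS ⊤ q
    · rcases q with _ | q
      · have := h2 0
        have : Module.Finite A (GA φ S.X₂) := Module.Finite.equiv (secA φ S.X₂)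
        have : Module.Finite A (GA φ S.X₁) :=
          Module.Finite.of_injective (mapGA φ S.f) (sections_injective hS ⊤)
        exact Module.Finite.equiv (secA φ S.X₁).symm
      · have := h3 q; have := h2 (q + 1); exact finite_left φ hS ⊤ q

theorem finAll_of_retract {X : Scheme.{u}} {A : Type u} [CommRing A] (φ : A →+* Γ(X, ⊤))
    {M N : X.Modules} (i : N ⟶ M) (r : M ⟶ N) (h : i ≫ r = 𝟙 N) (hM : FinAll φ M) : FinAll φ N :=
  fun q => have := hM q
    Module.Finite.of_surjective (postA φ r ⊤ q) fun x =>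
      ⟨postA φ i ⊤ q x, ((postHM_comp i r q (⊤ : X.Opens) x).symm.trans
        (by rw [h]; exact postHM_id N q (⊤ : X.Opens) x))⟩

variable {A : Type u} [CommRing A] [IsNoetherianRing A]

theorem finCoh_of_isProper {X : Scheme.{u}} (g : X ⟶ Spec (CommRingCat.of A)) [IsProper g] :
    FinCoh (Coh.toGlobal g) := by
  have : IsLocallyNoetherian X := LocallyOfFiniteType.isLocallyNoetherian g
  have : CompactSpace X := QuasiCompact.compactSpace_of_compactSpace g
  have : AlgebraicGeometry.IsNoetherian X := {}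
  have : X.IsSeparated := ⟨by
    rw [show terminal.from X = g ≫ terminal.from _ from terminal.hom_ext _ _]; infer_instance⟩
  let φ := Coh.toGlobal g
  have hK := devClass_finAll φ
  intro F hF
  refine mem_of_support hK.toExt Set.univ ?_ ⊤ (Set.subset_univ _) F hF (fun _ _ => trivial)
  intro Z hZ hZi _ y hy Z₀ hZZ₀ hsm
  let I := Scheme.IdealSheafData.vanishingIdeal (⟨Z, hZ⟩ : Closeds X)
  let i := I.subschemeι
  have : IsReduced I.subscheme := Props12.isReduced_subscheme_vanishingIdeal _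
  have hrange : Set.range i = Z := by
    rw [I.range_subschemeι]; rfl
  obtain ⟨y', hy'⟩ : y ∈ Set.range i := by rw [hrange, ← hy]; exact subset_closure rfl
  have hgen : closure {y'} = (Set.univ : Set I.subscheme) := Set.eq_univ_of_forall fun w => by
    rw [i.isClosedEmbedding.isInducing.closure_eq_preimage_closure_image, Set.image_singleton, hy',
      hy, ← hrange]
    exact ⟨w, rfl⟩
  have : IrreducibleSpace I.subscheme := by
    rw [irreducibleSpace_def, Set.top_eq_univ, ← hgen]; exact isIrreducible_singleton.closure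
  have : IsIntegral I.subscheme := isIntegral_of_irreducibleSpace_of_isReduced _
  have : IsProper (i ≫ g) := inferInstance
  obtain ⟨Z', π, U₀, hred, hπ, hne, hiso, hrelπ, hrel⟩ := exists_weakChow (i ≫ g)
  have hy'U : y' ∈ U₀ := by
    obtain ⟨w, hw⟩ := hne
    have hwc : w ∈ closure {y'} := by rw [hgen]; trivial
    exact (specializes_iff_mem_closure.2 hwc).mem_open U₀.2 hw
  let h := π ≫ i
  have : IsProper h := inferInstanceAs (IsProper (π ≫ i))
  have hrelh : RelFin h := hrelπ.comp (relFin_of_isFinite i)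
  let U₁ : X.Opens := ⟨(i '' (U₀ : Set I.subscheme)ᶜ)ᶜ,
    (i.isClosedMap _ U₀.2.isClosed_compl).isOpen_compl⟩
  have hyU₁ : y ∈ U₁ := by
    rintro ⟨w, hw, hwy⟩
    exact hw ((i.isClosedEmbedding.injective (hwy.trans hy'.symm)) ▸ hy'U)
  have hzero : ZeroPre h U₁ (Coh.structureModule Z') := by
    intro V hV hle q
    have hW : i ⁻¹ᵁ V ≤ U₀ := fun w hw => by
      by_contra hwU
      exact hle hw ⟨w, hwU, rfl⟩
    have haff : IsAffineOpen (h ⁻¹ᵁ V) := isAffineOpen_preimage_of_le π U₀ (hV.preimage i) hW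
    have : IsAffine (h ⁻¹ᵁ V).toScheme := haff
    have : Coh.IsQCoh ((Coh.structureModule Z').restrict (h ⁻¹ᵁ V).ι) := by
      have : Coh.IsQCoh (Coh.structureModule Z') :=
        QCohLoc.isQCoh_structureModule Z'
      exact inferInstanceAs
        (((Scheme.Modules.restrictFunctor (h ⁻¹ᵁ V).ι).obj (Coh.structureModule Z')).IsQuasicoherent)
    exact subsingleton_H'_qcoh _ (isAffineOpen_top (h ⁻¹ᵁ V).toScheme) q
  have : IsLocallyNoetherian Z' := LocallyOfFiniteType.isLocallyNoetherian h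
  have : CompactSpace Z' := QuasiCompact.compactSpace_of_compactSpace h
  have : Z'.IsSeparated := ⟨by
    rw [show terminal.from Z' = h ≫ terminal.from X from terminal.hom_ext _ _]; infer_instance⟩
  have hfin := hrelh.finMor
  let O := Coh.structureModule Z'
  have hO : Coh.IsCoh O := isCoh_structureModule Z'
  have hpre : FinPre h O := fun V hV q => hfin V hV _ (isCoh_restrict _ hO) (q + 1)
  have hR1supp : ∀ (M : Z'.Modules), Coh.IsQCoh M → ZeroPre h U₁ M → ∀ E : AcycEmb h M,
      ∀ z ∈ U₁, z ∉ CohB1.support E.R1 := fun M hqc hM E z hz =>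
    have := hqc
    notMem_support_of_subsingleton _ hz fun V hV hle => E.subsingleton_R1_sections hV hM hle
  have hstable : ShiftStable h φ (fun M => FinPre h M ∧ ZeroPre h U₁ M) := fun M hqc hM E => by
    have := hqc
    refine ⟨⟨E.finPre_cokernel hM.1, E.zeroPre_cokernel hM.2⟩, hsm _ (E.isCoh_R1 hM.1) ?_ ?_⟩
    · intro z hz
      by_cases hzU : z ∈ U₁
      · exact absurd hz (hR1supp M hqc hM.2 E z hzU)
      · obtain ⟨w, -, rfl⟩ := not_not.1 hzU
        exact hZZ₀ (hrange ▸ ⟨w, rfl⟩)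
    · exact hR1supp M hqc hM.2 E y hyU₁
  have htot : FinAll (pullHom h φ) O := by
    have h1 : FinCoh (((π ≫ i ≫ g).appTop).hom.comp
        (Scheme.ΓSpecIso (CommRingCat.of A)).inv.hom) :=
      finCoh_comp_of_surjective _ _
        (ConcreteCategory.bijective_of_isIso (Scheme.ΓSpecIso (CommRingCat.of A)).inv).2 hrel.finCoh
    exact h1 O hO
  let G := (Coh.push h).obj O
  have hGK : FinAll φ G := finAll_push φ hstable O hO.1 ⟨hpre, hzero⟩ htot
  have hG : Coh.IsCoh G := isCoh_push_of_finMor hfin hO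
  have hGZ : CohB1.support G ⊆ Z := fun z hz => by
    by_contra hzZ
    refine notMem_support_of_subsingleton G (U := ⟨Zᶜ, hZ.isOpen_compl⟩) hzZ (fun V _ hle => ?_) hz
    have hbot : h ⁻¹ᵁ V = ⊥ := eq_bot_iff.2 fun w hw => hle hw (hrange ▸ ⟨π w, rfl⟩)
    change Subsingleton Γ(Z', h ⁻¹ᵁ V)
    rw [hbot]
    infer_instance
  have hk : Killed y 1 G := by
    intro r hr a₀
    let a : G.presheaf.stalk y := a₀
    change r • a = 0
    rw [pow_one] at hr
    obtain ⟨W, hyW, f₀, rfl⟩ := X.presheaf.exists_germ_eq r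
    obtain ⟨W', hyW', m₀, hm₀⟩ := G.presheaf.exists_germ_eq a
    let V := W ⊓ W'
    have hyV : y ∈ V := ⟨hyW, hyW'⟩
    let f := X.presheaf.map (homOfLE (inf_le_left : V ≤ W)).op f₀
    let m : Γ(G, V) := G.presheaf.map (homOfLE (inf_le_right : V ≤ W')).op m₀
    have hf : X.presheaf.germ V y hyV f = X.presheaf.germ W y hyW f₀ :=
      TopCat.Presheaf.germ_res_apply _ _ y hyV f₀
    have hm : G.presheaf.germ V y hyV m = a :=
      (TopCat.Presheaf.germ_res_apply _ _ y hyV m₀).trans hm₀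
    rw [← hf] at hr ⊢
    rw [← hm, ← QCohLoc.germ_smul']
    have h0 : h.app V f = 0 := by
      rw [← basicOpen_eq_bot_iff, ← Scheme.preimage_basicOpen, eq_bot_iff]
      intro w hw
      have hyz : y ⤳ h w := specializes_iff_mem_closure.2 (by rw [hy, ← hrange]; exact ⟨π w, rfl⟩)
      exact absurd ((Scheme.mem_basicOpen _ _ _ hyV).1 (hyz.mem_open (X.basicOpen f).2 hw))
        ((IsLocalRing.mem_maximalIdeal _).1 hr)
    have h1 : f • m = 0 := by
      let m' : Γ(Z', h ⁻¹ᵁ V) := m
      change h.app V f * m' = 0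
      rw [h0, zero_mul]
    rw [h1, map_zero]
  have hyG : y ∈ CohB1.support G := by
    intro hsub
    obtain ⟨z, hz⟩ : ∃ z, π z = y' := by
      obtain ⟨z, hz⟩ := (π ∣_ U₀).surjective ⟨y', hy'U⟩
      exact ⟨z.1, (morphismRestrict_base_coe π U₀ z).symm.trans (congrArg Subtype.val hz)⟩
    let one : Γ(G, ⊤) := (1 : Γ(Z', h ⁻¹ᵁ ⊤))
    obtain ⟨W, hW, iW, _, e⟩ := TopCat.Presheaf.germ_eq G.presheaf y (show y ∈ (⊤ : X.Opens) from trivial)
      (show y ∈ (⊤ : X.Opens) from trivial) one 0 (hsub.elim _ _)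
    rw [map_zero] at e
    have hzW : z ∈ h ⁻¹ᵁ W := by
      change i (π z) ∈ W
      rwa [hz, hy']
    have e' : Z'.presheaf.map ((Opens.map h.base).map iW).op (1 : Γ(Z', h ⁻¹ᵁ ⊤)) = 0 := e
    rw [map_one] at e'
    have := congrArg (Z'.presheaf.germ (h ⁻¹ᵁ W) z hzW) e'
    rw [map_one, map_zero] at this
    exact one_ne_zero this
  exact oneK_of_summand hK hsm (fun M N i r hir _ _ hM => finAll_of_retract φ i r hir hM) hG hGK
    (hGZ.trans hZZ₀) hk hyG

end Groth.Agent.Coherent
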