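import Groth.Agent.Coherent.FormalIdeal
import Groth.Agent.Coherent.ProperFinite
import Mathlib.RingTheory.AdicCompletion.AsTensorProduct
import Mathlib.RingTheory.AdicCompletion.Noetherian

/-!
# Theorem on formal functions
-/

set_option autoImplicit false

universe u

open CategoryTheory CategoryTheory.Abelian CategoryTheory.Limits AlgebraicGeometry Opposite
  TopologicalSpace

namespace Groth.Agent.Coherent

variable {A : Type u} [CommRing A] {X : Scheme.{u}} [X.Over (Spec (CommRingCat.of A))]
  (I : Ideal A) (M : X.Modules)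

local notation "φ" => baseHom A X

/-- The group structure of `H^q(X, M)`, recorded as a constant so that the kernel does not compare the
underlying sheaf categories again in every declaration. -/
@[instance_reducible]
noncomputable def hhGrp (q : ℕ) : AddCommGroup (Coh.HH X M q) := Abelian.Ext.instAddCommGroup

attribute [local instance 20000] hhGrp

/-- The module structure of `H^q(X, M)`, recorded as a constant for the same reason. -/
@[instance_reducible]
noncomputable def hhMod (q : ℕ) : Module A (Coh.HH X M q) := Coh.moduleOver A X M q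

attribute [local instance 20000] hhMod

theorem postA_smulMod (a : A) (q : ℕ) (x : HA φ M (⊤ : X.Opens) q) :
    postA φ (Formal.smulMod A M a) ⊤ q x = a • x := rfl

/-- `H^p(X, M)`, linearly. -/
noncomputable def HHA (q : ℕ) : Coh.HH X M q ≃ₗ[A] HA φ M (⊤ : X.Opens) q :=
  { (HHLinEquiv M q).toAddEquiv with
    map_smul' := fun a x => (HHLinEquiv M q).map_smul (φ a) x }

/-- The cohomology of a morphism of modules, linearly. -/
theorem HHA_natural {N : X.Modules} (g : M ⟶ N) (q : ℕ) (x : Coh.HH X M q) :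
    HHA (A := A) N q (Sheaf.H.map ((SheafOfModules.toSheaf _).map g) q x) =
      postA φ g ⊤ q (HHA (A := A) M q x) := by
  obtain ⟨z, rfl⟩ := (H'TopEquiv (X := X.toTopCat) (Coh.toAb M) q).surjective x
  refine (congrArg (H'TopEquiv (X := X.toTopCat) (Coh.toAb N) q).symm
    (H'TopEquiv_naturality (X := X.toTopCat) ((toAbFunctor X).map g) q z).symm).trans ?_
  refine ((H'TopEquiv (X := X.toTopCat) (Coh.toAb N) q).symm_apply_apply _).trans ?_
  exact congrArg (postHM g q (⊤ : X.Opens))
    ((H'TopEquiv (X := X.toTopCat) (Coh.toAb M) q).symm_apply_apply z).symm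

/-- The image of `H^q(X, I^n M)` in `H^q(X, M)`. -/
noncomputable def imPow (q n : ℕ) : Submodule A (Coh.HH X M q) :=
  (LinearMap.range (postA φ (powInc I M n) ⊤ q)).comap (HHA (A := A) M q).toLinearMap

theorem mem_imPow_iff (q n : ℕ) (x : Coh.HH X M q) : x ∈ imPow I M q n ↔
    ∃ z, postA φ (powInc I M n) ⊤ q z = HHA (A := A) M q x := Iff.rfl

theorem mem_imPow_succ_iff (p n : ℕ) (x : Coh.HH X M p) :
    x ∈ imPow I M p (n + 1) ↔ Formal.toHHmodPow I M p n x = 0 := by
  rw [mem_imPow_iff, ← (HHA (A := A) (Formal.modPow I (n + 1) M) p).map_eq_zero_iff]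
  refine Iff.trans ?_ (Eq.congr_left (HHA_natural M (Formal.modPowπ I (n + 1) M) p x)).symm
  exact (exact_postA φ (powSeq_shortExact I M (n + 1)) ⊤ p _).symm

theorem imPow_zero (q : ℕ) : imPow I M q 0 = ⊤ := by
  refine Submodule.eq_top_iff'.2 fun x => (mem_imPow_iff I M q 0 x).2
    ⟨postA φ (powElem I M (show (1 : A) ∈ I ^ 0 by rw [pow_zero, Ideal.one_eq_top]; trivial)) ⊤ q
      (HHA (A := A) M q x), ?_⟩
  rw [← postA_comp, powElem_inc, smulMod_one, postA_id]

theorem imPow_antitone (q : ℕ) : Antitone (imPow I M q) := fun m k h x hx => by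
  obtain ⟨z, hz⟩ := (mem_imPow_iff I M q k x).1 hx
  exact (mem_imPow_iff I M q m x).2 ⟨postA φ (powDown I M h) ⊤ q z, by
    rw [← postA_comp, powDown_inc, hz]⟩

theorem smul_imPow_le (q n : ℕ) : I • imPow I M q n ≤ imPow I M q (n + 1) := by
  refine Submodule.smul_le.2 fun a ha x hx => ?_
  obtain ⟨z, hz⟩ := (mem_imPow_iff I M q n x).1 hx
  refine (mem_imPow_iff I M q (n + 1) _).2 ⟨postA φ (powMul I M ha n) ⊤ q z, ?_⟩
  rw [← postA_comp, powMul_inc, postA_comp, hz, map_smul]
  exact postA_smulMod M a q _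

theorem pow_smul_le_imPow (q k : ℕ) : I ^ k • (⊤ : Submodule A (Coh.HH X M q)) ≤ imPow I M q k := by
  induction k with
  | zero => rw [imPow_zero]; exact le_top
  | succ k ih =>
    rw [pow_succ', ← smul_eq_mul, Submodule.smul_assoc]
    exact (Submodule.smul_mono le_rfl ih).trans (smul_imPow_le I M q k)

/-- Coherent modules with support in that of `M` have finite cohomology over `A`. -/
class FiniteOnSupp (A : Type u) [CommRing A] {X : Scheme.{u}} [X.Over (Spec (CommRingCat.of A))]
    (M : X.Modules) : Prop where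
  locNoeth : IsLocallyNoetherian X
  compact : CompactSpace X
  fin : ∀ N : X.Modules, Coh.IsCoh N → CohB1.support N ⊆ CohB1.support M → ∀ q,
    Module.Finite A (HA (baseHom A X) N (⊤ : X.Opens) q)

instance finiteOnSupp_of_isProper [IsNoetherianRing A] [IsProper (X ↘ Spec (CommRingCat.of A))]
    (M : X.Modules) : FiniteOnSupp A M where
  locNoeth := LocallyOfFiniteType.isLocallyNoetherian (X ↘ Spec (CommRingCat.of A))
  compact := QuasiCompact.compactSpace_of_compactSpace (X ↘ Spec (CommRingCat.of A))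
  fin N hN _ := finCoh_of_isProper (X ↘ Spec (CommRingCat.of A)) N hN

variable [IsNoetherianRing A]
variable {M} [FiniteOnSupp A M] (hM : Coh.IsCoh M)
include hM

theorem finite_HH (q : ℕ) : Module.Finite A (Coh.HH X M q) :=
  (finite_HH_iff A M q).2 (FiniteOnSupp.fin (A := A) M hM subset_rfl q)

omit [IsNoetherianRing A] [FiniteOnSupp A M] hM in
theorem support_powSub_subset (n : ℕ) : CohB1.support (powSub I M n) ⊆ CohB1.support M :=
  support_subset_of_mono (powInc I M n)

theorem exists_eg_powSub (q : ℕ) : ∃ (r : ℕ) (a : Fin r → A) (ha : ∀ i, a i ∈ I),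
    EG (H := fun n => HA φ (powSub I M n) (⊤ : X.Opens) q)
      fun i n => postA φ (powMul I M (ha i) n) ⊤ q := by
  have : IsLocallyNoetherian X := FiniteOnSupp.locNoeth A M
  have : CompactSpace X := FiniteOnSupp.compact A M
  obtain ⟨r, a, ha⟩ := Submodule.fg_iff_exists_fin_generating_family.1 (IsNoetherian.noetherian I)
  have hmem : ∀ i, a i ∈ I := fun i => ha.le (Submodule.subset_span ⟨i, rfl⟩)
  exact ⟨r, a, hmem, eg_HA φ (CohB1.support M) (FiniteOnSupp.fin (A := A) (M := M)) r (powSub I M) (isCoh_powSub I hM)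
    (support_powSub_subset I)
    (fun i n => powMul I M (hmem i) n) (fun i j n => powMul_comm I M (hmem i) (hmem j) n)
    (secEG_powSub hM hmem ha) q⟩

/-- The images form a good filtration. -/
theorem exists_imPow_succ (q : ℕ) :
    ∃ n₀, ∀ n, n₀ ≤ n → imPow I M q (n + 1) = I • imPow I M q n := by
  obtain ⟨r, a, ha, n₀, hn₀⟩ := exists_eg_powSub I hM q
  refine ⟨n₀, fun n hn => le_antisymm (fun x hx => ?_) (smul_imPow_le I M q n)⟩
  obtain ⟨z, hz⟩ := (mem_imPow_iff I M q (n + 1) x).1 hx
  obtain ⟨y, rfl⟩ := hn₀ n hn z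
  have e : x = ∑ i, a i • (HHA (A := A) M q).symm (postA φ (powInc I M n) ⊤ q (y i)) := by
    refine (HHA (A := A) M q).injective ?_
    rw [← hz, map_sum, map_sum]
    refine Finset.sum_congr rfl fun i _ => ?_
    rw [map_smul, LinearEquiv.apply_symm_apply, ← postA_comp, powMul_inc, postA_comp]
    exact postA_smulMod M (a i) q _
  rw [e]
  exact Submodule.sum_mem _ fun i _ => Submodule.smul_mem_smul (ha i)
    ((mem_imPow_iff I M q n _).2 ⟨y i, (LinearEquiv.apply_symm_apply _ _).symm⟩)

theorem exists_imPow_le (q : ℕ) :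
    ∃ c, ∀ n, c ≤ n → imPow I M q n ≤ I ^ (n - c) • (⊤ : Submodule A (Coh.HH X M q)) := by
  obtain ⟨c, hc⟩ := exists_imPow_succ I hM q
  refine ⟨c, fun n hn => ?_⟩
  induction n, hn using Nat.le_induction with
  | base => rw [Nat.sub_self, pow_zero, Ideal.one_eq_top, Submodule.top_smul]; exact le_top
  | succ n hn ih =>
    rw [hc n hn, show n + 1 - c = (n - c) + 1 by omega, pow_succ', ← smul_eq_mul,
      Submodule.smul_assoc]
    exact Submodule.smul_mono le_rfl ih

/-- High powers of `I` kill the connecting maps uniformly. -/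
theorem exists_down_eq_zero (q : ℕ) : ∃ c, ∀ k, c ≤ k →
    ∀ x : HA φ (powSub I M k) (⊤ : X.Opens) q, postA φ (powInc I M k) ⊤ q x = 0 →
      ∀ m (h : m ≤ k), m + c ≤ k → postA φ (powDown I M h) ⊤ q x = 0 := by
  have : IsLocallyNoetherian X := FiniteOnSupp.locNoeth A M
  obtain ⟨r, a, ha, hT⟩ := exists_eg_powSub I hM q
  let D : ∀ n, Submodule A (HA φ (powSub I M n) (⊤ : X.Opens) q) :=
    fun n => LinearMap.ker (postA φ (powInc I M n) ⊤ q)
  have hstab : ∀ i n, ∀ x ∈ D n, postA φ (powMul I M (ha i) n) ⊤ q x ∈ D (n + 1) :=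
    fun i n x hx => by
      change postA φ (powInc I M (n + 1)) ⊤ q (postA φ (powMul I M (ha i) n) ⊤ q x) = 0
      rw [← postA_comp, powMul_inc, postA_comp, LinearMap.mem_ker.1 hx, map_zero]
  obtain ⟨c, hc⟩ := hT.sub (K := fun n => D n)
    (S := fun i n => (postA φ (powMul I M (ha i) n) ⊤ q).restrict (hstab i n))
    (fun n => FiniteOnSupp.fin (A := A) (M := M) _ (isCoh_powSub I hM n) (support_powSub_subset I n) q)
    (fun i j n x => (postA_comp φ _ _ q x).symm.trans
      ((congrArg (fun ψ => postA φ ψ ⊤ q x) (powMul_comm I M (ha j) (ha i) n)).trans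
        (postA_comp φ _ _ q x)))
    (fun n => (D n).subtype) (fun n => Subtype.val_injective) (fun i n x => rfl)
  have h0 : ∀ k (x : HA φ (powSub I M k) (⊤ : X.Opens) q), postA φ (powInc I M k) ⊤ q x = 0 →
      postA φ (powDown I M (Nat.zero_le k)) ⊤ q x = 0 := fun k x hx => by
    have e : powDown I M (Nat.zero_le k) = powInc I M k ≫
        powElem I M (show (1 : A) ∈ I ^ 0 by rw [pow_zero, Ideal.one_eq_top]; trivial) := by
      rw [← cancel_mono (powInc I M 0), powDown_inc, Category.assoc, powElem_inc, smulMod_one,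
        Category.comp_id]
    rw [e, postA_comp, hx, map_zero]
  refine ⟨c, fun k hk => ?_⟩
  induction k, hk using Nat.le_induction with
  | base =>
    intro x hx m h hm
    obtain rfl : m = 0 := by omega
    exact h0 c x hx
  | succ k hk ih =>
    intro x hx m h hm
    rcases m with _ | m
    · exact h0 _ x hx
    obtain ⟨y, hy⟩ := hc k hk ⟨x, hx⟩
    have e : x = ∑ i, postA φ (powMul I M (ha i) k) ⊤ q (y i).1 := by
      have := congrArg Subtype.val hy
      simpa only [Submodule.coe_sum, LinearMap.restrict_apply] using this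
    rw [e, map_sum]
    refine Finset.sum_eq_zero fun i _ => ?_
    rw [← postA_comp, powMul_down I M (ha i) (by omega : m ≤ k), postA_comp,
      ih (y i).1 (y i).2 m _ (by omega), map_zero]

omit [IsNoetherianRing A] [FiniteOnSupp A M] hM in
variable (M) in
theorem modPowπ_completion_map {n k : ℕ} (h : n ≤ k) :
    Formal.modPowπ I (k + 1) M ≫ (Formal.completion I M).map (homOfLE h).op =
      Formal.modPowπ I (n + 1) M := by
  induction k, h using Nat.le_induction with
  | base =>
    rw [show (homOfLE (le_refl n)).op = 𝟙 (op n) from rfl, CategoryTheory.Functor.map_id]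
    exact Category.comp_id _
  | succ k hk ih =>
    have e : (homOfLE (Nat.le_succ_of_le hk)).op = (homOfLE (Nat.le_succ k)).op ≫ (homOfLE hk).op :=
      rfl
    rw [e, Functor.map_comp]
    refine (Category.assoc _ _ _).symm.trans ?_
    refine (congrArg (fun z => z ≫ (Formal.completion I M).map (homOfLE hk).op) ?_).trans ih
    rw [show (Formal.completion I M).map (homOfLE (Nat.le_succ k)).op =
      Formal.modPowTrans I (k + 1) M from Functor.ofOpSequence_map_homOfLE_succ _ _]
    exact Formal.modPowπ_trans I (k + 1) M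

/-- The Mittag-Leffler statement. -/
theorem exists_range_eq (p : ℕ) : ∃ c : ℕ, ∀ (n k : ℕ) (h : n ≤ k), n + c ≤ k →
    Set.range (Sheaf.H.map ((SheafOfModules.toSheaf X.ringCatSheaf).map
      ((Formal.completion I M).map (homOfLE h).op)) p) = Set.range (Formal.toHHmodPow I M p n) := by
  obtain ⟨c, hc⟩ := exists_down_eq_zero I hM (p + 1)
  refine ⟨c, fun n k h hnk => Set.Subset.antisymm ?_ ?_⟩
  · rintro _ ⟨x, rfl⟩
    let τ : Formal.modPow I (k + 1) M ⟶ Formal.modPow I (n + 1) M :=
      (Formal.completion I M).map (homOfLE h).op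
    let S : powSeq I M (k + 1) ⟶ powSeq I M (n + 1) :=
      ⟨powDown I M (Nat.succ_le_succ h), 𝟙 M, τ, by
        change powDown I M _ ≫ powInc I M (n + 1) = powInc I M (k + 1) ≫ 𝟙 M
        rw [powDown_inc, Category.comp_id], by
        change 𝟙 M ≫ Formal.modPowπ I (n + 1) M = Formal.modPowπ I (k + 1) M ≫ τ
        rw [Category.id_comp]
        exact (modPowπ_completion_map I M h).symm⟩
    let x' := HHA (A := A) (Formal.modPow I (k + 1) M) p x
    have h1 : deltaA φ (powSeq_shortExact I M (n + 1)) ⊤ p (postA φ τ ⊤ p x') = 0 := by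
      refine (deltaA_natural φ (powSeq_shortExact I M (k + 1)) (powSeq_shortExact I M (n + 1)) S p
        x').symm.trans ?_
      refine hc (k + 1) (by omega) _ ?_ (n + 1) (Nat.succ_le_succ h) (by omega)
      exact (exact_deltaA_postA φ (powSeq_shortExact I M (k + 1)) ⊤ p _).2 ⟨x', rfl⟩
    obtain ⟨z, hz⟩ := (exact_postA_deltaA φ (powSeq_shortExact I M (n + 1)) ⊤ p _).1 h1
    refine ⟨(HHA (A := A) M p).symm z, (HHA (A := A) (Formal.modPow I (n + 1) M) p).injective ?_⟩
    refine (HHA_natural M (Formal.modPowπ I (n + 1) M) p _).trans ?_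
    rw [LinearEquiv.apply_symm_apply]
    exact hz.trans (HHA_natural _ τ p x).symm
  · rintro _ ⟨x, rfl⟩
    refine ⟨Formal.toHHmodPow I M p k x, ?_⟩
    refine (Formal.HHmap_comp (Formal.modPowπ I (k + 1) M) _ p x).trans ?_
    exact congrArg (fun g => Sheaf.H.map ((SheafOfModules.toSheaf _).map g) p x)
      (modPowπ_completion_map I M h)

omit [IsNoetherianRing A] [FiniteOnSupp A M] hM in
variable (M) in
theorem HHlim_map (p : ℕ) (ξ : Formal.HHlim I M p) {n k : ℕ} (h : n ≤ k) :
    Sheaf.H.map ((SheafOfModules.toSheaf X.ringCatSheaf).map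
      ((Formal.completion I M).map (homOfLE h).op)) p (ξ.1 k) = ξ.1 n := by
  induction k, h using Nat.le_induction with
  | base =>
    rw [show (homOfLE (le_refl n)).op = 𝟙 (op n) from rfl, CategoryTheory.Functor.map_id]
    refine (congrArg (fun g => Sheaf.H.map g p (ξ.1 n))
      ((SheafOfModules.toSheaf X.ringCatSheaf).map_id _)).trans ?_
    exact Sheaf.H.map_id_apply _
  | succ k hk ih =>
    have e : (homOfLE (Nat.le_succ_of_le hk)).op = (homOfLE (Nat.le_succ k)).op ≫ (homOfLE hk).op :=
      rfl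
    rw [e, Functor.map_comp]
    refine (Formal.HHmap_comp _ _ p _).symm.trans ?_
    refine Eq.trans ?_ ih
    refine congrArg _ ?_
    rw [show (Formal.completion I M).map (homOfLE (Nat.le_succ k)).op =
      Formal.modPowTrans I (k + 1) M from Functor.ofOpSequence_map_homOfLE_succ _ _]
    exact ξ.2 k

/-- Lifts of an element of the limit. -/
theorem exists_lifts (p : ℕ) (ξ : Formal.HHlim I M p) :
    ∃ y : ℕ → Coh.HH X M p, ∀ n, Formal.toHHmodPow I M p n (y n) = ξ.1 n := by
  obtain ⟨c, hc⟩ := exists_range_eq I hM p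
  have : ∀ n, ξ.1 n ∈ Set.range (Formal.toHHmodPow I M p n) := fun n => by
    rw [← hc n (n + c) (Nat.le_add_right n c) le_rfl]
    exact ⟨ξ.1 (n + c), HHlim_map I M p ξ _⟩
  choose y hy using this
  exact ⟨y, hy⟩

omit [IsNoetherianRing A] [FiniteOnSupp A M] hM in
variable (M) in
theorem toHHmodPow_smul_eq_zero (p n k : ℕ) (h : n + 1 ≤ k) (x : Coh.HH X M p)
    (hx : x ∈ I ^ k • (⊤ : Submodule A (Coh.HH X M p))) : Formal.toHHmodPow I M p n x = 0 :=
  (mem_imPow_succ_iff I M p n x).1 (imPow_antitone I M p h (pow_smul_le_imPow I M p k hx))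

omit [IsNoetherianRing A] [FiniteOnSupp A M] hM in
variable (M) in
/-- From the completion to the inverse limit. -/
noncomputable def complToLim (p : ℕ) : AdicCompletion I (Coh.HH X M p) →+ Formal.HHlim I M p :=
  AddMonoidHom.mk' (fun z => ⟨fun n => QuotientAddGroup.lift
      (I ^ (n + 1) • (⊤ : Submodule A (Coh.HH X M p))).toAddSubgroup (Formal.toHHmodPow I M p n)
      (fun x hx => toHHmodPow_smul_eq_zero I M p n (n + 1) le_rfl x hx) (z.1 (n + 1)), fun n => by
    obtain ⟨f, rfl⟩ := AdicCompletion.mk_surjective I (Coh.HH X M p) z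
    change Formal.HHmodPowTrans I M p n (Formal.toHHmodPow I M p (n + 1) (f (n + 1 + 1))) =
      Formal.toHHmodPow I M p n (f (n + 1))
    refine ((Formal.toHHlim I M p (f (n + 1 + 1))).2 n).trans ?_
    rw [← sub_eq_zero]
    refine (map_sub (Formal.toHHmodPow I M p n) _ _).symm.trans ?_
    exact toHHmodPow_smul_eq_zero I M p n (n + 1) le_rfl _
      ((SModEq.sub_mem).1 (f.2 (Nat.le_succ (n + 1))).symm)⟩)
    fun a b => Subtype.ext (funext fun n => map_add _ _ _)

theorem complToLim_bijective (p : ℕ) : Function.Bijective (complToLim I M p) := by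
  obtain ⟨c, hc⟩ := exists_imPow_le I hM p
  refine ⟨(injective_iff_map_eq_zero _).2 fun z hz => ?_, fun ξ => ?_⟩
  · obtain ⟨f, rfl⟩ := AdicCompletion.mk_surjective I (Coh.HH X M p) z
    refine AdicCompletion.ext fun k => ?_
    change (Submodule.Quotient.mk (f k) : _ ⧸ (I ^ k • ⊤ : Submodule A (Coh.HH X M p))) = 0
    rw [Submodule.Quotient.mk_eq_zero]
    have h1 : f (k + c + 1) ∈ imPow I M p (k + c + 1) :=
      (mem_imPow_succ_iff I M p (k + c) _).2 (congrFun (congrArg Subtype.val hz) (k + c))
    have h2 : f (k + c + 1) ∈ I ^ k • (⊤ : Submodule A (Coh.HH X M p)) :=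
      Submodule.smul_mono_left (Ideal.pow_le_pow_right (by omega)) (hc _ (by omega) h1)
    have h3 := (SModEq.sub_mem).1 (f.2 (show k ≤ k + c + 1 by omega))
    simpa using add_mem h3 h2
  · obtain ⟨y, hy⟩ := exists_lifts I hM p ξ
    let u : ℕ → Coh.HH X M p := fun k => y (k + c)
    have hu : ∀ k, u k ≡ u (k + 1) [SMOD (I ^ k • ⊤ : Submodule A (Coh.HH X M p))] := fun k => by
      refine SModEq.sub_mem.2 ?_
      have h1 : u k - u (k + 1) ∈ imPow I M p (k + c + 1) := by
        refine (mem_imPow_succ_iff I M p (k + c) _).2 ?_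
        rw [map_sub, sub_eq_zero]
        refine (hy (k + c)).trans ?_
        have hu1 : u (k + 1) = y (k + c + 1) := by simp only [u]; congr 1; omega
        rw [hu1]
        refine (ξ.2 (k + c)).symm.trans ?_
        exact (congrArg (Formal.HHmodPowTrans I M p (k + c)) (hy (k + c + 1)).symm).trans
          ((Formal.toHHlim I M p (y (k + c + 1))).2 (k + c))
      exact Submodule.smul_mono_left (Ideal.pow_le_pow_right (by omega)) (hc _ (by omega) h1)
    refine ⟨AdicCompletion.mk I _ (AdicCompletion.AdicCauchySequence.mk I _ u hu),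
      Subtype.ext (funext fun n => ?_)⟩
    change Formal.toHHmodPow I M p n (y (n + 1 + c)) = ξ.1 n
    refine ((Formal.HHmap_comp (Formal.modPowπ I (n + 1 + c + 1) M) _ p _).trans
      (congrArg (fun g => Sheaf.H.map ((SheafOfModules.toSheaf _).map g) p (y (n + 1 + c)))
        (modPowπ_completion_map I M (show n ≤ n + 1 + c by omega)))).symm.trans ?_
    exact (congrArg _ (hy (n + 1 + c))).trans (HHlim_map I M p ξ _)

theorem toHHlim_bijective [IsAdicComplete I A] (p : ℕ) :
    Function.Bijective (Formal.toHHlim I M p) := by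
  have := finite_HH (A := A) hM p
  have hsur : Function.Surjective (AdicCompletion.of I (Coh.HH X M p)) := fun z => by
    obtain ⟨t, rfl⟩ := AdicCompletion.ofTensorProduct_surjective_of_finite I (Coh.HH X M p) z
    induction t using TensorProduct.induction_on with
    | zero => exact ⟨0, by simp⟩
    | add a b ha hb =>
      obtain ⟨a', ha'⟩ := ha
      obtain ⟨b', hb'⟩ := hb
      exact ⟨a' + b', by rw [map_add, map_add, ha', hb']⟩
    | tmul r h =>
      obtain ⟨a, rfl⟩ := (AdicCompletion.of_bijective I A).2 r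
      refine ⟨a • h, ?_⟩
      rw [AdicCompletion.ofTensorProduct_tmul, map_smul]
      refine AdicCompletion.ext fun n => ?_
      rfl
  have hH : IsHausdorff I (Coh.HH X M p) :=
    IsHausdorff.of_le_jacobson I _ (IsAdicComplete.le_jacobson_bot I)
  have hb : Function.Bijective (AdicCompletion.of I (Coh.HH X M p)) :=
    ⟨AdicCompletion.of_injective_iff.2 hH, hsur⟩
  exact ((complToLim_bijective I hM p).comp hb :)

end Groth.Agent.Coherent
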