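import Groth.Agent.Coherent.SteinFibre
import Groth.Prelude.Def_ega3

/-! Points of the Stein factorisation over a point `y` and maximal ideals of the integral closure
of `O_{Y,y}` in the function field of the source. -/

set_option autoImplicit false
set_option backward.isDefEq.respectTransparency false
universe u

open CategoryTheory CategoryTheory.Limits AlgebraicGeometry TopologicalSpace IsLocalRing

namespace Groth.Agent.Coherent

/-- A homomorphism from a local ring to a field is dominated by a valuation ring. -/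
theorem exists_valuationSubring_dominating {R K : Type u} [CommRing R] [IsLocalRing R] [Field K]
    (σ : R →+* K) :
    ∃ V : ValuationSubring K, ∀ r, σ r ∈ V ∧ (r ∈ maximalIdeal R ↔ σ r ∈ V.nonunits) := by
  obtain ⟨V, hle, hloc⟩ := (LocalSubring.range σ).exists_le_valuationSubring
  have hmem : ∀ r, σ r ∈ V := fun r => hle ⟨r, rfl⟩
  refine ⟨V, fun r => ⟨hmem r, ?_⟩⟩
  let τ : R →+* V.toSubring := σ.codRestrict V.toSubring hmem
  have hτ : IsLocalHom τ := by
    refine ⟨fun a ha => ?_⟩
    have : IsLocalHom (σ.rangeRestrict) := IsLocalHom.of_surjective _ σ.rangeRestrict_surjective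
    refine isUnit_of_map_unit σ.rangeRestrict a (hloc.map_nonunit ⟨σ a, a, rfl⟩ ?_)
    exact ha
  rw [mem_maximalIdeal, _root_.mem_nonunits_iff, ← isUnit_map_iff τ r]
  exact (ValuationSubring.coe_mem_nonunits_iff (A := V) (a := ⟨σ r, hmem r⟩)).symm

/-- The germ formula for `stalkToFunctionField`. -/
theorem stalkToFF_germ_apply {X Y : Scheme.{u}} [AlgebraicGeometry.IsIntegral X] (f : X ⟶ Y) (y : Y)
    (h : f.base (genericPoint X) ⤳ y) (U : Y.Opens) (hy : y ∈ U)
    (hgX : genericPoint X ∈ f ⁻¹ᵁ U) (a : Γ(Y, U)) :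
    CohIII.stalkToFunctionField f y h (Y.presheaf.germ U y hy a) =
      X.presheaf.germ (f ⁻¹ᵁ U) (genericPoint X) hgX (f.app U a) := by
  refine Eq.trans (congrArg (f.stalkMap (genericPoint X))
    (TopCat.Presheaf.germ_stalkSpecializes_apply Y.presheaf (U := U) hy h a)) ?_
  exact f.germ_stalkMap_apply U (genericPoint X) hgX a

variable {X Y : Scheme.{u}} [AlgebraicGeometry.IsIntegral X] (f : X ⟶ Y) [IsProper f]
  [IsLocallyNoetherian Y]

/-- The generic point of the source lies over every point of the Stein factorisation. -/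
theorem toNormalization_genericPoint_specializes (w : f.normalization) :
    f.toNormalization.base (genericPoint X) ⤳ w := by
  obtain ⟨a, rfl⟩ := surjective_toNormalization f w
  exact (genericPoint_specializes a).map f.toNormalization.continuous

theorem exists_stein_maximal (y : Y) (h : f.base (genericPoint X) ⤳ y) :
    ∃ M : {w : f.normalization // f.fromNormalization w = y} →
      MaximalSpectrum (CohIII.integralClosureStalk f y h), Function.Injective M := by
  let σ := CohIII.stalkToFunctionField f y h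
  let ν := f.fromNormalization
  let τ : ∀ w : f.normalization, f.normalization.presheaf.stalk w →+* X.functionField :=
    fun w => CohIII.stalkToFunctionField f.toNormalization w
      (toNormalization_genericPoint_specializes f w)
  choose V hV using fun w => exists_valuationSubring_dominating (τ w)
  -- the local ring of `y` maps through the local ring of each point over it
  have hσ : ∀ (U : Y.Opens) (hyU : y ∈ U) (w : f.normalization) (hw : ν w = y) (a : Γ(Y, U))
      (hwU : w ∈ ν ⁻¹ᵁ U),
      σ (Y.presheaf.germ U y hyU a) =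
        τ w (f.normalization.presheaf.germ (ν ⁻¹ᵁ U) w hwU (ν.app U a)) := by
    intro U hyU w hw a hwU
    refine (stalkToFF_germ_apply f y h U hyU (h.mem_open U.2 hyU) a).trans ?_
    refine Eq.trans ?_ (stalkToFF_germ_apply f.toNormalization w _ (ν ⁻¹ᵁ U) hwU
      ((toNormalization_genericPoint_specializes f w).mem_open (ν ⁻¹ᵁ U).2 hwU) (ν.app U a)).symm
    have e : (f.toNormalization ≫ ν) = f := f.toNormalization_fromNormalization
    rw [← CommRingCat.comp_apply (ν.app U) (f.toNormalization.app _), ← Scheme.Hom.comp_app,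
      Scheme.Hom.congr_app e U, CommRingCat.comp_apply, TopCat.Presheaf.germ_res_apply']
  have hσmax : ∀ (w : f.normalization) (hw : ν w = y) (o : Y.presheaf.stalk y),
      σ o ∈ V w ∧ (o ∈ maximalIdeal _ ↔ σ o ∈ (V w).nonunits) := by
    intro w hw o
    obtain ⟨U, hyU, a, rfl⟩ := Y.presheaf.exists_germ_eq o
    have hwU : w ∈ ν ⁻¹ᵁ U := by show ν w ∈ U; rw [hw]; exact hyU
    rw [hσ U hyU w hw a hwU]
    refine ⟨(hV w _).1, Iff.trans ?_ (hV w _).2⟩
    rw [mem_maximalIdeal, mem_maximalIdeal, _root_.mem_nonunits_iff, _root_.mem_nonunits_iff,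
      ← Scheme.mem_basicOpen Y a y hyU, ← Scheme.mem_basicOpen _ _ w hwU,
      ← Scheme.preimage_basicOpen]
    show y ∉ Y.basicOpen a ↔ ν w ∉ Y.basicOpen a
    rw [hw]
  let _ : Algebra (Y.presheaf.stalk y) X.functionField := σ.toAlgebra
  let C := integralClosure (Y.presheaf.stalk y) X.functionField
  have hCV : ∀ w, ν w = y → ∀ x ∈ C, x ∈ V w := by
    intro w hw x hx
    obtain ⟨p, hp, hpx⟩ := hx
    let σ' : Y.presheaf.stalk y →+* V w := σ.codRestrict (V w).toSubring fun o => (hσmax w hw o).1
    have hint : _root_.IsIntegral (V w) x := by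
      refine ⟨p.map σ', hp.map σ', ?_⟩
      rw [Polynomial.eval₂_map]
      exact hpx
    obtain ⟨z, rfl⟩ := IsIntegrallyClosed.isIntegral_iff.mp hint
    exact z.2
  -- maximal ideals
  have hP : ∀ p : {w : f.normalization // f.fromNormalization w = y},
      ∃ m : MaximalSpectrum (CohIII.integralClosureStalk f y h),
        ∀ c, c ∈ m.asIdeal ↔ (c : X.functionField) ∈ (V p.1).nonunits := by
    intro p
    let ι : C →+* V p.1 :=
      (Subalgebra.val C).toRingHom.codRestrict (V p.1).toSubring fun c => hCV p.1 p.2 c c.2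
    let m : Ideal C := (maximalIdeal (V p.1)).comap ι
    have hm : m.IsMaximal := by
      refine Ideal.isMaximal_of_isIntegral_of_isMaximal_comap (R := Y.presheaf.stalk y) m ?_
      have : m.comap (algebraMap (Y.presheaf.stalk y) C) = maximalIdeal _ := by
        ext o
        exact (ValuationSubring.coe_mem_nonunits_iff (A := V p.1)
          (a := ι (algebraMap (Y.presheaf.stalk y) C o))).symm.trans (hσmax p.1 p.2 o).2.symm
      rw [this]; infer_instance
    exact ⟨⟨m, hm⟩, fun c => (ValuationSubring.coe_mem_nonunits_iff (A := V p.1) (a := ι c)).symm⟩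
  choose M hM using hP
  refine ⟨M, fun p q hpq => ?_⟩
  by_contra hne
  obtain ⟨_, ⟨U, hU, rfl⟩, hyU, -⟩ :=
    Y.isBasis_affineOpens.exists_subset_of_mem_open (Set.mem_univ y) isOpen_univ
  let U' : Y.Opens := U
  have hW : IsAffineOpen (ν ⁻¹ᵁ U') := IsAffineOpen.preimage hU ν
  have hp : p.1 ∈ ν ⁻¹ᵁ U' := by show ν p.1 ∈ U'; rw [p.2]; exact hyU
  have hq : q.1 ∈ ν ⁻¹ᵁ U' := by show ν q.1 ∈ U'; rw [q.2]; exact hyU
  have := isFinite_fromNormalization_of_isProper f
  obtain ⟨b, hbp, hbq⟩ : ∃ b : Γ(f.normalization, ν ⁻¹ᵁ U'),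
      p.1 ∉ f.normalization.basicOpen b ∧ q.1 ∈ f.normalization.basicOpen b := by
    have hcl : ¬ q.1 ⤳ p.1 := fun hs => by
      have hd := isDiscrete_iff_discreteTopology.mp (ν.isDiscrete_preimage_singleton y)
      have h2 : (⟨q.1, q.2⟩ : ν ⁻¹' {y}) ⤳ ⟨p.1, p.2⟩ := (subtype_specializes_iff _ _).mpr hs
      exact hne (Subtype.ext (congrArg Subtype.val h2.eq).symm)
    obtain ⟨O, hO, hqO, hpO⟩ : ∃ O : Set f.normalization, IsOpen O ∧ q.1 ∈ O ∧ p.1 ∉ O := by
      refine ⟨(closure {p.1})ᶜ, isClosed_closure.isOpen_compl, fun hc => ?_,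
        fun hc => hc (subset_closure rfl)⟩
      have h3 : p.1 ⤳ q.1 := specializes_iff_mem_closure.mpr hc
      have hd := isDiscrete_iff_discreteTopology.mp (ν.isDiscrete_preimage_singleton y)
      have h2 : (⟨p.1, p.2⟩ : ν ⁻¹' {y}) ⤳ ⟨q.1, q.2⟩ := (subtype_specializes_iff _ _).mpr h3
      exact hne (Subtype.ext (congrArg Subtype.val h2.eq))
    obtain ⟨b, hb, hqb⟩ := hW.exists_basicOpen_le (V := ⟨O, hO⟩) ⟨q.1, hqO⟩ hq
    exact ⟨b, fun hpb => hpO (hb hpb), hqb⟩
  have hgX : genericPoint X ∈ f ⁻¹ᵁ U' := h.mem_open U'.2 hyU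
  have hgX' : genericPoint X ∈ f.toNormalization ⁻¹ᵁ ν ⁻¹ᵁ U' :=
    (toNormalization_genericPoint_specializes f p.1).mem_open (ν ⁻¹ᵁ U').2 hp
  have hτp : τ p.1 (f.normalization.presheaf.germ _ p.1 hp b) =
      X.presheaf.germ _ _ hgX' (f.toNormalization.app (ν ⁻¹ᵁ U') b) :=
    stalkToFF_germ_apply f.toNormalization p.1 _ _ hp hgX' b
  have hτq : τ q.1 (f.normalization.presheaf.germ _ q.1 hq b) =
      X.presheaf.germ _ _ hgX' (f.toNormalization.app (ν ⁻¹ᵁ U') b) :=
    stalkToFF_germ_apply f.toNormalization q.1 _ _ hq hgX' b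
  let β := X.presheaf.germ _ _ hgX' (f.toNormalization.app (ν ⁻¹ᵁ U') b)
  have hβ : β ∈ C := by
    obtain ⟨P, hP, hPb⟩ := IsIntegralHom.isIntegral_app ν U' hU b
    refine ⟨P.map (Y.presheaf.germ U' y hyU).hom, hP.map _, ?_⟩
    rw [Polynomial.eval₂_map]
    let φ : Γ(f.normalization, ν ⁻¹ᵁ U') →+* X.functionField :=
      (X.presheaf.germ _ _ hgX').hom.comp (f.toNormalization.app (ν ⁻¹ᵁ U')).hom
    have hcomp : (algebraMap (Y.presheaf.stalk y) X.functionField).comp
        (Y.presheaf.germ U' y hyU).hom = φ.comp (ν.app U').hom :=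
      RingHom.ext fun a => (hσ U' hyU p.1 p.2 a hp).trans
        (stalkToFF_germ_apply f.toNormalization p.1 _ _ hp hgX' (ν.app U' a))
    rw [hcomp]
    show Polynomial.eval₂ (φ.comp (ν.app U').hom) (φ b) P = 0
    rw [← Polynomial.hom_eval₂, hPb, map_zero]
  have h1 : β ∈ (V p.1).nonunits := by
    show X.presheaf.germ _ _ hgX' _ ∈ _
    rw [← hτp, ← (hV p.1 _).2, mem_maximalIdeal, _root_.mem_nonunits_iff,
      ← Scheme.mem_basicOpen _ _ p.1 hp]
    exact hbp
  have h2 : β ∉ (V q.1).nonunits := by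
    show X.presheaf.germ _ _ hgX' _ ∉ _
    rw [← hτq, ← (hV q.1 _).2, mem_maximalIdeal, _root_.mem_nonunits_iff,
      ← Scheme.mem_basicOpen _ _ q.1 hq, not_not]
    exact hbq
  exact h2 ((hM q ⟨β, hβ⟩).mp (hpq ▸ (hM p ⟨β, hβ⟩).mpr h1))

/-- The fibre has at most as many components as the integral closure has maximal ideals. -/
theorem card_connectedComponents_fiber_le (y : Y) (h : f.base (genericPoint X) ⤳ y) :
    Cardinal.mk (_root_.ConnectedComponents (f.fiber y)) ≤
      Cardinal.mk (MaximalSpectrum (CohIII.integralClosureStalk f y h)) := by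
  obtain ⟨M, hM⟩ := exists_stein_maximal f y h
  obtain ⟨-, -, hcomp⟩ := stein_fibre f y
  let φ := CohIII.fiberMapOver f.toNormalization f f.fromNormalization
    f.toNormalization_fromNormalization y
  let g : f.fiber y → {w : f.normalization // f.fromNormalization w = y} := fun x =>
    ⟨f.fromNormalization.fiberι y (φ.base x), by
      have := Set.mem_range_self (f := f.fromNormalization.fiberι y) (φ.base x)
      rw [f.fromNormalization.range_fiberι] at this
      exact this⟩
  let G : _root_.ConnectedComponents (f.fiber y) →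
      {w : f.normalization // f.fromNormalization w = y} :=
    Quotient.lift g fun a b hab => Subtype.ext
      (congrArg (f.fromNormalization.fiberι y) ((hcomp a b).mpr hab))
  refine Cardinal.mk_le_of_injective (f := M ∘ G) (hM.comp ?_)
  rintro ⟨a⟩ ⟨b⟩ hab
  exact Quotient.sound ((hcomp a b).mp
    ((f.fromNormalization.fiberι y).isEmbedding.injective (congrArg Subtype.val hab)))

end Groth.Agent.Coherent
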