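import Groth.Agent.Coherent.GeomConnected
import Groth.Agent.Coherent.Stein
import Groth.Agent.Coherent.SteinIntClosure

/-! `f_* O_X = O_Y` near a normal point when `R(Y)` is algebraically closed in `R(X)`. -/

set_option autoImplicit false
set_option backward.isDefEq.respectTransparency false

universe u

open CategoryTheory AlgebraicGeometry TopologicalSpace

namespace Groth.Agent.Coherent

/-- Over an affine base, bijectivity on global sections suffices. -/
theorem isIso_app_of_bijective_app_top {X Y : Scheme.{u}} (g : X ⟶ Y) [IsProper g]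
    [IsLocallyNoetherian Y] [IsAffine Y] (h : Function.Bijective (g.app ⊤)) (V : Y.Opens) :
    IsIso (g.app V) := by
  let ν := g.fromNormalization
  have h1 : IsIso (ν.app ⊤) := by
    rw [g.fromNormalization_app (isAffineOpen_top Y)]
    let := (g.app ⊤).hom.toAlgebra
    have : IsIso (CommRingCat.ofHom (algebraMap Γ(Y, ⊤)
        (integralClosure Γ(Y, ⊤) Γ(X, g ⁻¹ᵁ ⊤)))) :=
      (ConcreteCategory.isIso_iff_bijective _).mpr
        ⟨fun a b hab => h.1 (congrArg Subtype.val hab), fun c => by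
          obtain ⟨a, ha⟩ := h.2 c.1
          exact ⟨a, Subtype.ext ha⟩⟩
    infer_instance
  have hν : IsIso ν := by
    rw [← MorphismProperty.isomorphisms.iff,
      IsZariskiLocalAtTarget.iff_of_iSup_eq_top (P := MorphismProperty.isomorphisms Scheme.{u})
        (fun _ : PUnit.{1} => (⊤ : Y.Opens)) (by simp)]
    exact fun _ => (isIso_morphismRestrict_iff_isIso_app ν (isAffineOpen_top Y)).mpr h1
  have := isIso_toNormalization_app g (ν ⁻¹ᵁ V)
  have h2 : IsIso ((g.toNormalization ≫ ν).app V) := by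
    rw [Scheme.Hom.comp_app]
    infer_instance
  rwa [Scheme.Hom.congr_app g.toNormalization_fromNormalization V, isIso_comp_right_iff] at h2

variable {X Y : Scheme.{u}} [AlgebraicGeometry.IsIntegral X] [AlgebraicGeometry.IsIntegral Y]
  (f : X ⟶ Y) [IsProper f] [IsLocallyNoetherian Y]
  (hdom : f.base (genericPoint X) ⤳ genericPoint Y)

theorem exists_nhd_isIso_app_of_algClosed
    (halg : ∀ x : X.functionField,
      (∃ q : Polynomial Y.functionField, q ≠ 0 ∧
        Polynomial.eval₂ (CohIII.stalkToFunctionField f (genericPoint Y) hdom) x q = 0) →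
      x ∈ Set.range (CohIII.stalkToFunctionField f (genericPoint Y) hdom))
    (y : Y) (hy : IsIntegrallyClosed (Y.presheaf.stalk y)) :
    ∃ U : Y.Opens, y ∈ U ∧ ∀ V : Y.Opens, V ≤ U → IsIso (f.app V) := by
  classical
  obtain ⟨_, ⟨U₀, hU₀, rfl⟩, hy₀, -⟩ :=
    Y.isBasis_affineOpens.exists_subset_of_mem_open (Set.mem_univ y) isOpen_univ
  let U : Y.Opens := U₀
  have hU : IsAffineOpen U := hU₀
  have hgU : genericPoint Y ∈ U :=
    ((genericPoint_spec Y).mem_open_set_iff U.2).mpr (by simpa using ⟨y, hy₀⟩)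
  have hgX : genericPoint X ∈ f ⁻¹ᵁ U := hdom.mem_open U.2 hgU
  let σ := CohIII.stalkToFunctionField f (genericPoint Y) hdom
  let φ := (f.app U).hom
  let emb := (X.presheaf.germ (f ⁻¹ᵁ U) (genericPoint X) hgX).hom
  have hemb : Function.Injective emb := germ_injective_of_isIntegral X _ hgX
  let γ := (Y.presheaf.germ U (genericPoint Y) hgU).hom
  have hσ : ∀ a, σ (γ a) = emb (φ a) := fun a => stalkToFF_germ_apply f _ hdom U hgU hgX a
  have hφ : Function.Injective φ := fun a b hab =>
    (germ_injective_of_isIntegral Y _ hgU) (σ.injective ((hσ a).trans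
      ((congrArg emb hab).trans (hσ b).symm)))
  have hfin : φ.Finite := finite_app_of_isProper f hU
  let δ := algebraMap (Y.presheaf.stalk y) Y.functionField
  have hδ : ∀ a, δ (Y.presheaf.germ U y hy₀ a) = γ a := fun a =>
    Y.presheaf.germ_stalkSpecializes_apply hy₀ _ a
  -- every section becomes a section of the base after multiplication by a unit at `y`
  have key : ∀ b : Γ(X, f ⁻¹ᵁ U), ∃ s a : Γ(Y, U), y ∈ Y.basicOpen s ∧ φ s * b = φ a := by
    intro b
    obtain ⟨p, hp, hpb⟩ := hfin.to_isIntegral b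
    have hcomp : σ.comp γ = emb.comp φ := RingHom.ext hσ
    have hroot : (p.map γ).eval₂ σ (emb b) = 0 := by
      rw [Polynomial.eval₂_map, hcomp, ← Polynomial.hom_eval₂, hpb, map_zero]
    obtain ⟨c, hc⟩ := halg (emb b) ⟨p.map γ, (hp.map γ).ne_zero, hroot⟩
    have hcint : _root_.IsIntegral (Y.presheaf.stalk y) c := by
      refine ⟨p.map (Y.presheaf.germ U y hy₀).hom, hp.map _, σ.injective ?_⟩
      have hcomp' : δ.comp (Y.presheaf.germ U y hy₀).hom = γ := RingHom.ext hδ
      rw [Polynomial.eval₂_map, hcomp', Polynomial.hom_eval₂, map_zero, hcomp]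
      show Polynomial.eval₂ (emb.comp φ) (σ c) p = 0
      rw [hc, ← Polynomial.hom_eval₂, hpb, map_zero]
    obtain ⟨o, rfl⟩ := IsIntegrallyClosed.isIntegral_iff.mp hcint
    have := hU.isLocalization_stalk ⟨y, hy₀⟩
    let := Y.presheaf.algebra_section_stalk (⟨y, hy₀⟩ : U)
    obtain ⟨⟨a, s⟩, has⟩ := IsLocalization.surj (hU.primeIdealOf ⟨y, hy₀⟩).asIdeal.primeCompl o
    refine ⟨s, a, ?_, hemb ?_⟩
    · rw [Scheme.mem_basicOpen Y _ y hy₀]
      exact IsLocalization.map_units (Y.presheaf.stalk y) s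
    · rw [map_mul, ← hσ, ← hσ, ← hc, ← map_mul, ← hδ, ← hδ, ← map_mul, mul_comm]
      exact congrArg (fun z => σ (δ z)) has
  choose s a hsy hsa using key
  let _ : Algebra Γ(Y, U) Γ(X, f ⁻¹ᵁ U) := φ.toAlgebra
  obtain ⟨G, hG⟩ := (hfin : Module.Finite Γ(Y, U) Γ(X, f ⁻¹ᵁ U)).fg_top
  let t : Γ(Y, U) := ∏ b ∈ G, s b
  have hty : y ∈ Y.basicOpen t := by
    rw [Scheme.mem_basicOpen Y _ y hy₀, map_prod]
    exact IsUnit.prod_iff.mpr fun b _ => (Scheme.mem_basicOpen Y _ y hy₀).mp (hsy b)
  let N : Submodule Γ(Y, U) Γ(X, f ⁻¹ᵁ U) :=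
    { carrier := {b | ∃ c, φ t * b = φ c}
      add_mem' := by
        rintro b b' ⟨c, hc⟩ ⟨c', hc'⟩
        exact ⟨c + c', by rw [mul_add, hc, hc', map_add]⟩
      zero_mem' := ⟨0, by rw [mul_zero, map_zero]⟩
      smul_mem' := by
        rintro r b ⟨c, hc⟩
        refine ⟨r * c, ?_⟩
        show φ t * (φ r * b) = _
        rw [mul_left_comm, hc, map_mul] }
  have hN : ∀ b, b ∈ N := fun b => by
    have hGN : (G : Set Γ(X, f ⁻¹ᵁ U)) ⊆ N := fun g hg => by
      refine ⟨(∏ b' ∈ G.erase g, s b') * a g, ?_⟩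
      rw [map_mul, ← hsa g, ← mul_assoc, ← map_mul]
      congr 2
      exact (Finset.prod_erase_mul G s hg).symm
    have := Submodule.span_le.mpr hGN
    rw [hG] at this
    exact this trivial
  let D : Y.Opens := Y.basicOpen t
  let t' := φ t
  have hpre : f ⁻¹ᵁ D = X.basicOpen t' := Scheme.preimage_basicOpen f t
  have l1 : IsLocalization.Away t Γ(Y, Y.basicOpen t) := hU.isLocalization_basicOpen t
  have l2 : IsLocalization.Away t' Γ(X, X.basicOpen t') :=
    isLocalization_basicOpen_of_qcqs (f.isCompact_preimage hU.isCompact)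
      (f.isQuasiSeparated_preimage hU.isQuasiSeparated) t'
  have hn : ∀ r : Γ(Y, U),
      X.presheaf.map (eqToHom hpre.symm).op (f.app D (algebraMap Γ(Y, U) Γ(Y, D) r)) =
        algebraMap Γ(X, f ⁻¹ᵁ U) Γ(X, X.basicOpen t') (φ r) := fun r => by
    refine Eq.trans (congrArg (X.presheaf.map (eqToHom hpre.symm).op)
      (congr($(f.naturality (homOfLE (Y.basicOpen_le t)).op) r))) ?_
    rw [CommRingCat.comp_apply, ← CommRingCat.comp_apply, ← X.presheaf.map_comp]
    rfl
  have hbij : Function.Bijective (f.app D) := by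
    refine (Function.Bijective.of_comp_iff'
      (ConcreteCategory.bijective_of_isIso (X.presheaf.map (eqToHom hpre.symm).op)) _).mp ?_
    refine ⟨(injective_iff_map_eq_zero
      ((X.presheaf.map (eqToHom hpre.symm).op).hom.comp (f.app D).hom)).mpr fun z hz => ?_,
      fun z => ?_⟩
    · obtain ⟨n, c, hc⟩ := IsLocalization.Away.surj t z
      have h0 : algebraMap Γ(X, f ⁻¹ᵁ U) Γ(X, X.basicOpen t') (φ c) = 0 := by
        rw [← hn, ← hc, map_mul, map_mul]
        show ((X.presheaf.map (eqToHom hpre.symm).op).hom.comp (f.app D).hom) z * _ = 0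
        rw [hz, zero_mul]
      obtain ⟨⟨_, m, rfl⟩, hm⟩ := (IsLocalization.map_eq_zero_iff (Submonoid.powers t')
        Γ(X, X.basicOpen t') _).mp h0
      have hc0 : t ^ m * c = 0 := hφ (by rw [map_mul, map_pow, map_zero]; exact hm)
      have := (IsLocalization.map_eq_zero_iff (Submonoid.powers t) Γ(Y, Y.basicOpen t) c).mpr
        ⟨⟨_, m, rfl⟩, hc0⟩
      rw [← hc] at this
      exact ((IsLocalization.map_units Γ(Y, Y.basicOpen t)
        ⟨t, Submonoid.mem_powers t⟩).pow n).mul_left_eq_zero.mp this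
    · obtain ⟨n, b, hb⟩ := IsLocalization.Away.surj t' z
      obtain ⟨c, hc⟩ := hN b
      obtain ⟨w, hw⟩ := ((IsLocalization.map_units Γ(Y, Y.basicOpen t)
        ⟨t, Submonoid.mem_powers t⟩).pow (n + 1)).exists_right_inv
      refine ⟨algebraMap Γ(Y, U) Γ(Y, D) c * w, ?_⟩
      show ((X.presheaf.map (eqToHom hpre.symm).op).hom.comp (f.app D).hom) _ = z
      have hu : IsUnit (algebraMap Γ(X, f ⁻¹ᵁ U) Γ(X, X.basicOpen t') t' ^ (n + 1)) :=
        (IsLocalization.map_units Γ(X, X.basicOpen t') ⟨t', Submonoid.mem_powers t'⟩).pow _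
      refine hu.mul_left_injective ?_
      have ht : algebraMap Γ(X, f ⁻¹ᵁ U) Γ(X, X.basicOpen t') t' =
          ((X.presheaf.map (eqToHom hpre.symm).op).hom.comp (f.app D).hom)
            (algebraMap Γ(Y, U) Γ(Y, D) t) := (hn t).symm
      show _ * _ = z * _
      conv_lhs => rw [ht, ← map_pow, ← map_mul, mul_assoc, mul_comm w, hw, mul_one]
      show X.presheaf.map _ (f.app D (algebraMap Γ(Y, U) Γ(Y, D) c)) = _
      rw [hn, ← hc, pow_succ, ← mul_assoc, hb, ← map_mul, mul_comm]
  refine ⟨D, hty, fun V hV => ?_⟩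
  have : IsAffine (D : Scheme.{u}) := hU.basicOpen t
  have : IsLocallyNoetherian (D : Scheme.{u}) := isLocallyNoetherian_of_isOpenImmersion D.ι
  have htop : Function.Bijective ((f ∣_ D).app ⊤) := by
    rw [morphismRestrict_app]
    have : IsIso (f.app (D.ι ''ᵁ ⊤)) := by
      rw [D.ι_image_top]; exact (ConcreteCategory.isIso_iff_bijective _).mpr hbij
    exact ConcreteCategory.bijective_of_isIso _
  have h1 := isIso_app_of_bijective_app_top (f ∣_ D) htop (D.ι ⁻¹ᵁ V)
  rw [morphismRestrict_app, isIso_comp_right_iff] at h1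
  have e : D.ι ''ᵁ D.ι ⁻¹ᵁ V = V := by
    rw [Scheme.Hom.image_preimage_eq_opensRange_inf, Scheme.Opens.opensRange_ι,
      inf_eq_right.mpr hV]
  have h2 : ∀ W : Y.Opens, W = V → IsIso (f.app W) → IsIso (f.app V) := by
    rintro W rfl h; exact h
  exact h2 _ e h1

end Groth.Agent.Coherent
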