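import Groth.Agent.Coherent.CohFinite

/-!
# Degree zero cohomology as sections, restriction to open subschemes
-/

set_option autoImplicit false

universe u

open CategoryTheory CategoryTheory.Abelian CategoryTheory.Limits AlgebraicGeometry Opposite
  TopologicalSpace

namespace Groth.Agent.Coherent

variable {X : Scheme.{u}} {A : Type u} [CommRing A]

/-- `Γ(X, M)` as a module over `A`. -/
@[nolint unusedArguments]
def GA (_φ : A →+* Γ(X, ⊤)) (M : X.Modules) : Type u := Γ(M, ⊤)

noncomputable instance (φ : A →+* Γ(X, ⊤)) (M : X.Modules) : AddCommGroup (GA φ M) :=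
  inferInstanceAs (AddCommGroup Γ(M, ⊤))

noncomputable instance (φ : A →+* Γ(X, ⊤)) (M : X.Modules) : Module A (GA φ M) :=
  Module.compHom Γ(M, ⊤) φ

variable (φ : A →+* Γ(X, ⊤))

/-- Functoriality of global sections, linearly. -/
noncomputable def mapGA {M N : X.Modules} (f : M ⟶ N) : GA φ M →ₗ[A] GA φ N where
  toFun := f.app ⊤
  map_add' := map_add (f.app (⊤ : X.Opens)).hom
  map_smul' a x := f.app_smul (U := ⊤) (φ a) x

/-- `H^0(X, M) ≃ Γ(X, M)`, linearly. -/
noncomputable def secA (M : X.Modules) : HA φ M (⊤ : X.Opens) 0 ≃ₗ[A] GA φ M :=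
  { (secH (X := X.toTopCat) (Coh.toAb M) (⊤ : X.Opens) : HA φ M (⊤ : X.Opens) 0 ≃+ GA φ M) with
    map_smul' := fun a x => by
      refine (secH_postH (X := X.toTopCat) (smulEndAb M (φ a)) (⊤ : X.Opens) x).trans ?_
      refine (smulEndAb_app M (φ a) ⊤ _).trans ?_
      refine congrArg (fun r : Γ(X, ⊤) => r •
        (show Γ(M, ⊤) from secH (X := X.toTopCat) (Coh.toAb M) (⊤ : X.Opens) x)) ?_
      exact ConcreteCategory.congr_hom (X.presheaf.map_id (op (⊤ : X.Opens))) (φ a) }

theorem secA_natural {M N : X.Modules} (f : M ⟶ N) (x : HA φ M (⊤ : X.Opens) 0) :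
    secA φ N (postA φ f ⊤ 0 x) = mapGA φ f (secA φ M x) :=
  secH_postH (X := X.toTopCat) ((toAbFunctor X).map f) (⊤ : X.Opens) x

/-- The connecting map on global sections. -/
noncomputable def deltaG {S : ShortComplex X.Modules} (hS : S.ShortExact) :
    GA φ S.X₃ →ₗ[A] HA φ S.X₁ (⊤ : X.Opens) 1 :=
  (deltaA φ hS ⊤ 0).comp (secA φ S.X₃).symm.toLinearMap

theorem deltaG_eq_zero_iff {S : ShortComplex X.Modules} (hS : S.ShortExact) (x : GA φ S.X₃) :
    deltaG φ hS x = 0 ↔ ∃ y, mapGA φ S.g y = x := by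
  refine ((exact_postA_deltaA φ hS ⊤ 0) ((secA φ S.X₃).symm x)).trans ?_
  constructor
  · rintro ⟨z, hz⟩
    refine ⟨secA φ S.X₂ z, (secA_natural φ S.g z).symm.trans ?_⟩
    rw [hz, LinearEquiv.apply_symm_apply]
  · rintro ⟨y, rfl⟩
    refine ⟨(secA φ S.X₂).symm y, (secA φ S.X₃).injective ?_⟩
    rw [secA_natural, LinearEquiv.apply_symm_apply, LinearEquiv.apply_symm_apply]

theorem deltaG_surjective {S : ShortComplex X.Modules} (hS : S.ShortExact)
    (h : Subsingleton (HA φ S.X₂ (⊤ : X.Opens) 1)) : Function.Surjective (deltaG φ hS) := fun x => by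
  obtain ⟨y, hy⟩ := (exact_deltaA_postA φ hS ⊤ 0 x).1 (h.elim _ _)
  exact ⟨secA φ S.X₃ y, by simpa [deltaG] using hy⟩

section Restrict

/-- Functions on the base act on the cohomology of an open. -/
noncomputable def openHom (U : X.Opens) (φ : A →+* Γ(X, U)) : A →+* Γ(U.toScheme, ⊤) :=
  U.topIso.inv.hom.comp φ

/-- Sections of a restriction. -/
noncomputable def restrictSec (M : X.Modules) (U : X.Opens) :
    Γ(M.restrict U.ι, ⊤) →+ Γ(M, U) :=
  (resM M U.ι_image_top.ge).comp (M.restrictAppIso U.ι ⊤).hom.hom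

theorem restrictSec_bijective (M : X.Modules) (U : X.Opens) :
    Function.Bijective (restrictSec M U) :=
  (resM_bijective_of_eq M U.ι_image_top.ge U.ι_image_top).comp
    (ConcreteCategory.bijective_of_isIso (M.restrictAppIso U.ι ⊤).hom)

theorem restrictSec_natural {M N : X.Modules} (f : M ⟶ N) (U : X.Opens)
    (x : Γ(M.restrict U.ι, ⊤)) :
    restrictSec N U (((Scheme.Modules.restrictFunctor U.ι).map f).app ⊤ x) =
      f.app U (restrictSec M U x) := by
  exact (app_resM f U.ι_image_top.ge _).symm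

theorem restrictSec_smul (M : X.Modules) (U : X.Opens) (r : Γ(X, U))
    (x : Γ(M.restrict U.ι, ⊤)) :
    restrictSec M U (U.topIso.inv r • x) = r • restrictSec M U x := by
  refine (congrArg (resM M U.ι_image_top.ge)
    (Scheme.Modules.smul_restrictAppIso_hom_apply U.ι M ⊤ (U.topIso.inv r) x)).trans ?_
  refine (resM_smul M U.ι_image_top.ge _ _).trans ?_
  refine congrArg (fun z : Γ(X, U) => z • _) ?_
  simp only [Scheme.Opens.ι_appIso, Iso.refl_inv, Scheme.Opens.topIso_inv]
  exact (ConcreteCategory.congr_hom (X.presheaf.map_comp _ _) r).symm.trans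
    (ConcreteCategory.congr_hom (X.presheaf.map_id (op U)) r)

theorem restrict_shortExact {Y : Scheme.{u}} (j : Y ⟶ X) [IsOpenImmersion j]
    {S : ShortComplex X.Modules} (hS : S.ShortExact) :
    (S.map (Scheme.Modules.restrictFunctor j)).ShortExact := by
  have hf := hS.mono_f
  have hg := hS.epi_g
  have hm : Mono ((Scheme.Modules.restrictFunctor j).map S.f) :=
    Preadditive.mono_of_cancel_zero _ fun {P} g hg' =>
      Scheme.Modules.hom_ext _ _ fun V => ConcreteCategory.hom_ext _ _ fun x => by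
        refine sections_injective hS (j ''ᵁ V) ?_
        exact (congrArg (fun ψ : P ⟶ (Scheme.Modules.restrictFunctor j).obj S.X₂ => ψ.app V x)
          hg').trans (map_zero _).symm
  exact
    { exact := ShortComplex.exact_of_g_is_cokernel _
        (CokernelCofork.mapIsColimit _ hS.gIsCokernel (Scheme.Modules.restrictFunctor j))
      mono_f := hm
      epi_g := inferInstanceAs (Epi ((Scheme.Modules.restrictFunctor j).map S.g)) }

theorem subsingleton_HA_iff (M : X.Modules) (U : X.Opens) (q : ℕ) :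
    Subsingleton (HA φ M U q) ↔ Subsingleton (Sheaf.H' (Coh.toAb M) q U) := Iff.rfl

theorem subsingleton_HA_restrict (M : X.Modules) (U : X.Opens) (q : ℕ)
    (ψ : A →+* Γ(U.toScheme, ⊤))
    (h : Subsingleton (Sheaf.H' (Coh.toAb M) q U)) :
    Subsingleton (HA ψ (M.restrict U.ι) (⊤ : U.toScheme.Opens) q) :=
  @Equiv.subsingleton _ _ (((H'ModRestrictEquiv U.ι M ⊤ q).trans
    (H'Congr (Coh.toAb M) q U.ι_image_top)).toEquiv) h

end Restrict

end Groth.Agent.Coherent
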