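import Groth.Agent.Coherent.QcohLocal

/-!
# Operations preserving quasi-coherence: kernels, cokernels, images, biproducts, direct images
-/

set_option autoImplicit false

universe u

open CategoryTheory CategoryTheory.Limits AlgebraicGeometry Opposite TopologicalSpace

namespace Groth.Agent.Coherent

variable {X : Scheme.{u}}

theorem app_injective_of_mono {M N : X.Modules} (φ : M ⟶ N) [Mono φ] (U : X.Opens) :
    Function.Injective (φ.app U) := by
  have : Mono ((Scheme.Modules.toPresheaf X).map φ) := inferInstance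
  have h : Mono (((Scheme.Modules.toPresheaf X).map φ).app (op U)) := inferInstance
  exact (AddCommGrpCat.mono_iff_injective _).1 h

theorem kernel_ι_app_zero {M N : X.Modules} (φ : M ⟶ N) (U : X.Opens) (k : Γ(kernel φ, U)) :
    φ.app U ((kernel.ι φ).app U k) = 0 :=
  ConcreteCategory.congr_hom
    (congrArg (fun ψ : kernel φ ⟶ N => ψ.app U) (kernel.condition φ)) k

theorem kernel_sections_exact {M N : X.Modules} (φ : M ⟶ N) {U : X.Opens} (s : Γ(M, U))
    (h : φ.app U s = 0) : ∃ k : Γ(kernel φ, U), (kernel.ι φ).app U k = s := by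
  let S : ShortComplex X.Modules := ShortComplex.mk (kernel.ι φ) φ (kernel.condition φ)
  have hS : S.Exact := S.exact_of_f_is_kernel (kernelIsKernel φ)
  have hmono : Mono ((toAbFunctor X).map (kernel.ι φ)) := Functor.map_mono _ _
  exact TopCat.Sheaf.sections_exact_of_left_exact (X := X.toTopCat)
    (hS.map_of_mono_of_preservesKernel (toAbFunctor X) (inferInstanceAs (Mono (kernel.ι φ)))
      inferInstance) hmono s h

theorem isQCoh_kernel {M N : X.Modules} (φ : M ⟶ N) [Coh.IsQCoh M] [Coh.IsQCoh N] :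
    Coh.IsQCoh (kernel φ) := by
  refine (isQCoh_iff_localizesOn _).2 fun U hU => ⟨fun f s => ?_, fun f t ht => ?_⟩
  · obtain ⟨n, t, ht⟩ := qcoh_exists_pow_smul hU M f ((kernel.ι φ).app _ s)
    have h0 : resM N (X.basicOpen_le f) (φ.app U t) = 0 := by
      rw [← app_resM, ht, Scheme.Modules.Hom.app_smul, kernel_ι_app_zero, smul_zero]
    obtain ⟨m, hm⟩ := qcoh_exists_pow_smul_eq_zero hU N f (φ.app U t) h0
    obtain ⟨k, hk⟩ := kernel_sections_exact φ (f ^ m • t)
      (by rw [Scheme.Modules.Hom.app_smul, hm])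
    refine ⟨m + n, k, app_injective_of_mono (kernel.ι φ) _ ?_⟩
    rw [app_resM, hk, resM_smul, ht, Scheme.Modules.Hom.app_smul, smul_smul, ← map_mul, ← pow_add]
  · obtain ⟨n, hn⟩ := qcoh_exists_pow_smul_eq_zero hU M f ((kernel.ι φ).app U t)
      (by rw [← app_resM, ht, map_zero])
    exact ⟨n, app_injective_of_mono (kernel.ι φ) U
      (by rw [Scheme.Modules.Hom.app_smul, hn, map_zero])⟩

/-- Quotient of a quasi-coherent module by a quasi-coherent submodule. -/
theorem isQCoh_cokernel_of_mono {M N : X.Modules} (φ : M ⟶ N) [Mono φ] [Coh.IsQCoh M]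
    [Coh.IsQCoh N] : Coh.IsQCoh (cokernel φ) := by
  let S : ShortComplex X.Modules := ShortComplex.mk φ (cokernel.π φ) (cokernel.condition φ)
  have hS : S.ShortExact := { exact := ShortComplex.exact_cokernel φ }
  have : Coh.IsQCoh S.X₁ := ‹Coh.IsQCoh M›
  have : Coh.IsQCoh S.X₂ := ‹Coh.IsQCoh N›
  exact isQCoh_X₃ hS

theorem isQCoh_coimage {M N : X.Modules} (φ : M ⟶ N) [Coh.IsQCoh M] [Coh.IsQCoh N] :
    Coh.IsQCoh (Abelian.coimage φ) := by
  have := isQCoh_kernel φ
  exact isQCoh_cokernel_of_mono (kernel.ι φ)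

theorem isQCoh_image {M N : X.Modules} (φ : M ⟶ N) [Coh.IsQCoh M] [Coh.IsQCoh N] :
    Coh.IsQCoh (Abelian.image φ) := by
  have := isQCoh_coimage φ
  exact isQCoh_of_iso (Abelian.coimageIsoImage φ)

theorem isQCoh_cokernel {M N : X.Modules} (φ : M ⟶ N) [Coh.IsQCoh M] [Coh.IsQCoh N] :
    Coh.IsQCoh (cokernel φ) := by
  have := isQCoh_image φ
  have := isQCoh_cokernel_of_mono (Abelian.image.ι φ)
  refine isQCoh_of_iso (M := cokernel (Abelian.image.ι φ)) ?_
  exact (cokernelEpiComp (Abelian.factorThruImage φ) (Abelian.image.ι φ)).symm ≪≫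
    cokernelIsoOfEq (Abelian.image.fac φ)

theorem isQCoh_biprod (M N : X.Modules) [Coh.IsQCoh M] [Coh.IsQCoh N] : Coh.IsQCoh (M ⊞ N) := by
  let S : ShortComplex X.Modules := ShortComplex.mk (biprod.inl : M ⟶ M ⊞ N) biprod.snd (by simp)
  have hS : S.Splitting := ShortComplex.Splitting.ofHasBinaryBiproduct M N
  have : Coh.IsQCoh S.X₁ := ‹Coh.IsQCoh M›
  have : Coh.IsQCoh S.X₃ := ‹Coh.IsQCoh N›
  exact isQCoh_X₂ hS.shortExact

theorem isQCoh_of_isZero {M : X.Modules} (h : IsZero M) : Coh.IsQCoh M := by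
  refine (isQCoh_iff_localizesOn M).2 fun U _ => ?_
  have hU : ∀ V : X.Opens, Subsingleton Γ(M, V) := fun V =>
    subsingleton_of_forall_eq 0 fun x =>
      ConcreteCategory.congr_hom
        (congrArg (fun ψ : M ⟶ M => ψ.app V) (h.eq_of_src (𝟙 M) 0)) x
  exact ⟨fun f _ => ⟨0, 0, Subsingleton.elim _ _⟩, fun f _ _ => ⟨0, Subsingleton.elim _ _⟩⟩

section Qcqs

variable (M : X.Modules) [Coh.IsQCoh M]

theorem qcqs_exists_pow_smul_eq_zero {U : X.Opens} (hU : IsCompact (U : Set X)) (f : Γ(X, U))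
    (t : Γ(M, U)) (ht : resM M (X.basicOpen_le f) t = 0) : ∃ n : ℕ, f ^ n • t = 0 := by
  obtain ⟨s, hs, e⟩ := isCompact_and_isOpen_iff_finite_and_eq_biUnion_affineOpens.1 ⟨hU, U.2⟩
  have : Finite s := hs.to_subtype
  have hle : ∀ i : s, i.1.1 ≤ U := fun i x hx => by
    change x ∈ (U : Set X); rw [e]; exact Set.mem_biUnion i.2 hx
  have key : ∀ i : s, ∃ n : ℕ, resM M (hle i) (f ^ n • t) = 0 := by
    intro i
    let g : Γ(X, i.1.1) := X.presheaf.map (homOfLE (hle i)).op f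
    have hg : X.basicOpen g ≤ X.basicOpen f := by
      rw [X.basicOpen_res]; exact inf_le_right
    obtain ⟨n, hn⟩ := qcoh_exists_pow_smul_eq_zero i.1.2 M g (resM M (hle i) t) (by
      rw [resM_resM_congr M (hle i) (X.basicOpen_le g) (X.basicOpen_le f) hg, ht, map_zero])
    exact ⟨n, by rw [resM_smul, map_pow, hn]⟩
  choose n hn using key
  have := Fintype.ofFinite s
  refine ⟨Finset.univ.sup n, ?_⟩
  refine TopCat.Sheaf.eq_of_locally_eq' (X := X.toTopCat) (Coh.toAb M) (fun i : s => i.1.1) U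
    (fun i => homOfLE (hle i)) ?_ _ _ fun i => ?_
  · intro x hx
    have hx' : x ∈ (U : Set X) := hx
    rw [e, Set.mem_iUnion₂] at hx'
    obtain ⟨i, hi, hxi⟩ := hx'
    exact Opens.mem_iSup.2 ⟨⟨i, hi⟩, hxi⟩
  · obtain ⟨k, hk⟩ := Nat.exists_eq_add_of_le (Finset.le_sup (f := n) (Finset.mem_univ i))
    change resM M (hle i) (f ^ Finset.univ.sup n • t) = resM M (hle i) 0
    rw [hk, add_comm, pow_add, mul_smul, resM_smul, hn, smul_zero, map_zero]

theorem qcqs_exists_pow_smul {U : X.Opens} (hU : IsCompact (U : Set X))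
    (hsep : IsQuasiSeparated (U : Set X)) (f : Γ(X, U)) (s : Γ(M, X.basicOpen f)) :
    ∃ (n : ℕ) (t : Γ(M, U)), resM M (X.basicOpen_le f) t =
      X.presheaf.map (homOfLE (X.basicOpen_le f)).op (f ^ n) • s := by
  obtain ⟨S, hS, e⟩ := isCompact_and_isOpen_iff_finite_and_eq_biUnion_affineOpens.1 ⟨hU, U.2⟩
  have : Finite S := hS.to_subtype
  have := Fintype.ofFinite S
  have hle : ∀ i : S, i.1.1 ≤ U := fun i x hx => by
    change x ∈ (U : Set X); rw [e]; exact Set.mem_biUnion i.2 hx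
  have hcov : U ≤ ⨆ i : S, i.1.1 := by
    intro x hx
    have hx' : x ∈ (U : Set X) := hx
    rw [e, Set.mem_iUnion₂] at hx'
    obtain ⟨i, hi, hxi⟩ := hx'
    exact Opens.mem_iSup.2 ⟨⟨i, hi⟩, hxi⟩
  -- local extensions with a common exponent
  have loc : ∀ i : S, ∃ (n : ℕ) (t : Γ(M, i.1.1)),
      resM M (inf_le_left : i.1.1 ⊓ X.basicOpen f ≤ _) t =
        X.presheaf.map (homOfLE ((inf_le_left : i.1.1 ⊓ X.basicOpen f ≤ _).trans (hle i))).op
          (f ^ n) • resM M inf_le_right s := by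
    intro i
    let g : Γ(X, i.1.1) := X.presheaf.map (homOfLE (hle i)).op f
    have hg : X.basicOpen g = i.1.1 ⊓ X.basicOpen f := X.basicOpen_res _ _
    obtain ⟨n, t, ht⟩ := qcoh_exists_pow_smul i.1.2 M g (resM M (hg.le.trans inf_le_right) s)
    refine ⟨n, t, ?_⟩
    have := congrArg (resM M hg.ge) ht
    rw [resM_smul, resM_resM, resM_resM] at this
    refine this.trans ?_
    congr 1
    simp only [g, ← map_pow, ← ConcreteCategory.comp_apply, ← Functor.map_comp]
    rfl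
  choose n t ht using loc
  let N := Finset.univ.sup n
  obtain ⟨t', ht'def⟩ : ∃ t' : ∀ i : S, Γ(M, i.1.1), ∀ i,
      t' i = X.presheaf.map (homOfLE (hle i)).op (f ^ (N - n i)) • t i := ⟨_, fun _ => rfl⟩
  have rr : ∀ {W V : X.Opens} (h₁ : W ≤ U) (h₂ : V ≤ W) (x : Γ(X, U)),
      X.presheaf.map (homOfLE h₂).op (X.presheaf.map (homOfLE h₁).op x) =
        X.presheaf.map (homOfLE (h₂.trans h₁)).op x := fun h₁ h₂ x =>
    (ConcreteCategory.congr_hom (X.presheaf.map_comp (homOfLE h₁).op (homOfLE h₂).op) x).symm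
  have ht' : ∀ i : S, resM M (inf_le_left : i.1.1 ⊓ X.basicOpen f ≤ _) (t' i) =
      X.presheaf.map (homOfLE ((inf_le_left : i.1.1 ⊓ X.basicOpen f ≤ _).trans (hle i))).op
          (f ^ N) • resM M inf_le_right s := by
    intro i
    rw [ht'def, resM_smul, ht, rr, smul_smul, ← map_mul, ← pow_add,
      Nat.sub_add_cancel (Finset.le_sup (Finset.mem_univ i))]
  -- make them compatible on overlaps
  have agree : ∀ p : S × S, ∃ m : ℕ,
      X.presheaf.map (homOfLE (inf_le_left.trans (hle p.1) : p.1.1.1 ⊓ p.2.1.1 ≤ U)).op (f ^ m) •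
        resM M (inf_le_left : p.1.1.1 ⊓ p.2.1.1 ≤ p.1.1.1) (t' p.1) =
      X.presheaf.map (homOfLE (inf_le_left.trans (hle p.1) : p.1.1.1 ⊓ p.2.1.1 ≤ U)).op (f ^ m) •
        resM M (inf_le_right : p.1.1.1 ⊓ p.2.1.1 ≤ p.2.1.1) (t' p.2) := by
    rintro ⟨i, j⟩
    have hij : i.1.1 ⊓ j.1.1 ≤ U := inf_le_left.trans (hle i)
    have hc : IsCompact ((i.1.1 ⊓ j.1.1 : X.Opens) : Set X) :=
      hsep _ _ (hle i) i.1.1.2 i.1.2.isCompact (hle j) j.1.1.2 j.1.2.isCompact
    let g : Γ(X, i.1.1 ⊓ j.1.1) := X.presheaf.map (homOfLE hij).op f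
    have hg : X.basicOpen g ≤ X.basicOpen f := by
      rw [X.basicOpen_res]; exact inf_le_right
    obtain ⟨m, hm⟩ := qcqs_exists_pow_smul_eq_zero M hc g
      (resM M inf_le_left (t' i) - resM M inf_le_right (t' j)) (by
        have e₁ := congrArg (resM M (show X.basicOpen g ≤ i.1.1 ⊓ X.basicOpen f from
          le_inf ((X.basicOpen_le g).trans inf_le_left) hg)) (ht' i)
        have e₂ := congrArg (resM M (show X.basicOpen g ≤ j.1.1 ⊓ X.basicOpen f from
          le_inf ((X.basicOpen_le g).trans inf_le_right) hg)) (ht' j)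
        rw [resM_smul, resM_resM, resM_resM, rr] at e₁ e₂
        rw [map_sub, resM_resM, resM_resM, e₁, e₂, sub_self])
    exact ⟨m, by rwa [← map_pow, smul_sub, sub_eq_zero] at hm⟩
  choose m hm using agree
  let K := Finset.univ.sup m
  obtain ⟨t'', ht''def⟩ : ∃ t'' : ∀ i : S, Γ(M, i.1.1), ∀ i,
      t'' i = X.presheaf.map (homOfLE (hle i)).op (f ^ K) • t' i := ⟨_, fun _ => rfl⟩
  have compat : TopCat.Presheaf.IsCompatible (Coh.toAb M).obj (fun i : S => i.1.1) t'' := by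
    intro i j
    change resM M inf_le_left (t'' i) = resM M inf_le_right (t'' j)
    obtain ⟨d, hd⟩ : ∃ d, K = d + m (i, j) :=
      ⟨K - m (i, j), (Nat.sub_add_cancel (Finset.le_sup (Finset.mem_univ _))).symm⟩
    rw [ht''def, ht''def, resM_smul, resM_smul, rr, rr, hd, pow_add, map_mul, mul_smul, mul_smul, hm (i, j)]
  obtain ⟨T₀, hT₀, -⟩ := TopCat.Sheaf.existsUnique_gluing' (X := X.toTopCat) (Coh.toAb M)
    (fun i : S => i.1.1) U (fun i => homOfLE (hle i)) hcov t'' compat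
  obtain ⟨T, hT⟩ : ∃ T : Γ(M, U), ∀ i : S, resM M (hle i) T = t'' i := ⟨T₀, hT₀⟩
  refine ⟨K + N, T, ?_⟩
  refine TopCat.Sheaf.eq_of_locally_eq' (X := X.toTopCat) (Coh.toAb M)
    (fun i : S => i.1.1 ⊓ X.basicOpen f) (X.basicOpen f) (fun i => homOfLE inf_le_right)
    ?_ _ _ fun i => ?_
  · intro x hx
    obtain ⟨i, hi⟩ := Opens.mem_iSup.1 (hcov (X.basicOpen_le f hx))
    exact Opens.mem_iSup.2 ⟨i, hi, hx⟩
  · change resM M inf_le_right (resM M (X.basicOpen_le f) T) = resM M inf_le_right (_ • s)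
    rw [resM_resM_congr M (X.basicOpen_le f) inf_le_right (hle i) inf_le_left,
      hT i, ht''def, resM_smul, resM_smul, ht', rr, rr,
      smul_smul,
      ← map_mul, ← pow_add]

end Qcqs

/-- Direct images along quasi-compact quasi-separated morphisms are quasi-coherent. -/
theorem isQCoh_push {Y : Scheme.{u}} (f : X ⟶ Y) [QuasiCompact f] [QuasiSeparated f]
    (M : X.Modules) [Coh.IsQCoh M] : Coh.IsQCoh ((Coh.push f).obj M) := by
  refine (isQCoh_iff_localizesOn _).2 fun V hV => ?_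
  have hc : IsCompact ((f ⁻¹ᵁ V : X.Opens) : Set X) :=
    QuasiCompact.isCompact_preimage (f := f) (V : Set Y) V.2 hV.isCompact
  have hq : IsQuasiSeparated ((f ⁻¹ᵁ V : X.Opens) : Set X) :=
    f.isQuasiSeparated_preimage hV.isQuasiSeparated
  refine ⟨fun g (s : Γ(M, f ⁻¹ᵁ Y.basicOpen g)) => ?_, fun g (t : Γ(M, f ⁻¹ᵁ V)) ht => ?_⟩
  · have e : f ⁻¹ᵁ Y.basicOpen g = X.basicOpen (f.app V g) := Scheme.preimage_basicOpen f g
    obtain ⟨n, t, ht⟩ := qcqs_exists_pow_smul M hc hq (f.app V g) (resM M e.ge s)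
    refine ⟨n, t, ?_⟩
    have := congrArg (resM M e.le) ht
    rw [resM_resM, resM_smul, resM_resM, resM_refl] at this
    refine this.trans ?_
    change _ = f.app (Y.basicOpen g) (Y.presheaf.map (homOfLE (Y.basicOpen_le g)).op (g ^ n)) • s
    congr 1
    rw [← map_pow, ← ConcreteCategory.comp_apply, ← Functor.map_comp]
    exact (ConcreteCategory.congr_hom (f.naturality (homOfLE (Y.basicOpen_le g)).op) (g ^ n)).symm
  · have e : f ⁻¹ᵁ Y.basicOpen g = X.basicOpen (f.app V g) := Scheme.preimage_basicOpen f g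
    have ht' : resM M (show f ⁻¹ᵁ Y.basicOpen g ≤ f ⁻¹ᵁ V from
      f.preimage_mono (Y.basicOpen_le g)) t = 0 := ht
    obtain ⟨n, hn⟩ := qcqs_exists_pow_smul_eq_zero M hc (f.app V g) t (by
      rw [← resM_resM M (f.preimage_mono (Y.basicOpen_le g)) e.ge, ht', map_zero])
    refine ⟨n, ?_⟩
    change f.app V (g ^ n) • t = 0
    rw [map_pow]
    exact hn

end Groth.Agent.Coherent
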