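import Groth.Agent.Coherent.FreeSections
import Groth.Prelude.Def_CohB1

/-!
# Modules of finite type on schemes

`GenOn M U s`: the sections `s i ∈ Γ(M, U)` generate `M` locally on `U`.
-/

set_option autoImplicit false

universe u

open CategoryTheory CategoryTheory.Limits AlgebraicGeometry Opposite TopologicalSpace

namespace Groth.Agent.Coherent

variable {X : Scheme.{u}}

/-- The sections `s i` locally generate `M` on `U`. -/
def GenOn (M : X.Modules) (U : X.Opens) {I : Type u} [Fintype I] (s : I → Γ(M, U)) : Prop :=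
  ∀ (W : X.Opens) (hW : W ≤ U) (a : Γ(M, W)), ∀ y ∈ W, ∃ (W' : X.Opens) (h : W' ≤ W),
    y ∈ W' ∧ ∃ c : I → Γ(X, W'), resM M h a = ∑ i, c i • resM M (h.trans hW) (s i)

/-- `M` has finitely many generating sections on a neighbourhood of each point. -/
def LocallyFinGen (M : X.Modules) : Prop :=
  ∀ x : X, ∃ (U : X.Opens) (I : Type u) (_ : Fintype I) (s : I → Γ(M, U)),
    x ∈ U ∧ GenOn M U s

theorem GenOn.res {M : X.Modules} {U V : X.Opens} {I : Type u} [Fintype I] {s : I → Γ(M, U)}
    (h : GenOn M U s) (hVU : V ≤ U) : GenOn M V (fun i => resM M hVU (s i)) := by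
  intro W hW a y hy
  obtain ⟨W', hW', hyW', c, hc⟩ := h W (hW.trans hVU) a y hy
  refine ⟨W', hW', hyW', c, hc.trans ?_⟩
  simp only [resM_resM]

/-- An epimorphism is surjective on sections locally. -/
theorem exists_lift_of_epi {M N : X.Modules} (φ : M ⟶ N) [Epi φ] (W : X.Opens) (a : Γ(N, W))
    (y : X) (hy : y ∈ W) :
    ∃ (W' : X.Opens) (h : W' ≤ W), y ∈ W' ∧ ∃ b : Γ(M, W'), φ.app W' b = resM N h a := by
  obtain ⟨W', hle, ⟨b, hb⟩, hyW'⟩ :=
    (TopCat.Presheaf.isLocallySurjective_iff (X := X.toTopCat)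
      ((toAbFunctor X).map φ).hom).1
      ((TopCat.Sheaf.isLocallySurjective_iff_epi (X := X.toTopCat) ((toAbFunctor X).map φ)).2
        (epi_toAbFunctor_map φ)) W a y hy
  exact ⟨W', hle, hyW', b, hb⟩

theorem genOn_of_epi {M : X.Modules} {I : Type u} [Fintype I] (π : freeMod X I ⟶ M) [Epi π] :
    GenOn M ⊤ (fun i => unitVal (freeInj i ≫ π) ⊤) := by
  classical
  intro W hW a y hy
  obtain ⟨W', hle, hyW', b, hb⟩ := exists_lift_of_epi π W a y hy
  refine ⟨W', hle, hyW', fun i => freeCoord W' i b, ?_⟩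
  rw [← hb, freeMod_app]
  exact Finset.sum_congr rfl fun i _ => by rw [resM_unitVal]

/-- Generating sections of a restriction give generating sections on the open. -/
theorem genOn_of_restrict {Y : Scheme.{u}} (j : Y ⟶ X) [IsOpenImmersion j] (M : X.Modules)
    {U : Y.Opens} {I : Type u} [Fintype I] {s : I → Γ(M.restrict j, U)}
    (h : GenOn (M.restrict j) U s) :
    GenOn M (j ''ᵁ U) (fun i => (M.restrictAppIso j U).hom (s i)) := by
  intro W hW a y hy
  obtain ⟨z, hz, rfl⟩ := hW hy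
  have hWr : j ''ᵁ (j ⁻¹ᵁ W) ≤ W := j.image_preimage_eq_opensRange_inf W ▸ inf_le_right
  have hpre : j ⁻¹ᵁ W ≤ U := by
    intro t ht
    obtain ⟨t', ht', e⟩ := hW ht
    rwa [← j.isOpenEmbedding.injective e]
  obtain ⟨W', hW', hzW', c, hc⟩ := h (j ⁻¹ᵁ W) hpre
    ((M.restrictAppIso j (j ⁻¹ᵁ W)).inv (resM M hWr a)) z hy
  refine ⟨j ''ᵁ W', (j.image_mono hW').trans hWr, ⟨z, hzW', rfl⟩,
    fun i => (j.appIso W').inv (c i), ?_⟩
  have := congrArg (M.restrictAppIso j W').hom hc
  rw [map_sum] at this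
  refine Eq.trans ?_ (this.trans (Finset.sum_congr rfl fun i _ =>
    (Scheme.Modules.smul_restrictAppIso_hom_apply j M W' (c i) _).trans ?_))
  · refine (resM_resM M hWr (j.image_mono hW') a).symm.trans ?_
    rfl
  · rfl

theorem LocallyFinGen_of_restrict_cover (M : X.Modules) {ι : Type u} (U : ι → X.Opens)
    (hU : IsOpenCover U) (h : ∀ i, LocallyFinGen (M.restrict (U i).ι)) : LocallyFinGen M := by
  intro x
  obtain ⟨i, hi⟩ := hU.exists_mem x
  obtain ⟨V, I, _, s, hxV, hs⟩ := h i ⟨x, hi⟩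
  exact ⟨(U i).ι ''ᵁ V, I, _, _, ⟨_, hxV, rfl⟩, genOn_of_restrict (U i).ι M hs⟩

theorem locallyFinGen_of_isFT (M : X.Modules) (hM : CohB1.IsFT M) : LocallyFinGen M := by
  obtain ⟨σ, hσ⟩ := SheafOfModules.IsFiniteType.exists_localGeneratorsData M
  have hcov : IsOpenCover σ.X := (Opens.coversTop_iff _ σ.X).1 σ.coversTop
  refine LocallyFinGen_of_restrict_cover M σ.X hcov fun i => ?_
  obtain ⟨V, hV⟩ : ∃ V : X.Opens, V = σ.X i := ⟨_, rfl⟩
  have hG : ∃ G : SheafOfModules.GeneratingSections.{u} (R := X.ringCatSheaf.over V)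
      (SheafOfModules.over M V), G.IsFiniteType := by
    subst hV; exact ⟨σ.generators i, hσ.isFiniteType i⟩
  rw [← hV]
  obtain ⟨G₀, hfin⟩ := hG
  let F : SheafOfModules.{u} (X.ringCatSheaf.over V) ⥤
      SheafOfModules.{u} V.toScheme.ringCatSheaf :=
    (Scheme.Modules.overEquiv V).functor
  have : PreservesColimitsOfSize.{u, u} F :=
    (Scheme.Modules.overEquiv V).toAdjunction.leftAdjoint_preservesColimits
  let G := G₀.map F (V.sheafOfModulesEquivOverUnit X.ringCatSheaf).symm
  let e := (Scheme.Modules.overFunctorEquiv V).app M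
  let φ : freeMod V.toScheme G.I ⟶ M.restrict V.ι := G.π ≫ e.hom
  have : Finite G.I := hfin.finite
  have := Fintype.ofFinite G.I
  have : Epi φ := by
    have : IsIso e.hom := e.isIso_hom
    let e' : (show V.toScheme.Modules from F.obj (SheafOfModules.over M V)) ≅ M.restrict V.ι := e
    have : Epi e'.hom := inferInstance
    have hπ : Epi (C := V.toScheme.Modules) G.π := G.epi
    exact epi_comp (C := V.toScheme.Modules) G.π e'.hom
  exact fun x => ⟨⊤, G.I, _, _, trivial, genOn_of_epi φ⟩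

theorem isFT_of_epi_cover (M : X.Modules) {ι : Type u} (U : ι → X.Opens) (hU : IsOpenCover U)
    (I : ι → Type u) [∀ i, Finite (I i)]
    (π : ∀ i, freeMod (U i).toScheme (I i) ⟶ M.restrict (U i).ι) [∀ i, Epi (π i)] :
    CohB1.IsFT M := by
  let G : ∀ i, SheafOfModules.GeneratingSections.{u} (R := (U i).toScheme.ringCatSheaf)
      (M.restrict (U i).ι) := fun i =>
    { I := I i
      s := SheafOfModules.freeHomEquiv _ (π i)
      epi := by erw [Equiv.symm_apply_apply]; exact inferInstanceAs (Epi (π i)) }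
  let F : ∀ i, SheafOfModules.{u} (U i).toScheme.ringCatSheaf ⥤
      SheafOfModules.{u} (X.ringCatSheaf.over (U i)) := fun i =>
    (Scheme.Modules.overEquiv (U i)).inverse
  have : ∀ i, PreservesColimitsOfSize.{u, u} (F i) := fun i =>
    (Scheme.Modules.overEquiv (U i)).symm.toAdjunction.leftAdjoint_preservesColimits
  let e : ∀ i, (F i).obj (M.restrict (U i).ι) ≅ SheafOfModules.over M (U i) := fun i =>
    (Scheme.Modules.overEquiv (U i)).inverse.mapIso
        ((Scheme.Modules.overFunctorEquiv (U i)).symm.app M) ≪≫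
      ((Scheme.Modules.overEquiv (U i)).unitIso.app
        ((SheafOfModules.overFunctor X.ringCatSheaf (U i)).obj M)).symm
  let σ : SheafOfModules.LocalGeneratorsData.{u} (R := X.ringCatSheaf) M :=
    { I := ι
      X := U
      coversTop := (Opens.coversTop_iff _ U).2 hU
      generators := fun i =>
        haveI : Epi (e i).hom := inferInstance
        ((G i).map (F i) ((U i).sheafOfModulesEquivOverInverseUnit X.ringCatSheaf).symm).ofEpi
          (e i).hom }
  have : ∀ i, Finite (σ.generators i).I := fun i => (inferInstance : Finite (I i))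
  exact SheafOfModules.IsFiniteType.mk (R := X.ringCatSheaf) (M := M)
    ⟨σ, SheafOfModules.LocalGeneratorsData.IsFiniteType.mk (p := σ) fun i =>
      SheafOfModules.GeneratingSections.IsFiniteType.mk (σ := σ.generators i) (this i)⟩

/-- Sections over an affine open of a quasi-coherent module are finite if it is locally finitely
generated. -/
theorem finite_sections (M : X.Modules) [Coh.IsQCoh M] (hM : LocallyFinGen M) {U : X.Opens}
    (hU : IsAffineOpen U) : Module.Finite Γ(X, U) Γ(M, U) := by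
  classical
  -- finitely many global sections generating locally
  have loc : ∀ x : U, ∃ (f : Γ(X, U)) (I : Type u) (_ : Fintype I) (t : I → Γ(M, U)),
      x.1 ∈ X.basicOpen f ∧ GenOn M (X.basicOpen f) (fun i => resM M (X.basicOpen_le f) (t i)) := by
    rintro ⟨x, hx⟩
    obtain ⟨V, I, _, s, hxV, hs⟩ := hM x
    obtain ⟨f, hfV, hxf⟩ := hU.exists_basicOpen_le ⟨x, hxV⟩ hx
    choose n t ht using fun i => qcoh_exists_pow_smul hU M f (resM M hfV (s i))
    choose u hu using fun i => (isUnit_res_pow f (X.basicOpen_le f) le_rfl (n i)).exists_left_inv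
    refine ⟨f, I, inferInstance, t, hxf, ?_⟩
    intro W hW a y hy
    obtain ⟨W', hW', hyW', c, hc⟩ := hs.res hfV W hW a y hy
    refine ⟨W', hW', hyW',
      fun i => c i * X.presheaf.map (homOfLE (hW'.trans hW)).op (u i),
      hc.trans (Finset.sum_congr rfl fun i _ => ?_)⟩
    have e : resM M hfV (s i) = u i • resM M (X.basicOpen_le f) (t i) := by
      rw [ht, smul_smul, hu, one_smul]
    beta_reduce
    rw [e, resM_smul, mul_smul]

  choose f I hI t hxf ht using loc
  obtain ⟨T, hT⟩ := hU.isCompact.elim_finite_subcover (fun x : U => (X.basicOpen (f x) : Set X))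
    (fun x => (X.basicOpen (f x)).2) (fun x hx => Set.mem_iUnion.2 ⟨⟨x, hx⟩, hxf ⟨x, hx⟩⟩)
  let κ := Σ x : T, I x.1
  let g : κ → Γ(M, U) := fun p => t p.1.1 p.2
  let gens : (κ → Γ(X, U)) →ₗ[Γ(X, U)] Γ(M, U) := Fintype.linearCombination Γ(X, U) g
  suffices Function.Surjective gens from Module.Finite.of_surjective gens this
  intro a
  -- coefficients exist near every point of `U`
  have hloc : ∀ y ∈ U, ∃ h : Γ(X, U), y ∈ X.basicOpen h ∧ h • a ∈ LinearMap.range gens := by
    intro y hy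
    obtain ⟨x, hxT, hyx⟩ : ∃ x ∈ T, y ∈ X.basicOpen (f x) := by
      simpa using hT hy
    obtain ⟨W', hW', hyW', c, hc⟩ := ht x _ le_rfl (resM M (X.basicOpen_le (f x)) a) y hyx
    obtain ⟨h, hle, hyh⟩ := hU.exists_basicOpen_le ⟨y, hyW'⟩ hy
    -- clear denominators on `D(h)`
    have := hU.isLocalization_basicOpen h
    obtain ⟨⟨_, N, rfl⟩, hb⟩ := IsLocalization.exist_integer_multiples_of_finite
      (Submonoid.powers h) (fun i => X.presheaf.map (homOfLE hle).op (c i))
    choose b hb using hb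
    let m := ∑ i, b i • t x i
    obtain ⟨k, hk⟩ := qcoh_exists_pow_smul_eq_zero hU M h (h ^ N • a - m) (by
      have e := congrArg (resM M hle) hc
      rw [resM_resM, resM_resM, map_sum] at e
      rw [map_sub, resM_smul, e, map_sum, Finset.smul_sum, ← Finset.sum_sub_distrib]
      refine Finset.sum_eq_zero fun i _ => ?_
      rw [resM_smul, resM_resM, resM_resM, resM_smul, smul_smul]
      refine sub_eq_zero.2 (congrArg (· • _) ?_)
      exact ((hb i).trans (Algebra.smul_def _ _)).symm)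
    refine ⟨h ^ (k + N + 1), ?_, ?_⟩
    · rw [X.basicOpen_pow h (Nat.succ_pos _)]; exact hyh
    · rw [smul_sub, sub_eq_zero, smul_smul, ← pow_add] at hk
      have hm : m ∈ LinearMap.range gens := by
        refine Submodule.sum_mem _ fun i _ => Submodule.smul_mem _ _ ?_
        exact ⟨Pi.single ⟨⟨x, hxT⟩, i⟩ 1, by
          simp [gens, Fintype.linearCombination_apply_single, g]⟩
      rw [pow_succ', mul_smul, hk]
      exact Submodule.smul_mem _ _ (Submodule.smul_mem _ _ hm)
  let J : Ideal Γ(X, U) := (LinearMap.range gens).comap (LinearMap.toSpanSingleton Γ(X, U) _ a)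
  have hJ : (1 : Γ(X, U)) ∈ J := by
    have := (hU.self_le_iSup_basicOpen_iff (s := (J : Set Γ(X, U)))).1 (fun y hy => by
      obtain ⟨h, hyh, hh⟩ := hloc y hy
      exact Opens.mem_iSup.2 ⟨⟨h, hh⟩, hyh⟩)
    rw [Ideal.span_eq] at this
    exact this ▸ trivial
  simpa [J] using hJ

theorem epi_of_locally_surjective {M N : X.Modules} (φ : M ⟶ N)
    (h : ∀ (W : X.Opens) (a : Γ(N, W)), ∀ y ∈ W, ∃ (W' : X.Opens) (h : W' ≤ W),
      y ∈ W' ∧ ∃ b : Γ(M, W'), φ.app W' b = resM N h a) : Epi φ := by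
  have hepi : Epi ((toAbFunctor X).map φ) := by
    refine (TopCat.Sheaf.isLocallySurjective_iff_epi (X := X.toTopCat) _).1 ?_
    refine (TopCat.Presheaf.isLocallySurjective_iff _).2 fun W a y hy => ?_
    obtain ⟨W', hle, hy', b, hb⟩ := h W a y hy
    exact ⟨W', hle, ⟨b, hb⟩, hy'⟩
  constructor
  intro Z g g' hgg'
  have : (toAbFunctor X).map g = (toAbFunctor X).map g' := by
    rw [← cancel_epi ((toAbFunctor X).map φ), ← Functor.map_comp, ← Functor.map_comp, hgg']
  exact (SheafOfModules.toSheaf X.ringCatSheaf).map_injective this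

/-- The global section with value `s` on `⊤`. -/
noncomputable def sectionOfTop (M : X.Modules) (s : Γ(M, ⊤)) :
    SheafOfModules.sections (R := X.ringCatSheaf) M :=
  PresheafOfModules.sectionsMk (fun W => resM M (le_top : W.unop ≤ ⊤) s) fun W W' i => by
    exact resM_resM M (le_top : W.unop ≤ ⊤) (leOfHom i.unop) s

/-- The map from the structure sheaf with value `s` at `1`. -/
noncomputable def unitDesc (M : X.Modules) (s : Γ(M, ⊤)) : Coh.structureModule X ⟶ M :=
  (SheafOfModules.unitHomEquiv (R := X.ringCatSheaf) M).symm (sectionOfTop M s)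

theorem unitVal_unitDesc (M : X.Modules) (s : Γ(M, ⊤)) (V : X.Opens) :
    unitVal (unitDesc M s) V = resM M le_top s := by
  refine (SheafOfModules.unitHomEquiv_apply_coe M (unitDesc M s) (op V)).symm.trans ?_
  rw [unitDesc, Equiv.apply_symm_apply]
  rfl

theorem epi_of_genOn_top {M : X.Modules} {I : Type u} [Fintype I] {s : I → Γ(M, ⊤)}
    (h : GenOn M ⊤ s) : Epi (freeDesc fun i => unitDesc M (s i)) := by
  classical
  refine epi_of_locally_surjective _ fun W a y hy => ?_
  obtain ⟨W', hle, hy', c, hc⟩ := h W le_top a y hy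
  refine ⟨W', hle, hy', (freeSectionsEquiv W').symm c, ?_⟩
  rw [hc, freeMod_app]
  refine Finset.sum_congr rfl fun i _ => ?_
  rw [freeInj_freeDesc, unitVal_unitDesc]
  congr 1
  exact congrFun ((freeSectionsEquiv (I := I) W').apply_symm_apply c) i

theorem genOn_restrict_of_genOn {Y : Scheme.{u}} (j : Y ⟶ X) [IsOpenImmersion j] (M : X.Modules)
    {U : Y.Opens} {I : Type u} [Fintype I] {s : I → Γ(M, j ''ᵁ U)}
    (h : GenOn M (j ''ᵁ U) s) :
    GenOn (M.restrict j) U (fun i => (M.restrictAppIso j U).inv (s i)) := by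
  intro W hW a y hy
  obtain ⟨W', hW', hyW', c, hc⟩ := h (j ''ᵁ W) (j.image_mono hW) ((M.restrictAppIso j W).hom a)
    (j.base y) ⟨y, hy, rfl⟩
  have hle : j ⁻¹ᵁ W' ≤ W := fun t ht => by
    obtain ⟨t', ht', e⟩ := hW' ht
    rwa [← j.isOpenEmbedding.injective e]
  have him : j ''ᵁ (j ⁻¹ᵁ W') ≤ W' := j.image_preimage_eq_opensRange_inf W' ▸ inf_le_right
  refine ⟨j ⁻¹ᵁ W', hle, hyW',
    fun i => (j.appIso _).hom (X.presheaf.map (homOfLE him).op (c i)), ?_⟩
  apply (ConcreteCategory.bijective_of_isIso (M.restrictAppIso j (j ⁻¹ᵁ W')).hom).1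
  rw [map_sum]
  have := congrArg (resM M him) hc
  rw [map_sum, resM_resM] at this
  refine (Eq.trans ?_ this).trans (Finset.sum_congr rfl fun i _ => ?_)
  · rfl
  · rw [resM_smul, resM_resM, Scheme.Modules.smul_restrictAppIso_hom_apply]
    rw [← ConcreteCategory.comp_apply (j.appIso _).hom, Iso.hom_inv_id]
    rfl

theorem isFT_of_locallyFinGen {M : X.Modules} (hM : LocallyFinGen M) : CohB1.IsFT M := by
  choose U I hI s hxU hs using hM
  have hgen : ∀ x, GenOn (M.restrict (U x).ι) ⊤ (fun i => ((M.restrictAppIso (U x).ι ⊤).inv)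
      (resM M (Scheme.Opens.ι_image_top (U x)).le (s x i))) := fun x =>
    genOn_restrict_of_genOn (U x).ι M ((hs x).res _)
  have : ∀ x, Epi (freeDesc fun i => unitDesc (M.restrict (U x).ι)
      ((M.restrictAppIso (U x).ι ⊤).inv (resM M (Scheme.Opens.ι_image_top (U x)).le (s x i)))) :=
    fun x => epi_of_genOn_top (hgen x)
  refine isFT_of_epi_cover M U ?_ I (fun x => freeDesc fun i => unitDesc (M.restrict (U x).ι)
      ((M.restrictAppIso (U x).ι ⊤).inv (resM M (Scheme.Opens.ι_image_top (U x)).le (s x i))))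
  rw [IsOpenCover, eq_top_iff]
  exact fun x _ => Opens.mem_iSup.2 ⟨x, hxU x⟩

theorem genOn_of_span_top (M : X.Modules) [Coh.IsQCoh M] {U : X.Opens} (hU : IsAffineOpen U)
    {I : Type u} [Fintype I] (s : I → Γ(M, U))
    (hs : Submodule.span Γ(X, U) (Set.range s) = ⊤) : GenOn M U s := by
  intro W hW a y hy
  obtain ⟨f, hfW, hyf⟩ := hU.exists_basicOpen_le ⟨y, hy⟩ (hW hy)
  obtain ⟨n, t, ht⟩ := qcoh_exists_pow_smul hU M f (resM M hfW a)
  obtain ⟨u, hu⟩ := (isUnit_res_pow f (X.basicOpen_le f) le_rfl n).exists_left_inv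
  obtain ⟨c, rfl⟩ := (Submodule.mem_span_range_iff_exists_fun Γ(X, U)).1
    (hs.ge (Submodule.mem_top (x := t)))
  refine ⟨X.basicOpen f, hfW, hyf, fun i => u * X.presheaf.map (homOfLE (X.basicOpen_le f)).op (c i),
    ?_⟩
  have := congrArg (u • ·) ht
  simp only [smul_smul, hu, one_smul, map_sum, Finset.smul_sum, resM_smul] at this
  refine this.symm.trans (Finset.sum_congr rfl fun i _ => ?_)
  rfl

theorem locallyFinGen_of_finite_sections (M : X.Modules) [Coh.IsQCoh M] {ι : Type u}
    (U : ι → X.Opens) (hU : ∀ i, IsAffineOpen (U i)) (hcov : ∀ x : X, ∃ i, x ∈ U i)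
    (h : ∀ i, Module.Finite Γ(X, U i) Γ(M, U i)) : LocallyFinGen M := by
  intro x
  obtain ⟨i, hi⟩ := hcov x
  obtain ⟨n, s, hs⟩ := (h i).exists_fin
  refine ⟨U i, ULift.{u} (Fin n), inferInstance, fun k => s k.down, hi,
    genOn_of_span_top M (hU i) _ ?_⟩
  rw [← hs]
  congr 1
  exact Equiv.ulift.surjective.range_comp s

/-- On a scheme, `Coh.IsCoh M` iff quasi-coherent with finite sections on affine opens. -/
theorem isCoh_iff_finite_sections (M : X.Modules) :
    Coh.IsCoh M ↔ Coh.IsQCoh M ∧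
      ∀ U : X.Opens, IsAffineOpen U → Module.Finite Γ(X, U) Γ(M, U) := by
  constructor
  · rintro ⟨h₁, h₂⟩
    exact ⟨h₁, fun U hU => finite_sections M (hM := locallyFinGen_of_isFT M h₂) hU⟩
  · rintro ⟨h₁, h₂⟩
    refine ⟨h₁, isFT_of_locallyFinGen (locallyFinGen_of_finite_sections M
      (fun U : X.affineOpens => U.1) (fun U => U.2) (fun x => ?_) (fun U => h₂ U.1 U.2))⟩
    obtain ⟨V, hV, hxV, -⟩ :=
      Opens.isBasis_iff_nbhd.mp X.isBasis_affineOpens (Opens.mem_top x)
    exact ⟨⟨V, hV⟩, hxV⟩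

theorem isCoh_of_finite_sections_cover (M : X.Modules) (hq : Coh.IsQCoh M) {ι : Type u}
    (U : ι → X.Opens) (hU : ∀ i, IsAffineOpen (U i)) (hcov : ∀ x : X, ∃ i, x ∈ U i)
    (h : ∀ i, Module.Finite Γ(X, U i) Γ(M, U i)) : Coh.IsCoh M :=
  ⟨hq, isFT_of_locallyFinGen (locallyFinGen_of_finite_sections M U hU hcov h)⟩

/-- The map on sections, as a linear map. -/
noncomputable def appLin {M N : X.Modules} (φ : M ⟶ N) (U : X.Opens) :
    Γ(M, U) →ₗ[Γ(X, U)] Γ(N, U) where
  toFun := φ.app U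
  map_add' := map_add (φ.app U).hom
  map_smul' r x := Scheme.Modules.Hom.app_smul φ r x

/-- A quasi-coherent submodule of a coherent module on a locally Noetherian scheme is coherent. -/
theorem isCoh_of_mono [IsLocallyNoetherian X] {M N : X.Modules} (i : N ⟶ M) [Mono i]
    (hM : Coh.IsCoh M) (hN : Coh.IsQCoh N) : Coh.IsCoh N := by
  obtain ⟨hq, hfin⟩ := (isCoh_iff_finite_sections M).1 hM
  refine (isCoh_iff_finite_sections N).2 ⟨hN, fun U hU => ?_⟩
  have : IsNoetherianRing Γ(X, U) := IsLocallyNoetherian.component_noetherian ⟨U, hU⟩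
  have := hfin U hU
  exact Module.Finite.of_injective (appLin i U) (app_injective_of_mono i U)

/-- The support of a locally finitely generated module is closed. -/
theorem isClosed_support (M : X.Modules) (hM : LocallyFinGen M) :
    IsClosed (CohB1.support M) := by
  rw [← isOpen_compl_iff, isOpen_iff_forall_mem_open]
  intro x hx
  obtain ⟨U, I, _, s, hxU, hs⟩ := hM x
  have : Subsingleton (M.presheaf.stalk x) := not_not.1 hx
  have hz : ∀ i, ∃ (W : X.Opens) (h : W ≤ U), x ∈ W ∧ resM M h (s i) = 0 := fun i => by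
    obtain ⟨W, hxW, j₁, j₂, e⟩ := TopCat.Presheaf.germ_eq M.presheaf (U := U) (V := U) x hxU hxU
      (s i) 0 (Subsingleton.elim _ _)
    exact ⟨W, leOfHom j₁, hxW, e.trans (map_zero _)⟩
  choose W hWU hxW hW0 using hz
  refine ⟨(⋂ i, (W i : Set X)) ∩ U, fun y hy hy' => hy' ?_,
    (isOpen_iInter_of_finite fun i => (W i).2).inter U.2, Set.mem_iInter.2 hxW, hxU⟩
  refine subsingleton_of_forall_eq 0 fun a => ?_
  obtain ⟨V, hyV, a, rfl⟩ := M.presheaf.exists_germ_eq a
  let W₀ : X.Opens := ⟨(⋂ i, (W i : Set X)) ∩ U,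
    (isOpen_iInter_of_finite fun i => (W i).2).inter U.2⟩
  have hW₀ : ∀ i, W₀ ≤ W i := fun i z hz => Set.mem_iInter.1 hz.1 i
  have hW₀U : W₀ ≤ U := fun z hz => hz.2
  obtain ⟨W', hW', hyW', c, hc⟩ := hs (V ⊓ W₀) (inf_le_right.trans hW₀U)
    (resM M inf_le_left a) y ⟨hyV, hy⟩
  have hzero : resM M (hW'.trans inf_le_left) a = 0 := by
    rw [← resM_resM M inf_le_left hW' a, hc]
    refine Finset.sum_eq_zero fun i _ => ?_
    rw [← resM_resM M (hWU i) (hW'.trans (inf_le_right.trans (hW₀ i))), hW0, map_zero, smul_zero]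
  rw [← TopCat.Presheaf.germ_res_apply M.presheaf (homOfLE (hW'.trans inf_le_left)) y hyW' a]
  exact (congrArg (M.presheaf.germ W' y hyW') hzero).trans (map_zero _)

/-- An increasing sequence of quasi-coherent submodules of a coherent module on a Noetherian
scheme is stationary. -/
theorem acc_qcoh_subobjects [IsNoetherian X] (M : X.Modules) (hM : Coh.IsCoh M)
    (F : ℕ →o Subobject M) (hF : ∀ n, Coh.IsQCoh ((F n : Subobject M) : X.Modules)) :
    ∃ n : ℕ, ∀ m : ℕ, n ≤ m → F m = F n := by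
  obtain ⟨hq, hfin⟩ := (isCoh_iff_finite_sections M).1 hM
  obtain ⟨S, hS, e⟩ := isCompact_and_isOpen_iff_finite_and_eq_biUnion_affineOpens.1
    ⟨(isCompact_univ : IsCompact (Set.univ : Set X)), isOpen_univ⟩
  have := hS.to_subtype
  have hcov : ∀ x : X, ∃ i : S, x ∈ i.1.1 := fun x => by
    obtain ⟨i, hi, hx⟩ := Set.mem_iUnion₂.1 (e.le (Set.mem_univ x))
    exact ⟨⟨i, hi⟩, hx⟩
  have : ∀ i : S, _root_.IsNoetherian Γ(X, i.1.1) Γ(M, i.1.1) := fun i => by
    have : IsNoetherianRing Γ(X, i.1.1) := IsLocallyNoetherian.component_noetherian i.1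
    have := hfin _ i.1.2
    infer_instance
  let R : ∀ i : S, ℕ →o Submodule Γ(X, i.1.1) Γ(M, i.1.1) := fun i =>
    { toFun := fun n => LinearMap.range (appLin (F n).arrow i.1.1)
      monotone' := fun a b hab => by
        rintro z ⟨w, rfl⟩
        refine ⟨(Subobject.ofLE _ _ (F.monotone hab)).app i.1.1 w, ?_⟩
        exact ConcreteCategory.congr_hom (congrArg
          (fun φ : ((F a : Subobject M) : X.Modules) ⟶ M => φ.app i.1.1)
          (Subobject.ofLE_arrow (F.monotone hab))) w }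
  choose N hN using fun i => monotone_stabilizes_iff_noetherian.2 (this i) (R i)
  have := Fintype.ofFinite S
  refine ⟨Finset.univ.sup N, fun m hm => le_antisymm ?_ (F.monotone hm)⟩
  let n := Finset.univ.sup N
  let φ := Subobject.ofLE (F n) (F m) (F.monotone hm)
  have := hF n
  have := hF m
  have : Epi φ := by
    refine epi_of_locally_surjective φ fun W a y hy => ?_
    obtain ⟨i, hi⟩ := hcov y
    obtain ⟨f, hfW, hyf⟩ := i.1.2.exists_basicOpen_le ⟨y, hy⟩ hi
    obtain ⟨k, t, ht⟩ := qcoh_exists_pow_smul i.1.2 _ f (resM _ hfW a)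
    have hR : R i m = R i n := by
      rw [← hN i m ((Finset.le_sup (Finset.mem_univ i)).trans hm),
        ← hN i n (Finset.le_sup (Finset.mem_univ i))]
    obtain ⟨t', ht'⟩ := (hR.le ⟨t, rfl⟩ : (F m).arrow.app _ t ∈ R i n)
    have ht'' : φ.app _ t' = t := app_injective_of_mono (F m).arrow _
      ((ConcreteCategory.congr_hom (congrArg
        (fun ψ : ((F n : Subobject M) : X.Modules) ⟶ M => ψ.app i.1.1)
        (Subobject.ofLE_arrow (F.monotone hm))) t').trans ht')
    obtain ⟨u, hu⟩ := (isUnit_res_pow f (X.basicOpen_le f) le_rfl k).exists_left_inv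
    refine ⟨X.basicOpen f, hfW, hyf, u • resM _ (X.basicOpen_le f) t', ?_⟩
    rw [Scheme.Modules.Hom.app_smul, app_resM, ht'', ht, smul_smul, hu, one_smul]
  have : IsIso φ := isIso_of_mono_of_epi φ
  exact Subobject.le_of_comm (inv φ) (by rw [IsIso.inv_comp_eq, Subobject.ofLE_arrow])

end Groth.Agent.Coherent
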