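import Groth.Agent.Coherent.InternalHom
import Groth.Agent.Coherent.QcohOps

/-!
# Families on an open as morphisms of restricted modules
-/

set_option autoImplicit false
set_option backward.isDefEq.respectTransparency false

universe u

open CategoryTheory CategoryTheory.Limits AlgebraicGeometry Opposite TopologicalSpace
open Groth.Agent.Coherent Groth.Agent.PicLib Groth.Agent.AmpleLib

namespace Groth.Agent.Coherent

variable {X : Scheme.{u}}

/-- A family on `U` as a morphism over `U`. -/
noncomputable def restrictHom {F N : X.Modules} {U : X.Opens} (φ : locHom F N U) :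
    F.restrict U.ι ⟶ N.restrict U.ι :=
  ⟨PresheafOfModules.homMk
    { app := fun W => AddCommGrpCat.ofHom (φ.1 (U.ι ''ᵁ W.unop) (U.ι_image_le W.unop))
      naturality := fun W _ i => AddCommGrpCat.hom_ext (AddMonoidHom.ext fun a =>
        (ev_res φ (U.ι_image_le W.unop) (U.ι.image_mono (leOfHom i.unop)) a).symm) }
    (fun W r a => ev_smul_arg φ (U.ι ''ᵁ W.unop) (U.ι_image_le W.unop)
      ((U.ι.appIso W.unop).inv r) a)⟩

theorem restrictHom_app {F N : X.Modules} {U : X.Opens} (φ : locHom F N U) (W : U.toScheme.Opens)
    (a : Γ(F, U.ι ''ᵁ W)) :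
    (restrictHom φ).app W a = ev φ (U.ι ''ᵁ W) (U.ι_image_le W) a := rfl

/-- A family with prescribed values on a basis. -/
noncomputable def locHomOfBasis {E N : X.Modules} {U : X.Opens} {I : Type u} [Fintype I]
    {e : I → Γ(E, U)} (hb : IsBasisOn E U e) (b : I → Γ(N, U)) : locHom E N U :=
  ⟨fun W hW => AddMonoidHom.mk' (fun a => ∑ i, hb.coef hW a i • resM N hW (b i)) (fun a a' => by
      rw [hb.coef_add, ← Finset.sum_add_distrib]
      exact Finset.sum_congr rfl fun i _ => add_smul _ _ _),
    fun W hW r a => by
      show ∑ i, hb.coef hW (r • a) i • resM N hW (b i) = r • ∑ i, hb.coef hW a i • resM N hW (b i)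
      rw [hb.coef_smul, Finset.smul_sum]
      exact Finset.sum_congr rfl fun i _ => mul_smul _ _ _,
    fun W W' hW h a => by
      show resM N h (∑ i, hb.coef hW a i • resM N hW (b i)) =
        ∑ i, hb.coef (h.trans hW) (resM E h a) i • resM N (h.trans hW) (b i)
      rw [map_sum, hb.coef_res]
      refine Finset.sum_congr rfl fun i _ => ?_
      rw [resM_smul, resM_resM]⟩

end Groth.Agent.Coherent
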