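import Groth.Prelude.Def_Coh
import Mathlib.AlgebraicGeometry.Modules.Tilde

/-!
# Sections of quasi-coherent modules on affine opens

For `M` quasi-coherent, `U` affine and `f : Γ(X, U)`, `Γ(M, U) → Γ(M, X.basicOpen f)` is a
localisation at `f`.
-/

set_option autoImplicit false

universe u

open CategoryTheory CategoryTheory.Limits AlgebraicGeometry Opposite TopologicalSpace

namespace Groth.Agent.Coherent

/-- Restriction of sections of a module. -/
noncomputable abbrev resM {X : Scheme.{u}} (M : X.Modules) {U V : X.Opens} (h : V ≤ U) :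
    Γ(M, U) →+ Γ(M, V) :=
  (M.presheaf.map (homOfLE h).op).hom

theorem resM_smul {X : Scheme.{u}} (M : X.Modules) {U V : X.Opens} (h : V ≤ U) (r : Γ(X, U))
    (m : Γ(M, U)) :
    resM M h (r • m) = X.presheaf.map (homOfLE h).op r • resM M h m :=
  Scheme.Modules.map_smul M (homOfLE h) r m

theorem resM_resM {X : Scheme.{u}} (M : X.Modules) {U V W : X.Opens} (h : V ≤ U) (h' : W ≤ V)
    (m : Γ(M, U)) : resM M h' (resM M h m) = resM M (h'.trans h) m :=
  (ConcreteCategory.congr_hom (M.presheaf.map_comp (homOfLE h).op (homOfLE h').op) m).symm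

theorem resM_resM_congr {X : Scheme.{u}} (M : X.Modules) {U V V' W : X.Opens} (h : V ≤ U)
    (h' : W ≤ V) (g : V' ≤ U) (g' : W ≤ V') (m : Γ(M, U)) :
    resM M h' (resM M h m) = resM M g' (resM M g m) := by
  rw [resM_resM, resM_resM]

theorem resM_refl {X : Scheme.{u}} (M : X.Modules) {U : X.Opens} (m : Γ(M, U)) :
    resM M (le_refl U) m = m :=
  ConcreteCategory.congr_hom (M.presheaf.map_id (op U)) m

theorem resM_bijective_of_eq {X : Scheme.{u}} (M : X.Modules) {U V : X.Opens} (h : V ≤ U)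
    (e : U = V) : Function.Bijective (resM M h) := by
  subst e
  exact Function.bijective_iff_has_inverse.2
    ⟨id, fun m => resM_refl M m, fun m => resM_refl M m⟩

/-- The basic open of `f`, as an open of the scheme `Spec R`. -/
abbrev specBasicOpen {R : CommRingCat.{u}} (f : R) : (Spec R).Opens := PrimeSpectrum.basicOpen f

theorem spec_isLocalizedModule {R : CommRingCat.{u}} (N : (Spec R).Modules) [Coh.IsQCoh N]
    (f : R) :
    IsLocalizedModule (.powers f)
      ((modulesSpecToSheaf.obj N).obj.map (PrimeSpectrum.basicOpen f).leTop.op).hom :=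
  (isIso_fromTildeΓ_iff_isLocalizing N).1 inferInstance f

theorem spec_exists_pow_smul {R : CommRingCat.{u}} (N : (Spec R).Modules) [Coh.IsQCoh N] (f : R)
    (s : Γ(N, specBasicOpen f)) :
    ∃ (n : ℕ) (t : Γ(N, (⊤ : (Spec R).Opens))),
      resM N (U := ⊤) (V := specBasicOpen f) le_top t = f ^ n • s := by
  obtain ⟨⟨t, ⟨_, n, rfl⟩⟩, ht⟩ := (spec_isLocalizedModule N f).surj s
  exact ⟨n, t, ht.symm⟩

theorem spec_exists_pow_smul_eq_zero {R : CommRingCat.{u}} (N : (Spec R).Modules)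
    [Coh.IsQCoh N] (f : R) (t : Γ(N, (⊤ : (Spec R).Opens)))
    (ht : resM N (U := ⊤) (V := specBasicOpen f) le_top t = 0) :
    ∃ n : ℕ, f ^ n • t = 0 := by
  obtain ⟨⟨_, n, rfl⟩, hn⟩ := (spec_isLocalizedModule N f).exists_of_eq (x₁ := t) (x₂ := 0)
    (ht.trans (map_zero _).symm)
  refine ⟨n, hn.trans ?_⟩
  exact smul_zero _

variable {X : Scheme.{u}} {U : X.Opens} (hU : IsAffineOpen U) (M : X.Modules)

/-- `M|_U` on `Spec Γ(X, U)`. -/
noncomputable abbrev specRestrict : (Spec Γ(X, U)).Modules := M.restrict hU.fromSpec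

theorem fromSpec_image_top : hU.fromSpec ''ᵁ ⊤ = U :=
  (Scheme.Hom.image_top_eq_opensRange hU.fromSpec).trans hU.opensRange_fromSpec

/-- Sections on `hU.fromSpec ''ᵁ V`, moved to `W = hU.fromSpec ''ᵁ V`. -/
noncomputable def fromSpecIso (V : (Spec Γ(X, U)).Opens) (W : X.Opens)
    (h : hU.fromSpec ''ᵁ V = W) : Γ(specRestrict hU M, V) ≅ Γ(M, W) :=
  M.restrictAppIso hU.fromSpec V ≪≫ M.presheaf.mapIso (eqToIso h.symm).op

theorem fromSpec_scalar (r : Γ(X, U)) (V : (Spec Γ(X, U)).Opens) (W : X.Opens)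
    (h : hU.fromSpec ''ᵁ V = W) (hW : W ≤ U) :
    X.presheaf.map (eqToHom h.symm).op ((hU.fromSpec.appIso V).inv
      ((Spec Γ(X, U)).presheaf.map V.leTop.op ((Scheme.ΓSpecIso Γ(X, U)).inv r))) =
    X.presheaf.map (homOfLE hW).op r := by
  subst h
  have : hU.fromSpec.app U ≫ (Spec Γ(X, U)).presheaf.map
      (homOfLE (show V ≤ hU.fromSpec ⁻¹ᵁ U by
        rw [hU.fromSpec_preimage_self]; exact le_top)).op ≫
      (hU.fromSpec.appIso V).inv = X.presheaf.map (homOfLE hW).op := by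
    rw [← Category.assoc, Scheme.Hom.app_eq_appLE, Scheme.Hom.appLE_map,
      Scheme.Hom.appLE_appIso_inv]
  rw [← this, hU.fromSpec_app_self]
  simp only [Category.assoc, CommRingCat.comp_apply]
  erw [X.presheaf.map_id]
  simp only [CommRingCat.id_apply]
  rw [← ConcreteCategory.comp_apply ((Spec Γ(X, U)).presheaf.map _)
    ((Spec Γ(X, U)).presheaf.map _), ← Functor.map_comp]
  rfl

theorem fromSpecIso_smul (r : Γ(X, U)) (V : (Spec Γ(X, U)).Opens) (W : X.Opens)
    (h : hU.fromSpec ''ᵁ V = W) (hW : W ≤ U) (s : Γ(specRestrict hU M, V)) :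
    (fromSpecIso hU M V W h).hom (r • s) =
      X.presheaf.map (homOfLE hW).op r • (fromSpecIso hU M V W h).hom s := by
  rw [← fromSpec_scalar hU r V W h hW]
  have h' : (M.restrictAppIso hU.fromSpec V).hom (r • s) =
      (hU.fromSpec.appIso V).inv
          ((Spec Γ(X, U)).presheaf.map V.leTop.op ((Scheme.ΓSpecIso Γ(X, U)).inv r)) •
        (M.restrictAppIso hU.fromSpec V).hom s := by
    rw [Scheme.Modules.smul_Spec_def]
    exact Scheme.Modules.smul_restrictAppIso_hom_apply hU.fromSpec M V _ s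
  exact (congrArg (M.presheaf.map (eqToHom h.symm).op) h').trans
    (Scheme.Modules.map_smul M (eqToHom h.symm) _ _)

theorem fromSpecIso_res {V V' : (Spec Γ(X, U)).Opens} {W W' : X.Opens} (hV : V' ≤ V)
    (h : hU.fromSpec ''ᵁ V = W) (h' : hU.fromSpec ''ᵁ V' = W') (hW : W' ≤ W)
    (s : Γ(specRestrict hU M, V)) :
    (fromSpecIso hU M V' W' h').hom (resM (specRestrict hU M) hV s) =
      resM M hW ((fromSpecIso hU M V W h).hom s) := by
  subst h h'
  change M.presheaf.map (eqToHom rfl).op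
      (M.presheaf.map (hU.fromSpec.opensFunctor.map (homOfLE hV)).op
        ((M.restrictAppIso hU.fromSpec V).hom s)) =
    M.presheaf.map (homOfLE hW).op (M.presheaf.map (eqToHom rfl).op
        ((M.restrictAppIso hU.fromSpec V).hom s))
  exact resM_resM_congr M (hU.fromSpec.image_mono hV) le_rfl le_rfl hW
    ((M.restrictAppIso hU.fromSpec V).hom s)

variable [Coh.IsQCoh M]
include hU

theorem qcoh_exists_pow_smul (f : Γ(X, U)) (s : Γ(M, X.basicOpen f)) :
    ∃ (n : ℕ) (t : Γ(M, U)), resM M (X.basicOpen_le f) t =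
      X.presheaf.map (homOfLE (X.basicOpen_le f)).op (f ^ n) • s := by
  have h₀ := fromSpec_image_top hU
  have h₁ : hU.fromSpec ''ᵁ specBasicOpen f = X.basicOpen f :=
    hU.fromSpec_image_basicOpen f
  obtain ⟨n, t, ht⟩ := spec_exists_pow_smul (specRestrict hU M) f
    ((fromSpecIso hU M _ _ h₁).inv s)
  refine ⟨n, (fromSpecIso hU M ⊤ U h₀).hom t, ?_⟩
  rw [← fromSpecIso_res hU M (le_top : specBasicOpen f ≤ ⊤)
    h₀ h₁ (X.basicOpen_le f) t, ht, fromSpecIso_smul hU M _ _ _ h₁ (X.basicOpen_le f)]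
  congr 1
  exact ConcreteCategory.congr_hom (fromSpecIso hU M _ _ h₁).inv_hom_id s

theorem qcoh_exists_pow_smul_eq_zero (f : Γ(X, U)) (t : Γ(M, U))
    (ht : resM M (X.basicOpen_le f) t = 0) : ∃ n : ℕ, f ^ n • t = 0 := by
  have h₀ := fromSpec_image_top hU
  have h₁ : hU.fromSpec ''ᵁ specBasicOpen f = X.basicOpen f :=
    hU.fromSpec_image_basicOpen f
  have ht₀ : (fromSpecIso hU M ⊤ U h₀).hom ((fromSpecIso hU M ⊤ U h₀).inv t) = t :=
    ConcreteCategory.congr_hom (fromSpecIso hU M ⊤ U h₀).inv_hom_id t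
  obtain ⟨n, hn⟩ := spec_exists_pow_smul_eq_zero (specRestrict hU M) f
    ((fromSpecIso hU M ⊤ U h₀).inv t) (by
      apply (ConcreteCategory.bijective_of_isIso (fromSpecIso hU M _ _ h₁).hom).1
      rw [fromSpecIso_res hU M _ h₀ h₁ (X.basicOpen_le f), ht₀, ht, map_zero])
  refine ⟨n, ?_⟩
  have := congrArg (fromSpecIso hU M ⊤ U h₀).hom hn
  rw [fromSpecIso_smul hU M _ _ _ h₀ le_rfl, map_zero, ht₀] at this
  refine Eq.trans ?_ this
  congr 1
  exact (ConcreteCategory.congr_hom (X.presheaf.map_id (op U)) _).symm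

end Groth.Agent.Coherent
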