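import Groth.Agent.Coherent.TopCoh
import Groth.Agent.Coherent.QcohSections

/-!
# Vanishing of higher cohomology of quasi-coherent modules on affine opens

`LocallySplit G`: for every affine open `U` and `g + h = 1` in `Γ(X, U)`, every section of `G` on
`U_g ⊓ U_h` is a sum of restrictions from `U_g` and `U_h`.  The class is stable under quotients by
flasque sheaves and forces lifting of sections along such quotients on every affine open.
-/

set_option autoImplicit false

universe u

open CategoryTheory CategoryTheory.Abelian CategoryTheory.Limits AlgebraicGeometry Opposite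
  TopologicalSpace

namespace Groth.Agent.Coherent

variable {X : Scheme.{u}}

/-- Recorded as a constant so that the kernel does not re-check the instance in every declaration. -/
instance (priority := 10001) hasSheafifySch (X : Scheme.{u}) :
    HasSheafify (Opens.grothendieckTopology X) AddCommGrpCat.{u} :=
  inferInstance

/-- Recorded as a constant so that the kernel does not re-check the instance in every declaration. -/
instance (priority := 10001) hasExtSch (X : Scheme.{u}) :
    HasExt.{u} (Sheaf (Opens.grothendieckTopology X) AddCommGrpCat.{u}) :=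
  inferInstance


/-- Binary Čech vanishing on standard coverings of affine opens. -/
def LocallySplit (G : Sheaf (Opens.grothendieckTopology X) AddCommGrpCat.{u}) : Prop :=
  ∀ (U : X.Opens), IsAffineOpen U → ∀ g h : Γ(X, U), g + h = 1 →
    ∀ s : G.obj.obj (op (X.basicOpen g ⊓ X.basicOpen h)),
      ∃ (a : G.obj.obj (op (X.basicOpen g))) (b : G.obj.obj (op (X.basicOpen h))),
        G.obj.map (homOfLE inf_le_left).op a + G.obj.map (homOfLE inf_le_right).op b = s

section

variable (G : Sheaf (Opens.grothendieckTopology X) AddCommGrpCat.{u})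

theorem map_map {U V W : X.Opens} (h : V ≤ U) (h' : W ≤ V) (s : G.obj.obj (op U)) :
    G.obj.map (homOfLE h').op (G.obj.map (homOfLE h).op s) =
      G.obj.map (homOfLE (h'.trans h)).op s :=
  (ConcreteCategory.congr_hom (G.obj.map_comp (homOfLE h).op (homOfLE h').op) s).symm

theorem map_app {F G : Sheaf (Opens.grothendieckTopology X) AddCommGrpCat.{u}} (φ : F ⟶ G)
    {U V : X.Opens} (h : V ≤ U) (s : F.obj.obj (op U)) :
    φ.hom.app (op V) (F.obj.map (homOfLE h).op s) = G.obj.map (homOfLE h).op (φ.hom.app (op U) s) :=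
  ConcreteCategory.congr_hom (φ.hom.naturality (homOfLE h).op) s

end

variable {S : ShortComplex (Sheaf (Opens.grothendieckTopology X) AddCommGrpCat.{u})}

/-- `s` lifts along `S.g` over `V`. -/
def LiftsOn (S : ShortComplex (Sheaf (Opens.grothendieckTopology X) AddCommGrpCat.{u}))
    {U : X.Opens} (s : S.X₃.obj.obj (op U)) (V : X.Opens) : Prop :=
  ∃ (h : V ≤ U) (t : S.X₂.obj.obj (op V)),
    S.g.hom.app (op V) t = S.X₃.obj.map (homOfLE h).op s

theorem LiftsOn.mono {U : X.Opens} {s : S.X₃.obj.obj (op U)} {V W : X.Opens}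
    (hV : LiftsOn S s V) (hWV : W ≤ V) : LiftsOn S s W := by
  obtain ⟨h, t, ht⟩ := hV
  refine ⟨hWV.trans h, S.X₂.obj.map (homOfLE hWV).op t, ?_⟩
  rw [map_app, ht, map_map]

theorem LiftsOn.union (hS : S.ShortExact) (hP : LocallySplit S.X₁) {U : X.Opens}
    {s : S.X₃.obj.obj (op U)} {W : X.Opens} (hW : IsAffineOpen W) {g h : Γ(X, W)}
    (hgh : g + h = 1) (hWU : W ≤ U) (hg : LiftsOn S s (X.basicOpen g))
    (hh : LiftsOn S s (X.basicOpen h)) : LiftsOn S s W := by
  obtain ⟨h₁, t₁, e₁⟩ := hg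
  obtain ⟨h₂, t₂, e₂⟩ := hh
  let d := S.X₂.obj.map (homOfLE (inf_le_left : X.basicOpen g ⊓ X.basicOpen h ≤ _)).op t₁ -
    S.X₂.obj.map (homOfLE (inf_le_right : X.basicOpen g ⊓ X.basicOpen h ≤ _)).op t₂
  have hd : S.g.hom.app (op (X.basicOpen g ⊓ X.basicOpen h)) d = 0 := by
    rw [map_sub, map_app, map_app, e₁, e₂, map_map, map_map, sub_self]
  obtain ⟨d', hd'⟩ := TopCat.Sheaf.sections_exact_of_left_exact (X := X.toTopCat) hS.exact
    hS.mono_f d hd
  obtain ⟨a, b, hab⟩ := hP W hW g h hgh d'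
  have compat : S.X₂.obj.map (homOfLE (inf_le_left : X.basicOpen g ⊓ X.basicOpen h ≤ _)).op
      (t₁ - S.f.hom.app _ a) =
      S.X₂.obj.map (homOfLE (inf_le_right : X.basicOpen g ⊓ X.basicOpen h ≤ _)).op
      (t₂ + S.f.hom.app _ b) := by
    rw [map_sub, map_add, ← map_app, ← map_app, sub_eq_iff_eq_add, add_assoc,
      ← map_add, add_comm (S.X₁.obj.map _ b), hab, hd']
    simp [d]
  have zeroComp : ∀ (V : X.Opens) (x : S.X₁.obj.obj (op V)),
      S.g.hom.app (op V) (S.f.hom.app (op V) x) = 0 := fun V x =>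
    ConcreteCategory.congr_hom (congr_app (congrArg (fun φ => φ.hom) S.zero) (op V)) x
  let U' : Fin 2 → X.Opens := ![X.basicOpen g, X.basicOpen h]
  let sf : (i : Fin 2) → S.X₂.obj.obj (op (U' i))
    | 0 => t₁ - S.f.hom.app (op (X.basicOpen g)) a
    | 1 => t₂ + S.f.hom.app (op (X.basicOpen h)) b
  have hcov : W ≤ iSup U' := by
    intro x hx
    have : IsUnit (X.presheaf.germ W x hx g + X.presheaf.germ W x hx h) := by
      rw [← map_add, hgh, map_one]; exact isUnit_one
    rcases IsLocalRing.isUnit_or_isUnit_of_isUnit_add this with h' | h'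
    · exact Opens.mem_iSup.2 ⟨0, (X.mem_basicOpen g x hx).2 h'⟩
    · exact Opens.mem_iSup.2 ⟨1, (X.mem_basicOpen h x hx).2 h'⟩
  have hle : ∀ i, U' i ≤ W := Fin.forall_fin_two.2 ⟨X.basicOpen_le g, X.basicOpen_le h⟩
  have compat' : S.X₂.obj.map (homOfLE (inf_le_left : X.basicOpen h ⊓ X.basicOpen g ≤ _)).op
      (t₂ + S.f.hom.app _ b) =
      S.X₂.obj.map (homOfLE (inf_le_right : X.basicOpen h ⊓ X.basicOpen g ≤ _)).op
      (t₁ - S.f.hom.app _ a) := by
    have e : X.basicOpen h ⊓ X.basicOpen g ≤ X.basicOpen g ⊓ X.basicOpen h := (inf_comm _ _).le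
    rw [← map_map S.X₂ (inf_le_right : X.basicOpen g ⊓ X.basicOpen h ≤ _) e,
      ← map_map S.X₂ (inf_le_left : X.basicOpen g ⊓ X.basicOpen h ≤ _) e, compat]
  have hc : TopCat.Presheaf.IsCompatible S.X₂.obj U' sf :=
    Fin.forall_fin_two.2 ⟨Fin.forall_fin_two.2 ⟨rfl, compat⟩,
      Fin.forall_fin_two.2 ⟨compat', rfl⟩⟩
  obtain ⟨t, ht, -⟩ := TopCat.Sheaf.existsUnique_gluing' (X := X.toTopCat) S.X₂ U' W
    (fun i => homOfLE (hle i)) hcov sf hc
  refine ⟨hWU, t, TopCat.Sheaf.eq_of_locally_eq' (X := X.toTopCat) S.X₃ U' W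
    (fun i => homOfLE (hle i)) hcov _ _ (Fin.forall_fin_two.2 ⟨?_, ?_⟩)⟩
  · rw [map_map, ← map_app, ht 0]
    change S.g.hom.app (op (X.basicOpen g)) (t₁ - S.f.hom.app (op (X.basicOpen g)) a) =
      S.X₃.obj.map (homOfLE ((X.basicOpen_le g).trans hWU)).op s
    rw [map_sub, zeroComp, sub_zero, e₁]
  · rw [map_map, ← map_app, ht 1]
    change S.g.hom.app (op (X.basicOpen h)) (t₂ + S.f.hom.app (op (X.basicOpen h)) b) =
      S.X₃.obj.map (homOfLE ((X.basicOpen_le h).trans hWU)).op s
    rw [map_add, zeroComp, add_zero, e₂]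

theorem basicOpen_mul_inv {U V : X.Opens} (hVU : V ≤ U) (f : Γ(X, U)) {c : Γ(X, V)}
    (hc : IsUnit c) :
    X.basicOpen (X.presheaf.map (homOfLE hVU).op f * c) ≤ X.basicOpen f := by
  rw [X.basicOpen_mul, X.basicOpen_res]
  exact inf_le_left.trans inf_le_right

/-- Sections lift along quotients of `LocallySplit` sheaves over affine opens. -/
theorem surjective_of_locallySplit (hS : S.ShortExact) (hP : LocallySplit S.X₁) {U : X.Opens}
    (hU : IsAffineOpen U) (s : S.X₃.obj.obj (op U)) :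
    ∃ t : S.X₂.obj.obj (op U), S.g.hom.app (op U) t = s := by
  let L : Ideal Γ(X, U) :=
    { carrier := {f | LiftsOn S s (X.basicOpen f)}
      zero_mem' := by
        refine ⟨X.basicOpen_le _, 0, ?_⟩
        rw [map_zero]
        refine TopCat.Sheaf.eq_of_locally_eq' (X := X.toTopCat) S.X₃
          (fun i : PEmpty.{u + 1} => i.elim) _ (fun i => i.elim) ?_ _ _ (fun i => i.elim)
        intro x hx
        rw [X.basicOpen_zero] at hx
        exact hx.elim
      add_mem' := by
        intro f g hf hg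
        have hV : IsAffineOpen (X.basicOpen (f + g)) := hU.basicOpen (f + g)
        have hle := X.basicOpen_le (f + g)
        have hu : IsUnit (X.presheaf.map (homOfLE hle).op (f + g)) :=
          RingedSpace.isUnit_res_basicOpen X.toLocallyRingedSpace.toRingedSpace (f + g)
        obtain ⟨c, hc⟩ := hu.exists_right_inv
        have hcu : IsUnit c := IsUnit.of_mul_eq_one _ ((mul_comm _ _).trans hc)
        refine LiftsOn.union hS hP hV
          (g := X.presheaf.map (homOfLE hle).op f * c)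
          (h := X.presheaf.map (homOfLE hle).op g * c) ?_ hle ?_ ?_
        · rw [← add_mul, ← map_add, hc]
        · exact LiftsOn.mono hf (basicOpen_mul_inv hle f hcu)
        · exact LiftsOn.mono hg (basicOpen_mul_inv hle g hcu)
      smul_mem' := by
        intro c f hf
        refine LiftsOn.mono hf ?_
        rw [smul_eq_mul, X.basicOpen_mul]
        exact inf_le_right }
  have key : (1 : Γ(X, U)) ∈ L := by
    rw [← Ideal.eq_top_iff_one]
    have hsup : U ≤ ⨆ f : (L : Set Γ(X, U)), X.basicOpen f.1 := by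
      intro x hx
      obtain ⟨W, hWU, ⟨t, ht⟩, hxW⟩ :=
        (TopCat.Presheaf.isLocallySurjective_iff (X := X.toTopCat) S.g.hom).1
          ((TopCat.Sheaf.isLocallySurjective_iff_epi (X := X.toTopCat) S.g).2 hS.epi_g) U s x hx
      obtain ⟨f, hfW, hxf⟩ := hU.exists_basicOpen_le ⟨x, hxW⟩ hx
      exact Opens.mem_iSup.2 ⟨⟨f, LiftsOn.mono ⟨hWU, t, ht⟩ hfW⟩, hxf⟩
    have := (hU.self_le_iSup_basicOpen_iff (s := (L : Set Γ(X, U)))).1 hsup
    rwa [Ideal.span_eq] at this
  have e : X.basicOpen (1 : Γ(X, U)) = U := X.basicOpen_of_isUnit isUnit_one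
  obtain ⟨h, t, ht⟩ := LiftsOn.mono (key : LiftsOn S s (X.basicOpen 1)) e.ge
  refine ⟨t, ht.trans ?_⟩
  exact ConcreteCategory.congr_hom (S.X₃.obj.map_id (op U)) s

theorem LocallySplit.quotient (hS : S.ShortExact) (hP : LocallySplit S.X₁)
    [TopCat.Sheaf.IsFlasque (X := X.toTopCat) S.X₂] : LocallySplit S.X₃ := by
  intro U hU g h hgh s
  have hV : IsAffineOpen (X.basicOpen g ⊓ X.basicOpen h) := by
    rw [← X.basicOpen_mul]
    exact hU.basicOpen _
  obtain ⟨t, rfl⟩ := surjective_of_locallySplit hS hP hV s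
  have : Epi (S.X₂.obj.map (homOfLE (inf_le_left : X.basicOpen g ⊓ X.basicOpen h ≤ _)).op) :=
    inferInstance
  obtain ⟨a, rfl⟩ := (AddCommGrpCat.epi_iff_surjective _).1 this t
  refine ⟨S.g.hom.app _ a, 0, ?_⟩
  rw [map_zero, add_zero, map_app]

theorem subsingleton_H'_of_locallySplit
    (G : Sheaf (Opens.grothendieckTopology X) AddCommGrpCat.{u}) (hG : LocallySplit G)
    {U : X.Opens} (hU : IsAffineOpen U) (n : ℕ) : Subsingleton (Sheaf.H' G (n + 1) U) := by
  refine subsingleton_ext_of_class (freeSh (X := X.toTopCat) U) (fun G => LocallySplit (X := X) G)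
    (fun S hS h₁ h₂ => ?_) (fun S hS h₁ _ φ => ?_) n G hG
  · have := injective_isFlasque (X := X.toTopCat) S.X₂
    exact LocallySplit.quotient hS h₁
  · obtain ⟨t, ht⟩ := surjective_of_locallySplit hS h₁ hU (freeShEquiv _ S.X₃ φ)
    refine ⟨(freeShEquiv _ S.X₂).symm t, (freeShEquiv _ S.X₃).injective ?_⟩
    rw [freeShEquiv_comp, AddEquiv.apply_symm_apply]
    exact ht

theorem isUnit_res_pow {U W : X.Opens} (f : Γ(X, U)) (hW : W ≤ U) (h : W ≤ X.basicOpen f) (n : ℕ) :
    IsUnit (X.presheaf.map (homOfLE hW).op (f ^ n)) := by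
  have := (RingedSpace.isUnit_res_basicOpen X.toLocallyRingedSpace.toRingedSpace f).map
    (X.presheaf.map (homOfLE h).op).hom
  rw [map_pow]
  refine IsUnit.pow n ?_
  refine (congrArg IsUnit ?_).mp this
  exact (ConcreteCategory.congr_hom
    (X.presheaf.map_comp (homOfLE (X.basicOpen_le f)).op (homOfLE h).op) f).symm

theorem locallySplit_toAb (M : X.Modules) [Coh.IsQCoh M] : LocallySplit (Coh.toAb M) := by
  intro U hU g h hgh s₀
  suffices key : ∀ s : Γ(M, X.basicOpen g ⊓ X.basicOpen h),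
      ∃ (a : Γ(M, X.basicOpen g)) (b : Γ(M, X.basicOpen h)),
        resM M inf_le_left a + resM M inf_le_right b = s from key s₀
  intro s
  have hle : X.basicOpen (g * h) = X.basicOpen g ⊓ X.basicOpen h := X.basicOpen_mul g h
  obtain ⟨n, t, ht⟩ := qcoh_exists_pow_smul hU M (g * h) (resM M hle.le s)
  obtain ⟨a, b, hab⟩ : IsCoprime (g ^ n) (h ^ n) :=
    IsCoprime.pow ⟨1, 1, by rw [one_mul, one_mul, hgh]⟩
  obtain ⟨c₁, hc₁⟩ := (isUnit_res_pow g (X.basicOpen_le g) le_rfl n).exists_left_inv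
  obtain ⟨c₂, hc₂⟩ := (isUnit_res_pow h (X.basicOpen_le h) le_rfl n).exists_left_inv
  refine ⟨(c₁ * X.presheaf.map (homOfLE (X.basicOpen_le g)).op b) • resM M (X.basicOpen_le g) t,
    (c₂ * X.presheaf.map (homOfLE (X.basicOpen_le h)).op a) • resM M (X.basicOpen_le h) t, ?_⟩
  have hWU : X.basicOpen g ⊓ X.basicOpen h ≤ U := inf_le_left.trans (X.basicOpen_le g)
  have ht' : resM M hWU t = X.presheaf.map (homOfLE hWU).op ((g * h) ^ n) • s := by
    have := congrArg (resM M hle.ge) ht
    rw [resM_smul, resM_resM, resM_resM, resM_refl] at this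
    refine this.trans ?_
    congr 1
    exact (ConcreteCategory.congr_hom (X.presheaf.map_comp _ _) _).symm
  rw [resM_smul, resM_smul, resM_resM, resM_resM, map_mul, map_mul, ← add_smul, ht', smul_smul]
  refine Eq.trans ?_ (one_smul Γ(X, X.basicOpen g ⊓ X.basicOpen h) s)
  congr 1
  have r₁ := congrArg (X.presheaf.map
    (homOfLE (inf_le_left : X.basicOpen g ⊓ X.basicOpen h ≤ _)).op) hc₁
  have r₂ := congrArg (X.presheaf.map
    (homOfLE (inf_le_right : X.basicOpen g ⊓ X.basicOpen h ≤ _)).op) hc₂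
  have r₃ := congrArg (X.presheaf.map (homOfLE hWU).op) hab
  have rr : ∀ {V : X.Opens} (h₁ : V ≤ U) (h₂ : X.basicOpen g ⊓ X.basicOpen h ≤ V) (x : Γ(X, U)),
      X.presheaf.map (homOfLE h₂).op (X.presheaf.map (homOfLE h₁).op x) =
        X.presheaf.map (homOfLE hWU).op x := fun h₁ h₂ x =>
    (ConcreteCategory.congr_hom (X.presheaf.map_comp (homOfLE h₁).op (homOfLE h₂).op) x).symm
  rw [map_mul, rr, map_one] at r₁ r₂
  rw [map_add, map_mul, map_mul, map_one] at r₃
  rw [rr, rr, mul_pow, map_mul]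
  generalize X.presheaf.map (homOfLE inf_le_left).op c₁ = C₁ at r₁ ⊢
  generalize X.presheaf.map (homOfLE inf_le_right).op c₂ = C₂ at r₂ ⊢
  generalize X.presheaf.map (homOfLE hWU).op (g ^ n) = G' at r₁ r₂ r₃ ⊢
  generalize X.presheaf.map (homOfLE hWU).op (h ^ n) = H' at r₁ r₂ r₃ ⊢
  generalize X.presheaf.map (homOfLE hWU).op a = A at r₃ ⊢
  generalize X.presheaf.map (homOfLE hWU).op b = B at r₃ ⊢
  linear_combination (B * H') * r₁ + (A * G') * r₂ + r₃

/-- Higher cohomology of a quasi-coherent module vanishes on affine opens. -/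
theorem subsingleton_H'_qcoh (M : X.Modules) [Coh.IsQCoh M] {U : X.Opens} (hU : IsAffineOpen U)
    (n : ℕ) : Subsingleton (Sheaf.H' (Coh.toAb M) (n + 1) U) :=
  subsingleton_H'_of_locallySplit _ (locallySplit_toAb M) hU n

end Groth.Agent.Coherent
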