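import Groth.Agent.Coherent.ModulesExact
import Groth.Agent.Coherent.AffineVanishing

/-!
# Quasi-coherence is local, and is equivalent to localisation of sections on affine opens

* `isQCoh_of_openImmersion_cover`, `isQCoh_restrict`;
* `LocalizesOn M U`; `isQCoh_of_localizesOn`, `isQCoh_iff_localizesOn`;
* exactness of sections on affine opens;
* kernels, cokernels and extensions of quasi-coherent modules.
-/

set_option autoImplicit false

universe u

open CategoryTheory CategoryTheory.Limits AlgebraicGeometry Opposite TopologicalSpace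

namespace Groth.Agent.Coherent

/-- `M` is quasi-coherent if it has presentations on the members of an open cover. -/
theorem isQCoh_of_presentations {X : Scheme.{u}} (M : X.Modules) {ι : Type u} (V : ι → X.Opens)
    (hV : IsOpenCover V) (pres : ∀ i, (M.restrict (V i).ι).Presentation) : Coh.IsQCoh M := by
  let q : SheafOfModules.QuasicoherentData.{u} (R := X.ringCatSheaf) M :=
    { I := ι
      X := V
      coversTop := (Opens.coversTop_iff _ V).2 hV
      presentation := fun i =>
        let F : SheafOfModules.{u} (V i).toScheme.ringCatSheaf ⥤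
            SheafOfModules.{u} (X.ringCatSheaf.over (V i)) :=
          (Scheme.Modules.overEquiv (V i)).inverse
        haveI : PreservesColimitsOfSize.{u, u} F :=
          (Scheme.Modules.overEquiv (V i)).symm.toAdjunction.leftAdjoint_preservesColimits
        SheafOfModules.Presentation.ofIsIso.{u, u, u}
        ((Scheme.Modules.overEquiv (V i)).inverse.mapIso
            ((Scheme.Modules.overFunctorEquiv (V i)).symm.app M) ≪≫
          ((Scheme.Modules.overEquiv (V i)).unitIso.app
            ((SheafOfModules.overFunctor X.ringCatSheaf (V i)).obj M)).symm).hom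
        ((pres i).map F
          ((V i).sheafOfModulesEquivOverInverseUnit X.ringCatSheaf).symm) }
  exact q.isQuasicoherent

/-- Quasi-coherence is local for open immersion covers. -/
theorem isQCoh_of_openImmersion_cover {X : Scheme.{u}} (M : X.Modules) {ι : Type u}
    {Y : ι → Scheme.{u}} (j : ∀ i, Y i ⟶ X) [∀ i, IsOpenImmersion (j i)]
    (hj : ∀ x : X, ∃ i, x ∈ (j i).opensRange) (h : ∀ i, Coh.IsQCoh (M.restrict (j i))) :
    Coh.IsQCoh M := by
  choose κ W pres hW _ using fun i =>
    Scheme.Modules.exists_isOpenCover_presentation (M.restrict (j i))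
  refine isQCoh_of_presentations M (ι := Σ i, κ i) (fun a => j a.1 ''ᵁ W a.1 a.2) ?_ fun a => ?_
  · rw [IsOpenCover, eq_top_iff]
    intro x _
    obtain ⟨i, y, rfl⟩ := hj x
    obtain ⟨k, hk⟩ := (hW i).exists_mem y
    exact Opens.mem_iSup.2 ⟨⟨i, k⟩, y, hk, rfl⟩
  · have hrange : Set.range (j a.1 ''ᵁ W a.1 a.2).ι = Set.range ((W a.1 a.2).ι ≫ j a.1) := by
      rw [Scheme.Opens.range_ι]
      simp [Set.range_comp]
    let e := IsOpenImmersion.isoOfRangeEq (j a.1 ''ᵁ W a.1 a.2).ι ((W a.1 a.2).ι ≫ j a.1) hrange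
    have he : e.hom ≫ ((W a.1 a.2).ι ≫ j a.1) = (j a.1 ''ᵁ W a.1 a.2).ι :=
      IsOpenImmersion.isoOfRangeEq_hom_fac _ _ _
    let φ := ((Scheme.Modules.restrictFunctor e.hom).mapIso
          ((Scheme.Modules.restrictFunctorComp (W a.1 a.2).ι (j a.1)).symm.app M)) ≪≫
        (Scheme.Modules.restrictFunctorComp e.hom ((W a.1 a.2).ι ≫ j a.1)).symm.app M ≪≫
        (Scheme.Modules.restrictFunctorCongr he).app M
    exact @SheafOfModules.Presentation.ofIsIso.{u, u, u} _ _ _ _ _ _ _ _ φ.hom φ.isIso_hom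
      (Scheme.Modules.presentationRestrict e.hom (pres a.1 a.2))

variable {X : Scheme.{u}}

/-- Sections of `M` localise at elements of `Γ(X, U)`. -/
structure LocalizesOn (M : X.Modules) (U : X.Opens) : Prop where
  exists_pow_smul : ∀ (f : Γ(X, U)) (s : Γ(M, X.basicOpen f)),
    ∃ (n : ℕ) (t : Γ(M, U)), resM M (X.basicOpen_le f) t =
      X.presheaf.map (homOfLE (X.basicOpen_le f)).op (f ^ n) • s
  exists_pow_smul_eq_zero : ∀ (f : Γ(X, U)) (t : Γ(M, U)),
    resM M (X.basicOpen_le f) t = 0 → ∃ n : ℕ, f ^ n • t = 0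

theorem localizesOn_of_isQCoh (M : X.Modules) [Coh.IsQCoh M] {U : X.Opens}
    (hU : IsAffineOpen U) : LocalizesOn M U :=
  ⟨qcoh_exists_pow_smul hU M, qcoh_exists_pow_smul_eq_zero hU M⟩

theorem isQCoh_restrict_fromSpec {U : X.Opens} (hU : IsAffineOpen U) (M : X.Modules)
    (h : LocalizesOn M U) : Coh.IsQCoh (specRestrict hU M) := by
  change SheafOfModules.IsQuasicoherent (specRestrict hU M)
  rw [isQuasicoherent_iff_isIso_fromTildeΓ, isIso_fromTildeΓ_iff_isLocalizing]
  intro f
  have h₀ := fromSpec_image_top hU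
  have h₁ : hU.fromSpec ''ᵁ specBasicOpen f = X.basicOpen f := hU.fromSpec_image_basicOpen f
  let e₀ := fromSpecIso hU M ⊤ U h₀
  let e₁ := fromSpecIso hU M (specBasicOpen f) _ h₁
  refine IsLocalizedModule.Away.mk_of_addCommGroup ?_ ?_ ?_
  · exact Scheme.Modules.isUnit_algebraMap_end_of_le_basicOpen f le_rfl
  · intro (s : Γ(specRestrict hU M, specBasicOpen f))
    obtain ⟨n, t, ht⟩ := h.exists_pow_smul f (e₁.hom s)
    refine ⟨n, e₀.inv t, ?_⟩
    apply (ConcreteCategory.bijective_of_isIso e₁.hom).1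
    refine Eq.trans ?_ (fromSpecIso_res hU M (le_top : specBasicOpen f ≤ ⊤) h₀ h₁
      (X.basicOpen_le f) (e₀.inv t)).symm
    refine Eq.trans ?_ (congrArg (resM M (X.basicOpen_le f))
      (ConcreteCategory.congr_hom e₀.inv_hom_id t)).symm
    refine Eq.trans ?_ ht.symm
    exact fromSpecIso_smul hU M (f ^ n) _ _ h₁ (X.basicOpen_le f) s
  · intro (t : Γ(specRestrict hU M, ⊤)) ht
    obtain ⟨n, hn⟩ := h.exists_pow_smul_eq_zero f (e₀.hom t)
      ((fromSpecIso_res hU M (le_top : specBasicOpen f ≤ ⊤) h₀ h₁ (X.basicOpen_le f) t).symm.trans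
        ((congrArg e₁.hom ht).trans (map_zero _)))
    refine ⟨n, ?_⟩
    apply (ConcreteCategory.bijective_of_isIso e₀.hom).1
    refine (fromSpecIso_smul hU M (f ^ n) _ _ h₀ le_rfl t).trans ?_
    refine Eq.trans ?_ (hn.trans (map_zero e₀.hom.hom).symm)
    congr 1
    exact ConcreteCategory.congr_hom (X.presheaf.map_id (op U)) _

/-- Quasi-coherence from localisation of sections on an affine open cover. -/
theorem isQCoh_of_localizesOn (M : X.Modules) {ι : Type u} (U : ι → X.Opens)
    (hU : ∀ i, IsAffineOpen (U i)) (hcov : ∀ x : X, ∃ i, x ∈ U i)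
    (h : ∀ i, LocalizesOn M (U i)) : Coh.IsQCoh M :=
  isQCoh_of_openImmersion_cover M (fun i => (hU i).fromSpec)
    (fun x => (hcov x).imp fun i hi => by rwa [(hU i).opensRange_fromSpec])
    (fun i => isQCoh_restrict_fromSpec (hU i) M (h i))

theorem isQCoh_iff_localizesOn (M : X.Modules) :
    Coh.IsQCoh M ↔ ∀ U : X.Opens, IsAffineOpen U → LocalizesOn M U :=
  ⟨fun _ _ hU => localizesOn_of_isQCoh M hU, fun h =>
    isQCoh_of_localizesOn M (fun U : X.affineOpens => U.1) (fun U => U.2)
      (fun x => by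
        obtain ⟨V, hV, hxV, -⟩ :=
          Opens.isBasis_iff_nbhd.mp X.isBasis_affineOpens (Opens.mem_top x)
        exact ⟨⟨V, hV⟩, hxV⟩)
      (fun U => h U.1 U.2)⟩

theorem app_resM {M N : X.Modules} (φ : M ⟶ N) {U V : X.Opens} (h : V ≤ U) (t : Γ(M, U)) :
    φ.app V (resM M h t) = resM N h (φ.app U t) :=
  ConcreteCategory.congr_hom (φ.mapPresheaf.naturality (homOfLE h).op) t

section ShortExact

variable {S : ShortComplex X.Modules} (hS : S.ShortExact)
include hS

theorem sections_injective (U : X.Opens) : Function.Injective (S.f.app U) := by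
  have : Mono S.f := hS.mono_f
  have : Mono ((Scheme.Modules.toPresheaf X).map S.f) := inferInstance
  have h : Mono (((Scheme.Modules.toPresheaf X).map S.f).app (op U)) := inferInstance
  exact (AddCommGrpCat.mono_iff_injective _).1 h

theorem sections_exact {U : X.Opens} (s : Γ(S.X₂, U)) (h : S.g.app U s = 0) :
    ∃ t : Γ(S.X₁, U), S.f.app U t = s :=
  TopCat.Sheaf.sections_exact_of_left_exact (X := X.toTopCat) (toAb_shortExact hS).exact
    (toAb_shortExact hS).mono_f s h

omit hS in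
theorem sections_zero (U : X.Opens) (t : Γ(S.X₁, U)) : S.g.app U (S.f.app U t) = 0 :=
  ConcreteCategory.congr_hom (congrArg (fun φ : S.X₁ ⟶ S.X₃ => φ.app U) S.zero) t

/-- Sections on affine opens are exact when the kernel is quasi-coherent. -/
theorem sections_surjective [Coh.IsQCoh S.X₁] {U : X.Opens} (hU : IsAffineOpen U) :
    Function.Surjective (S.g.app U) :=
  surjective_of_locallySplit (toAb_shortExact hS) (locallySplit_toAb S.X₁) hU

theorem isQCoh_X₁ [Coh.IsQCoh S.X₂] [Coh.IsQCoh S.X₃] : Coh.IsQCoh S.X₁ := by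
  refine (isQCoh_iff_localizesOn _).2 fun U hU => ⟨fun f s => ?_, fun f t ht => ?_⟩
  · obtain ⟨n, t, ht⟩ := qcoh_exists_pow_smul hU S.X₂ f (S.f.app _ s)
    have h0 : resM S.X₃ (X.basicOpen_le f) (S.g.app U t) = 0 := by
      rw [← app_resM, ht, Scheme.Modules.Hom.app_smul, sections_zero, smul_zero]
    obtain ⟨m, hm⟩ := qcoh_exists_pow_smul_eq_zero hU S.X₃ f (S.g.app U t) h0
    obtain ⟨t', ht'⟩ := sections_exact hS (f ^ m • t)
      (by rw [Scheme.Modules.Hom.app_smul, hm])
    refine ⟨m + n, t', sections_injective hS _ ?_⟩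
    rw [app_resM, ht', resM_smul, ht, Scheme.Modules.Hom.app_smul, smul_smul, ← map_mul, ← pow_add]
  · obtain ⟨n, hn⟩ := qcoh_exists_pow_smul_eq_zero hU S.X₂ f (S.f.app U t)
      (by rw [← app_resM, ht, map_zero])
    exact ⟨n, sections_injective hS U (by rw [Scheme.Modules.Hom.app_smul, hn, map_zero])⟩

theorem isQCoh_X₃ [Coh.IsQCoh S.X₁] [Coh.IsQCoh S.X₂] : Coh.IsQCoh S.X₃ := by
  refine (isQCoh_iff_localizesOn _).2 fun U hU => ⟨fun f s => ?_, fun f t ht => ?_⟩
  · obtain ⟨s', rfl⟩ := sections_surjective hS (hU.basicOpen f) s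
    obtain ⟨n, t, ht⟩ := qcoh_exists_pow_smul hU S.X₂ f s'
    exact ⟨n, S.g.app U t, by rw [← app_resM, ht, Scheme.Modules.Hom.app_smul]⟩
  · obtain ⟨t', rfl⟩ := sections_surjective hS hU t
    obtain ⟨k, hk⟩ := sections_exact hS (resM S.X₂ (X.basicOpen_le f) t')
      (by rw [app_resM, ht])
    obtain ⟨n, k', hk'⟩ := qcoh_exists_pow_smul hU S.X₁ f k
    obtain ⟨m, hm⟩ := qcoh_exists_pow_smul_eq_zero hU S.X₂ f (f ^ n • t' - S.f.app U k') (by
      rw [map_sub, resM_smul, ← app_resM, hk', Scheme.Modules.Hom.app_smul, hk, sub_self])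
    refine ⟨m + n, ?_⟩
    have := congrArg (S.g.app U) hm
    rw [map_zero, smul_sub, map_sub, smul_smul, ← pow_add, Scheme.Modules.Hom.app_smul,
      Scheme.Modules.Hom.app_smul, sections_zero, smul_zero, sub_zero] at this
    exact this

theorem isQCoh_X₂ [Coh.IsQCoh S.X₁] [Coh.IsQCoh S.X₃] : Coh.IsQCoh S.X₂ := by
  refine (isQCoh_iff_localizesOn _).2 fun U hU => ⟨fun f s => ?_, fun f t ht => ?_⟩
  · obtain ⟨n, q, hq⟩ := qcoh_exists_pow_smul hU S.X₃ f (S.g.app _ s)
    obtain ⟨m, rfl⟩ := sections_surjective hS hU q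
    obtain ⟨k, hk⟩ := sections_exact hS
      (X.presheaf.map (homOfLE (X.basicOpen_le f)).op (f ^ n) • s -
        resM S.X₂ (X.basicOpen_le f) m)
      (by rw [map_sub, Scheme.Modules.Hom.app_smul, app_resM, hq, sub_self])
    obtain ⟨n', k', hk'⟩ := qcoh_exists_pow_smul hU S.X₁ f k
    refine ⟨n' + n, f ^ n' • m + S.f.app U k', ?_⟩
    rw [map_add, resM_smul, ← app_resM, hk', Scheme.Modules.Hom.app_smul, hk, ← smul_add,
      add_sub_cancel, smul_smul, ← map_mul, ← pow_add]
  · obtain ⟨n, hn⟩ := qcoh_exists_pow_smul_eq_zero hU S.X₃ f (S.g.app U t)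
      (by rw [← app_resM, ht, map_zero])
    obtain ⟨k, hk⟩ := sections_exact hS (f ^ n • t) (by rw [Scheme.Modules.Hom.app_smul, hn])
    obtain ⟨m, hm⟩ := qcoh_exists_pow_smul_eq_zero hU S.X₁ f k
      (sections_injective hS _ (by rw [app_resM, hk, resM_smul, ht, smul_zero, map_zero]))
    refine ⟨m + n, ?_⟩
    rw [pow_add, mul_smul, ← hk, ← Scheme.Modules.Hom.app_smul, hm, map_zero]

end ShortExact

theorem isQCoh_of_iso {M N : X.Modules} (e : M ≅ N) [h : Coh.IsQCoh M] : Coh.IsQCoh N :=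
  (SheafOfModules.isQuasicoherent X.ringCatSheaf).prop_of_iso e h

end Groth.Agent.Coherent
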