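import Groth.Agent.Coherent.QcohOps
import Groth.Agent.DCat.ModulesGrothendieck
import Mathlib.CategoryTheory.Preadditive.Injective.Preserves
import Mathlib.Algebra.Category.ModuleCat.Presheaf.Submodule

/-!
# Restriction to an open subscheme preserves injective modules
-/

set_option autoImplicit false

universe u

open CategoryTheory CategoryTheory.Limits AlgebraicGeometry Opposite TopologicalSpace

namespace Groth.Agent.Coherent

variable {U X : Scheme.{u}} (j : U ⟶ X) [IsOpenImmersion j]

/-- The sections of `j_* A` supported in the image: the presheaf extension by zero. -/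
noncomputable def extZeroSub (A : U.Modules) :
    PresheafOfModules.Submodule ((Scheme.Modules.pushforward j).obj A).val where
  obj W :=
    { carrier := {s | ¬ W.unop ≤ j.opensRange → s = 0}
      add_mem' := fun {a b} ha hb h => by rw [ha h, hb h, add_zero]
      zero_mem' := fun _ => rfl
      smul_mem' := fun r a ha h => by rw [ha h, smul_zero] }
  map {W W'} i s hs h := by
    rw [hs fun hW => h (i.unop.le.trans hW)]
    exact map_zero _

/-- The presheaf extension by zero. -/
noncomputable abbrev extZeroPsh (A : U.Modules) : PresheafOfModules X.ringCatSheaf.obj :=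
  (extZeroSub j A).toPresheafOfModules

/-- Functoriality of the presheaf extension by zero. -/
noncomputable def extZeroPshMap {A B : U.Modules} (φ : A ⟶ B) :
    extZeroPsh j A ⟶ extZeroPsh j B :=
  PresheafOfModules.homMk
    { app := fun W => AddCommGrpCat.ofHom
        { toFun := fun s => ⟨((Scheme.Modules.pushforward j).map φ).app W.unop s.1, fun h =>
            (congrArg _ (s.2 h)).trans (map_zero (((Scheme.Modules.pushforward j).map φ).app W.unop).hom)⟩
          map_zero' := Subtype.ext (map_zero _)
          map_add' := fun s t => Subtype.ext (map_add _ _ _) }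
      naturality := fun W W' i => AddCommGrpCat.hom_ext (AddMonoidHom.ext fun s => Subtype.ext
        (PresheafOfModules.naturality_apply ((Scheme.Modules.pushforward j).map φ).val i s.1)) }
    (fun W r s => Subtype.ext ((((Scheme.Modules.pushforward j).map φ).val.app W).hom.map_smul r s.1))

theorem mono_extZeroPshMap {A B : U.Modules} (φ : A ⟶ B)
    (hφ : ∀ V : U.Opens, Function.Injective (φ.app V)) : Mono (extZeroPshMap j φ) :=
  PresheafOfModules.mono_of_injective fun W _ _ h =>
    Subtype.ext (hφ _ (congrArg Subtype.val h))

theorem bijective_unit_app (I : X.Modules) {W : X.Opens} (hW : W ≤ j.opensRange) :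
    Function.Bijective (((Scheme.Modules.restrictAdjunction j).unit.app I).app W) :=
  resM_bijective_of_eq I (j.image_preimage_le W)
    (le_antisymm (fun x hx => by
      obtain ⟨y, rfl⟩ := hW hx
      exact ⟨y, hx, rfl⟩) (j.image_preimage_le W))

variable {j}

open Classical in
/-- Components of the map out of the extension by zero. -/
noncomputable def extDescApp {A : U.Modules} {I : X.Modules} (φ : A ⟶ I.restrict j) (W : X.Opens)
    (s : Γ((Scheme.Modules.pushforward j).obj A, W)) : Γ(I, W) :=
  if h : W ≤ j.opensRange then
    (Equiv.ofBijective _ (bijective_unit_app j I h)).symm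
      (((Scheme.Modules.pushforward j).map φ).app W s)
  else 0

theorem unit_extDescApp {A : U.Modules} {I : X.Modules} (φ : A ⟶ I.restrict j) {W : X.Opens}
    (h : W ≤ j.opensRange) (s : Γ((Scheme.Modules.pushforward j).obj A, W)) :
    ((Scheme.Modules.restrictAdjunction j).unit.app I).app W (extDescApp φ W s) =
      ((Scheme.Modules.pushforward j).map φ).app W s := by
  rw [extDescApp, dif_pos h]
  exact Equiv.apply_symm_apply (Equiv.ofBijective _ (bijective_unit_app j I h)) _

theorem extDescApp_eq {A : U.Modules} {I : X.Modules} (φ : A ⟶ I.restrict j) {W : X.Opens}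
    (h : W ≤ j.opensRange) {s : Γ((Scheme.Modules.pushforward j).obj A, W)} {t : Γ(I, W)}
    (ht : ((Scheme.Modules.restrictAdjunction j).unit.app I).app W t =
      ((Scheme.Modules.pushforward j).map φ).app W s) : extDescApp φ W s = t :=
  (bijective_unit_app j I h).1 ((unit_extDescApp φ h s).trans ht.symm)

theorem extDescApp_zero {A : U.Modules} {I : X.Modules} (φ : A ⟶ I.restrict j) (W : X.Opens) :
    extDescApp φ W 0 = 0 := by
  by_cases h : W ≤ j.opensRange
  · exact extDescApp_eq φ h (by rw [map_zero, map_zero])
  · rw [extDescApp, dif_neg h]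

theorem extDescApp_add {A : U.Modules} {I : X.Modules} (φ : A ⟶ I.restrict j) (W : X.Opens)
    (s t : Γ((Scheme.Modules.pushforward j).obj A, W)) (hs : ¬ W ≤ j.opensRange → s = 0)
    (ht : ¬ W ≤ j.opensRange → t = 0) :
    extDescApp φ W (s + t) = extDescApp φ W s + extDescApp φ W t := by
  by_cases h : W ≤ j.opensRange
  · refine extDescApp_eq φ h ?_
    rw [map_add, unit_extDescApp φ h, unit_extDescApp φ h, ← map_add]
  · rw [hs h, ht h, add_zero, extDescApp_zero, add_zero]

theorem extDescApp_smul {A : U.Modules} {I : X.Modules} (φ : A ⟶ I.restrict j) (W : X.Opens)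
    (r : Γ(X, W)) (s : Γ((Scheme.Modules.pushforward j).obj A, W))
    (hs : ¬ W ≤ j.opensRange → s = 0) :
    extDescApp φ W (r • s) = r • extDescApp φ W s := by
  by_cases h : W ≤ j.opensRange
  · refine extDescApp_eq φ h ?_
    rw [Scheme.Modules.Hom.app_smul, unit_extDescApp φ h, Scheme.Modules.Hom.app_smul]
  · rw [hs h, smul_zero, extDescApp_zero, smul_zero]

theorem extDescApp_res {A : U.Modules} {I : X.Modules} (φ : A ⟶ I.restrict j) {W W' : X.Opens}
    (le : W' ≤ W) (s : Γ((Scheme.Modules.pushforward j).obj A, W))
    (hs : ¬ W ≤ j.opensRange → s = 0) :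
    extDescApp φ W' (resM _ le s) = resM I le (extDescApp φ W s) := by
  by_cases h : W ≤ j.opensRange
  · refine extDescApp_eq φ (le.trans h) ?_
    refine (app_resM ((Scheme.Modules.restrictAdjunction j).unit.app I) le
      (extDescApp φ W s)).trans ?_
    refine (congrArg (resM _ le) (unit_extDescApp φ h s)).trans ?_
    exact (app_resM ((Scheme.Modules.pushforward j).map φ) le s).symm
  · rw [hs h, map_zero, extDescApp_zero, extDescApp_zero, map_zero]

/-- The map out of the presheaf extension by zero. -/
noncomputable def extDesc {A : U.Modules} {I : X.Modules} (φ : A ⟶ I.restrict j) :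
    extZeroPsh j A ⟶ I.val :=
  PresheafOfModules.homMk
    { app := fun W => AddCommGrpCat.ofHom
        { toFun := fun s => extDescApp φ W.unop s.1
          map_zero' := extDescApp_zero φ W.unop
          map_add' := fun s t => extDescApp_add φ W.unop s.1 t.1 s.2 t.2 }
      naturality := fun W W' i => AddCommGrpCat.hom_ext (AddMonoidHom.ext fun s =>
        extDescApp_res φ (leOfHom i.unop) s.1 s.2) }
    (fun W r s => extDescApp_smul φ W.unop r s.1 s.2)

variable (j)

/-- A section over `V` as a section of the extension by zero over `j V`. -/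
noncomputable def toExtZero (B : U.Modules) (V : U.Opens) (b : Γ(B, V)) :
    (extZeroPsh j B).obj (op (j ''ᵁ V)) :=
  ⟨resM B (j.preimage_image_eq V).le b, fun h => (h (by
    rintro x ⟨y, -, rfl⟩; exact ⟨y, rfl⟩)).elim⟩

variable {j}

/-- Restriction to `U` of a map out of the extension by zero. -/
noncomputable def extRestrict {B : U.Modules} {I : X.Modules} (ψ : extZeroPsh j B ⟶ I.val) :
    B ⟶ I.restrict j :=
  ⟨PresheafOfModules.homMk
    { app := fun V => AddCommGrpCat.ofHom
        { toFun := fun b => ψ.app (op (j ''ᵁ V.unop)) (toExtZero j B V.unop b)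
          map_zero' :=
            (congrArg _ (show toExtZero j B V.unop 0 = 0 from Subtype.ext (map_zero _))).trans
              (map_zero (ψ.app (op (j ''ᵁ V.unop))).hom)
          map_add' := fun a b =>
            (congrArg _ (show toExtZero j B V.unop (a + b) =
              toExtZero j B V.unop a + toExtZero j B V.unop b from Subtype.ext (map_add _ _ _))).trans
              (map_add (ψ.app (op (j ''ᵁ V.unop))).hom _ _) }
      naturality := fun V V' i => AddCommGrpCat.hom_ext (AddMonoidHom.ext fun b => by
        change ψ.app _ (toExtZero j B V'.unop (resM B (leOfHom i.unop) b)) =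
          I.val.map (j.opensFunctor.map i.unop).op (ψ.app _ (toExtZero j B V.unop b))
        rw [← PresheafOfModules.naturality_apply]
        exact congrArg _ (Subtype.ext (resM_resM_congr B (leOfHom i.unop) _
          (j.preimage_image_eq V.unop).le (Scheme.Hom.preimage_mono j (leOfHom
            (j.opensFunctor.map i.unop))) b))) }
    (fun V r b => by
      refine Eq.trans ?_ ((ψ.app (op (j ''ᵁ V.unop))).hom.map_smul ((j.appIso V.unop).inv r) _)
      refine congrArg _ (Subtype.ext ?_)
      change resM B (j.preimage_image_eq V.unop).le ((r : Γ(U, V.unop)) • (b : Γ(B, V.unop))) =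
        (j.app (j ''ᵁ V.unop) ((j.appIso V.unop).inv r) : Γ(U, j ⁻¹ᵁ j ''ᵁ V.unop)) •
          resM B (j.preimage_image_eq V.unop).le (b : Γ(B, V.unop))
      refine (resM_smul B (j.preimage_image_eq V.unop).le r b).trans ?_
      congr 1
      exact (ConcreteCategory.congr_hom (j.appIso_inv_app V.unop) r).symm)⟩

theorem extRestrict_app {B : U.Modules} {I : X.Modules} (ψ : extZeroPsh j B ⟶ I.val)
    (V : U.Opens) (b : Γ(B, V)) :
    (extRestrict ψ).app V b = ψ.app (op (j ''ᵁ V)) (toExtZero j B V b) := rfl

theorem comp_extRestrict {A B : U.Modules} {I : X.Modules} (m : A ⟶ B) (φ : A ⟶ I.restrict j)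
    (ψ : extZeroPsh j B ⟶ I.val) (h : extZeroPshMap j m ≫ ψ = extDesc φ) :
    m ≫ extRestrict ψ = φ := by
  refine Scheme.Modules.hom_ext _ _ fun V => ?_
  ext a
  change ψ.app _ (toExtZero j B V (m.app V a)) = φ.app V a
  have e : toExtZero j B V (m.app V a) =
      (extZeroPshMap j m).app (op (j ''ᵁ V)) (toExtZero j A V a) :=
    Subtype.ext (ConcreteCategory.congr_hom
      (m.mapPresheaf.naturality (homOfLE (j.preimage_image_eq V).le).op) a).symm
  rw [e]
  refine (ConcreteCategory.congr_hom (congrArg (fun z : extZeroPsh j A ⟶ I.val =>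
    z.app (op (j ''ᵁ V))) h) (toExtZero j A V a)).trans ?_
  refine extDescApp_eq φ (by rintro x ⟨y, -, rfl⟩; exact ⟨y, rfl⟩) ?_
  exact (ConcreteCategory.congr_hom
    (φ.mapPresheaf.naturality (homOfLE (j.preimage_image_eq V).le).op) a).symm

variable (j)

/-- Restriction along an open immersion preserves injective modules. -/
theorem injective_restrict (I : X.Modules) [hI : Injective I] : Injective (I.restrict j) where
  factors {A B} φ m _ := by
    have := mono_extZeroPshMap j m (app_injective_of_mono m)
    let L := PresheafOfModules.sheafification.{u} (𝟙 X.ringCatSheaf.obj)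
    let adj := PresheafOfModules.sheafificationAdjunction.{u} (𝟙 X.ringCatSheaf.obj)
    have hL : Mono (L.map (extZeroPshMap j m)) := inferInstance
    let φ' : L.obj (extZeroPsh j A) ⟶ I := (adj.homEquiv _ I).symm (extDesc φ)
    obtain ⟨Ψ, hΨ⟩ : ∃ Ψ : L.obj (extZeroPsh j B) ⟶ I, L.map (extZeroPshMap j m) ≫ Ψ = φ' :=
      @Injective.factors X.Modules _ I hI _ _ φ' (L.map (extZeroPshMap j m)) hL
    refine ⟨extRestrict (adj.homEquiv _ I Ψ), comp_extRestrict m φ _ ?_⟩
    refine (adj.homEquiv_naturality_left _ _).symm.trans ?_
    refine (congrArg (adj.homEquiv _ I) hΨ).trans ?_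
    exact Equiv.apply_symm_apply _ _

instance preservesInjectiveObjects_restrictFunctor :
    (Scheme.Modules.restrictFunctor j).PreservesInjectiveObjects where
  injective_obj {I} _ := injective_restrict j I

end Groth.Agent.Coherent
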