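import Groth.Agent.Coherent.ModExt
import Groth.Agent.Coherent.InjRestrict
import Groth.Prelude.Def_Formal
import Groth.Prelude.Def_CxOX
import Groth.Agent.Coherent.QcohLocal

/-!
# Quasi-coherence of higher direct images
-/

set_option autoImplicit false

universe v' u' u

open CategoryTheory CategoryTheory.Limits AlgebraicGeometry Opposite TopologicalSpace

namespace Groth.Agent.Coherent

section Central

variable {A : Type u'} [Category.{v'} A] [Abelian A]

/-- A chain map given by a central endomorphism induces it in homology. -/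
theorem homologyMap_central (θ : 𝟭 A ⟶ 𝟭 A) {ι : Type*} {c : ComplexShape ι}
    {K : HomologicalComplex A c} (φ : K ⟶ K) (h : ∀ i, φ.f i = θ.app (K.X i)) (i : ι) :
    HomologicalComplex.homologyMap φ i = θ.app (K.homology i) := by
  have e : HomologicalComplex.cyclesMap φ i = θ.app (K.cycles i) := by
    rw [← cancel_mono (K.iCycles i), HomologicalComplex.cyclesMap_i, h]
    exact θ.naturality (K.iCycles i)
  rw [← cancel_epi (K.homologyπ i), HomologicalComplex.homologyπ_naturality, e]
  exact (θ.naturality (K.homologyπ i)).symm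

end Central

variable {X S : Scheme.{u}}

theorem smulModΓ_comm {M N : X.Modules} (r : Γ(X, ⊤)) (φ : M ⟶ N) :
    φ ≫ Formal.smulModΓ N r = Formal.smulModΓ M r ≫ φ := by
  refine Scheme.Modules.hom_ext _ _ fun U => ?_
  ext m
  exact (φ.app_smul _ m).symm

/-- Multiplication by a global function, as an endomorphism of the identity functor. -/
noncomputable def smulNat (X : Scheme.{u}) (r : Γ(X, ⊤)) : 𝟭 X.Modules ⟶ 𝟭 X.Modules where
  app M := Formal.smulModΓ M r
  naturality _ _ φ := smulModΓ_comm r φ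

theorem push_map_smulModΓ (f : X ⟶ S) (a : Γ(S, ⊤)) (M : X.Modules) :
    (Coh.push f).map (Formal.smulModΓ M (f.appTop a)) =
      Formal.smulModΓ ((Coh.push f).obj M) a := by
  refine Scheme.Modules.hom_ext _ _ fun V => ?_
  ext m
  let m' : Γ(M, f ⁻¹ᵁ V) := m
  change (X.presheaf.map (homOfLE (le_top (a := f ⁻¹ᵁ V))).op (f.appTop a) : Γ(X, f ⁻¹ᵁ V)) • m' =
    (f.app V (S.presheaf.map (homOfLE (le_top (a := V))).op a) : Γ(X, f ⁻¹ᵁ V)) • m'
  congr 1
  exact (ConcreteCategory.congr_hom (f.naturality (homOfLE (le_top (a := V))).op) a).symm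

/-- `R^n f_*` is linear over global functions of the base. -/
theorem rpush_map_smulModΓ (f : X ⟶ S) [HasInjectiveResolutions X.Modules] (a : Γ(S, ⊤))
    (M : X.Modules) (n : ℕ) :
    (Coh.Rpush f n).map (Formal.smulModΓ M (f.appTop a)) =
      Formal.smulModΓ ((Coh.Rpush f n).obj M) a := by
  let I := injectiveResolution M
  let φ : I.cocomplex ⟶ I.cocomplex :=
    { f := fun i => (smulNat X (f.appTop a)).app (I.cocomplex.X i)
      comm' := fun i j _ => ((smulNat X (f.appTop a)).naturality (I.cocomplex.d i j)).symm }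
  have h := InjectiveResolution.isoRightDerivedObj_hom_naturality (Formal.smulModΓ M (f.appTop a))
    I I φ ((smulNat X (f.appTop a)).naturality (I.ι.f 0)) (Coh.push f) n
  have h' : HomologicalComplex.homologyMap (((Coh.push f).mapHomologicalComplex _).map φ) n =
      (smulNat S a).app ((((Coh.push f).mapHomologicalComplex _).obj I.cocomplex).homology n) :=
    homologyMap_central (smulNat S a) (((Coh.push f).mapHomologicalComplex _).map φ)
      (fun i => push_map_smulModΓ f a _) n
  rw [← cancel_mono ((I.isoRightDerivedObj (Coh.push f) n).hom), h]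
  refine (congrArg (fun z => _ ≫ z) h').trans ?_
  exact (smulNat S a).naturality _

/-- The comparison of `R^n f_*` with the sheafified cohomology presheaf. -/
noncomputable def rpushPshIso (f : X ⟶ S) [HasInjectiveResolutions X.Modules] (n : ℕ) :
    Coh.Rpush f n ⋙ toAbFunctor S ≅
      toAbFunctor X ⋙ (Sheaf.cohomologyPresheafFunctor (Opens.grothendieckTopology X) n ⋙
      ((Functor.whiskeringLeft _ _ AddCommGrpCat.{u}).obj (Opens.map f.base).op ⋙
        presheafToSheaf (Opens.grothendieckTopology S) AddCommGrpCat.{u})) :=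
  toAbRpushNatIso f n ≪≫
    Functor.isoWhiskerLeft _ (SiteCoh.rpushTopIso (X := X.toTopCat) (Y := S.toTopCat) f.base n)

/-- A map from a presheaf to the sections of a module, through the sheafification. -/
noncomputable def fromPsh {P : S.Opensᵒᵖ ⥤ AddCommGrpCat.{u}} {N : S.Modules}
    (η : (presheafToSheaf (Opens.grothendieckTopology S) AddCommGrpCat.{u}).obj P ⟶ Coh.toAb N)
    (V : S.Opens) : P.obj (op V) →+ Γ(N, V) :=
  ((toSheafify (Opens.grothendieckTopology S) P).app (op V) ≫ η.hom.app (op V)).hom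

theorem fromPsh_res {P : S.Opensᵒᵖ ⥤ AddCommGrpCat.{u}} {N : S.Modules}
    (η : (presheafToSheaf (Opens.grothendieckTopology S) AddCommGrpCat.{u}).obj P ⟶ Coh.toAb N)
    {V' V : S.Opens} (h : V' ≤ V) (x : P.obj (op V)) :
    resM N h (fromPsh η V x) = fromPsh η V' (P.map (homOfLE h).op x) :=
  (ConcreteCategory.congr_hom
    ((toSheafify (Opens.grothendieckTopology S) P ≫ η.hom).naturality (homOfLE h).op) x).symm

theorem fromPsh_natural {P : S.Opensᵒᵖ ⥤ AddCommGrpCat.{u}} {N : S.Modules}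
    (η : (presheafToSheaf (Opens.grothendieckTopology S) AddCommGrpCat.{u}).obj P ⟶ Coh.toAb N)
    (θ : P ⟶ P) (g : Coh.toAb N ⟶ Coh.toAb N)
    (h : (presheafToSheaf (Opens.grothendieckTopology S) AddCommGrpCat.{u}).map θ ≫ η = η ≫ g)
    (V : S.Opens) (x : P.obj (op V)) :
    g.hom.app (op V) (fromPsh η V x) = fromPsh η V (θ.app (op V) x) := by
  refine (ConcreteCategory.congr_hom (congr_app (congrArg (fun z => z.hom) h.symm) (op V))
    ((toSheafify (Opens.grothendieckTopology S) P).app (op V) x)).trans ?_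
  exact congrArg (η.hom.app (op V)) (ConcreteCategory.congr_hom
    (congr_app (toSheafify_naturality (Opens.grothendieckTopology S) θ).symm (op V)) x)

theorem fromPsh_bijective {P : S.Opensᵒᵖ ⥤ AddCommGrpCat.{u}} {N : S.Modules}
    (η : (presheafToSheaf (Opens.grothendieckTopology S) AddCommGrpCat.{u}).obj P ⟶ Coh.toAb N)
    [IsIso η] (V : S.Opens)
    (h : Function.Bijective ((toSheafify (Opens.grothendieckTopology S) P).app (op V))) :
    Function.Bijective (fromPsh η V) :=
  have : IsIso (η.hom.app (op V)) :=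
    inferInstanceAs (IsIso (((sheafToPresheaf _ _).map η).app (op V)))
  (ConcreteCategory.bijective_of_isIso (η.hom.app (op V))).comp h

theorem fromPsh_injective {P : S.Opensᵒᵖ ⥤ AddCommGrpCat.{u}} {N : S.Modules}
    (η : (presheafToSheaf (Opens.grothendieckTopology S) AddCommGrpCat.{u}).obj P ⟶ Coh.toAb N)
    [IsIso η] (V : S.Opens)
    (h : Function.Injective ((toSheafify (Opens.grothendieckTopology S) P).app (op V))) :
    Function.Injective (fromPsh η V) :=
  have : IsIso (η.hom.app (op V)) :=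
    inferInstanceAs (IsIso (((sheafToPresheaf _ _).map η).app (op V)))
  (ConcreteCategory.bijective_of_isIso (η.hom.app (op V))).1.comp h

/-- The map `H^n(f⁻¹ V, M) → (R^n f_* M)(V)`. -/
noncomputable def toRpush (f : X ⟶ S) [HasInjectiveResolutions X.Modules] (M : X.Modules) (n : ℕ)
    (V : S.Opens) :
    Abelian.Ext (freeSh (X := X.toTopCat) (f ⁻¹ᵁ V)) (Coh.toAb M) n →+
      Γ((Coh.Rpush f n).obj M, V) :=
  fromPsh (P := cohPsh f M n) (N := (Coh.Rpush f n).obj M) ((rpushPshIso f n).inv.app M) V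

theorem toRpush_res (f : X ⟶ S) [HasInjectiveResolutions X.Modules] (M : X.Modules) (n : ℕ)
    {V' V : S.Opens} (h : V' ≤ V)
    (x : Abelian.Ext (freeSh (X := X.toTopCat) (f ⁻¹ᵁ V)) (Coh.toAb M) n) :
    resM _ h (toRpush f M n V x) =
      toRpush f M n V' (resH (X := X.toTopCat) (Coh.toAb M) n (Scheme.Hom.preimage_mono f h) x) :=
  fromPsh_res (P := cohPsh f M n) _ h x

theorem toRpush_smul (f : X ⟶ S) [HasInjectiveResolutions X.Modules] (M : X.Modules) (n : ℕ)
    (a : Γ(S, ⊤)) (V : S.Opens)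
    (x : Abelian.Ext (freeSh (X := X.toTopCat) (f ⁻¹ᵁ V)) (Coh.toAb M) n) :
    S.presheaf.map (homOfLE (le_top (a := V))).op a • toRpush f M n V x =
      toRpush f M n V (postH (X := X.toTopCat) (smulEndAb M (f.appTop a)) n (f ⁻¹ᵁ V) x) := by
  refine fromPsh_natural (P := cohPsh f M n) _ (cohAct f M n a)
    ((toAbFunctor S).map (Formal.smulModΓ ((Coh.Rpush f n).obj M) a)) ?_ V x
  rw [← rpush_map_smulModΓ f a M n]
  exact (rpushPshIso f n).inv.naturality (Formal.smulModΓ M (f.appTop a))

theorem toRpush_bijective [IsAffine S] [CompactSpace X] [QuasiSeparatedSpace X] (f : X ⟶ S)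
    [HasInjectiveResolutions X.Modules] (M : X.Modules) [Coh.IsQCoh M] (n : ℕ) :
    Function.Bijective (toRpush f M n ⊤) :=
  fromPsh_bijective (P := cohPsh f M n) _ ⊤ (localizing_cohPsh f M n).bijective_toSheafify

theorem toRpush_injective [IsAffine S] [CompactSpace X] [QuasiSeparatedSpace X] (f : X ⟶ S)
    [HasInjectiveResolutions X.Modules] (M : X.Modules) [Coh.IsQCoh M] (n : ℕ) (g : Γ(S, ⊤)) :
    Function.Injective (toRpush f M n (S.basicOpen g)) :=
  fromPsh_injective (P := cohPsh f M n) _ _ ((localizing_cohPsh f M n).injective_toSheafify g rfl)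

theorem toRpush_surjective [IsAffine S] [CompactSpace X] [QuasiSeparatedSpace X] (f : X ⟶ S)
    [HasInjectiveResolutions X.Modules] (M : X.Modules) [Coh.IsQCoh M] (n : ℕ) (g : Γ(S, ⊤)) :
    Function.Surjective (toRpush f M n (S.basicOpen g)) := by
  intro s
  let η := (rpushPshIso f n).inv.app M
  have : IsIso (η.hom.app (op (S.basicOpen g))) :=
    inferInstanceAs (IsIso (((sheafToPresheaf _ _).map η).app (op (S.basicOpen g))))
  obtain ⟨z, rfl⟩ := (ConcreteCategory.bijective_of_isIso (η.hom.app (op (S.basicOpen g)))).2 s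
  obtain ⟨x, rfl⟩ := (localizing_cohPsh f M n).surjective_toSheafify g rfl z
  exact ⟨x, rfl⟩

theorem localizesOn_rpush_top [IsAffine S] [CompactSpace X] [QuasiSeparatedSpace X] (f : X ⟶ S)
    [HasInjectiveResolutions X.Modules] (M : X.Modules) [Coh.IsQCoh M] (n : ℕ) :
    LocalizesOn ((Coh.Rpush f n).obj M) ⊤ := by
  have top : ∀ a : Γ(S, ⊤), S.presheaf.map (homOfLE (le_top (a := (⊤ : S.Opens)))).op a = a :=
    fun a => ConcreteCategory.congr_hom (S.presheaf.map_id (op ⊤)) a
  have hloc := localizing_cohPsh f M n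
  refine ⟨fun g s => ?_, fun g t ht => ?_⟩
  · obtain ⟨x, rfl⟩ := toRpush_surjective f M n g s
    obtain ⟨k, y, hy⟩ := hloc.surj 1 g (S.basicOpen g) ⊤ (S.basicOpen_le g)
      (Scheme.basicOpen_of_isUnit (hf := isUnit_one)).symm (top_inf_eq _).symm x
    refine ⟨k, toRpush f M n ⊤ y, ?_⟩
    refine (toRpush_res f M n _ y).trans ?_
    refine Eq.trans ?_ (toRpush_smul f M n (g ^ k) _ x).symm
    exact congrArg _ hy
  · obtain ⟨x, rfl⟩ := (toRpush_bijective f M n).2 t
    rw [toRpush_res] at ht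
    obtain ⟨k, hk⟩ := hloc.eq_zero 1 g (S.basicOpen g) ⊤ (S.basicOpen_le g)
      (Scheme.basicOpen_of_isUnit (hf := isUnit_one)).symm (top_inf_eq _).symm x
      (toRpush_injective f M n g (ht.trans (map_zero _).symm))
    refine ⟨k, ?_⟩
    refine Eq.trans ?_ (((congrArg (toRpush f M n ⊤) hk)).trans (map_zero _))
    refine Eq.trans ?_ (toRpush_smul f M n (g ^ k) ⊤ x)
    rw [top]

theorem isQCoh_rpush_of_isAffine [IsAffine S] [CompactSpace X] [QuasiSeparatedSpace X] (f : X ⟶ S)
    [HasInjectiveResolutions X.Modules] (M : X.Modules) [Coh.IsQCoh M] (n : ℕ) :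
    Coh.IsQCoh ((Coh.Rpush f n).obj M) :=
  isQCoh_of_localizesOn _ (fun _ : PUnit.{u + 1} => ⊤) (fun _ => isAffineOpen_top S)
    (fun _ => ⟨⟨⟩, Opens.mem_top _⟩) (fun _ => localizesOn_rpush_top f M n)

theorem isIso_restrict_push_unit (f : X ⟶ S) (V : S.Opens) (M : X.Modules) :
    IsIso ((Scheme.Modules.restrictFunctor V.ι).map ((Coh.push f).map
      ((Scheme.Modules.restrictAdjunction (f ⁻¹ᵁ V).ι).unit.app M))) := by
  refine Scheme.Modules.Hom.isIso_iff_isIso_app.mpr fun W => ?_
  have hle : f ⁻¹ᵁ (V.ι ''ᵁ W) ≤ (f ⁻¹ᵁ V).ι.opensRange := by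
    rw [Scheme.Opens.opensRange_ι]
    exact Scheme.Hom.preimage_mono f (V.ι_image_le W)
  have : IsIso (((Scheme.Modules.restrictAdjunction (f ⁻¹ᵁ V).ι).unit.app M).app
      (f ⁻¹ᵁ (V.ι ''ᵁ W))) :=
    (ConcreteCategory.isIso_iff_bijective _).2 (bijective_unit_app (f ⁻¹ᵁ V).ι M hle)
  exact this

/-- Direct image commutes with restriction to opens of the base. -/
noncomputable def pushRestrictIso (f : X ⟶ S) (V : S.Opens) :
    Coh.push f ⋙ Scheme.Modules.restrictFunctor V.ι ≅
      Scheme.Modules.restrictFunctor (f ⁻¹ᵁ V).ι ⋙ Coh.push (f ∣_ V) :=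
  let η := Functor.whiskerRight (Functor.whiskerRight
    (Scheme.Modules.restrictAdjunction (f ⁻¹ᵁ V).ι).unit (Coh.push f))
    (Scheme.Modules.restrictFunctor V.ι)
  have : ∀ M, IsIso (η.app M) := fun M => isIso_restrict_push_unit f V M
  have : IsIso η := NatIso.isIso_of_isIso_app η
  (Functor.isoWhiskerRight (Functor.leftUnitor (Coh.push f)).symm _) ≪≫ asIso η ≪≫
    Functor.isoWhiskerRight (Functor.associator _ _ _ ≪≫
      Functor.isoWhiskerLeft (Scheme.Modules.restrictFunctor (f ⁻¹ᵁ V).ι)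
        (Scheme.Modules.pushforwardComp (f ⁻¹ᵁ V).ι f ≪≫
          Scheme.Modules.pushforwardCongr (morphismRestrict_ι f V).symm ≪≫
          (Scheme.Modules.pushforwardComp (f ∣_ V) V.ι).symm))
      (Scheme.Modules.restrictFunctor V.ι) ≪≫
    Functor.associator _ _ _ ≪≫
    Functor.isoWhiskerLeft _ (Functor.associator _ _ _ ≪≫
      Functor.isoWhiskerLeft _ (Scheme.Modules.restrictFunctorAdjCounitIso V.ι) ≪≫
      Functor.rightUnitor _)

theorem hasInjectiveResolutions_modules (X : Scheme.{u}) : HasInjectiveResolutions X.Modules :=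
  have : IsGrothendieckAbelian.{u} X.Modules := DCat.schemeModules_isGrothendieckAbelian X
  inferInstance

instance additive_restrictFunctor {Y Z : Scheme.{u}} (j : Y ⟶ Z) [IsOpenImmersion j] :
    (Scheme.Modules.restrictFunctor j).Additive where
  map_add := Scheme.Modules.hom_ext _ _ fun _ => rfl

/-- Higher direct images commute with restriction to opens of the base. -/
noncomputable def rpushRestrictIso (f : X ⟶ S) (V : S.Opens) [HasInjectiveResolutions X.Modules]
    [HasInjectiveResolutions (f ⁻¹ᵁ V : Scheme.{u}).Modules] (M : X.Modules) (n : ℕ) :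
    ((Coh.Rpush f n).obj M).restrict V.ι ≅
      (Coh.Rpush (f ∣_ V) n).obj (M.restrict (f ⁻¹ᵁ V).ι) :=
  (SiteCoh.rightDerivedCompExactIso (Coh.push f) (Scheme.Modules.restrictFunctor V.ι) n).symm.app M ≪≫
    (SiteCoh.rightDerivedCongr (pushRestrictIso f V) n).app M ≪≫
    (SiteCoh.rightDerivedExactCompIso (Scheme.Modules.restrictFunctor (f ⁻¹ᵁ V).ι)
      (Coh.push (f ∣_ V)) n).app M

/-- Higher direct images of quasi-coherent modules along qcqs morphisms are quasi-coherent. -/
theorem isQCoh_rpush (f : X ⟶ S) [QuasiCompact f] [QuasiSeparated f]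
    [HasInjectiveResolutions X.Modules] (M : X.Modules) [hM : Coh.IsQCoh M] (n : ℕ) :
    Coh.IsQCoh ((Coh.Rpush f n).obj M) := by
  refine isQCoh_of_openImmersion_cover _ (fun V : S.affineOpens => V.1.ι) (fun x => ?_) fun V => ?_
  · obtain ⟨W, hW, hxW, -⟩ :=
      Opens.isBasis_iff_nbhd.mp S.isBasis_affineOpens (Opens.mem_top x)
    exact ⟨⟨W, hW⟩, by rw [Scheme.Opens.opensRange_ι]; exact hxW⟩
  · have : IsAffine (V.1 : Scheme.{u}) := V.2
    have : CompactSpace (f ⁻¹ᵁ V.1 : Scheme.{u}) :=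
      isCompact_iff_compactSpace.mp (f.isCompact_preimage V.2.isCompact)
    have : QuasiSeparatedSpace (f ⁻¹ᵁ V.1 : Scheme.{u}) :=
      quasiSeparatedSpace_of_quasiSeparated (f ∣_ V.1)
    have := hasInjectiveResolutions_modules (f ⁻¹ᵁ V.1 : Scheme.{u})
    have : Coh.IsQCoh (M.restrict (f ⁻¹ᵁ V.1).ι) := inferInstance
    exact @isQCoh_of_iso _ _ _ (rpushRestrictIso f V.1 M n).symm
      (isQCoh_rpush_of_isAffine (f ∣_ V.1) (M.restrict (f ⁻¹ᵁ V.1).ι) n)

end Groth.Agent.Coherent
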