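import Groth.Agent.Coherent.ProperFinite
import Groth.Agent.Coherent.HigherQcoh

/-!
# Coherence of higher direct images along proper morphisms
-/

set_option autoImplicit false

universe u

open CategoryTheory CategoryTheory.Limits AlgebraicGeometry Opposite TopologicalSpace

namespace Groth.Agent.Coherent

variable {X S : Scheme.{u}} (f : X ⟶ S)

theorem finCoh_of_isProper_affine [IsAffine S] [IsLocallyNoetherian S] [IsProper f] :
    FinCoh f.appTop.hom := by
  have := isNoetherianRing_top S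
  have h := finCoh_of_isProper (f ≫ S.isoSpec.hom)
  unfold Coh.toGlobal at h
  rw [Scheme.Hom.comp_appTop, CommRingCat.hom_comp, RingHom.comp_assoc] at h
  exact finCoh_of_comp _ _ h

theorem finite_rpush_top [IsAffine S] [IsLocallyNoetherian S] [IsProper f]
    [HasInjectiveResolutions X.Modules] {M : X.Modules} (hM : Coh.IsCoh M) (n : ℕ) :
    Module.Finite Γ(S, ⊤) Γ((Coh.Rpush f n).obj M, ⊤) := by
  have := hM.1
  have : CompactSpace X := QuasiCompact.compactSpace_of_compactSpace f
  have : QuasiSeparatedSpace X := quasiSeparatedSpace_of_quasiSeparated f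
  have := finCoh_of_isProper_affine f M hM n
  refine finite_of_semilinear (A := Γ(S, ⊤)) (M := HA f.appTop.hom M (⊤ : X.Opens) n)
    (toRpush f M n ⊤) (toRpush_bijective f M n).2 fun a x => ⟨a, ?_⟩
  refine Eq.trans ?_ ((congrArg (fun z : Γ(S, ⊤) => z • toRpush f M n ⊤ x)
    (ConcreteCategory.congr_hom (S.presheaf.map_id (op ⊤)) a)))
  exact (toRpush_smul f M n a ⊤ x).symm

theorem isCoh_rpush [IsLocallyNoetherian S] [IsProper f] [HasInjectiveResolutions X.Modules]
    {M : X.Modules} (hM : Coh.IsCoh M) (n : ℕ) : Coh.IsCoh ((Coh.Rpush f n).obj M) := by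
  have := hM.1
  refine (isCoh_iff_finite_sections _).2 ⟨isQCoh_rpush f M n, fun V hV => ?_⟩
  have : IsAffine V.toScheme := hV
  have : IsProper (f ∣_ V) :=
    MorphismProperty.of_isPullback (P := @IsProper) (isPullback_morphismRestrict f V).flip ‹_›
  have := hasInjectiveResolutions_modules (f ⁻¹ᵁ V : Scheme.{u})
  let N := (Coh.Rpush (f ∣_ V) n).obj (M.restrict (f ⁻¹ᵁ V).ι)
  let R := (Coh.Rpush f n).obj M
  have hN : Module.Finite Γ(V.toScheme, ⊤) Γ(N, ⊤) :=
    finite_rpush_top (f ∣_ V) (isCoh_restrict _ hM) n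
  let e : R.restrict V.ι ≅ N := rpushRestrictIso f V M n
  have hR : Module.Finite Γ(V.toScheme, ⊤) Γ(R.restrict V.ι, ⊤) :=
    Module.Finite.of_surjective (appLin e.inv ⊤) fun x =>
      ⟨e.hom.app ⊤ x, congrArg (fun ψ : R.restrict V.ι ⟶ R.restrict V.ι => ψ.app ⊤ x)
        e.hom_inv_id⟩
  refine finite_of_semilinear (A := Γ(V.toScheme, ⊤)) (M := Γ(R.restrict V.ι, ⊤))
    (restrictSec R V) (restrictSec_bijective R V).2 fun a x => ⟨V.topIso.hom a, ?_⟩
  have h := restrictSec_smul R V (V.topIso.hom a) x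
  rwa [Iso.hom_inv_id_apply] at h

end Groth.Agent.Coherent
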