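import Groth.Agent.Coherent.FlatBaseChangeMain
import Groth.Agent.Coherent.RpushCoh
import Groth.Agent.Coherent.SecBridge
import Groth.Agent.EGA43.QcohFP
import Groth.Prelude.Def_FlatMod2
import Groth.Prelude.Def_Canon
import Mathlib.RingTheory.Localization.BaseChange

/-!
# Stalks of higher direct images as cohomology over the local ring of the base

`(R^p f_* M)_y ≃ H^p(X ×_S Spec O_y, g^* M)` for `f` qcqs and `M` quasi-coherent.
-/

set_option autoImplicit false
set_option backward.isDefEq.respectTransparency false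

universe u

open CategoryTheory CategoryTheory.Limits AlgebraicGeometry Opposite TopologicalSpace
  TensorProduct

namespace Groth.Agent.Coherent

variable {X S : Scheme.{u}} (f : X ⟶ S)

/-- Isomorphic modules have isomorphic cohomology, linearly over the base. -/
noncomputable def HHCongr (A : Type u) [CommRing A] {Z : Scheme.{u}}
    [Z.Over (Spec (CommRingCat.of A))] {F G : Z.Modules} (e : F ≅ G) (p : ℕ) :
    Coh.HH Z F p ≃ₗ[A] Coh.HH Z G p :=
  LinearEquiv.ofLinearMap (Canon.HHlin A e.hom p) (Canon.HHlin A e.inv p)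
    (LinearMap.ext fun x => by
      show Sheaf.H.map _ p (Sheaf.H.map _ p x) = x
      rw [← Sheaf.H.map_comp_apply, ← Functor.map_comp, e.inv_hom_id, CategoryTheory.Functor.map_id]
      exact Sheaf.H.map_id_apply _)
    (LinearMap.ext fun x => by
      show Sheaf.H.map _ p (Sheaf.H.map _ p x) = x
      rw [← Sheaf.H.map_comp_apply, ← Functor.map_comp, e.hom_inv_id, CategoryTheory.Functor.map_id]
      exact Sheaf.H.map_id_apply _)

variable {V : S.Opens} (hV : IsAffineOpen V)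

/-- `f⁻¹ V` over `Spec Γ(S, V)`. -/
noncomputable abbrev toSpecSections : (f ⁻¹ᵁ V).toScheme ⟶ Spec Γ(S, V) :=
  (f ∣_ V) ≫ hV.isoSpec.hom

theorem isPullback_toSpecSections :
    IsPullback (f ⁻¹ᵁ V).ι (toSpecSections f hV) f hV.fromSpec :=
  (isPullback_morphismRestrict f V).flip.of_iso (Iso.refl _) (Iso.refl _) hV.isoSpec (Iso.refl _)
    (by simp) (by simp) (by simp) (by simp [IsAffineOpen.isoSpec_hom_fromSpec])

/-- `H^p(f⁻¹ V, M)` computes `Γ(V, R^p f_* M)`. -/
theorem exists_rpush_sections_equiv [QuasiCompact f] [QuasiSeparated f]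
    [HasInjectiveResolutions X.Modules] (M : X.Modules) [Coh.IsQCoh M] (p : ℕ) :
    letI : (f ⁻¹ᵁ V).toScheme.Over (Spec (CommRingCat.of Γ(S, V))) := ⟨toSpecSections f hV⟩
    Nonempty (Coh.HH (f ⁻¹ᵁ V).toScheme (M.restrict (f ⁻¹ᵁ V).ι) p ≃ₗ[Γ(S, V)]
      Γ((Coh.Rpush f p).obj M, V)) := by
  letI : (f ⁻¹ᵁ V).toScheme.Over (Spec (CommRingCat.of Γ(S, V))) := ⟨toSpecSections f hV⟩
  have : IsAffine V.toScheme := hV
  have : CompactSpace (f ⁻¹ᵁ V).toScheme :=
    isCompact_iff_compactSpace.mp (f.isCompact_preimage hV.isCompact)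
  have : QuasiSeparatedSpace (f ⁻¹ᵁ V).toScheme :=
    quasiSeparatedSpace_of_quasiSeparated (f ∣_ V)
  have := hasInjectiveResolutions_modules (f ⁻¹ᵁ V : Scheme.{u})
  have : Coh.IsQCoh (M.restrict (f ⁻¹ᵁ V).ι) := inferInstance
  let M' := M.restrict (f ⁻¹ᵁ V).ι
  let R := (Coh.Rpush f p).obj M
  let N := (Coh.Rpush (f ∣_ V) p).obj M'
  let e : R.restrict V.ι ≅ N := rpushRestrictIso f V M p
  let φ := Coh.toGlobal (toSpecSections f hV)
  let ψ : Coh.HH (f ⁻¹ᵁ V).toScheme M' p → Γ(R, V) := fun x =>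
    restrictSec R V (e.inv.app ⊤ (toRpush (f ∣_ V) M' p ⊤ (HHLinEquiv M' p x)))
  have hb : Function.Bijective ψ := by
    have hiso : Function.Bijective (e.inv.app ⊤) := by
      have : IsIso (e.inv.app ⊤) := Scheme.Modules.Hom.isIso_iff_isIso_app.mp inferInstance ⊤
      exact ConcreteCategory.bijective_of_isIso _
    exact (restrictSec_bijective R V).comp (hiso.comp
      ((toRpush_bijective (f ∣_ V) M' p).comp (HHLinEquiv M' p).bijective))
  have hadd : ∀ x y, ψ (x + y) = ψ x + ψ y := fun x y => by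
    simp only [ψ, map_add]
  have hsmul : ∀ (r : Γ(S, V)) x, ψ (r • x) = r • ψ x := fun r x => by
    have ha : φ r = (f ∣_ V).appTop (V.topIso.inv r) := by
      show (toSpecSections f hV).appTop ((Scheme.ΓSpecIso Γ(S, V)).inv r) = _
      rw [Scheme.Hom.comp_appTop, ConcreteCategory.comp_apply, IsAffineOpen.isoSpec_hom_appTop,
        ConcreteCategory.comp_apply, Iso.inv_hom_id_apply]
    have h1 : HHLinEquiv M' p (r • x) = postH (X := (f ⁻¹ᵁ V).toScheme.toTopCat)
        (smulEndAb M' ((f ∣_ V).appTop (V.topIso.inv r))) p ⊤ (HHLinEquiv M' p x) := by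
      refine Eq.trans ?_ (congrArg (fun t => postH (X := (f ⁻¹ᵁ V).toScheme.toTopCat)
        (smulEndAb M' t) p ⊤ (HHLinEquiv M' p x)) ha)
      exact (HHLinEquiv M' p).toLinearMap.map_smul (φ r) x
    refine (congrArg (fun z => restrictSec R V (e.inv.app ⊤ (toRpush (f ∣_ V) M' p ⊤ z))) h1).trans ?_
    refine Eq.trans ?_ (restrictSec_smul R V r _)
    refine congrArg (restrictSec R V) ?_
    refine Eq.trans ?_ (e.inv.app_smul (V.topIso.inv r) _)
    refine congrArg (e.inv.app ⊤) ?_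
    refine (toRpush_smul (f ∣_ V) M' p (V.topIso.inv r) ⊤ _).symm.trans ?_
    exact congrArg (fun z : Γ(V.toScheme, ⊤) => z • toRpush (f ∣_ V) M' p ⊤ (HHLinEquiv M' p x))
      (ConcreteCategory.congr_hom (V.toScheme.presheaf.map_id (op ⊤)) (V.topIso.inv r))
  exact ⟨LinearEquiv.ofBijective { toFun := ψ, map_add' := hadd, map_smul' := hsmul } hb⟩

/-- Stalks of higher direct images are cohomology over the local ring. -/
theorem nonempty_stalk_rpush_equiv [QuasiCompact f] [QuasiSeparated f]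
    [HasInjectiveResolutions X.Modules] (M : X.Modules) [Coh.IsQCoh M] (p : ℕ) (y : S)
    (X₁ : Scheme.{u}) [X₁.Over (Spec (CommRingCat.of (S.presheaf.stalk y)))] (g : X₁ ⟶ X)
    (hsq : IsPullback g (X₁ ↘ Spec (CommRingCat.of (S.presheaf.stalk y))) f (S.fromSpecStalk y)) :
    Nonempty (((Coh.Rpush f p).obj M).presheaf.stalk y ≃ₗ[S.presheaf.stalk y]
      Coh.HH X₁ ((Scheme.Modules.pullback g).obj M) p) := by
  obtain ⟨V, hV', hyV, -⟩ := Opens.isBasis_iff_nbhd.mp S.isBasis_affineOpens (Opens.mem_top y)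
  let V : S.Opens := V
  have hV : IsAffineOpen V := hV'
  letI : (f ⁻¹ᵁ V).toScheme.Over (Spec (CommRingCat.of Γ(S, V))) := ⟨toSpecSections f hV⟩
  let R := (Coh.Rpush f p).obj M
  have : Coh.IsQCoh R := isQCoh_rpush f M p
  have : CompactSpace (f ⁻¹ᵁ V).toScheme :=
    isCompact_iff_compactSpace.mp (f.isCompact_preimage hV.isCompact)
  have : QuasiSeparatedSpace (f ⁻¹ᵁ V).toScheme :=
    have : IsAffine V.toScheme := hV
    quasiSeparatedSpace_of_quasiSeparated (f ∣_ V)
  let _ : Algebra Γ(S, V) (S.presheaf.stalk y) := (S.presheaf.germ V y hyV).hom.toAlgebra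
  have hloc : IsLocalization.AtPrime (S.presheaf.stalk y) (hV.primeIdealOf ⟨y, hyV⟩).asIdeal :=
    hV.isLocalization_stalk ⟨y, hyV⟩
  have : Module.Flat Γ(S, V) (S.presheaf.stalk y) :=
    IsLocalization.flat _ (hV.primeIdealOf ⟨y, hyV⟩).asIdeal.primeCompl
  -- the cartesian square over `Spec Γ(S, V)`
  let sG : Spec (CommRingCat.of (S.presheaf.stalk y)) ⟶ Spec (CommRingCat.of Γ(S, V)) :=
    Spec.map (CommRingCat.ofHom (algebraMap Γ(S, V) (S.presheaf.stalk y)))
  have hfac : sG ≫ hV.fromSpec = S.fromSpecStalk y := by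
    rw [← hV.fromSpecStalk_eq_fromSpecStalk hyV]
    rfl
  have hP := isPullback_toSpecSections f hV
  let g₁ : X₁ ⟶ (f ⁻¹ᵁ V).toScheme :=
    hP.lift g ((X₁ ↘ Spec (CommRingCat.of (S.presheaf.stalk y))) ≫ sG)
      (by rw [Category.assoc, hfac]; exact hsq.w)
  have hsq₁ : IsPullback g₁ (X₁ ↘ Spec (CommRingCat.of (S.presheaf.stalk y)))
      ((f ⁻¹ᵁ V).toScheme ↘ Spec (CommRingCat.of Γ(S, V))) sG := by
    refine IsPullback.of_right ?_ (hP.lift_snd _ _ _) hP
    rw [hP.lift_fst, hfac]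
    exact hsq
  have : Coh.IsQCoh (M.restrict (f ⁻¹ᵁ V).ι) := inferInstance
  obtain ⟨eBC⟩ := nonempty_flat_base_change (A := Γ(S, V)) (B := S.presheaf.stalk y)
    g₁ (M.restrict (f ⁻¹ᵁ V).ι) hsq₁ p
  let i : bcSheaf g₁ (M.restrict (f ⁻¹ᵁ V).ι) ≅ (Scheme.Modules.pullback g).obj M :=
    (Scheme.Modules.pullback g₁).mapIso
      ((Scheme.Modules.restrictFunctorIsoPullback (f ⁻¹ᵁ V).ι).app M) ≪≫
    (Scheme.Modules.pullbackComp g₁ (f ⁻¹ᵁ V).ι).app M ≪≫
    (Scheme.Modules.pullbackCongr (hP.lift_fst _ _ _)).app M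
  -- the germ is a localisation
  obtain ⟨ψ⟩ := exists_rpush_sections_equiv f hV M p
  let _ : Module Γ(S, V) (R.presheaf.stalk y) :=
    Module.compHom (R.presheaf.stalk y) (S.presheaf.germ V y hyV).hom
  have : IsScalarTower Γ(S, V) (S.presheaf.stalk y) (R.presheaf.stalk y) :=
    IsScalarTower.of_algebraMap_smul fun _ _ => rfl
  let gm : Γ(R, V) →ₗ[Γ(S, V)] R.presheaf.stalk y :=
    { toFun := R.presheaf.germ V y hyV
      map_add' := map_add _
      map_smul' := fun r m => QCohLoc.germ_smul' (M := R) hyV r m }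
  have := EGA43.QcohFP.isLocalizedModule_germ R hV hyV gm fun _ => rfl
  have hbc : IsBaseChange (S.presheaf.stalk y) gm :=
    IsLocalizedModule.isBaseChange (hV.primeIdealOf ⟨y, hyV⟩).asIdeal.primeCompl
      (S.presheaf.stalk y) gm
  exact ⟨hbc.equiv.symm.trans ((LinearEquiv.baseChange Γ(S, V) (S.presheaf.stalk y) _ _ ψ.symm).trans
    (eBC.trans (HHCongr (S.presheaf.stalk y) i p)))⟩

end Groth.Agent.Coherent
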