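import Groth.Agent.Coherent.FinitePres

/-!
# Coherent modules: kernels and cokernels
-/

set_option autoImplicit false

universe u

open CategoryTheory CategoryTheory.Limits AlgebraicGeometry Opposite TopologicalSpace

namespace Groth.Agent.Coherent

variable {X : Scheme.{u}}

/-- A quotient of a module of finite type is of finite type. -/
theorem isFT_of_epi {M N : X.Modules} (φ : M ⟶ N) [Epi φ] (hM : CohB1.IsFT M) :
    CohB1.IsFT N := by
  refine isFT_of_locallyFinGen fun x => ?_
  obtain ⟨U, I, _, s, hxU, hs⟩ := locallyFinGen_of_isFT M hM x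
  refine ⟨U, I, inferInstance, fun i => φ.app U (s i), hxU, fun W hW a y hy => ?_⟩
  obtain ⟨W', h', hyW', b, hb⟩ := exists_lift_of_epi φ W a y hy
  obtain ⟨W'', h'', hyW'', c, hc⟩ := hs W' (h'.trans hW) b y hyW'
  refine ⟨W'', h''.trans h', hyW'', c, ?_⟩
  rw [← resM_resM N h' h'', ← hb, ← app_resM φ h'', hc, map_sum]
  exact Finset.sum_congr rfl fun i _ => by rw [Scheme.Modules.Hom.app_smul, app_resM]

/-- The cokernel of a map of coherent modules is coherent. -/
theorem isCoh_cokernel {M N : X.Modules} (φ : M ⟶ N) (hM : Coh.IsQCoh M) (hN : Coh.IsCoh N) :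
    Coh.IsCoh (cokernel φ) := by
  have : Coh.IsQCoh N := hN.1
  have : Coh.IsQCoh M := hM
  exact ⟨isQCoh_cokernel φ, isFT_of_epi (cokernel.π φ) hN.2⟩

/-- The kernel of a map of coherent modules on a locally Noetherian scheme is coherent. -/
theorem isCoh_kernel [IsLocallyNoetherian X] {M N : X.Modules} (φ : M ⟶ N) (hM : Coh.IsCoh M)
    (hN : Coh.IsQCoh N) : Coh.IsCoh (kernel φ) := by
  have : Coh.IsQCoh N := hN
  have : Coh.IsQCoh M := hM.1
  exact isCoh_of_mono (kernel.ι φ) hM (isQCoh_kernel φ)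

end Groth.Agent.Coherent
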