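import Groth.Agent.AssSch12.Primary
import Groth.Agent.Coherent.CohOps
import Groth.Prelude.Def_ClSub2
import Mathlib.AlgebraicGeometry.IdealSheaf.Basic
import Mathlib.RingTheory.Noetherian.Nilpotent

/-!
# Dévissage of coherent modules by skyscrapers at generic points
-/

set_option autoImplicit false

universe u

open CategoryTheory CategoryTheory.Limits AlgebraicGeometry Opposite TopologicalSpace
  Groth.Agent.ModStalk Groth.Agent.AssSch12

namespace Groth.Agent.Coherent

variable {X : Scheme.{u}}

local notation "St" => DerSch.stalkFunctor X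

theorem stalk_map_germ {M N : X.Modules} (φ : M ⟶ N) {W : X.Opens} {y : X} (hy : y ∈ W)
    (s : Γ(M, W)) :
    (St y).map φ (M.presheaf.germ W y hy s) = N.presheaf.germ W y hy (φ.app W s) :=
  TopCat.Presheaf.stalkFunctor_map_germ_apply W y hy φ.mapPresheaf s

theorem stalk_comp_apply {M N P : X.Modules} (f : M ⟶ N) (g : N ⟶ P) {y : X}
    (u : (St y).obj M) : (St y).map g ((St y).map f u) = (St y).map (f ≫ g) u :=
  (congrArg (fun h : (St y).obj M ⟶ (St y).obj P => h u) ((St y).map_comp f g)).symm

theorem stalk_id_apply (M : X.Modules) {y : X} (u : (St y).obj M) : (St y).map (𝟙 M) u = u :=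
  congrArg (fun h : (St y).obj M ⟶ (St y).obj M => h u) ((St y).map_id M)

theorem stalk_zero_apply {M N : X.Modules} {y : X} (u : (St y).obj M) :
    (St y).map (0 : M ⟶ N) u = 0 :=
  congrArg (fun h : (St y).obj M ⟶ (St y).obj N => h u) ((St y).map_zero M N)

theorem stalk_add_apply {M N : X.Modules} (f g : M ⟶ N) {y : X} (u : (St y).obj M) :
    (St y).map (f + g) u = (St y).map f u + (St y).map g u :=
  congrArg (fun h : (St y).obj M ⟶ (St y).obj N => h u) ((St y).map_add (f := f) (g := g))

theorem notMem_support_iff (M : X.Modules) (y : X) :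
    y ∉ CohB1.support M ↔ IsZero ((St y).obj M) := by
  rw [ModuleCat.isZero_iff_subsingleton]
  exact not_not

theorem support_subset_of_mono {M N : X.Modules} (f : M ⟶ N) [Mono f] :
    CohB1.support M ⊆ CohB1.support N := fun z hz hN =>
  hz (@Function.Injective.subsingleton _ _ _
    ((ModuleCat.mono_iff_injective ((St z).map f)).1 inferInstance) hN)

theorem support_subset_of_epi {M N : X.Modules} (f : M ⟶ N) [Epi f] :
    CohB1.support N ⊆ CohB1.support M := fun z hz hM =>
  hz (@Function.Surjective.subsingleton _ _ _ hM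
    ((ModuleCat.epi_iff_surjective ((St z).map f)).1 inferInstance))

theorem support_X₂_subset {S : ShortComplex X.Modules} (hS : S.ShortExact) :
    CohB1.support S.X₂ ⊆ CohB1.support S.X₁ ∪ CohB1.support S.X₃ := fun z hz => by
  by_contra h
  rw [Set.mem_union, not_or] at h
  exact (notMem_support_iff _ z).2
    ((hS.map_of_exact (St z)).exact.isZero_X₂
      (((notMem_support_iff _ z).1 h.1).eq_of_src _ _)
      (((notMem_support_iff _ z).1 h.2).eq_of_tgt _ _)) hz

theorem subsingleton_sections_of_disjoint (M : X.Modules) (W : X.Opens)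
    (h : Disjoint (W : Set X) (CohB1.support M)) : Subsingleton Γ(M, W) :=
  ⟨fun a b => TopCat.Presheaf.section_ext (⟨M.presheaf, M.isSheaf⟩ : TopCat.Sheaf Ab X) W a b
    fun z hz => (not_not.1 fun hne => Set.disjoint_left.1 h hz hne :
      Subsingleton (M.presheaf.stalk z)).elim _ _⟩

/-- An extension of coherent modules is coherent. -/
theorem isCoh_X₂ [IsLocallyNoetherian X] {S : ShortComplex X.Modules} (hS : S.ShortExact)
    (h₁ : Coh.IsCoh S.X₁) (h₃ : Coh.IsCoh S.X₃) : Coh.IsCoh S.X₂ := by
  have := h₁.1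
  have := h₃.1
  refine (isCoh_iff_finite_sections _).2 ⟨isQCoh_X₂ hS, fun U hU => ?_⟩
  have := ((isCoh_iff_finite_sections _).1 h₁).2 U hU
  have := ((isCoh_iff_finite_sections _).1 h₃).2 U hU
  exact Module.Finite.of_exact (f := appLin S.f U) (g := appLin S.g U)
    (fun b => ⟨fun hb => sections_exact hS b hb, by
      rintro ⟨a, rfl⟩; exact sections_zero U a⟩)
    (sections_surjective hS hU)

section Point

variable (y : X)

/-- A stalk map, into a skyscraper. -/
noncomputable def skyMap {M : X.Modules} {A : ModuleCat.{u} (X.presheaf.stalk y)}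
    (g : (St y).obj M ⟶ A) : M ⟶ (sky y).obj A :=
  ⟨liftSky (P := M.val) g⟩

theorem skyMap_app_sval {M : X.Modules} {A : ModuleCat.{u} (X.presheaf.stalk y)}
    (g : (St y).obj M ⟶ A) (W : X.Opens) (s : Γ(M, W)) (h : y ∈ W) :
    sval (A := A) (U := W) ((skyMap y g).app W s) h = g (M.presheaf.germ W y h s) := rfl

theorem stalk_skyMap_eq_iff {M N : X.Modules} {A : ModuleCat.{u} (X.presheaf.stalk y)}
    (g : (St y).obj M ⟶ A) (g' : (St y).obj N ⟶ A) (u : (St y).obj M) (v : (St y).obj N) :
    (St y).map (skyMap y g) u = (St y).map (skyMap y g') v ↔ g u = g' v := by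
  obtain ⟨U, hU, s, rfl⟩ := M.presheaf.exists_germ_eq (show M.presheaf.stalk y from u)
  obtain ⟨V, hV, t, rfl⟩ := N.presheaf.exists_germ_eq (show N.presheaf.stalk y from v)
  erw [stalk_map_germ, stalk_map_germ]
  constructor
  · intro h
    obtain ⟨W, hW, iU, iV, e⟩ :=
      TopCat.Presheaf.germ_eq ((sky y).obj A).presheaf y hU hV _ _ h
    exact congrArg (fun z => sval (A := A) (U := W) z hW) e
  · intro h
    let W := U ⊓ V
    have hW : y ∈ W := ⟨hU, hV⟩
    rw [← TopCat.Presheaf.germ_res_apply _ (homOfLE (inf_le_left : W ≤ U)) y hW,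
      ← TopCat.Presheaf.germ_res_apply ((sky y).obj A).presheaf (homOfLE (inf_le_right : W ≤ V)) y hW]
    exact congrArg _ (sval_ext (A := A) (U := W) fun _ => h)

/-- The maximal ideal is nilpotent on the stalk. -/
def Killed (k : ℕ) (M : X.Modules) : Prop :=
  ∀ r ∈ IsLocalRing.maximalIdeal (X.presheaf.stalk y) ^ k, ∀ a : (St y).obj M, r • a = 0

theorem isQCoh_sky_of_killed {A : ModuleCat.{u} (X.presheaf.stalk y)} (k : ℕ)
    (hA : ∀ r ∈ IsLocalRing.maximalIdeal (X.presheaf.stalk y) ^ k, ∀ a : A, r • a = 0) :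
    Coh.IsQCoh ((sky y).obj A) :=
  isQCoh_sky A k fun r hr => hA _ (Ideal.pow_mem_pow hr k)

variable {y}

/-- Coherent modules supported near `y` in the closure of `y` have stalks of finite length. -/
theorem exists_killed [IsLocallyNoetherian X] {M : X.Modules} (hM : Coh.IsCoh M) (O : X.Opens)
    (hyO : y ∈ O) (hO : CohB1.support M ∩ O ⊆ closure {y}) : ∃ k, Killed y k M := by
  have := hM.1
  have := finite_stalk hM y
  let I : Ideal (X.presheaf.stalk y) := Module.annihilator (X.presheaf.stalk y) (M.presheaf.stalk y)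
  have hrad : IsLocalRing.maximalIdeal (X.presheaf.stalk y) ≤ I.radical := fun r hr => by
    obtain ⟨W, hyW, f₀, rfl⟩ := X.presheaf.exists_germ_eq r
    obtain ⟨_, ⟨U, hU, rfl⟩, hyU, hUW⟩ :=
      X.isBasis_affineOpens.exists_subset_of_mem_open (show y ∈ W ⊓ O from ⟨hyW, hyO⟩) (W ⊓ O).2
    have hle : U ≤ W := fun z hz => (hUW hz).1
    let f := X.presheaf.map (homOfLE hle).op f₀
    have hf : X.presheaf.germ U y hyU f = X.presheaf.germ W y hyW f₀ :=
      TopCat.Presheaf.germ_res_apply _ _ y hyU f₀
    rw [← hf] at hr ⊢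
    have hdisj : Disjoint (X.basicOpen f : Set X) (CohB1.support M) :=
      Set.disjoint_left.2 fun z hz hzs => by
        have hyz : y ⤳ z := specializes_iff_mem_closure.2
          (hO ⟨hzs, (hUW (X.basicOpen_le f hz)).2⟩)
        exact (IsLocalRing.mem_maximalIdeal _).1 hr
          ((Scheme.mem_basicOpen _ _ _ hyU).1 (hyz.mem_open (X.basicOpen f).2 hz))
    have hsub := subsingleton_sections_of_disjoint M _ hdisj
    obtain ⟨S, hS⟩ := (Module.Finite.fg_top :
      (⊤ : Submodule (X.presheaf.stalk y) (M.presheaf.stalk y)).FG)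
    choose g m hg hm using fun z : M.presheaf.stalk y => QCohLoc.exists_smul_stalk_eq_germ M hU hyU z
    choose n hn using fun z : M.presheaf.stalk y =>
      qcoh_exists_pow_smul_eq_zero hU M f (m z) (hsub.elim _ _)
    refine ⟨S.sup n, Module.mem_annihilator.2 fun w => ?_⟩
    have hw : w ∈ Submodule.span (X.presheaf.stalk y) (S : Set (M.presheaf.stalk y)) :=
      hS.ge trivial
    induction hw using Submodule.span_induction with
    | mem z hz =>
      obtain ⟨d, hd⟩ := Nat.exists_eq_add_of_le (Finset.le_sup (f := n) hz)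
      have h1 := congrArg (M.presheaf.germ U y hyU) (hn z)
      rw [QCohLoc.germ_smul', map_zero, map_pow, ← hm z, smul_smul, mul_comm, mul_smul,
        IsUnit.smul_eq_zero ((Scheme.mem_basicOpen _ _ _ hyU).1 (hg z))] at h1
      rw [hd, add_comm, pow_add, mul_smul, h1, smul_zero]
    | zero => rw [smul_zero]
    | add a b _ _ ha hb => rw [smul_add, ha, hb, add_zero]
    | smul c a _ ha => rw [smul_comm, ha, smul_zero]
  obtain ⟨k, hk⟩ := Ideal.exists_pow_le_of_le_radical_of_fg hrad (IsNoetherian.noetherian _)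
  exact ⟨k, fun r hr a => Module.mem_annihilator.1 (hk hr) a⟩

end Point

/-- A class of coherent modules, closed under isomorphisms and two out of three. -/
structure DevClass (K : X.Modules → Prop) : Prop where
  iso : ∀ {M N : X.Modules}, (M ≅ N) → K M → K N
  zero : ∀ M : X.Modules, IsZero M → K M
  ses : ∀ S : ShortComplex X.Modules, S.ShortExact → Coh.IsCoh S.X₁ → Coh.IsCoh S.X₂ → Coh.IsCoh S.X₃ →
      (K S.X₁ → K S.X₂ → K S.X₃) ∧ (K S.X₁ → K S.X₃ → K S.X₂) ∧ (K S.X₂ → K S.X₃ → K S.X₁)

/-- A class of coherent modules, closed under isomorphisms and extensions. -/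
structure ExtClass (K : X.Modules → Prop) : Prop where
  iso : ∀ {M N : X.Modules}, (M ≅ N) → K M → K N
  zero : ∀ M : X.Modules, IsZero M → K M
  ext : ∀ S : ShortComplex X.Modules, S.ShortExact → Coh.IsCoh S.X₁ → Coh.IsCoh S.X₂ → Coh.IsCoh S.X₃ →
      K S.X₁ → K S.X₃ → K S.X₂

theorem DevClass.toExt {K : X.Modules → Prop} (h : DevClass K) : ExtClass K :=
  ⟨h.iso, h.zero, fun S hS h₁ h₂ h₃ => (h.ses S hS h₁ h₂ h₃).2.1⟩

/-- Everything supported in `Z` away from `y` is in `K`. -/
def SmallerIn (K : X.Modules → Prop) (y : X) (Z : Set X) : Prop :=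
  ∀ M : X.Modules, Coh.IsCoh M → CohB1.support M ⊆ Z → y ∉ CohB1.support M → K M

variable [IsLocallyNoetherian X] {K : X.Modules → Prop} (hK : DevClass K) {y : X} {Z : Set X}
  (hsm : SmallerIn K y Z)

include hK hsm

theorem mem_iff_of_isIso_stalk {E F : X.Modules} (φ : E ⟶ F) (hE : Coh.IsCoh E) (hF : Coh.IsCoh F)
    (hEZ : CohB1.support E ⊆ Z) (hFZ : CohB1.support F ⊆ Z)
    (hφ : Function.Bijective ((St y).map φ)) : K E ↔ K F := by
  have := hE.1
  have := hF.1
  let ι := Abelian.image.ι φ
  let π := Abelian.factorThruImage φ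
  have hI : Coh.IsQCoh (Abelian.image φ) := isQCoh_image φ
  have hIm : Coh.IsCoh (Abelian.image φ) := isCoh_of_mono ι hF hI
  have hker : Coh.IsCoh (kernel φ) := isCoh_kernel φ hE hF.1
  have hcok : Coh.IsCoh (cokernel φ) := isCoh_cokernel φ hE.1 hF
  have hKk : K (kernel φ) := hsm _ hker ((support_subset_of_mono (kernel.ι φ)).trans hEZ) <|
    fun hy => hy (subsingleton_of_forall_eq 0 fun a => by
      have h : ((St y).map φ) (((St y).map (kernel.ι φ)) a) = 0 := by
        refine (stalk_comp_apply _ _ _).trans ?_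
        rw [kernel.condition]; exact stalk_zero_apply _
      exact (ModuleCat.mono_iff_injective ((St y).map (kernel.ι φ))).1 inferInstance
        ((hφ.1 (h.trans (map_zero _).symm)).trans (map_zero _).symm))
  have hKc : K (cokernel φ) := hsm _ hcok ((support_subset_of_epi (cokernel.π φ)).trans hFZ) <|
    fun hy => hy (subsingleton_of_forall_eq 0 fun a => by
      obtain ⟨b, rfl⟩ := (ModuleCat.epi_iff_surjective ((St y).map (cokernel.π φ))).1 inferInstance a
      obtain ⟨c, rfl⟩ := hφ.2 b
      refine (stalk_comp_apply _ _ _).trans ?_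
      rw [cokernel.condition]; exact stalk_zero_apply _)
  let S₁ : ShortComplex X.Modules := ShortComplex.mk (kernel.ι φ) π (by
    rw [← cancel_mono ι, Category.assoc, Abelian.image.fac, kernel.condition, zero_comp])
  have hS₁ : S₁.ShortExact :=
    { mono_f := inferInstanceAs (Mono (kernel.ι φ))
      epi_g := inferInstanceAs (Epi (Abelian.factorThruImage φ))
      exact := ShortComplex.exact_of_f_is_kernel _
        (isKernelOfComp (f := π) ι φ (kernelIsKernel φ) S₁.zero (Abelian.image.fac φ)) }
  let S₂ : ShortComplex X.Modules :=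
    ShortComplex.mk ι (cokernel.π φ) (kernel.condition (cokernel.π φ))
  have hS₂ : S₂.ShortExact :=
    { exact := ShortComplex.exact_of_f_is_kernel _ (kernelIsKernel (cokernel.π φ))
      mono_f := inferInstanceAs (Mono (kernel.ι (cokernel.π φ)))
      epi_g := inferInstanceAs (Epi (cokernel.π φ)) }
  obtain ⟨a₁, a₂, -⟩ := hK.ses S₁ hS₁ hker hE hIm
  obtain ⟨-, b₂, b₃⟩ := hK.ses S₂ hS₂ hIm hF hcok
  exact ⟨fun h => b₂ (a₁ hKk h) hKc, fun h => a₂ hKk (b₃ h hKc)⟩

/-- Modules with isomorphic stalks of finite length at `y`. -/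
theorem mem_iff_of_stalk_iso {F G : X.Modules} (hF : Coh.IsCoh F) (hG : Coh.IsCoh G)
    (hFZ : CohB1.support F ⊆ Z) (hGZ : CohB1.support G ⊆ Z)
    (e : (St y).obj F ≅ (St y).obj G) {k : ℕ} (hk : Killed y k G) : K F ↔ K G := by
  have := hF.1
  have := hG.1
  have hA : Coh.IsQCoh ((sky y).obj ((St y).obj G)) := isQCoh_sky_of_killed y k hk
  let a := skyMap y e.hom
  let b := skyMap y (𝟙 ((St y).obj G))
  let S : ShortComplex X.Modules := ShortComplex.mk (biprod.inl : F ⟶ F ⊞ G) biprod.snd (by simp)
  have hS := (ShortComplex.Splitting.ofHasBinaryBiproduct F G).shortExact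
  have hP : Coh.IsCoh (F ⊞ G) := isCoh_X₂ hS hF hG
  let d : F ⊞ G ⟶ (sky y).obj ((St y).obj G) := biprod.desc a (-b)
  have := hP.1
  have hq : Coh.IsQCoh (kernel d) := isQCoh_kernel d
  have hE : Coh.IsCoh (kernel d) := isCoh_of_mono (kernel.ι d) hP hq
  have hEZ : CohB1.support (kernel d) ⊆ Z :=
    (support_subset_of_mono (kernel.ι d)).trans
      ((support_X₂_subset hS).trans (Set.union_subset hFZ hGZ))
  let T : ShortComplex X.Modules := ShortComplex.mk (kernel.ι d) d (kernel.condition d)
  have hT : T.Exact := ShortComplex.exact_kernel d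
  have hTy := (ShortComplex.ShortExact.moduleCat_exact_iff_function_exact _).1 (hT.map (St y))
  have hdec : ∀ p : (St y).obj (F ⊞ G), (St y).map d p =
      (St y).map a ((St y).map biprod.fst p) - (St y).map b ((St y).map biprod.snd p) := fun p => by
    have : d = biprod.fst ≫ a - biprod.snd ≫ b := by
      apply biprod.hom_ext' <;> simp [d]
    rw [this, Functor.map_sub, Functor.map_comp, Functor.map_comp]
    rfl
  have hpair : ∀ (u : (St y).obj F) (v : (St y).obj G), e.hom u = v →
      ∃ w, (St y).map (kernel.ι d ≫ biprod.fst) w = u ∧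
        (St y).map (kernel.ι d ≫ biprod.snd) w = v := fun u v huv => by
    let p := (St y).map (biprod.inl : F ⟶ F ⊞ G) u + (St y).map (biprod.inr : G ⟶ F ⊞ G) v
    have h1 : (St y).map (biprod.fst : F ⊞ G ⟶ F) p = u := by
      simp only [p, map_add]
      rw [stalk_comp_apply, stalk_comp_apply, biprod.inl_fst, biprod.inr_fst, stalk_id_apply,
        stalk_zero_apply, add_zero]
    have h2 : (St y).map (biprod.snd : F ⊞ G ⟶ G) p = v := by
      simp only [p, map_add]
      rw [stalk_comp_apply, stalk_comp_apply, biprod.inl_snd, biprod.inr_snd, stalk_id_apply,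
        stalk_zero_apply, zero_add]
    obtain ⟨w, hw⟩ := (hTy p).1 (by
      refine (hdec p).trans ?_
      rw [h1, h2]
      exact sub_eq_zero.2 ((stalk_skyMap_eq_iff y e.hom (𝟙 _) u v).2 huv))
    exact ⟨w, by rw [Functor.map_comp]; exact (congrArg _ hw).trans h1,
      by rw [Functor.map_comp]; exact (congrArg _ hw).trans h2⟩
  have hsplit : ∀ w : (St y).obj (kernel d),
      e.hom ((St y).map (kernel.ι d ≫ biprod.fst) w) =
        (St y).map (kernel.ι d ≫ biprod.snd) w := fun w => by
    refine (stalk_skyMap_eq_iff y e.hom (𝟙 _) _ _).1 (sub_eq_zero.1 ?_)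
    rw [Functor.map_comp, Functor.map_comp]
    exact (hdec _).symm.trans (hTy.apply_apply_eq_zero w)
  have hzero : ∀ w : (St y).obj (kernel d), (St y).map (kernel.ι d ≫ biprod.fst) w = 0 →
      w = 0 := fun w h => by
    have h' : (St y).map (kernel.ι d ≫ biprod.snd) w = 0 := by rw [← hsplit, h, map_zero]
    rw [Functor.map_comp] at h h'
    apply (ModuleCat.mono_iff_injective ((St y).map (kernel.ι d))).1 inferInstance
    rw [map_zero]
    have htot : biprod.fst ≫ biprod.inl + biprod.snd ≫ biprod.inr = 𝟙 (F ⊞ G) := biprod.total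
    set p := (St y).map (kernel.ι d) w
    rw [← stalk_id_apply _ p, ← htot, stalk_add_apply, ← stalk_comp_apply, ← stalk_comp_apply]
    have h1 : (St y).map (biprod.fst : F ⊞ G ⟶ F) p = 0 := h
    have h2 : (St y).map (biprod.snd : F ⊞ G ⟶ G) p = 0 := h'
    rw [h1, h2, map_zero, map_zero, add_zero]
  have hf : Function.Bijective ((St y).map (kernel.ι d ≫ biprod.fst)) :=
    ⟨(injective_iff_map_eq_zero _).2 hzero, fun u => (hpair u _ rfl).imp fun _ h => h.1⟩
  have hg : Function.Bijective ((St y).map (kernel.ι d ≫ biprod.snd)) :=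
    ⟨(injective_iff_map_eq_zero _).2 fun w h => hzero w (e.toLinearEquiv.injective (by
      exact ((hsplit w).trans h).trans (map_zero _).symm)),
      fun v => (hpair (e.inv v) v (by simp)).imp fun _ h => h.2⟩
  exact (mem_iff_of_isIso_stalk hK hsm _ hE hF hEZ hFZ hf).symm.trans
    (mem_iff_of_isIso_stalk hK hsm _ hE hG hEZ hGZ hg)

/-- Every coherent module supported in `Z` with stalk `κ(y)` at `y` is in `K`. -/
def OneK (K : X.Modules → Prop) (y : X) (Z : Set X) : Prop :=
  ∀ C : X.Modules, Coh.IsCoh C → CohB1.support C ⊆ Z →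
    Nonempty ((St y).obj C ≅ ModuleCat.of (X.presheaf.stalk y)
      (X.presheaf.stalk y ⧸ IsLocalRing.maximalIdeal (X.presheaf.stalk y))) → K C

omit hK hsm in
/-- Kernel and image of a map to a skyscraper. -/
theorem exists_peel {F : X.Modules} (hF : Coh.IsCoh F) {A : ModuleCat.{u} (X.presheaf.stalk y)}
    (g : (St y).obj F ⟶ A) {k : ℕ}
    (hA : ∀ r ∈ IsLocalRing.maximalIdeal (X.presheaf.stalk y) ^ k, ∀ a : A, r • a = 0) :
    ∃ (F₁ F₃ : X.Modules) (i : F₁ ⟶ F) (p : F ⟶ F₃) (w : i ≫ p = 0),
      (ShortComplex.mk i p w).ShortExact ∧ Coh.IsCoh F₁ ∧ Coh.IsCoh F₃ ∧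
      Function.Injective ((St y).map i) ∧ (∀ u, u ∈ Set.range ((St y).map i) ↔ g u = 0) ∧
      Function.Surjective ((St y).map p) ∧ (∀ u, (St y).map p u = 0 ↔ g u = 0) := by
  have := hF.1
  have := isQCoh_sky_of_killed y k hA
  let c := skyMap y g
  have hI : Coh.IsQCoh (Abelian.image c) := isQCoh_image c
  have h₁ : Coh.IsQCoh (kernel c) := isQCoh_kernel c
  let p := Abelian.factorThruImage c
  let ι := Abelian.image.ι c
  have w : kernel.ι c ≫ p = 0 := by
    rw [← cancel_mono ι, Category.assoc, Abelian.image.fac, kernel.condition, zero_comp]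
  have hc : ∀ u, (St y).map c u = 0 ↔ g u = 0 := fun u => by
    rw [← map_zero ((St y).map c).hom, ← map_zero g.hom]
    exact stalk_skyMap_eq_iff y g g u 0
  have hp : ∀ u, (St y).map p u = 0 ↔ g u = 0 := fun u => by
    rw [← hc, ← (ModuleCat.mono_iff_injective ((St y).map ι)).1 inferInstance |>.eq_iff, map_zero]
    erw [stalk_comp_apply]
    rw [Abelian.image.fac]
  refine ⟨kernel c, Abelian.image c, kernel.ι c, p, w,
    { mono_f := inferInstanceAs (Mono (kernel.ι c))
      epi_g := inferInstanceAs (Epi (Abelian.factorThruImage c))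
      exact := ShortComplex.exact_of_f_is_kernel _
        (isKernelOfComp (f := p) ι c (kernelIsKernel c) w (Abelian.image.fac c)) },
    isCoh_of_mono (kernel.ι c) hF h₁,
    AssSch12.isCoh_of_epi F p hI (locallyFinGen_of_isFT F hF.2),
    (ModuleCat.mono_iff_injective _).1 inferInstance, fun u => ?_,
    (ModuleCat.epi_iff_surjective _).1 inferInstance, hp⟩
  rw [← hc u]
  exact ((ShortComplex.ShortExact.moduleCat_exact_iff_function_exact _).1
    ((ShortComplex.exact_kernel c).map (St y)) u).symm

omit hK in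
theorem mem_of_killed_one (hKe : ExtClass K) (hone : OneK K y Z) : ∀ (n : ℕ) (F : X.Modules), Coh.IsCoh F →
    CohB1.support F ⊆ Z → Killed y 1 F →
    ∀ v : Fin n → (St y).obj F, Submodule.span (X.presheaf.stalk y) (Set.range v) = ⊤ → K F := by
  intro n
  induction n with
  | zero =>
    intro F hF hFZ _ v hv
    refine hsm F hF hFZ fun hy => hy (subsingleton_of_forall_eq 0 fun a => ?_)
    have : (show (St y).obj F from a) ∈ Submodule.span (X.presheaf.stalk y) (Set.range v) := by
      rw [hv]; trivial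
    rwa [Set.range_eq_empty, Submodule.span_empty, Submodule.mem_bot] at this
  | succ n ih =>
    intro F hF hFZ hk v hv
    let N := Submodule.span (X.presheaf.stalk y) (Set.range fun i : Fin n => v i.castSucc)
    by_cases hlast : v (Fin.last n) ∈ N
    · refine ih F hF hFZ hk (fun i => v i.castSucc) (top_le_iff.1 (hv.ge.trans ?_))
      rw [Submodule.span_le]
      rintro _ ⟨i, rfl⟩
      induction i using Fin.lastCases with
      | last => exact hlast
      | cast i => exact Submodule.subset_span ⟨i, rfl⟩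
    · let g : (St y).obj F ⟶ ModuleCat.of _ ((St y).obj F ⧸ N) := ModuleCat.ofHom N.mkQ
      have hkA : ∀ r ∈ IsLocalRing.maximalIdeal (X.presheaf.stalk y) ^ 1,
          ∀ a : ((St y).obj F ⧸ N), r • a = 0 := fun r hr a => by
        obtain ⟨a, rfl⟩ := N.mkQ_surjective a
        rw [← map_smul, hk r hr a, map_zero]
      obtain ⟨F₁, F₃, i, p, w, hS, h₁, h₃, hi, hir, hp, hp0⟩ := exists_peel hF g hkA
      have hS' := hS
      have : Mono i := hS'.mono_f
      have : Epi p := hS'.epi_g
      have h₁Z := (support_subset_of_mono i).trans hFZ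
      have h₃Z := (support_subset_of_epi p).trans hFZ
      have hK₁ : K F₁ := by
        have hmem : ∀ j : Fin n, v j.castSucc ∈ Set.range ((St y).map i) := fun j =>
          (hir _).2 ((Submodule.Quotient.mk_eq_zero N).2 (Submodule.subset_span ⟨j, rfl⟩))
        choose v₁ hv₁ using hmem
        refine ih F₁ h₁ h₁Z (fun r hr a => hi ?_) v₁ ?_
        · rw [map_zero, LinearMap.map_smul_of_tower, hk r hr]
        · refine Submodule.map_injective_of_injective (f := ((St y).map i).hom) hi ?_
          rw [Submodule.map_span, ← Set.range_comp, Submodule.map_top]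
          refine SetLike.ext fun u => ?_
          rw [show ((St y).map i).hom ∘ v₁ = fun j => v j.castSucc from funext hv₁]
          exact (Submodule.Quotient.mk_eq_zero N).symm.trans (hir u).symm
      let φ : X.presheaf.stalk y →ₗ[X.presheaf.stalk y] (St y).obj F ⧸ N :=
        LinearMap.toSpanSingleton _ _ (N.mkQ (v (Fin.last n)))
      have hφ : Function.Surjective φ := fun a => by
        obtain ⟨a, rfl⟩ := N.mkQ_surjective a
        have ha : a ∈ Submodule.span (X.presheaf.stalk y) (Set.range v) := by rw [hv]; trivial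
        obtain ⟨c, rfl⟩ := (Submodule.mem_span_range_iff_exists_fun _).1 ha
        refine ⟨c (Fin.last n), ?_⟩
        rw [Fin.sum_univ_castSucc, map_add, LinearMap.toSpanSingleton_apply, map_smul,
          show N.mkQ (∑ i : Fin n, c i.castSucc • v i.castSucc) = 0 from
            (Submodule.Quotient.mk_eq_zero N).2 (Submodule.sum_mem _ fun j _ =>
              N.smul_mem _ (Submodule.subset_span ⟨j, rfl⟩)), zero_add]
      have hker : LinearMap.ker φ = IsLocalRing.maximalIdeal (X.presheaf.stalk y) := by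
        refine le_antisymm (IsLocalRing.le_maximalIdeal fun htop => ?_) fun r hr => ?_
        · have h1 : φ 1 = 0 := LinearMap.mem_ker.1 (htop.ge trivial)
          rw [LinearMap.toSpanSingleton_apply, one_smul] at h1
          exact hlast ((Submodule.Quotient.mk_eq_zero N).1 h1)
        · exact LinearMap.mem_ker.2 (hkA r (by rwa [pow_one]) _)
      let e₁ : ((St y).obj F ⧸ N) ≃ₗ[X.presheaf.stalk y] (St y).obj F₃ :=
        (Submodule.quotEquivOfEq _ _ (by
          ext u
          exact (Submodule.Quotient.mk_eq_zero N).symm.trans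
            (((hp0 u).symm).trans LinearMap.mem_ker.symm))).trans
          (LinearMap.quotKerEquivOfSurjective ((St y).map p).hom hp)
      have hK₃ : K F₃ := hone F₃ h₃ h₃Z ⟨(((Submodule.quotEquivOfEq _ _ hker.symm).trans
        (LinearMap.quotKerEquivOfSurjective φ hφ)).trans e₁).symm.toModuleIso⟩
      exact hKe.ext _ hS h₁ hF h₃ hK₁ hK₃

omit hK in
/-- Coherent modules supported in `Z` are in `K`, given finite length at `y`. -/
theorem mem_of_killed (hKe : ExtClass K) (hone : OneK K y Z) : ∀ (k : ℕ) (F : X.Modules), Coh.IsCoh F →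
    CohB1.support F ⊆ Z → Killed y k F → K F := by
  intro k
  induction k with
  | zero =>
    intro F hF hFZ hk
    exact hsm F hF hFZ fun hy => hy (subsingleton_of_forall_eq 0 fun a => by
      have := hk 1 (by rw [pow_zero, Ideal.one_eq_top]; trivial) a
      exact (one_smul _ _).symm.trans this)
  | succ k ih =>
    intro F hF hFZ hk
    let m := IsLocalRing.maximalIdeal (X.presheaf.stalk y)
    let N : Submodule (X.presheaf.stalk y) ((St y).obj F) := m • ⊤
    let g : (St y).obj F ⟶ ModuleCat.of _ ((St y).obj F ⧸ N) := ModuleCat.ofHom N.mkQ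
    have hkA : ∀ r ∈ m ^ 1, ∀ a : ((St y).obj F ⧸ N), r • a = 0 := fun r hr a => by
      obtain ⟨a, rfl⟩ := N.mkQ_surjective a
      rw [← map_smul]
      exact (Submodule.Quotient.mk_eq_zero N).2
        (Submodule.smul_mem_smul (by rwa [pow_one] at hr) trivial)
    obtain ⟨F₁, F₃, i, p, w, hS, h₁, h₃, hi, hir, hp, hp0⟩ := exists_peel hF g hkA
    have : Mono i := hS.mono_f
    have : Epi p := hS.epi_g
    have hK₁ : K F₁ := by
      refine ih F₁ h₁ ((support_subset_of_mono i).trans hFZ) fun r hr a => hi ?_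
      rw [map_zero, LinearMap.map_smul_of_tower]
      have ha : (St y).map i a ∈ N :=
        (Submodule.Quotient.mk_eq_zero N).1 ((hir _).1 ⟨a, rfl⟩)
      generalize ((St y).map i).hom a = b at ha ⊢
      refine Submodule.smul_induction_on ha (fun c hc z _ => ?_) fun b₁ b₂ h₁ h₂ => by
        rw [smul_add, h₁, h₂, add_zero]
      rw [smul_smul]
      exact hk _ (by rw [pow_succ]; exact Ideal.mul_mem_mul hr hc) z
    have hk₃ : Killed y 1 F₃ := fun r hr a => by
      obtain ⟨a, rfl⟩ := hp a
      rw [← LinearMap.map_smul_of_tower]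
      exact (hp0 _).2 ((N.mkQ.map_smul r a).trans (hkA r hr _))
    obtain ⟨n, v, hv⟩ := (finite_stalk h₃ y).exists_fin
    exact hKe.ext _ hS h₁ hF h₃ hK₁
      (mem_of_killed_one hsm hKe hone n F₃ h₃ ((support_subset_of_epi p).trans hFZ) hk₃ v hv)

omit hK hsm

/-- A finite module killed by the maximal ideal is a finite power of the residue field. -/
theorem exists_equiv_fin {R : Type u} [CommRing R] [IsLocalRing R] {M : Type u} [AddCommGroup M]
    [Module R M] [Module.Finite R M] (hk : ∀ r ∈ IsLocalRing.maximalIdeal R, ∀ a : M, r • a = 0) :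
    ∃ n : ℕ, Nonempty (M ≃ₗ[R] (Fin n → R ⧸ IsLocalRing.maximalIdeal R)) := by
  classical
  have hex : ∃ n, ∃ v : Fin n → M, Submodule.span R (Set.range v) = ⊤ :=
    (Module.Finite.exists_fin (R := R) (M := M))
  obtain ⟨v, hv⟩ := Nat.find_spec hex
  refine ⟨Nat.find hex, ⟨?_⟩⟩
  let φ : (Fin (Nat.find hex) → R ⧸ IsLocalRing.maximalIdeal R) →ₗ[R] M :=
    LinearMap.lsum R _ R fun i => (IsLocalRing.maximalIdeal R).liftQ
      (LinearMap.toSpanSingleton R M (v i)) fun r hr => hk r hr (v i)
  have hφ : ∀ c : Fin (Nat.find hex) → R,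
      φ (fun i => Submodule.Quotient.mk (c i)) = ∑ i, c i • v i := fun c => by
    simp [φ, LinearMap.lsum_apply, LinearMap.sum_apply]
    exact Finset.sum_congr rfl fun i _ => rfl
  refine (LinearEquiv.ofBijective φ ⟨(injective_iff_map_eq_zero φ).2 fun x hx => ?_, fun a => ?_⟩).symm
  · choose c hc using fun i => (IsLocalRing.maximalIdeal R).mkQ_surjective (x i)
    obtain rfl : x = fun i => Submodule.Quotient.mk (c i) := funext fun i => (hc i).symm
    rw [hφ] at hx
    funext j
    refine (Submodule.Quotient.mk_eq_zero _).2 ?_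
    by_contra hj
    obtain ⟨m, hm⟩ : ∃ m, Nat.find hex = m + 1 := Nat.exists_eq_succ_of_ne_zero (Nat.pos_iff_ne_zero.1 j.pos)
    refine Nat.find_min hex (m := m) (by omega) ?_
    let σ : Fin (m + 1) ≃ Fin (Nat.find hex) := finCongr hm.symm
    obtain ⟨i, rfl⟩ := σ.surjective j
    refine ⟨fun l => v (σ (i.succAbove l)), top_le_iff.1 (hv.ge.trans (Submodule.span_le.2 ?_))⟩
    rintro _ ⟨l, rfl⟩
    obtain ⟨l, rfl⟩ := σ.surjective l
    rcases Fin.eq_self_or_eq_succAbove i l with rfl | ⟨l', rfl⟩
    · have hu : IsUnit (c (σ l)) := by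
        by_contra hh; exact hj ((IsLocalRing.mem_maximalIdeal _).2 hh)
      rw [SetLike.mem_coe, ← Submodule.smul_mem_iff_of_isUnit _ hu]
      rw [← σ.sum_comp, Fin.sum_univ_succAbove _ l, add_eq_zero_iff_eq_neg] at hx
      rw [hx]
      exact neg_mem (Submodule.sum_mem _ fun o _ =>
        Submodule.smul_mem _ _ (Submodule.subset_span ⟨o, rfl⟩))
    · exact Submodule.subset_span ⟨l', rfl⟩
  · obtain ⟨c, rfl⟩ := (Submodule.mem_span_range_iff_exists_fun R).1 (hv.ge (trivial : a ∈ ⊤))
    exact ⟨_, hφ c⟩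

end Groth.Agent.Coherent

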