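import Groth.Agent.Coherent.RelFin
import Groth.Agent.Coherent.Devissage
import Groth.Agent.ModStalk.Pullback
import Groth.Agent.EGA43.InjFibre.Scheme
import Groth.Agent.Flatn12.PullbackSections
import Mathlib.RingTheory.Nakayama
import Mathlib.LinearAlgebra.Dual.Lemmas

/-!
# Pullbacks of modules of finite type: finiteness and support
-/

set_option autoImplicit false

universe u

open CategoryTheory CategoryTheory.Limits AlgebraicGeometry Opposite TopologicalSpace
  Groth.Agent.ModStalk Groth.Agent.AssSch12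

namespace Groth.Agent.Coherent

variable {X Y : Scheme.{u}} (f : Y ⟶ X) {F : X.Modules}

theorem isFT_pullback_qcoh (hq : Coh.IsQCoh F) (hft : CohB1.IsFT F) :
    CohB1.IsFT ((Scheme.Modules.pullback f).obj F) := by
  have := hq
  have := EGA43.InjFibre.isQCoh_pullback f F
  refine isFT_of_locallyFinGen (locallyFinGen_of_finite_sections _
    (fun p : {p : Y.affineOpens × X.affineOpens // (p.1 : Y.Opens) ≤ f ⁻¹ᵁ (p.2 : X.Opens)} => p.1.1.1)
    (fun p => p.1.1.2) ?_ fun p => ?_)
  · intro y
    obtain ⟨V, hV, hyV, -⟩ := Opens.isBasis_iff_nbhd.mp X.isBasis_affineOpens (Opens.mem_top (f y))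
    obtain ⟨U, hU, hyU, hUV⟩ := Opens.isBasis_iff_nbhd.mp Y.isBasis_affineOpens
      (show y ∈ f ⁻¹ᵁ V from hyV)
    exact ⟨⟨(⟨U, hU⟩, ⟨V, hV⟩), hUV⟩, hyU⟩
  · have := finite_sections F (locallyFinGen_of_isFT F hft) p.1.2.2
    let _ := (f.appLE p.1.2.1 p.1.1.1 p.2).hom.toAlgebra
    obtain ⟨e⟩ := Flatn12.nonempty_pullback_sections_equiv f F p.1.2.2 p.1.1.2 p.2
    exact Module.Finite.equiv e

theorem finite_stalk_of_isFT (hq : Coh.IsQCoh F) (hft : CohB1.IsFT F) (x : X) :
    Module.Finite (X.presheaf.stalk x) ((DerSch.stalkFunctor X x).obj F) := by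
  classical
  have := hq
  obtain ⟨V, hV, hxV, -⟩ := Opens.isBasis_iff_nbhd.mp X.isBasis_affineOpens (Opens.mem_top x)
  obtain ⟨S, hS⟩ := (finite_sections F (locallyFinGen_of_isFT F hft) hV).fg_top
  refine ⟨S.image fun s => (F.presheaf.germ V x hxV s : (DerSch.stalkFunctor X x).obj F), ?_⟩
  refine Submodule.eq_top_iff'.2 fun a₀ => ?_
  let a : F.presheaf.stalk x := a₀
  obtain ⟨g, m, hg, hm⟩ := QCohLoc.exists_smul_stalk_eq_germ F hV hxV a
  have hu := (Scheme.mem_basicOpen _ _ _ hxV).1 hg
  rw [← Submodule.smul_mem_iff_of_isUnit _ hu]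
  have hmem : m ∈ Submodule.span Γ(X, V) (S : Set Γ(F, V)) := hS.ge trivial
  have key : ∀ n, n ∈ Submodule.span Γ(X, V) (S : Set Γ(F, V)) →
      (F.presheaf.germ V x hxV n : (DerSch.stalkFunctor X x).obj F) ∈ Submodule.span
        (X.presheaf.stalk x) ((S.image fun s =>
          (F.presheaf.germ V x hxV s : (DerSch.stalkFunctor X x).obj F)) : Set _) := by
    intro n hn
    induction hn using Submodule.span_induction with
    | mem z hz => exact Submodule.subset_span (Finset.mem_image_of_mem _ hz)
    | zero => rw [map_zero]; exact Submodule.zero_mem _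
    | add b c _ _ hb hc => rw [map_add]; exact Submodule.add_mem _ hb hc
    | smul r b _ hb => rw [QCohLoc.germ_smul']; exact Submodule.smul_mem _ _ hb
  exact (show _ • a₀ = _ from hm) ▸ key m hmem

theorem support_pullback_qcoh (hq : Coh.IsQCoh F) (hft : CohB1.IsFT F) :
    CohB1.support ((Scheme.Modules.pullback f).obj F) = f.base ⁻¹' CohB1.support F := by
  ext y
  let R := X.presheaf.stalk (f y)
  let M := (DerSch.stalkFunctor X (f y)).obj F
  let φ : R ⟶ Y.presheaf.stalk y := f.stalkMap y
  have e : (DerSch.stalkFunctor Y y).obj ((Scheme.Modules.pullback f).obj F) ≅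
      (ModuleCat.extendScalars φ.hom).obj M := (pullbackStalkIso f y).app F
  constructor
  · intro hy hsub
    have h0 : IsZero M := ModuleCat.isZero_iff_subsingleton.2 hsub
    exact (notMem_support_iff _ y).2 ((Functor.map_isZero _ h0).of_iso e) hy
  · intro hy hsub
    apply hy
    have hz : IsZero ((ModuleCat.extendScalars φ.hom).obj M) :=
      (ModuleCat.isZero_iff_subsingleton.2 hsub : IsZero ((DerSch.stalkFunctor Y y).obj _)).of_iso e.symm
    have := finite_stalk_of_isFT hq hft (f y)
    change Subsingleton M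
    by_contra hne
    let m := IsLocalRing.maximalIdeal R
    have hm : (m • (⊤ : Submodule R M)) ≠ ⊤ := fun htop => hne (by
      have h := Submodule.eq_bot_of_le_smul_of_le_jacobson_bot m (⊤ : Submodule R M)
        Module.Finite.fg_top htop.ge (IsLocalRing.maximalIdeal_le_jacobson _)
      exact (Submodule.subsingleton_iff R).1 (subsingleton_of_bot_eq_top h.symm))
    -- a nonzero functional into the residue field of `y`
    let k := IsLocalRing.ResidueField R
    let _ : Module k (M ⧸ (m • (⊤ : Submodule R M))) :=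
      Module.instQuotientIdealSubmoduleHSMulTop M m
    have : IsScalarTower R k (M ⧸ (m • (⊤ : Submodule R M))) :=
      inferInstanceAs (IsScalarTower R (R ⧸ m) (M ⧸ (m • (⊤ : Submodule R M))))
    have : Nontrivial (M ⧸ (m • (⊤ : Submodule R M))) := Submodule.Quotient.nontrivial_iff.2 hm
    obtain ⟨v, hv⟩ := exists_ne (0 : M ⧸ (m • (⊤ : Submodule R M)))
    obtain ⟨l, hl⟩ := Module.Projective.exists_dual_ne_zero k hv
    obtain ⟨v, rfl⟩ := (m • (⊤ : Submodule R M)).mkQ_surjective v
    let ψ : k →+* IsLocalRing.ResidueField (Y.presheaf.stalk y) :=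
      IsLocalRing.ResidueField.map φ.hom
    let B : ModuleCat.{u} (Y.presheaf.stalk y) :=
      ModuleCat.of _ (IsLocalRing.ResidueField (Y.presheaf.stalk y))
    let q : M →ₗ[R] k :=
      (l.restrictScalars R).comp (m • (⊤ : Submodule R M)).mkQ
    have hsmul : ∀ (r : R) (c : k), ψ (r • c) =
        (φ.hom r : Y.presheaf.stalk y) • (ψ c : IsLocalRing.ResidueField (Y.presheaf.stalk y)) :=
      fun r c => by
        rw [Algebra.smul_def, Algebra.smul_def, map_mul]
        rfl
    let g : M ⟶ (ModuleCat.restrictScalars φ.hom).obj B :=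
      ModuleCat.ofHom (Y := (ModuleCat.restrictScalars φ.hom).obj B)
        { toFun := fun a => (ψ (q a) : IsLocalRing.ResidueField (Y.presheaf.stalk y))
          map_add' := fun a b => (congrArg ψ (map_add q a b)).trans (map_add ψ _ _)
          map_smul' := fun r a => (congrArg ψ (map_smul q r a)).trans (hsmul r (q a)) }
    have hg : g = 0 := by
      refine ((ModuleCat.extendRestrictScalarsAdj φ.hom).homEquiv M B).symm.injective ?_
      exact hz.eq_of_src _ _
    have h1 : ψ (l (Submodule.Quotient.mk v)) = 0 :=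
      congrArg (fun h : M ⟶ _ => h v) hg
    exact hl ((map_eq_zero ψ).1 h1)

end Groth.Agent.Coherent
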