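import Groth.Agent.Coherent.FiniteType
import Mathlib.Algebra.Module.FinitePresentation

/-!
# Finitely presented modules on schemes; finite direct images
-/

set_option autoImplicit false

universe u

open CategoryTheory CategoryTheory.Limits AlgebraicGeometry Opposite TopologicalSpace

namespace Groth.Agent.Coherent

variable {X : Scheme.{u}}

/-- Generating sections from an epimorphism from a free module. -/
noncomputable def gensOfEpi {M : X.Modules} {I : Type u} (π : freeMod X I ⟶ M) [Epi π] :
    SheafOfModules.GeneratingSections.{u} (R := X.ringCatSheaf) M where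
  I := I
  s := SheafOfModules.freeHomEquiv _ π
  epi := by
    erw [Equiv.symm_apply_apply]
    exact inferInstanceAs (Epi π)

theorem gensOfEpi_π {M : X.Modules} {I : Type u} (π : freeMod X I ⟶ M) [Epi π] :
    (gensOfEpi π).π = π :=
  Equiv.symm_apply_apply _ _

/-- A presentation from a pair of epimorphisms from free modules. -/
noncomputable def presOfEpis {M : X.Modules} {I J : Type u} (π : freeMod X I ⟶ M) [Epi π]
    (ρ : freeMod X J ⟶ kernel π) [Epi ρ] :
    SheafOfModules.Presentation.{u} (R := X.ringCatSheaf) M where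
  generators := gensOfEpi π
  relations :=
    let e : kernel π ≅ kernel (C := X.Modules) (gensOfEpi π).π :=
      kernelIsoOfEq (C := X.Modules) (gensOfEpi_π π).symm
    @gensOfEpi X _ J (ρ ≫ e.hom)
      (@epi_comp X.Modules _ _ _ _ ρ inferInstance e.hom (IsIso.epi_of_iso _))

theorem presOfEpis_isFinite {M : X.Modules} {I J : Type u} [hI : Finite I] [hJ : Finite J]
    (π : freeMod X I ⟶ M) [Epi π] (ρ : freeMod X J ⟶ kernel π) [Epi ρ] :
    (presOfEpis π ρ).IsFinite where
  isFiniteType_generators := ⟨hI⟩
  isFiniteType_relations := ⟨hJ⟩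

/-- Finite presentations on a cover give finite presentation. -/
theorem isFP_of_finite_presentations (M : X.Modules) {ι : Type u} (V : ι → X.Opens)
    (hV : IsOpenCover V) (pres : ∀ i, (M.restrict (V i).ι).Presentation)
    (hpres : ∀ i, (pres i).IsFinite) : CohB1.IsFP M := by
  let q : SheafOfModules.QuasicoherentData.{u} (R := X.ringCatSheaf) M :=
    { I := ι
      X := V
      coversTop := (Opens.coversTop_iff _ V).2 hV
      presentation := fun i =>
        let F : SheafOfModules.{u} (V i).toScheme.ringCatSheaf ⥤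
            SheafOfModules.{u} (X.ringCatSheaf.over (V i)) :=
          (Scheme.Modules.overEquiv (V i)).inverse
        haveI : PreservesColimitsOfSize.{u, u} F :=
          (Scheme.Modules.overEquiv (V i)).symm.toAdjunction.leftAdjoint_preservesColimits
        SheafOfModules.Presentation.ofIsIso.{u, u, u}
        ((Scheme.Modules.overEquiv (V i)).inverse.mapIso
            ((Scheme.Modules.overFunctorEquiv (V i)).symm.app M) ≪≫
          ((Scheme.Modules.overEquiv (V i)).unitIso.app
            ((SheafOfModules.overFunctor X.ringCatSheaf (V i)).obj M)).symm).hom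
        ((pres i).map F
          ((V i).sheafOfModulesEquivOverInverseUnit X.ringCatSheaf).symm) }
  have hgen : ∀ i, Finite (q.presentation i).generators.I := fun i =>
    (hpres i).isFiniteType_generators.finite
  have hrel : ∀ i, Finite (q.presentation i).relations.I := fun i =>
    (hpres i).isFiniteType_relations.finite
  exact SheafOfModules.IsFinitePresentation.mk (R := X.ringCatSheaf) (M := M)
    ⟨q, SheafOfModules.QuasicoherentData.IsFinitePresentation.mk (q := q) fun i =>
      SheafOfModules.Presentation.IsFinite.mk (p := q.presentation i) ⟨hgen i⟩ ⟨hrel i⟩⟩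

theorem genOn_restrict_top (M : X.Modules) {U : X.Opens} {I : Type u} [Fintype I]
    {s : I → Γ(M, U)} (h : GenOn M U s) :
    GenOn (M.restrict U.ι) ⊤ (fun i => (M.restrictAppIso U.ι ⊤).inv
      (resM M (Scheme.Opens.ι_image_top U).le (s i))) :=
  genOn_restrict_of_genOn U.ι M (h.res _)

/-- A quasi-coherent module of finite type on an affine scheme is the quotient of a finite free
module. -/
theorem exists_epi_free_of_finite [IsAffine X] (M : X.Modules) [Coh.IsQCoh M]
    (h : Module.Finite Γ(X, ⊤) Γ(M, ⊤)) :
    ∃ (I : Type u) (_ : Finite I) (π : freeMod X I ⟶ M), Epi π := by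
  obtain ⟨n, s, hs⟩ := h.exists_fin
  refine ⟨ULift.{u} (Fin n), inferInstance, freeDesc fun i => unitDesc M (s i.down),
    epi_of_genOn_top (genOn_of_span_top M (isAffineOpen_top X) _ ?_)⟩
  rw [← hs]
  congr 1
  exact Equiv.ulift.surjective.range_comp s

/-- A quasi-coherent module on an affine scheme with finitely presented global sections has a
finite global presentation. -/
theorem exists_finite_presentation [IsAffine X] (M : X.Modules) [Coh.IsQCoh M]
    (h : Module.FinitePresentation Γ(X, ⊤) Γ(M, ⊤)) :
    ∃ p : SheafOfModules.Presentation.{u} (R := X.ringCatSheaf) M, p.IsFinite := by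
  classical
  obtain ⟨I, _, π, hπ⟩ := exists_epi_free_of_finite M inferInstance
  have := Fintype.ofFinite I
  have := isQCoh_freeMod (X := X) (I := I)
  have hK : Coh.IsQCoh (kernel π) := isQCoh_kernel π
  let S : ShortComplex X.Modules := ShortComplex.mk (kernel.ι π) π (kernel.condition π)
  have hS : S.ShortExact := { exact := S.exact_of_f_is_kernel (kernelIsKernel π) }
  have : Coh.IsQCoh S.X₁ := hK
  have hsurj : Function.Surjective (appLin π ⊤) := sections_surjective hS (isAffineOpen_top X)
  have := freeMod_sections_finite (X := X) (I := I) ⊤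
  have hfg : (LinearMap.ker (appLin π ⊤)).FG := Module.FinitePresentation.fg_ker _ hsurj
  have hrange : LinearMap.range (appLin (kernel.ι π) ⊤) = LinearMap.ker (appLin π ⊤) := by
    ext x
    exact ⟨fun ⟨y, hy⟩ => hy ▸ kernel_ι_app_zero π ⊤ y, fun hx => kernel_sections_exact π x hx⟩
  have hKfin : Module.Finite Γ(X, ⊤) Γ(kernel π, ⊤) := by
    have : Module.Finite Γ(X, ⊤) (LinearMap.range (appLin (kernel.ι π) ⊤)) := by
      rw [hrange]; exact Module.Finite.iff_fg.2 hfg
    exact Module.Finite.equiv (LinearEquiv.ofInjective (appLin (kernel.ι π) ⊤)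
      (app_injective_of_mono _ _)).symm
  obtain ⟨J, _, ρ, hρ⟩ := exists_epi_free_of_finite (kernel π) hKfin
  exact ⟨presOfEpis π ρ, presOfEpis_isFinite π ρ⟩

theorem isFP_of_isCoh [IsLocallyNoetherian X] {M : X.Modules} (hM : Coh.IsCoh M) :
    CohB1.IsFP M := by
  obtain ⟨hq, hfin⟩ := (isCoh_iff_finite_sections M).1 hM
  have key : ∀ U : X.affineOpens,
      ∃ p : SheafOfModules.Presentation.{u} (R := U.1.toScheme.ringCatSheaf)
        (M.restrict U.1.ι), p.IsFinite := by
    rintro ⟨U, hU⟩
    have : IsAffine U.toScheme := hU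
    have : Coh.IsQCoh (M.restrict U.ι) := inferInstance
    have : IsLocallyNoetherian U.toScheme := isLocallyNoetherian_of_isOpenImmersion U.ι
    have : IsNoetherianRing Γ(U.toScheme, ⊤) :=
      IsLocallyNoetherian.component_noetherian ⟨⊤, isAffineOpen_top _⟩
    have hlfg : LocallyFinGen (M.restrict U.ι) := by
      intro x
      obtain ⟨n, s, hs⟩ := (hfin U hU).exists_fin
      exact ⟨⊤, ULift.{u} (Fin n), inferInstance, _, trivial, genOn_restrict_top M
        (genOn_of_span_top M hU (fun k : ULift.{u} (Fin n) => s k.down) (by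
          rw [← hs]; congr 1; exact Equiv.ulift.surjective.range_comp s))⟩
    have := finite_sections (M.restrict U.ι) hlfg (isAffineOpen_top U.toScheme)
    exact exists_finite_presentation (M.restrict U.ι) (Module.finitePresentation_of_finite _ _)
  choose p hp using key
  refine isFP_of_finite_presentations M (fun U : X.affineOpens => U.1) ?_ p hp
  rw [IsOpenCover]
  exact iSup_affineOpens_eq_top X

theorem isCoh_iff_isFP [IsLocallyNoetherian X] (M : X.Modules) :
    Coh.IsCoh M ↔ CohB1.IsFP M := by
  refine ⟨isFP_of_isCoh, fun h => ?_⟩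
  obtain ⟨q, hq⟩ := SheafOfModules.IsFinitePresentation.exists_quasicoherentData
    (R := X.ringCatSheaf) (M := M) (self := h)
  have : q.localGeneratorsData.IsFiniteType := by
    refine SheafOfModules.LocalGeneratorsData.IsFiniteType.mk (p := q.localGeneratorsData)
      fun i => ?_
    exact (hq.isFinite_presentation i).isFiniteType_generators
  exact ⟨q.isQuasicoherent, SheafOfModules.IsFiniteType.mk (R := X.ringCatSheaf) (M := M)
    ⟨q.localGeneratorsData, this⟩⟩

/-- Direct image along a finite morphism preserves coherence. -/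
theorem isCoh_push_finite {Y : Scheme.{u}} (f : X ⟶ Y) [IsFinite f] {M : X.Modules}
    (hM : Coh.IsCoh M) : Coh.IsCoh ((Coh.push f).obj M) := by
  obtain ⟨hq, hfin⟩ := (isCoh_iff_finite_sections M).1 hM
  refine (isCoh_iff_finite_sections _).2 ⟨isQCoh_push f M, fun V hV => ?_⟩
  let := (f.app V).hom.toAlgebra
  have : Module.Finite Γ(Y, V) Γ(X, f ⁻¹ᵁ V) := IsFinite.finite_app f V hV
  have := hfin _ (hV.preimage f)
  let := Module.compHom Γ(M, f ⁻¹ᵁ V) (f.app V).hom
  have htower : IsScalarTower Γ(Y, V) Γ(X, f ⁻¹ᵁ V) Γ(M, f ⁻¹ᵁ V) :=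
    IsScalarTower.of_algebraMap_smul fun _ _ => rfl
  exact (Module.Finite.trans Γ(X, f ⁻¹ᵁ V) Γ(M, f ⁻¹ᵁ V) :
    Module.Finite Γ(Y, V) Γ(M, f ⁻¹ᵁ V))

end Groth.Agent.Coherent
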