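import Groth.Agent.Coherent.AnnSheaf
import Groth.Agent.Coherent.SupportPullback
import Groth.Agent.Coherent.ProperFinite
import Groth.Agent.Et18.ProperOver

/-!
# Closed subsets proper over a base, and supports
-/

set_option autoImplicit false

universe u

open CategoryTheory CategoryTheory.Limits AlgebraicGeometry Opposite TopologicalSpace

namespace Groth.Agent.Coherent

variable {X S : Scheme.{u}} (f : X ⟶ S)

/-- Separatedness descends along universally closed surjections. -/
theorem isSeparated_of_universallyClosed_surjective {T Z : Scheme.{u}} (a : T ⟶ Z) (g : Z ⟶ S)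
    [UniversallyClosed a] [Surjective a] [IsSeparated (a ≫ g)] : IsSeparated g := by
  let m := pullback.map (a ≫ g) (a ≫ g) g g a a (𝟙 S) (Category.comp_id _) (Category.comp_id _)
  have : UniversallyClosed m :=
    MorphismProperty.pullbackMap (P := @UniversallyClosed) ‹UniversallyClosed a›
      ‹UniversallyClosed a› rfl rfl
  have e : a ≫ pullback.diagonal g = pullback.diagonal (a ≫ g) ≫ m := by
    apply pullback.hom_ext
    · rw [Category.assoc, Category.assoc, pullback.diagonal_fst, Category.comp_id, pullback.lift_fst]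
      exact (pullback.diagonal_fst_assoc (a ≫ g) a).symm
    · rw [Category.assoc, Category.assoc, pullback.diagonal_snd, Category.comp_id, pullback.lift_snd]
      exact (pullback.diagonal_snd_assoc (a ≫ g) a).symm
  have hr : IsClosed (Set.range (pullback.diagonal g)) := by
    have h1 : Set.range (pullback.diagonal g) = Set.range (a ≫ pullback.diagonal g) :=
      (a.surjective.range_comp _).symm
    rw [h1, e]
    exact (pullback.diagonal (a ≫ g) ≫ m).isClosedMap.isClosed_range
  exact ⟨IsClosedImmersion.of_isPreimmersion _ hr⟩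

theorem isProper_of_isProperOver [LocallyOfFiniteType f] {Z : Set X}
    (h : ClSub.IsProperOver f Z) {T : Scheme.{u}} (i : T ⟶ X) [IsClosedImmersion i]
    (hi : Set.range i = Z) : IsProper (i ≫ f) := by
  obtain ⟨hZ, hp⟩ := h
  let J := Et18.redSub Z hZ
  have hle : i.ker ≤ J := Scheme.IdealSheafData.le_support_iff_le_vanishingIdeal.mp
    (fun x hx => i.range_subset_ker_support (show x ∈ Set.range i from hi ▸ hx))
  let a := Scheme.IdealSheafData.inclusion hle ≫ inv i.toImage
  have ha : a ≫ i = J.subschemeι := by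
    have : inv i.toImage ≫ i = i.imageι := (IsIso.inv_comp_eq _).mpr i.toImage_imageι.symm
    rw [Category.assoc, this]
    exact Scheme.IdealSheafData.inclusion_subschemeι hle
  have : IsClosedImmersion (a ≫ i) := by rw [ha]; infer_instance
  have : IsClosedImmersion a := IsClosedImmersion.of_comp a i
  have : Surjective a := ⟨fun x => by
    obtain ⟨y, hy⟩ : i x ∈ Set.range J.subschemeι := by
      rw [Et18.range_redSub, ← hi]; exact Set.mem_range_self x
    exact ⟨y, i.isClosedEmbedding.injective (by rw [← Scheme.Hom.comp_apply, ha]; exact hy)⟩⟩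
  have : IsProper (a ≫ i ≫ f) := by rw [reassoc_of% ha]; exact hp
  have : UniversallyClosed (i ≫ f) := UniversallyClosed.of_comp_surjective a _
  have : IsSeparated (i ≫ f) := isSeparated_of_universallyClosed_surjective a _
  exact {}

theorem isProperOver_tfae (Z : Set X) (hZ : IsClosed Z) [LocallyOfFiniteType f] :
    (ClSub.IsProperOver f Z ↔ ∃ (T : Scheme.{u}) (i : T ⟶ X), IsClosedImmersion i ∧
        Set.range ⇑i = Z ∧ IsProper (i ≫ f)) ∧
    (ClSub.IsProperOver f Z ↔ ∀ (T : Scheme.{u}) (i : T ⟶ X), IsClosedImmersion i →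
        Set.range ⇑i = Z → IsProper (i ≫ f)) := by
  refine ⟨⟨fun h => ⟨_, (Et18.redSub Z hZ).subschemeι, inferInstance, Et18.range_redSub Z hZ,
      h.2⟩, ?_⟩, ⟨fun h T i hi hr => ?_, fun h => ⟨hZ, ?_⟩⟩⟩
  · rintro ⟨T, i, hi, rfl, hp⟩
    exact Et18.isProperOver_of_isClosedImmersion f i
  · exact isProper_of_isProperOver f h i hr
  · exact h _ (Et18.redSub Z hZ).subschemeι inferInstance (Et18.range_redSub Z hZ)

variable {Y : Scheme.{u}} (q : Y ⟶ S)

theorem isProperOver_image_of_isSeparated [LocallyOfFiniteType q] [IsSeparated q] (g : X ⟶ Y)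
    (w : g ≫ q = f) {Z : Set X} (h : ClSub.IsProperOver f Z) :
    ClSub.IsProperOver q (⇑g '' Z) := by
  obtain ⟨hZ, hp⟩ := h
  let J := Et18.redSub Z hZ
  have : IsProper (J.subschemeι ≫ g ≫ q) := by rw [w]; exact hp
  have : UniversallyClosed ((J.subschemeι ≫ g) ≫ q) := by rw [Category.assoc]; infer_instance
  have h2 := Et18.isProperOver_range q (J.subschemeι ≫ g)
  rwa [show Set.range (J.subschemeι ≫ g) = g '' Z by
    rw [Scheme.Hom.comp_base, TopCat.coe_comp, Set.range_comp]
    exact congrArg _ (Et18.range_redSub Z hZ)] at h2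

theorem isProperOver_image_of_universallyClosed [LocallyOfFiniteType f] [LocallyOfFiniteType q]
    (g : X ⟶ Y) [UniversallyClosed g]
    (w : g ≫ q = f) {Z : Set X} (h : ClSub.IsProperOver f Z) :
    ClSub.IsProperOver q (⇑g '' Z) := by
  obtain ⟨hZ, hp⟩ := h
  let J := Et18.redSub Z hZ
  let k := J.subschemeι ≫ g
  have hk : UniversallyClosed k := inferInstance
  have hcl : IsClosed (Set.range k) := k.isClosedMap.isClosed_range
  have hrange : Set.range k = g '' Z := by
    rw [show Set.range k = Set.range (g ∘ J.subschemeι) from rfl, Set.range_comp, Et18.range_redSub]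
  have : UniversallyClosed (k.toImage ≫ k.imageι) := by rw [k.toImage_imageι]; exact hk
  have : UniversallyClosed k.toImage := UniversallyClosed.of_comp_of_isSeparated k.toImage k.imageι
  have : Surjective k.toImage :=
    surjective_of_isDominant_of_isClosed_range _ k.toImage.isClosedMap.isClosed_range
  have : IsProper (J.subschemeι ≫ g ≫ q) := by rw [w]; exact hp
  have : IsProper (k.toImage ≫ k.imageι ≫ q) := by
    rw [k.toImage_imageι_assoc, Category.assoc]; infer_instance
  have : UniversallyClosed (k.imageι ≫ q) := UniversallyClosed.of_comp_surjective k.toImage _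
  have : IsSeparated (k.imageι ≫ q) := isSeparated_of_universallyClosed_surjective k.toImage _
  have : IsProper (k.imageι ≫ q) := {}
  have h2 := Et18.isProperOver_of_isClosedImmersion q k.imageι
  rw [Scheme.IdealSheafData.range_subschemeι, k.support_ker, hcl.closure_eq, hrange] at h2
  exact h2

theorem isProperOver_preimage_of_isProper (g : X ⟶ Y) [IsProper g] (w : g ≫ q = f) {Z : Set Y}
    (h : ClSub.IsProperOver q Z) : ClSub.IsProperOver f (⇑g ⁻¹' Z) := by
  obtain ⟨hZ, hp⟩ := h
  let J := Et18.redSub Z hZ
  have : IsProper (J.subschemeι ≫ q) := hp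
  have : IsProper (pullback.snd g J.subschemeι) :=
    MorphismProperty.of_isPullback (P := @IsProper) (IsPullback.of_hasPullback g J.subschemeι) ‹IsProper g›
  have : IsProper (pullback.fst g J.subschemeι ≫ f) := by
    rw [← w, pullback.condition_assoc]; infer_instance
  have h2 := Et18.isProperOver_of_isClosedImmersion f (pullback.fst g J.subschemeι)
  rwa [Scheme.Pullback.range_fst, Et18.range_redSub] at h2

theorem isProperOver_iUnion [LocallyOfFiniteType f] {ι : Type} [Finite ι] (Z : ι → Set X)
    (hZ : ∀ i, ClSub.IsProperOver f (Z i)) : ClSub.IsProperOver f (Set.iUnion Z) := by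
  classical
  have := Fintype.ofFinite ι
  have key : ∀ s : Finset ι, ClSub.IsProperOver f (⋃ i ∈ s, Z i) := fun s => by
    induction s using Finset.induction with
    | empty => simpa using Et18.isProperOver_empty f
    | insert a s ha ih => rw [Finset.set_biUnion_insert]; exact Et18.IsProperOver.union (hZ a) ih
  simpa using key Finset.univ

theorem isProperOver_support_shortExact [LocallyOfFiniteType f] (E : ShortComplex X.Modules)
    (hE : E.ShortExact) (h₁ : CohB1.IsFT E.X₁) (h₃ : CohB1.IsFT E.X₃) :
    ClSub.IsProperOver f (CohB1.support E.X₂) ↔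
      ClSub.IsProperOver f (CohB1.support E.X₁) ∧ ClSub.IsProperOver f (CohB1.support E.X₃) := by
  have := hE.mono_f
  have := hE.epi_g
  have heq : CohB1.support E.X₂ = CohB1.support E.X₁ ∪ CohB1.support E.X₃ :=
    Set.Subset.antisymm (support_X₂_subset hE)
      (Set.union_subset (support_subset_of_mono E.f) (support_subset_of_epi E.g))
  refine ⟨fun h => ⟨?_, ?_⟩, fun h => heq ▸ Et18.IsProperOver.union h.1 h.2⟩
  · exact Et18.IsProperOver.of_subset h (isClosed_support _ (locallyFinGen_of_isFT _ h₁))
      (support_subset_of_mono E.f)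
  · exact Et18.IsProperOver.of_subset h (isClosed_support _ (locallyFinGen_of_isFT _ h₃))
      (support_subset_of_epi E.g)

theorem support_push_subset {Z : Scheme.{u}} (i : Z ⟶ X) [IsClosedImmersion i] (G : Z.Modules) :
    CohB1.support ((Coh.push i).obj G) ⊆ Set.range i := fun z hz => by
  by_contra hzZ
  refine notMem_support_of_subsingleton _ (U := ⟨(Set.range i)ᶜ,
    i.isClosedEmbedding.isClosed_range.isOpen_compl⟩) hzZ (fun V _ hle => ?_) hz
  have hbot : i ⁻¹ᵁ V = ⊥ := eq_bot_iff.2 fun w hw => hle hw ⟨w, rfl⟩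
  change Subsingleton Γ(G, i ⁻¹ᵁ V)
  rw [hbot]
  exact ⟨fun p q => TopCat.Presheaf.section_ext (⟨G.presheaf, G.isSheaf⟩ : TopCat.Sheaf Ab Z) ⊥ p q
    fun z hz => hz.elim⟩

theorem isProperOver_support_iff_pushforward [LocallyOfFiniteType f] (F : X.Modules)
    (hq : Coh.IsQCoh F) (hft : CohB1.IsFT F) :
    ClSub.IsProperOver f (CohB1.support F) ↔
      ∃ (Z : Scheme.{u}) (i : Z ⟶ X), IsClosedImmersion i ∧ IsProper (i ≫ f) ∧
        ∃ G : Z.Modules, Coh.IsQCoh G ∧ CohB1.IsFT G ∧
          Nonempty ((Scheme.Modules.pushforward i).obj G ≅ F) := by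
  constructor
  · intro h
    let J := annSheaf hq hft
    have hk := killed_ker_annSheaf hq hft
    have := hq
    refine ⟨_, J.subschemeι, inferInstance, isProper_of_isProperOver f h J.subschemeι ?_,
      _, EGA43.InjFibre.isQCoh_pullback J.subschemeι F, isFT_pullback_of_killed _ hk hq hft,
      ⟨(clIso _ hk).symm⟩⟩
    rw [J.range_subschemeι]
    exact support_annSheaf hq hft
  · rintro ⟨Z, i, hi, hp, G, -, -, ⟨e⟩⟩
    refine Et18.IsProperOver.of_subset (Et18.isProperOver_of_isClosedImmersion f i)
      (isClosed_support F (locallyFinGen_of_isFT F hft)) ?_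
    exact (support_subset_of_mono e.inv).trans (support_push_subset i G)

end Groth.Agent.Coherent
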