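import Groth.Agent.Coherent.DevissageApps
import Groth.Agent.Coherent.ProperOverApps

/-!
# Dévissage with two out of three
-/

set_option autoImplicit false

universe u

open CategoryTheory CategoryTheory.Limits AlgebraicGeometry Opposite TopologicalSpace
  Groth.Agent.ModStalk Groth.Agent.AssSch12
open scoped ZeroObject

namespace Groth.Agent.Coherent

variable {X : Scheme.{u}} [IsNoetherian X]

omit [AlgebraicGeometry.IsNoetherian X] in
theorem support_eq_of_iso {M N : X.Modules} (e : M ≅ N) :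
    CohB1.support M = CohB1.support N :=
  Set.Subset.antisymm (support_subset_of_mono e.hom) (support_subset_of_mono e.inv)

omit [AlgebraicGeometry.IsNoetherian X] in
theorem support_of_isZero {M : X.Modules} (h : IsZero M) (Z : Set X) : CohB1.support M ⊆ Z :=
  fun z hz => absurd ((DerSch.stalkFunctor X z).map_isZero h) fun h' =>
    (notMem_support_iff M z).2 h' hz

theorem length_eq_one_of_residue {R M : Type u} [CommRing R] [IsLocalRing R] [AddCommGroup M]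
    [Module R M] (e : M ≃ₗ[R] IsLocalRing.ResidueField R) : Module.length R M = 1 := by
  refine Module.length_eq_one_iff.2 (isSimpleModule_iff_quot_maximal.2
    ⟨_, IsLocalRing.maximalIdeal.isMaximal R, ⟨(e : M ≃ₗ[R] (R ⧸ IsLocalRing.maximalIdeal R))⟩⟩)

theorem isCoh_of_isZero {M : X.Modules} (h : IsZero M) : Coh.IsCoh M :=
  (isCoh_iff_finite_sections M).2 ⟨isQCoh_of_isZero h, fun V _ => by
    have : Subsingleton Γ(M, V) := subsingleton_of_forall_eq 0 fun x =>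
      congrArg (fun φ : M ⟶ M => φ.app V x) (h.eq_of_src (𝟙 M) 0)
    infer_instance⟩

theorem devClass_of_twoThree (P : X.Modules → Prop) (Z₀ : Set X)
    (hP : ∀ M N : X.Modules, Nonempty (M ≅ N) → P M → P N)
    (h₁ : ∀ S : ShortComplex X.Modules, S.ShortExact → Coh.IsCoh S.X₁ → Coh.IsCoh S.X₂ →
      Coh.IsCoh S.X₃ → CohB1.support S.X₂ ⊆ Z₀ →
      (P S.X₁ → P S.X₂ → P S.X₃) ∧ (P S.X₁ → P S.X₃ → P S.X₂) ∧ (P S.X₂ → P S.X₃ → P S.X₁))
    {G : X.Modules} (hG : Coh.IsCoh G) (hGZ : CohB1.support G ⊆ Z₀) (hGP : P G) :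
    DevClass fun M => P M ∧ CohB1.support M ⊆ Z₀ where
  iso e h := ⟨hP _ _ ⟨e⟩ h.1, (support_eq_of_iso e).symm.subset.trans h.2⟩
  zero M hM := by
    refine ⟨?_, support_of_isZero hM Z₀⟩
    have hS : (ShortComplex.mk (𝟙 G) (0 : G ⟶ M) comp_zero).ShortExact :=
      { exact := (ShortComplex.exact_iff_epi _ rfl).2 inferInstance
        mono_f := inferInstanceAs (Mono (𝟙 G))
        epi_g := ⟨fun a b _ => hM.eq_of_src a b⟩ }
    exact (h₁ _ hS hG hG (isCoh_of_isZero hM) hGZ).1 hGP hGP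
  ses S hS c₁ c₂ c₃ := by
    have := hS.mono_f
    have := hS.epi_g
    refine ⟨fun a b => ?_, fun a b => ?_, fun a b => ?_⟩
    · exact ⟨(h₁ S hS c₁ c₂ c₃ b.2).1 a.1 b.1, (support_subset_of_epi S.g).trans b.2⟩
    · have hs := (support_X₂_subset hS).trans (Set.union_subset a.2 b.2)
      exact ⟨(h₁ S hS c₁ c₂ c₃ hs).2.1 a.1 b.1, hs⟩
    · exact ⟨(h₁ S hS c₁ c₂ c₃ a.2).2.2 a.1 b.1, (support_subset_of_mono S.f).trans a.2⟩

theorem mem_of_twoThree_irreducible (Z₀ : Set X) (hZ₀ : IsClosed Z₀) (ξ : X)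
    (hξ : closure {ξ} = Z₀) (P : X.Modules → Prop)
    (hP : ∀ M N : X.Modules, Nonempty (M ≅ N) → P M → P N)
    (h₁ : ∀ S : ShortComplex X.Modules, S.ShortExact → Coh.IsCoh S.X₁ → Coh.IsCoh S.X₂ →
      Coh.IsCoh S.X₃ → CohB1.support S.X₂ ⊆ Z₀ →
      (P S.X₁ → P S.X₂ → P S.X₃) ∧ (P S.X₁ → P S.X₃ → P S.X₂) ∧ (P S.X₂ → P S.X₃ → P S.X₁))
    (h₂ : ∀ (Z : Scheme.{u}) (i : Z ⟶ X), IsClosedImmersion i → IsIntegral Z →
      Set.range ⇑i ⊆ Z₀ → Set.range ⇑i ≠ Z₀ →
      ∀ (I : Z.Modules) (ι : I ⟶ Coh.structureModule Z), Mono ι → Coh.IsQCoh I →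
        P ((Coh.push i).obj I))
    {G : X.Modules} (hG : Coh.IsCoh G) (hGZ : CohB1.support G = Z₀)
    (hGl : Module.length (X.presheaf.stalk ξ) (G.presheaf.stalk ξ) = 1) (hGP : P G)
    (M : X.Modules) (hM : Coh.IsCoh M) (hsupp : CohB1.support M ⊆ Z₀) : P M := by
  have hK := devClass_of_twoThree P Z₀ hP h₁ hG hGZ.subset hGP
  refine (mem_of_support hK.toExt Z₀ (fun Z hZ _ hZX y hy Z₁ hZ₁ hsm => ?_) ⟨Z₀, hZ₀⟩ subset_rfl M
    hM hsupp).1
  by_cases hyξ : y = ξ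
  · subst hyξ
    exact oneK_of_length_one hK hsm hG ⟨hGP, hGZ.subset⟩
      (hGZ.subset.trans (by rw [← hξ, hy]; exact hZ₁)) hGl
  · refine oneK_of_ideals hK.toExt hsm fun I ι hι hI _ => ⟨h₂ _ _ inferInstance inferInstance ?_ ?_
      I ι hι hI, (?_ : CohB1.support _ ⊆ Z₀)⟩
    · rw [range_clι, hy]; exact hZX
    · rw [range_clι]
      intro h
      rw [← hξ] at h
      exact hyξ ((show IsGenericPoint y (closure {ξ}) from h).eq (isGenericPoint_closure))
    · refine (support_subset_of_mono ((Coh.push (clI y).subschemeι).map ι)).trans ?_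
      exact (support_push_subset (clI y).subschemeι _).trans (by rw [range_clι, hy]; exact hZX)

theorem mem_of_twoThree [Nonempty X] (P : X.Modules → Prop)
    (hP : ∀ M N : X.Modules, Nonempty (M ≅ N) → P M → P N)
    (h₁ : ∀ S : ShortComplex X.Modules, S.ShortExact → Coh.IsCoh S.X₁ → Coh.IsCoh S.X₂ → Coh.IsCoh S.X₃ →
      (P S.X₁ → P S.X₂ → P S.X₃) ∧ (P S.X₁ → P S.X₃ → P S.X₂) ∧ (P S.X₂ → P S.X₃ → P S.X₁))
    (h₂ : ∀ (Z : Scheme.{u}) (i : Z ⟶ X) [IsClosedImmersion i] [IsIntegral Z],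
      ∃ G : X.Modules, Coh.IsCoh G ∧ CohB1.support G = Set.range ⇑i ∧
        Nonempty (↑(G.presheaf.stalk (i (genericPoint Z))) ≃ₗ[X.presheaf.stalk (i (genericPoint Z))]
          IsLocalRing.ResidueField (X.presheaf.stalk (i (genericPoint Z)))) ∧ P G)
    (M : X.Modules) (hM : Coh.IsCoh M) : P M := by
  obtain ⟨x⟩ := ‹Nonempty X›
  obtain ⟨G₀, hG₀, -, -, hG₀P⟩ := h₂ _ (clI x).subschemeι
  have hK := devClass_of_twoThree P Set.univ hP (fun S hS a b c _ => h₁ S hS a b c) hG₀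
    (Set.subset_univ _) hG₀P
  refine (mem_of_support hK.toExt Set.univ (fun Z _ _ _ y hy Z₁ hZ₁ hsm => ?_) ⊤ subset_rfl M hM
    (Set.subset_univ _)).1
  obtain ⟨G, hG, hGs, ⟨e⟩, hGP⟩ := h₂ _ (clI y).subschemeι
  have hgen : (clI y).subschemeι (genericPoint (clI y).subscheme) = y := by
    have h1 := ((genericPoint_spec (clI y).subscheme).image (clI y).subschemeι.continuous)
    rw [Set.image_univ, range_clι, closure_closure] at h1
    exact h1.eq isGenericPoint_closure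
  revert e
  rw [hgen]
  intro e
  exact oneK_of_length_one hK hsm hG ⟨hGP, Set.subset_univ _⟩
    (by rw [hGs, range_clι, hy]; exact hZ₁) (length_eq_one_of_residue e)

end Groth.Agent.Coherent
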