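import Groth.Agent.Coherent.Vanishing
import Groth.Agent.Coherent.QcohOps

/-!
# Cohomology on `X_r` is the localisation of cohomology on `X`

For quasi-coherent `M` on a quasi-compact quasi-separated scheme, `r : Γ(X, O_X)` and `U`
quasi-compact open, restriction `H^p(U, M) → H^p(U ∩ X_r, M)` is a localisation at `r`.
-/

set_option autoImplicit false

universe u

open CategoryTheory CategoryTheory.Abelian CategoryTheory.Limits AlgebraicGeometry Opposite
  TopologicalSpace

namespace Groth.Agent.Coherent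

section Top

variable {X : TopCat.{u}} {F : Sheaf (Opens.grothendieckTopology X) AddCommGrpCat.{u}}

/-- The action of the `n`-th power of an endomorphism on cohomology. -/
noncomputable def powH (φ : End F) (n p : ℕ) (U : Opens X) :
    Ext (freeSh U) F p →+ Ext (freeSh U) F p :=
  postH (φ ^ n) p U

theorem powH_add (φ : End F) (n m p : ℕ) (U : Opens X) (x : Ext (freeSh U) F p) :
    powH φ (n + m) p U x = powH φ n p U (powH φ m p U x) := by
  unfold powH
  rw [pow_add, End.mul_def, postH_comp]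

theorem powH_zero (φ : End F) (p : ℕ) (U : Opens X) (x : Ext (freeSh U) F p) :
    powH φ 0 p U x = x := by
  unfold powH
  rw [pow_zero, End.one_def, postH_id]

theorem resH_powH (φ : End F) (n p : ℕ) {U V : Opens X} (h : U ≤ V) (x : Ext (freeSh V) F p) :
    resH F p h (powH φ n p V x) = powH φ n p U (resH F p h x) :=
  resH_postH (φ ^ n) p h x

theorem powH_deltaH (φ : End F) (n p : ℕ) (U V : Opens X) (w : Ext (freeSh (U ⊓ V)) F p) :
    powH φ n (p + 1) (U ⊔ V) (deltaH F U V p w) = deltaH F U V p (powH φ n p (U ⊓ V) w) :=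
  postH_deltaH (φ ^ n) p w

theorem powH_eq_zero_of_le (φ : End F) {n m p : ℕ} (h : n ≤ m) {U : Opens X}
    {x : Ext (freeSh U) F p} (hx : powH φ n p U x = 0) : powH φ m p U x = 0 := by
  obtain ⟨k, rfl⟩ := Nat.exists_eq_add_of_le h
  rw [add_comm, powH_add, hx, map_zero]

/-- Restriction in cohomology is a localisation at powers of `φ`. -/
structure IsLocRes (φ : End F) (p : ℕ) {U' U : Opens X} (h : U' ≤ U) : Prop where
  eq_zero : ∀ x : Ext (freeSh U) F p, resH F p h x = 0 → ∃ n, powH φ n p U x = 0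
  surj : ∀ y : Ext (freeSh U') F p, ∃ (n : ℕ) (x : Ext (freeSh U) F p),
    resH F p h x = powH φ n p U' y

theorem IsLocRes.surj' {φ : End F} {p : ℕ} {U' U : Opens X} {h : U' ≤ U} (_hloc : IsLocRes φ p h)
    {n : ℕ} {y : Ext (freeSh U') F p} {x : Ext (freeSh U) F p}
    (hx : resH F p h x = powH φ n p U' y) {m : ℕ} (hnm : n ≤ m) :
    ∃ x' : Ext (freeSh U) F p, resH F p h x' = powH φ m p U' y := by
  obtain ⟨k, rfl⟩ := Nat.exists_eq_add_of_le hnm
  exact ⟨powH φ k p U x, by rw [resH_powH, hx, add_comm, powH_add]⟩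

variable {φ : End F} {U V U' V' : Opens X} {hU : U' ≤ U} {hV : V' ≤ V}

/-- The inductive step: localisation is inherited by unions. -/
theorem IsLocRes.sup (h₁ : ∀ q, IsLocRes φ q hU) (h₂ : ∀ q, IsLocRes φ q hV)
    (h₃ : ∀ q, IsLocRes φ q (inf_le_inf hU hV)) (p : ℕ) :
    IsLocRes φ p (sup_le_sup hU hV) := by
  have hl : ∀ q (z : Ext (freeSh (U ⊔ V)) F q), resH F q hU (resH F q le_sup_left z) =
      resH F q le_sup_left (resH F q (sup_le_sup hU hV) z) := fun q z => by
    rw [resH_resH, resH_resH]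
  have hr : ∀ q (z : Ext (freeSh (U ⊔ V)) F q), resH F q hV (resH F q le_sup_right z) =
      resH F q le_sup_right (resH F q (sup_le_sup hU hV) z) := fun q z => by
    rw [resH_resH, resH_resH]
  have hil : ∀ q (z : Ext (freeSh U) F q), resH F q (inf_le_inf hU hV) (resH F q inf_le_left z) =
      resH F q inf_le_left (resH F q hU z) := fun q z => by
    rw [resH_resH, resH_resH]
  have hir : ∀ q (z : Ext (freeSh V) F q), resH F q (inf_le_inf hU hV) (resH F q inf_le_right z) =
      resH F q inf_le_right (resH F q hV z) := fun q z => by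
    rw [resH_resH, resH_resH]
  constructor
  · intro x hx
    obtain ⟨n₁, e₁⟩ := (h₁ p).eq_zero (resH F p le_sup_left x) (by rw [hl, hx, map_zero])
    obtain ⟨n₂, e₂⟩ := (h₂ p).eq_zero (resH F p le_sup_right x) (by rw [hr, hx, map_zero])
    have f₁ := powH_eq_zero_of_le φ (le_max_left n₁ n₂) e₁
    have f₂ := powH_eq_zero_of_le φ (le_max_right n₁ n₂) e₂
    rw [← resH_powH] at f₁ f₂
    rcases p with _ | q
    · exact ⟨_, eq_zero_of_resH_zero f₁ f₂⟩
    obtain ⟨w, hw⟩ := exists_deltaH f₁ f₂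
    obtain ⟨a, b, hab⟩ := exists_of_deltaH_eq_zero
      (w := resH F q (inf_le_inf hU hV) w) (by
        rw [← resH_deltaH hU hV, hw, resH_powH, hx, map_zero])
    obtain ⟨k₁, a₀, ha₀⟩ := (h₁ q).surj a
    obtain ⟨k₂, b₀, hb₀⟩ := (h₂ q).surj b
    obtain ⟨a', ha'⟩ := (h₁ q).surj' ha₀ (le_max_left k₁ k₂)
    obtain ⟨b', hb'⟩ := (h₂ q).surj' hb₀ (le_max_right k₁ k₂)
    obtain ⟨l, hl'⟩ := (h₃ q).eq_zero
      (powH φ (max k₁ k₂) q (U ⊓ V) w - (resH F q inf_le_left a' - resH F q inf_le_right b')) (by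
        rw [map_sub, map_sub, resH_powH, hil, hir, ha', hb', resH_powH, resH_powH, ← map_sub, hab,
          sub_self])
    rw [map_sub, sub_eq_zero, ← powH_add, map_sub, ← resH_powH, ← resH_powH] at hl'
    refine ⟨l + max k₁ k₂ + max n₁ n₂, ?_⟩
    rw [powH_add, ← hw, powH_deltaH, hl', deltaH_sub_eq_zero]
  · intro y
    obtain ⟨n₁, a₀, ha₀⟩ := (h₁ p).surj (resH F p le_sup_left y)
    obtain ⟨n₂, b₀, hb₀⟩ := (h₂ p).surj (resH F p le_sup_right y)
    obtain ⟨a, ha⟩ := (h₁ p).surj' ha₀ (le_max_left n₁ n₂)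
    obtain ⟨b, hb⟩ := (h₂ p).surj' hb₀ (le_max_right n₁ n₂)
    obtain ⟨m, hm⟩ := (h₃ p).eq_zero (resH F p inf_le_left a - resH F p inf_le_right b) (by
      rw [map_sub, hil, hir, ha, hb, resH_powH, resH_powH, resH_resH, resH_resH, sub_self])
    rw [map_sub, sub_eq_zero, ← resH_powH, ← resH_powH] at hm
    obtain ⟨x₀, hx₀a, hx₀b⟩ := exists_resH_sup hm
    have z₁ : resH F p le_sup_left
        (resH F p (sup_le_sup hU hV) x₀ - powH φ (m + max n₁ n₂) p (U' ⊔ V') y) = 0 := by
      rw [map_sub, ← hl, hx₀a, resH_powH, ha, resH_powH, powH_add, sub_self]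
    have z₂ : resH F p le_sup_right
        (resH F p (sup_le_sup hU hV) x₀ - powH φ (m + max n₁ n₂) p (U' ⊔ V') y) = 0 := by
      rw [map_sub, ← hr, hx₀b, resH_powH, hb, resH_powH, powH_add, sub_self]
    rcases p with _ | q
    · exact ⟨_, x₀, sub_eq_zero.1 (eq_zero_of_resH_zero z₁ z₂)⟩
    obtain ⟨w', hw'⟩ := exists_deltaH z₁ z₂
    obtain ⟨l, w, hw⟩ := (h₃ q).surj w'
    refine ⟨l + (m + max n₁ n₂), powH φ l (q + 1) (U ⊔ V) x₀ - deltaH F U V q w, ?_⟩
    rw [map_sub, resH_powH, resH_deltaH hU hV, hw, ← powH_deltaH, hw', ← map_sub, sub_sub_cancel,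
      ← powH_add]


/-- Degree zero cohomology is sections. -/
noncomputable def secH (F : Sheaf (Opens.grothendieckTopology X) AddCommGrpCat.{u}) (U : Opens X) :
    Ext (freeSh U) F 0 ≃+ F.obj.obj (op U) :=
  Ext.addEquiv₀.trans (freeShEquiv U F)

theorem secH_mk₀ (U : Opens X) (f : freeSh U ⟶ F) :
    secH F U (Ext.mk₀ f) = freeShEquiv U F f := by
  change freeShEquiv U F (Ext.addEquiv₀ (Ext.addEquiv₀.symm f)) = _
  rw [AddEquiv.apply_symm_apply]

theorem secH_resH {U V : Opens X} (h : U ≤ V) (x : Ext (freeSh V) F 0) :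
    secH F U (resH F 0 h x) = F.obj.map (homOfLE h).op (secH F V x) := by
  obtain ⟨f, rfl⟩ := Ext.addEquiv₀.symm.surjective x
  rw [Ext.addEquiv₀_symm_apply, resH_apply, Ext.mk₀_comp_mk₀, secH_mk₀, secH_mk₀, freeShEquiv_map]

theorem secH_postH {G : Sheaf (Opens.grothendieckTopology X) AddCommGrpCat.{u}} (ψ : F ⟶ G)
    (U : Opens X) (x : Ext (freeSh U) F 0) :
    secH G U (postH ψ 0 U x) = ψ.hom.app (op U) (secH F U x) := by
  obtain ⟨f, rfl⟩ := Ext.addEquiv₀.symm.surjective x
  rw [Ext.addEquiv₀_symm_apply, postH_apply, Ext.mk₀_comp_mk₀, secH_mk₀, secH_mk₀, freeShEquiv_comp]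

end Top

section Scheme

variable {X : Scheme.{u}}

/-- Multiplication by a global function, as an endomorphism of the underlying abelian sheaf. -/
noncomputable def smulEndAb (M : X.Modules) (r : Γ(X, ⊤)) : End (Coh.toAb M) := Coh.smulAb M r

theorem smulEndAb_pow (M : X.Modules) (r : Γ(X, ⊤)) (n : ℕ) :
    smulEndAb M r ^ n = smulEndAb M (r ^ n) := by
  induction n with
  | zero =>
    rw [pow_zero, pow_zero]
    exact (Coh.smulAb_one M).symm
  | succ n ih =>
    rw [pow_succ, pow_succ, ih]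
    exact (Coh.smulAb_mul M (r ^ n) r).symm

theorem smulEndAb_app (M : X.Modules) (r : Γ(X, ⊤)) (U : X.Opens) (m : Γ(M, U)) :
    (smulEndAb M r).hom.app (op U) m = X.presheaf.map (homOfLE (le_top (a := U))).op r • m := rfl

/-- The predicate for `X_r ∩ U → U`. -/
abbrev IsLocResSch (M : X.Modules) (r : Γ(X, ⊤)) (p : ℕ) {W U : X.Opens} (h : W ≤ U) : Prop :=
  IsLocRes (X := X.toTopCat) (F := Coh.toAb M) (smulEndAb M r) p (U' := W) (U := U) h

theorem isLocRes_affine_zero (M : X.Modules) [Coh.IsQCoh M] {U : X.Opens} (hU : IsAffineOpen U)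
    (r : Γ(X, ⊤)) :
    IsLocResSch M r 0 (W := X.basicOpen (X.presheaf.map (homOfLE (le_top (a := U))).op r))
      (X.basicOpen_le _) := by
  let g := X.presheaf.map (homOfLE (le_top (a := U))).op r
  let W := X.basicOpen g
  let e := secH (X := X.toTopCat) (Coh.toAb M) U
  let e' := secH (X := X.toTopCat) (Coh.toAb M) W
  constructor
  · intro x hx
    have hx' : resM M (X.basicOpen_le g) (e x) = 0 :=
      (secH_resH (X := X.toTopCat) _ x).symm.trans ((congrArg e' hx).trans (map_zero e'))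
    obtain ⟨n, hn⟩ := qcoh_exists_pow_smul_eq_zero hU M g (e x) hx'
    refine ⟨n, e.injective ?_⟩
    refine (secH_postH (X := X.toTopCat) _ U x).trans ?_
    rw [smulEndAb_pow, map_zero]
    refine (smulEndAb_app M (r ^ n) U (e x)).trans ?_
    rw [map_pow]
    exact hn
  · intro y
    obtain ⟨n, t, ht⟩ := qcoh_exists_pow_smul hU M g (e' y)
    refine ⟨n, e.symm t, e'.injective ?_⟩
    refine (secH_resH (X := X.toTopCat) _ _).trans ?_
    refine Eq.trans ?_ (secH_postH (X := X.toTopCat) _ W y).symm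
    rw [smulEndAb_pow]
    refine Eq.trans ?_ (smulEndAb_app M (r ^ n) W (e' y)).symm
    refine (congrArg _ (e.apply_symm_apply t)).trans ?_
    refine ht.trans ?_
    rw [map_pow, map_pow]
    congr 2
    exact (ConcreteCategory.congr_hom (X.presheaf.map_comp _ _) r).symm

theorem isLocRes_of_isAffineOpen (M : X.Modules) [Coh.IsQCoh M] {U W : X.Opens}
    (hU : IsAffineOpen U) (r : Γ(X, ⊤)) (p : ℕ) (h : W ≤ U) (e : W = U ⊓ X.basicOpen r) :
    IsLocResSch M r p h := by
  obtain rfl : W = X.basicOpen (X.presheaf.map (homOfLE (le_top (a := U))).op r) :=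
    e.trans (X.basicOpen_res r _).symm
  rcases p with _ | q
  · exact isLocRes_affine_zero M hU r
  · have h₁ := subsingleton_H'_qcoh M hU q
    have h₂ := subsingleton_H'_qcoh M (hU.basicOpen (X.presheaf.map (homOfLE le_top).op r)) q
    exact ⟨fun x _ => ⟨0, h₁.elim _ _⟩, fun y => ⟨0, 0, h₂.elim _ _⟩⟩

/-- Cohomology over `U ∩ X_r` is the localisation of cohomology over `U`. -/
theorem isLocRes_of_isCompact [CompactSpace X] [QuasiSeparatedSpace X] (M : X.Modules)
    [Coh.IsQCoh M] (r : Γ(X, ⊤)) {U : X.Opens} (hU : IsCompact (U : Set X)) :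
    ∀ (p : ℕ) (W : X.Opens) (h : W ≤ U), W = U ⊓ X.basicOpen r → IsLocResSch M r p h := by
  refine Groth.Agent.S0015.result X (fun U => ∀ (p : ℕ) (W : X.Opens) (h : W ≤ U),
    W = U ⊓ X.basicOpen r → IsLocResSch M r p h)
    (fun U hU p W h e => isLocRes_of_isAffineOpen M hU r p h e) ?_ U hU
  intro U V _ _ hPU hPV hPI p W h e
  obtain rfl : W = (U ⊓ X.basicOpen r) ⊔ (V ⊓ X.basicOpen r) := e.trans (inf_sup_right U V _)
  refine IsLocRes.sup (X := X.toTopCat) (hU := inf_le_left) (hV := inf_le_left)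
    (fun q => hPU q _ _ rfl) (fun q => hPV q _ _ rfl) (fun q => ?_) p
  exact hPI q _ _ (inf_inf_distrib_right U V (X.basicOpen r)).symm

/-- `H^p(X_r, M)` is the localisation of `H^p(X, M)`. -/
theorem isLocRes_top [CompactSpace X] [QuasiSeparatedSpace X] (M : X.Modules)
    [Coh.IsQCoh M] (r : Γ(X, ⊤)) (p : ℕ) : IsLocResSch M r p (le_top (a := X.basicOpen r)) :=
  isLocRes_of_isCompact M r (U := ⊤) isCompact_univ p _ _ (top_inf_eq _).symm

end Scheme

end Groth.Agent.Coherent
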