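import Groth.Agent.Coherent.Vanishing
import Groth.Agent.Coherent.CohOps
import Groth.Agent.Coherent.CohLocalize
import Groth.Agent.Props12.KerReduced
import Mathlib.AlgebraicGeometry.Morphisms.Affine

/-!
# Serre's criterion of affineness
-/

set_option autoImplicit false

universe u

open CategoryTheory CategoryTheory.Abelian CategoryTheory.Limits AlgebraicGeometry Opposite
  TopologicalSpace

namespace Groth.Agent.Coherent

variable {X : Scheme.{u}}

section Sections

/-- Global sections of a short exact sequence are surjective when `H¹` of the kernel vanishes. -/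
theorem sections_top_surjective_of_subsingleton {S : ShortComplex X.Modules} (hS : S.ShortExact)
    (h : Subsingleton (Sheaf.H' (Coh.toAb S.X₁) 1 (⊤ : X.Opens))) :
    Function.Surjective (S.g.app (⊤ : X.Opens)) := by
  intro a
  have hS' := toAb_shortExact hS
  let A := freeSh (X := X.toTopCat) (⊤ : X.Opens)
  let e := secH (X := X.toTopCat) (Coh.toAb S.X₃) (⊤ : X.Opens)
  obtain ⟨y, hy⟩ := Ext.covariant_sequence_exact₃ A hS' (e.symm a) (rfl : 0 + 1 = 1) (h.elim _ _)
  refine ⟨secH (X := X.toTopCat) (Coh.toAb S.X₂) (⊤ : X.Opens) y, ?_⟩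
  refine ((secH_postH (X := X.toTopCat) (F := Coh.toAb S.X₂) (G := Coh.toAb S.X₃)
    ((toAbFunctor X).map S.g) (⊤ : X.Opens) y).symm.trans ?_).trans (e.apply_symm_apply a)
  exact congrArg e hy

/-- Vanishing of cohomology of an extension. -/
theorem subsingleton_H'_X₂ {S : ShortComplex X.Modules} (hS : S.ShortExact) (n : ℕ) (U : X.Opens)
    (h₁ : Subsingleton (Sheaf.H' (Coh.toAb S.X₁) n U))
    (h₃ : Subsingleton (Sheaf.H' (Coh.toAb S.X₃) n U)) :
    Subsingleton (Sheaf.H' (Coh.toAb S.X₂) n U) := by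
  refine subsingleton_of_forall_eq 0 fun x => ?_
  have hS' := toAb_shortExact hS
  have hz : ∀ z : Ext (freeSh (X := X.toTopCat) U) (Coh.toAb S.X₃) n, z = 0 := fun z => h₃.elim z 0
  obtain ⟨y, hy⟩ := Ext.covariant_sequence_exact₂ (freeSh (X := X.toTopCat) U) hS' (n := n) x (hz _)
  have hy0 : y = 0 := h₁.elim y 0
  rw [hy0, Ext.zero_comp] at hy
  exact hy.symm

/-- Two sections agreeing on the intersection glue. -/
theorem exists_glue (M : X.Modules) {U V : X.Opens} (h : U ⊔ V = ⊤) (a : Γ(M, U)) (b : Γ(M, V))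
    (hab : resM M inf_le_left a = resM M (inf_le_right : U ⊓ V ≤ V) b) :
    ∃ x : Γ(M, ⊤), resM M le_top x = a ∧ resM M le_top x = b := by
  let F := Coh.toAb M
  let eU := secH (X := X.toTopCat) F U
  let eV := secH (X := X.toTopCat) F V
  obtain ⟨z, hz₁, hz₂⟩ := exists_resH_sup (X := X.toTopCat) (F := F) (a := eU.symm a)
    (b := eV.symm b) (by
      apply (secH (X := X.toTopCat) F (U ⊓ V)).injective
      refine (secH_resH (X := X.toTopCat) _ _).trans ?_
      refine Eq.trans ?_ (secH_resH (X := X.toTopCat) _ _).symm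
      exact (congrArg _ (eU.apply_symm_apply a)).trans (hab.trans
        (congrArg _ (eV.apply_symm_apply b)).symm))
  let x : Γ(M, U ⊔ V) := secH (X := X.toTopCat) F (U ⊔ V) z
  have hx₁ : resM M le_sup_left x = a :=
    ((secH_resH (X := X.toTopCat) _ z).symm.trans (congrArg eU hz₁)).trans (eU.apply_symm_apply a)
  have hx₂ : resM M le_sup_right x = b :=
    ((secH_resH (X := X.toTopCat) _ z).symm.trans (congrArg eV hz₂)).trans (eV.apply_symm_apply b)
  exact ⟨resM M h.ge x, by rw [resM_resM, hx₁], by rw [resM_resM, hx₂]⟩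

end Sections

section IdealOfClosed

/-- The reduced closed subscheme on a closed set. -/
noncomputable abbrev redSub (Z : Closeds X) : Scheme.{u} :=
  (Scheme.IdealSheafData.vanishingIdeal Z).subscheme

/-- The inclusion of the reduced closed subscheme. -/
noncomputable abbrev redι (Z : Closeds X) : redSub Z ⟶ X :=
  (Scheme.IdealSheafData.vanishingIdeal Z).subschemeι

/-- `O_X → i_* O_Z`. -/
noncomputable def toRedSub (Z : Closeds X) :
    Coh.structureModule X ⟶ (Coh.push (redι Z)).obj (Coh.structureModule (redSub Z)) :=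
  unitDesc _ (1 : Γ(redSub Z, redι Z ⁻¹ᵁ ⊤))

/-- The ideal of functions vanishing on a closed set. -/
noncomputable abbrev idealOf (Z : Closeds X) : X.Modules := kernel (toRedSub Z)

theorem isQCoh_idealOf (Z : Closeds X) : Coh.IsQCoh (idealOf Z) := by
  have : Coh.IsQCoh (Coh.structureModule X) := isQCoh_structureModule (X := X)
  have : Coh.IsQCoh (Coh.structureModule (redSub Z)) := isQCoh_structureModule (X := redSub Z)
  have : Coh.IsQCoh ((Coh.push (redι Z)).obj (Coh.structureModule (redSub Z))) :=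
    isQCoh_push (redι Z) _
  exact isQCoh_kernel _

theorem toRedSub_app (Z : Closeds X) (W : X.Opens) (f : Γ(X, W)) :
    (toRedSub Z).app W f = (redι Z).app W f := by
  refine (app_unit (toRedSub Z) f).trans ?_
  refine (congrArg (f • ·) (unitVal_unitDesc
    ((Coh.push (redι Z)).obj (Coh.structureModule (redSub Z))) _ W)).trans ?_
  exact (congrArg (fun z : Γ(redSub Z, redι Z ⁻¹ᵁ W) => (redι Z).app W f * z)
    (map_one ((redSub Z).presheaf.map _).hom)).trans (mul_one _)

theorem toRedSub_app_eq_zero_iff (Z : Closeds X) (W : X.Opens) (f : Γ(X, W)) :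
    (toRedSub Z).app W f = 0 ↔ ∀ z ∈ Z, z ∉ X.basicOpen f := by
  have := Props12.isReduced_subscheme_vanishingIdeal Z
  have hr : Set.range (redι Z) = (Z : Set X) := by
    rw [Scheme.IdealSheafData.range_subschemeι, Scheme.IdealSheafData.coe_support_vanishingIdeal]
  rw [toRedSub_app]
  refine Iff.trans (basicOpen_eq_bot_iff _).symm ?_
  rw [← Scheme.preimage_basicOpen]
  constructor
  · intro h z hz hzf
    obtain ⟨y, rfl⟩ : z ∈ Set.range (redι Z) := hr.superset hz
    exact (h.le hzf : y ∈ (⊥ : (redSub Z).Opens)).elim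
  · intro h
    refine eq_bot_iff.2 fun y hy => ?_
    have hy' : (redι Z) y ∈ Z := hr.subset (Set.mem_range_self y)
    exact (h _ hy' hy).elim

/-- Membership in the ideal. -/
theorem exists_idealOf_iff (Z : Closeds X) (W : X.Opens) (f : Γ(X, W)) :
    (∃ k, (kernel.ι (toRedSub Z)).app W k = f) ↔ ∀ z ∈ Z, z ∉ X.basicOpen f := by
  rw [← toRedSub_app_eq_zero_iff]
  constructor
  · rintro ⟨k, rfl⟩
    exact kernel_ι_app_zero _ W k
  · intro h
    exact kernel_sections_exact (toRedSub Z) (U := W) f h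

/-- The inclusion of ideals. -/
noncomputable def idealOfLE {Z Z' : Closeds X} (h : Z ≤ Z') : idealOf Z' ⟶ idealOf Z :=
  kernel.lift _ (kernel.ι (toRedSub Z')) (Scheme.Modules.hom_ext _ _ fun W => by
    ext k
    refine (toRedSub_app_eq_zero_iff Z W _).2 fun z hz => ?_
    exact (toRedSub_app_eq_zero_iff Z' W _).1 (kernel_ι_app_zero _ W k) z (h hz))

theorem idealOfLE_ι {Z Z' : Closeds X} (h : Z ≤ Z') :
    idealOfLE h ≫ kernel.ι (toRedSub Z) = kernel.ι (toRedSub Z') :=
  kernel.lift_ι _ _ _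

instance mono_idealOfLE {Z Z' : Closeds X} (h : Z ≤ Z') : Mono (idealOfLE h) :=
  mono_of_mono_fac (idealOfLE_ι h)

end IdealOfClosed

/-- Surjectivity of global sections on sequences whose kernel is a quasi-coherent module with
finitely many jointly injective maps to the structure sheaf. -/
def SectionsExact (X : Scheme.{u}) : Prop :=
  ∀ (S : ShortComplex X.Modules) (n : ℕ) (φ : Fin n → (S.X₁ ⟶ Coh.structureModule X)),
    S.ShortExact → (∀ (W : X.Opens) (a : Γ(S.X₁, W)), (∀ i, (φ i).app W a = 0) → a = 0) →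
      Coh.IsQCoh S.X₁ → Coh.IsQCoh S.X₂ → Coh.IsQCoh S.X₃ →
        Function.Surjective (S.g.app (⊤ : X.Opens))

/-- A closed point has an affine neighbourhood `X_f`. -/
theorem exists_isAffineOpen_basicOpen (H : SectionsExact X) {x : X} (hx : IsClosed ({x} : Set X)) :
    ∃ f : Γ(X, ⊤), x ∈ X.basicOpen f ∧ IsAffineOpen (X.basicOpen f) := by
  obtain ⟨U, hU, hxU, -⟩ :=
    Opens.isBasis_iff_nbhd.mp X.isBasis_affineOpens (Opens.mem_top x)
  let Z : Closeds X := ⟨(U : Set X)ᶜ, U.2.isClosed_compl⟩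
  let Z' : Closeds X := Z ⊔ ⟨{x}, hx⟩
  let i := idealOfLE (le_sup_left : Z ≤ Z')
  have := isQCoh_idealOf Z
  have := isQCoh_idealOf Z'
  have hQ : Coh.IsQCoh (cokernel i) := isQCoh_cokernel i
  let S : ShortComplex X.Modules := ShortComplex.mk i (cokernel.π i) (cokernel.condition i)
  have hS : S.ShortExact :=
    { exact := S.exact_of_g_is_cokernel (cokernelIsCokernel i) }
  have hone : ∃ k, (kernel.ι (toRedSub Z)).app U k = (1 : Γ(X, U)) :=
    (exists_idealOf_iff Z U 1).2 fun z hz hz' => hz (X.basicOpen_le _ hz')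
  obtain ⟨k₁, hk₁⟩ := hone
  let V : X.Opens := ⟨{x}ᶜ, hx.isOpen_compl⟩
  have hUV : U ⊔ V = ⊤ := eq_top_iff.2 fun z _ => by
    by_cases h : z = x
    · exact Or.inl (h ▸ hxU)
    · exact Or.inr h
  have hvanish : ∃ k', (kernel.ι (toRedSub Z')).app (U ⊓ V) k' = (1 : Γ(X, U ⊓ V)) := by
    refine (exists_idealOf_iff Z' (U ⊓ V) 1).2 fun z hz hz' => ?_
    obtain ⟨hzU, hzV⟩ := X.basicOpen_le _ hz'
    rcases hz with hz | hz
    · exact hz hzU
    · exact hzV hz
  obtain ⟨k', hk'⟩ := hvanish
  have hzero : resM (cokernel i) (inf_le_left : U ⊓ V ≤ U) ((cokernel.π i).app U k₁) = 0 := by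
    rw [← app_resM]
    have e : resM (idealOf Z) inf_le_left k₁ = i.app (U ⊓ V) k' := by
      apply app_injective_of_mono (kernel.ι (toRedSub Z)) (U ⊓ V)
      rw [app_resM, hk₁]
      refine (map_one (X.presheaf.map (homOfLE (inf_le_left : U ⊓ V ≤ U)).op).hom).trans ?_
      rw [← hk', ← idealOfLE_ι (le_sup_left : Z ≤ Z')]
      rfl
    rw [e]
    exact sections_zero (S := S) _ k'
  obtain ⟨q, hqU, -⟩ := exists_glue (cokernel i) hUV ((cokernel.π i).app U k₁) 0
    (hzero.trans (map_zero _).symm)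
  have hn : ∀ (W : X.Opens) (a : Γ(S.X₁, W)),
      (∀ _ : Fin 1, (kernel.ι (toRedSub Z')).app W a = 0) → a = 0 := fun W a ha =>
    app_injective_of_mono (kernel.ι (toRedSub Z')) W ((ha 0).trans (map_zero _).symm)
  obtain ⟨k, hk⟩ := H S 1 (fun _ => kernel.ι (toRedSub Z')) hS hn inferInstance inferInstance
    inferInstance q
  let f : Γ(X, ⊤) := (kernel.ι (toRedSub Z)).app ⊤ k
  have hfU : X.basicOpen f ≤ U := fun z hz => by
    by_contra h
    exact (exists_idealOf_iff Z ⊤ f).1 ⟨k, rfl⟩ z h hz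
  obtain ⟨c, hc⟩ := sections_exact hS (resM (idealOf Z) le_top k - k₁) (by
    rw [map_sub]
    refine sub_eq_zero.2 ?_
    rw [app_resM]
    exact (congrArg (resM (cokernel i) le_top) hk).trans hqU)
  let fU : Γ(X, U) := X.presheaf.map (homOfLE (le_top (a := U))).op f
  let g : Γ(X, U) := fU - 1
  have hxg : x ∉ X.basicOpen g := by
    refine (exists_idealOf_iff Z' U g).1 ⟨c, ?_⟩ x (Or.inr rfl)
    have : (i ≫ kernel.ι (toRedSub Z)).app U c = g := by
      refine (congrArg ((kernel.ι (toRedSub Z)).app U) hc).trans ?_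
      rw [map_sub, app_resM, hk₁]
      rfl
    rwa [idealOfLE_ι] at this
  have hxf : x ∈ X.basicOpen f := by
    have h : x ∈ X.basicOpen fU := by
      refine (Scheme.mem_basicOpen'' _ _ _).2 ⟨hxU, ?_⟩
      have hxg' : ¬ IsUnit (X.presheaf.germ U x hxU g) := fun h =>
        hxg ((Scheme.mem_basicOpen'' _ _ _).2 ⟨hxU, h⟩)
      rw [map_sub, map_one] at hxg'
      rcases IsLocalRing.isUnit_or_isUnit_one_sub_self (X.presheaf.germ U x hxU fU) with h | h
      · exact h
      · exact absurd (by simpa using h.neg) hxg'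
    rw [Scheme.basicOpen_res] at h
    exact h.2
  refine ⟨f, hxf, ?_⟩
  rw [← inf_eq_right.2 hfU, ← Scheme.basicOpen_res X f (homOfLE (le_top (a := U))).op]
  exact hU.basicOpen _

/-- Serre's criterion, in terms of global sections. -/
theorem isAffine_of_sectionsExact [CompactSpace X] (H : SectionsExact X) : IsAffine X := by
  classical
  let s : Set Γ(X, ⊤) := {f | IsAffineOpen (X.basicOpen f)}
  have hcov : ∀ x : X, ∃ f ∈ s, x ∈ X.basicOpen f := by
    intro x
    obtain ⟨y, hy, hyc⟩ := (isClosed_closure (s := ({x} : Set X))).exists_closed_singleton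
      ⟨x, subset_closure rfl⟩
    obtain ⟨f, hyf, hf⟩ := exists_isAffineOpen_basicOpen H hyc
    obtain ⟨z, hzf, rfl⟩ := mem_closure_iff.1 hy _ (X.basicOpen f).2 hyf
    exact ⟨f, hf, hzf⟩
  obtain ⟨t, ht⟩ := isCompact_univ.elim_finite_subcover
    (fun f : s => (X.basicOpen (f : Γ(X, ⊤)) : Set X)) (fun f => (X.basicOpen (f : Γ(X, ⊤))).2)
    (fun x _ => by
      obtain ⟨f, hf, hx⟩ := hcov x
      exact Set.mem_iUnion.2 ⟨⟨f, hf⟩, hx⟩)
  obtain ⟨n, g, hg⟩ : ∃ (n : ℕ) (g : Fin n → s), ∀ f ∈ t, ∃ i, g i = f :=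
    ⟨t.card, fun i => (t.equivFin.symm i).1, fun f hf => ⟨t.equivFin ⟨f, hf⟩, by simp⟩⟩
  let I := ULift.{u} (Fin n)
  let φ : freeMod X I ⟶ Coh.structureModule X :=
    freeDesc fun i => unitDesc _ (g i.down : Γ(X, ⊤))
  have happ : ∀ (W : X.Opens) (a : Γ(freeMod X I, W)), φ.app W a =
      ∑ i, freeCoord W i a * X.presheaf.map (homOfLE (le_top (a := W))).op (g i.down : Γ(X, ⊤)) := by
    intro W a
    refine (freeMod_app φ a).trans (Finset.sum_congr rfl fun i _ => ?_)
    rw [freeInj_freeDesc]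
    exact congrArg (freeCoord W i a • ·) (unitVal_unitDesc (Coh.structureModule X) _ W)
  have : Epi φ := by
    refine epi_of_locally_surjective φ fun W a y hy => ?_
    obtain ⟨f, hft, hyf⟩ := Set.mem_iUnion₂.1 (ht (Set.mem_univ y))
    obtain ⟨i, rfl⟩ := hg f hft
    let W' : X.Opens := W ⊓ X.basicOpen (g i : Γ(X, ⊤))
    have hu := isUnit_res_pow (g i : Γ(X, ⊤)) (le_top (a := W')) inf_le_right 1
    rw [pow_one] at hu
    obtain ⟨v, hv⟩ := hu.exists_left_inv
    let aW : Γ(X, W') := resM (Coh.structureModule X) inf_le_left a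
    refine ⟨W', inf_le_left, ⟨hy, hyf⟩,
      (freeSectionsEquiv W').symm (Pi.single (ULift.up i) (aW * v)), ?_⟩
    rw [happ, Finset.sum_eq_single (ULift.up i)]
    · have := congrFun ((freeSectionsEquiv W').apply_symm_apply
        (Pi.single (ULift.up i) (aW * v))) (ULift.up i)
      refine (congrArg (· * _) this).trans ?_
      rw [Pi.single_eq_same]
      exact ((mul_assoc aW v _).trans (congrArg (aW * ·) hv)).trans (mul_one aW)
    · intro j _ hj
      have := congrFun ((freeSectionsEquiv W').apply_symm_apply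
        (Pi.single (ULift.up i) (aW * v))) j
      rw [Pi.single_eq_of_ne hj] at this
      exact (congrArg (· * _) this).trans (zero_mul _)
    · exact fun h => absurd (Finset.mem_univ _) h
  have : Coh.IsQCoh (Coh.structureModule X) := isQCoh_structureModule (X := X)
  have : Coh.IsQCoh (freeMod X I) := isQCoh_freeMod (X := X) (I := I)
  have : Coh.IsQCoh (kernel φ) := isQCoh_kernel φ
  let S : ShortComplex X.Modules := ShortComplex.mk (kernel.ι φ) φ (kernel.condition φ)
  have hS : S.ShortExact := { exact := S.exact_of_f_is_kernel (kernelIsKernel φ) }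
  have hn : ∀ (W : X.Opens) (a : Γ(S.X₁, W)),
      (∀ i : Fin n, (kernel.ι φ ≫ freeProj (ULift.up i)).app W a = 0) → a = 0 := by
    intro W a ha
    apply app_injective_of_mono (kernel.ι φ) W
    rw [map_zero]
    refine (freeSectionsEquiv W).injective ?_
    rw [map_zero]
    exact funext fun i => ha i.down
  obtain ⟨a, ha⟩ := H S n (fun i => kernel.ι φ ≫ freeProj (ULift.up i)) hS hn inferInstance
    inferInstance inferInstance (1 : Γ(X, ⊤))
  refine isAffine_of_isAffineOpen_basicOpen s ?_ (fun f hf => hf)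
  rw [Ideal.eq_top_iff_one]
  refine ((happ ⊤ a).symm.trans ha).symm ▸ ?_
  refine Ideal.sum_mem _ fun i _ => Ideal.mul_mem_left _ _ ?_
  refine Ideal.subset_span ?_
  convert (g i.down).2
  exact ConcreteCategory.congr_hom (X.presheaf.map_id (op ⊤)) _

/-- Induction on the number of jointly injective maps to the structure sheaf. -/
theorem subsingleton_H'_one_of_maps
    (h : ∀ (J : X.Modules) (i : J ⟶ Coh.structureModule X), Mono i → Coh.IsQCoh J →
      Subsingleton (Sheaf.H' (Coh.toAb J) 1 (⊤ : X.Opens))) :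
    ∀ (n : ℕ) (K : X.Modules) (φ : Fin n → (K ⟶ Coh.structureModule X)), Coh.IsQCoh K →
      (∀ (W : X.Opens) (a : Γ(K, W)), (∀ i, (φ i).app W a = 0) → a = 0) →
      Subsingleton (Sheaf.H' (Coh.toAb K) 1 (⊤ : X.Opens)) := by
  intro n
  induction n with
  | zero =>
    intro K φ hK hφ
    refine h K 0 ?_ hK
    refine ⟨fun a b _ => Scheme.Modules.hom_ext _ _ fun W => ?_⟩
    ext z
    exact (hφ W _ finZeroElim).trans (hφ W _ finZeroElim).symm
  | succ n ih =>
    intro K φ hK hφ
    let ψ := φ (Fin.last n)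
    have : Coh.IsQCoh (Coh.structureModule X) := isQCoh_structureModule (X := X)
    have := hK
    have : Coh.IsQCoh (kernel ψ) := isQCoh_kernel ψ
    have : Coh.IsQCoh (Abelian.image ψ) := isQCoh_image ψ
    let S : ShortComplex X.Modules := ShortComplex.mk (kernel.ι ψ) (Abelian.factorThruImage ψ)
      (by rw [← cancel_mono (Abelian.image.ι ψ), Category.assoc, Abelian.image.fac,
        kernel.condition, zero_comp])
    have hS : S.ShortExact :=
      { exact := by
          refine S.exact_of_f_is_kernel (KernelFork.IsLimit.ofι' _ _ fun {A} k hk =>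
            ⟨kernel.lift ψ k ?_, kernel.lift_ι _ _ _⟩)
          rw [← Abelian.image.fac ψ, ← Category.assoc, hk, zero_comp] }
    refine subsingleton_H'_X₂ hS 1 _ ?_ (h _ (Abelian.image.ι ψ) inferInstance inferInstance)
    refine ih (kernel ψ) (fun i => kernel.ι ψ ≫ φ i.castSucc) inferInstance fun W a ha => ?_
    refine app_injective_of_mono (kernel.ι ψ) W ((hφ W _ fun i => ?_).trans (map_zero _).symm)
    induction i using Fin.lastCases with
    | last => exact kernel_ι_app_zero ψ W a
    | cast j => exact ha j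

/-- Serre's criterion of affineness. -/
theorem isAffine_of_H'_one [CompactSpace X]
    (h : ∀ (J : X.Modules) (i : J ⟶ Coh.structureModule X), Mono i → Coh.IsQCoh J →
      Subsingleton (Sheaf.H' (Coh.toAb J) 1 (⊤ : X.Opens))) : IsAffine X :=
  isAffine_of_sectionsExact fun _ n φ hS hn h₁ _ _ =>
    sections_top_surjective_of_subsingleton hS (subsingleton_H'_one_of_maps h n _ φ h₁ hn)

end Groth.Agent.Coherent
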