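import Groth.Agent.Coherent.RpushComp
import Groth.Agent.Coherent.RpushCoh
import Groth.Agent.Coherent.ProperOverApps

/-!
# Higher direct images of coherent modules with proper support
-/

set_option autoImplicit false

universe u

open CategoryTheory CategoryTheory.Limits AlgebraicGeometry

namespace Groth.Agent.Coherent

variable {X S : Scheme.{u}} (f : X ⟶ S)

theorem isCoh_of_isQCoh_of_isFT [IsLocallyNoetherian X] (G : X.Modules) (hq : Coh.IsQCoh G)
    (hft : CohB1.IsFT G) : Coh.IsCoh G :=
  (isCoh_iff_finite_sections _).2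
    ⟨hq, fun V hV => have := hq; finite_sections G (locallyFinGen_of_isFT G hft) hV⟩

theorem isCoh_of_iso [IsLocallyNoetherian X] {M N : X.Modules} (e : M ≅ N) (hM : Coh.IsCoh M) :
    Coh.IsCoh N := by
  have := hM.1
  refine (isCoh_iff_finite_sections _).2 ⟨isQCoh_of_iso e, fun V hV => ?_⟩
  have := ((isCoh_iff_finite_sections _).1 hM).2 V hV
  exact Module.Finite.of_surjective (appLin e.hom V) fun x =>
    ⟨e.inv.app V x, congrArg (fun ψ : N ⟶ N => ψ.app V x) e.inv_hom_id⟩

theorem isCoh_rpush_of_isProperOver [LocallyOfFiniteType f] [IsLocallyNoetherian S]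
    [HasInjectiveResolutions X.Modules] {F : X.Modules} (hF : Coh.IsCoh F)
    (hs : ClSub.IsProperOver f (CohB1.support F)) (p : ℕ) :
    Coh.IsCoh ((Coh.Rpush f p).obj F) := by
  have : IsLocallyNoetherian X := LocallyOfFiniteType.isLocallyNoetherian f
  have hft : CohB1.IsFT F := hF.2
  let J := annSheaf hF.1 hft
  have hk := killed_ker_annSheaf hF.1 hft
  have := hF.1
  have : IsProper (J.subschemeι ≫ f) := by
    refine isProper_of_isProperOver f hs J.subschemeι ?_
    rw [J.range_subschemeι]
    exact support_annSheaf hF.1 hft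
  have := hasInjectiveResolutions_modules J.subscheme
  let G := (Scheme.Modules.pullback J.subschemeι).obj F
  have hG : Coh.IsCoh G :=
    have : IsLocallyNoetherian J.subscheme := LocallyOfFiniteType.isLocallyNoetherian J.subschemeι
    isCoh_of_isQCoh_of_isFT G (EGA43.InjFibre.isQCoh_pullback J.subschemeι F)
      (isFT_pullback_of_killed _ hk hF.1 hft)
  obtain ⟨e⟩ := nonempty_rpush_comp_closedImmersion J.subschemeι f G p
  exact isCoh_of_iso (e ≪≫ (Coh.Rpush f p).mapIso (clIso _ hk).symm)
    (isCoh_rpush (J.subschemeι ≫ f) hG p)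

end Groth.Agent.Coherent
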