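import Groth.Agent.Coherent.FibreVanish
import Groth.Agent.Coherent.SecBridge
import Groth.Agent.Coherent.Affineness
import Groth.Agent.Coherent.RpushSupport
import Groth.Agent.AmpleLib.Relative
import Mathlib.AlgebraicGeometry.PullbackCarrier

/-!
# Zariski's connectedness theorem

If `f` is proper over a locally Noetherian base and `f_* O_X = O_Y`, the fibres of `f` are connected.
-/

set_option autoImplicit false
set_option backward.isDefEq.respectTransparency false

universe u

open CategoryTheory CategoryTheory.Limits AlgebraicGeometry Opposite TopologicalSpace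

namespace Groth.Agent.Coherent

section Eval

variable {X W : Scheme.{u}}

/-- `O_X → σ_* O_W`. -/
noncomputable def pushRingUnit (σ : W ⟶ X) :
    Coh.structureModule X ⟶ (Coh.push σ).obj (Coh.structureModule W) :=
  unitDesc _ (1 : Γ(W, σ ⁻¹ᵁ ⊤))

theorem pushRingUnit_app (σ : W ⟶ X) (U : X.Opens) (r : Γ(X, U)) :
    (pushRingUnit σ).app U r = σ.app U r := by
  refine (app_unit (pushRingUnit σ) r).trans ?_
  refine (congrArg (r • ·) (unitVal_unitDesc
    ((Coh.push σ).obj (Coh.structureModule W)) _ U)).trans ?_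
  exact (congrArg (fun z : Γ(W, σ ⁻¹ᵁ U) => σ.app U r * z)
    (map_one (W.presheaf.map _).hom)).trans (mul_one _)

end Eval

section Local

variable {A : Type u} [CommRing A] {X : Scheme.{u}} [X.Over (Spec (CommRingCat.of A))] (I : Ideal A)

/-- Evaluation of sections of `O_X/I O_X` at a point over `V(I)`. -/
theorem exists_modPow_eval (z : X)
    (hz : z ∈ (X ↘ Spec (CommRingCat.of A)) ⁻¹' PrimeSpectrum.zeroLocus (I : Set A)) :
    ∃ ev : Γ(Formal.modPow I 1 (Coh.structureModule X), ⊤) →+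
        Γ(Spec (X.residueField z), X.fromSpecResidueField z ⁻¹ᵁ ⊤),
      ev ((Formal.modPowπ I 1 (Coh.structureModule X)).app ⊤ (1 : Γ(X, ⊤))) =
        (1 : Γ(Spec (X.residueField z), X.fromSpecResidueField z ⁻¹ᵁ ⊤)) ∧
      (∀ (s : Γ(Formal.modPow I 1 (Coh.structureModule X), ⊤)) (U : X.Opens), z ∈ U →
        resM _ (le_top (a := U)) s = 0 → ev s = 0) ∧
      ∀ r : Γ(X, ⊤), ev ((Formal.modPowπ I 1 (Coh.structureModule X)).app ⊤ r) =
        (X.fromSpecResidueField z).app ⊤ r := by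
  let σ := X.fromSpecResidueField z
  have hker : ∀ a ∈ I, σ.app ⊤ (baseHom A X a) = 0 := by
    intro a ha
    let r : Γ(X, ⊤) := baseHom A X a
    have hr : z ∉ X.basicOpen r := by
      intro h
      have h' : (X ↘ Spec (CommRingCat.of A)) z ∈
          (Spec (CommRingCat.of A)).basicOpen ((Scheme.ΓSpecIso (CommRingCat.of A)).inv a) := by
        have h2 : X.basicOpen r = (X ↘ Spec (CommRingCat.of A)) ⁻¹ᵁ
            ((Spec (CommRingCat.of A)).basicOpen ((Scheme.ΓSpecIso (CommRingCat.of A)).inv a)) :=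
          (Scheme.preimage_basicOpen (X ↘ Spec (CommRingCat.of A)) _).symm
        exact (h2 ▸ h :)
      rw [basicOpen_eq_of_affine] at h'
      exact h' (hz ha)
    have hbo : (Spec (X.residueField z)).basicOpen (σ.app ⊤ r) = ⊥ := by
      rw [← Scheme.preimage_basicOpen, eq_bot_iff]
      intro t ht
      refine (hr ?_).elim
      rw [← X.fromSpecResidueField_apply z t]
      exact ht
    exact (basicOpen_eq_bot_iff _).1 hbo
  have hcond : Formal.smulFamily (I ^ 1) (Coh.structureModule X) ≫ pushRingUnit σ = 0 := by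
    apply Sigma.hom_ext
    rintro ⟨a, ha⟩
    rw [pow_one] at ha
    rw [comp_zero]
    simp only [Formal.smulFamily, colimit.ι_desc_assoc, Cofan.mk_pt, Cofan.mk_ι_app]
    refine Scheme.Modules.hom_ext _ _ fun U => ?_
    ext m
    show (pushRingUnit σ).app U ((Formal.smulMod A (Coh.structureModule X) a).app U m) = 0
    refine (congrArg ((pushRingUnit σ).app U)
      (smulMod_app (A := A) (Coh.structureModule X) a U m)).trans ?_
    refine (pushRingUnit_app σ U _).trans ?_
    show σ.app U (X.presheaf.map (homOfLE (le_top (a := U))).op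
      (baseHom A X a) * (show Γ(X, U) from m)) = 0
    rw [map_mul]
    have := congr($(σ.naturality (homOfLE (le_top (a := U))).op)
      (baseHom A X a))
    refine (congrArg (fun w : Γ(Spec (X.residueField z), σ ⁻¹ᵁ U) => w * σ.app U m) (this.trans ?_)).trans (zero_mul _)
    exact (congrArg ((Spec (X.residueField z)).presheaf.map
      (((Opens.map σ.base).map (homOfLE (le_top (a := U)))).op)) (hker a ha)).trans (map_zero _)
  let ρ : Formal.modPow I 1 (Coh.structureModule X) ⟶
      (Coh.push σ).obj (Coh.structureModule (Spec (X.residueField z))) :=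
    cokernel.desc _ (pushRingUnit σ) hcond
  have hρ : Formal.modPowπ I 1 (Coh.structureModule X) ≫ ρ = pushRingUnit σ := cokernel.π_desc _ _ _
  refine ⟨{ toFun := fun s => (ρ.app ⊤ s : Γ(Spec (X.residueField z), σ ⁻¹ᵁ ⊤))
            map_zero' := map_zero (ρ.app ⊤).hom
            map_add' := map_add (ρ.app ⊤).hom }, ?_, fun s U hzU hs => ?_, fun r => ?_⟩
  · show ρ.app ⊤ ((Formal.modPowπ I 1 (Coh.structureModule X)).app ⊤ (1 : Γ(X, ⊤))) =
      (show Γ((Coh.push σ).obj (Coh.structureModule (Spec (X.residueField z))), ⊤) from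
        (1 : Γ(Spec (X.residueField z), σ ⁻¹ᵁ ⊤)))
    refine (congr(($hρ).app ⊤ (1 : Γ(X, ⊤)))).trans ?_
    exact (pushRingUnit_app σ ⊤ 1).trans (map_one (σ.app ⊤).hom)
  · have hle : σ ⁻¹ᵁ ⊤ ≤ σ ⁻¹ᵁ U := fun t _ => by
      show σ t ∈ U
      rw [X.fromSpecResidueField_apply]
      exact hzU
    have h1 : resM _ (le_top (a := U)) (ρ.app ⊤ s) = 0 :=
      (app_resM ρ (le_top (a := U)) s).symm.trans ((congrArg (ρ.app U) hs).trans (map_zero _))
    have h2 := resM_bijective_of_eq (Coh.structureModule (Spec (X.residueField z)))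
      (Scheme.Hom.preimage_mono σ (le_top (a := U))) (le_antisymm hle (Scheme.Hom.preimage_mono σ le_top))
    exact h2.1 (h1.trans (map_zero _).symm)
  · exact (congr(($hρ).app ⊤ r)).trans (pushRingUnit_app σ ⊤ r)

theorem exists_indicator (M : X.Modules) (n : ℕ) (T T' : Set X) (hT : IsClosed T) (hT' : IsClosed T')
    (hd : Disjoint T T')
    (hcov : (X ↘ Spec (CommRingCat.of A)) ⁻¹' PrimeSpectrum.zeroLocus (I : Set A) ⊆ T ∪ T')
    (s : Γ(Formal.modPow I n M, ⊤)) :
    ∃ e : Γ(Formal.modPow I n M, ⊤),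
      resM _ (le_top (a := (⟨T'ᶜ, hT'.isOpen_compl⟩ : X.Opens))) e = resM _ le_top s ∧
      resM _ (le_top (a := (⟨Tᶜ, hT.isOpen_compl⟩ : X.Opens))) e = 0 := by
  let U : X.Opens := ⟨T'ᶜ, hT'.isOpen_compl⟩
  let V : X.Opens := ⟨Tᶜ, hT.isOpen_compl⟩
  have hUV : U ⊔ V = ⊤ := eq_top_iff.2 fun x _ => by
    by_cases h : x ∈ T
    · exact Or.inl (Set.disjoint_left.1 hd h)
    · exact Or.inr h
  have := subsingleton_sections_of_disjoint (Formal.modPow I n M) (U ⊓ V)
    (Set.disjoint_left.2 fun x hx hxs => (hcov (support_modPow_subset I M n hxs)).elim hx.2 hx.1)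
  exact exists_glue (Formal.modPow I n M) hUV (resM _ le_top s) 0 (Subsingleton.elim _ _)

/-- A local ring of global functions forces the fibre over `V(m)` to be connected. -/
theorem isPreconnected_closedFibre_of_isLocalRing [IsNoetherianRing A] [IsLocalRing A]
    [IsProper (X ↘ Spec (CommRingCat.of A))] [IsLocalRing Γ(X, ⊤)] :
    _root_.IsPreconnected ((X ↘ Spec (CommRingCat.of A)) ⁻¹'
      PrimeSpectrum.zeroLocus (IsLocalRing.maximalIdeal A : Set A)) := by
  let m := IsLocalRing.maximalIdeal A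
  let π := X ↘ Spec (CommRingCat.of A)
  let Z : Set X := π ⁻¹' PrimeSpectrum.zeroLocus (m : Set A)
  have hZc : IsClosed Z := (PrimeSpectrum.isClosed_zeroLocus _).preimage π.continuous
  rw [isPreconnected_closed_iff]
  intro t t' ht ht' hsub ⟨z₁, hz₁, hz₁t⟩ ⟨z₂, hz₂, hz₂t⟩
  by_contra hne
  rw [Set.not_nonempty_iff_eq_empty] at hne
  let T := Z ∩ t
  let T' := Z ∩ t'
  have hd : Disjoint T T' := Set.disjoint_left.2 fun x hx hx' =>
    (hne.subset ⟨hx.1, hx.2, hx'.2⟩ :)
  have hcov : Z ⊆ T ∪ T' := fun x hx => (hsub hx).imp (fun h => ⟨hx, h⟩) fun h => ⟨hx, h⟩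
  let O := Coh.structureModule X
  have : IsLocallyNoetherian X := LocallyOfFiniteType.isLocallyNoetherian π
  have hO : Coh.IsCoh O := isCoh_structureModule X
  let one : ∀ n : ℕ, Γ(Formal.modPow m (n + 1) O, ⊤) := fun n =>
    (Formal.modPowπ m (n + 1) O).app ⊤ (1 : Γ(X, ⊤))
  choose e he he' using fun n => exists_indicator m O (n + 1) T T' (hZc.inter ht) (hZc.inter ht') hd hcov (one n)
  choose e' hf hf' using fun n => exists_indicator m O (n + 1) T' T (hZc.inter ht') (hZc.inter ht) hd.symm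
    (hcov.trans (Set.union_comm _ _).subset) (one n)
  have htrans : ∀ n, (Formal.modPowTrans m (n + 1) O).app ⊤ (one (n + 1)) = one n := fun n =>
    congr(($(Formal.modPowπ_trans m (n + 1) O)).app ⊤ (1 : Γ(X, ⊤)))
  -- indicators form compatible families
  have hcompat : ∀ {T T' : Set X} (hT : IsClosed T) (hT' : IsClosed T') (_ : Disjoint T T')
      (e : ∀ n : ℕ, Γ(Formal.modPow m (n + 1) O, ⊤)),
      (∀ n, resM _ (le_top (a := (⟨T'ᶜ, hT'.isOpen_compl⟩ : X.Opens))) (e n) = resM _ le_top (one n)) →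
      (∀ n, resM _ (le_top (a := (⟨Tᶜ, hT.isOpen_compl⟩ : X.Opens))) (e n) = 0) →
      ∀ n, (Formal.modPowTrans m (n + 1) O).app ⊤ (e (n + 1)) = e n := by
    intro T T' hT hT' hd e h1 h2 n
    refine AmpleLib.sec_ext _ _ _ fun x _ => ?_
    by_cases h : x ∈ T
    · refine ⟨⟨T'ᶜ, hT'.isOpen_compl⟩, le_top, Set.disjoint_left.1 hd h, ?_⟩
      rw [← app_resM, h1, app_resM, htrans, h1]
    · refine ⟨⟨Tᶜ, hT.isOpen_compl⟩, le_top, h, ?_⟩
      rw [← app_resM, h2, map_zero, h2]
  let φ := baseHom A X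
  let E : ∀ M : X.Modules, Coh.HH X M 0 ≃ₗ[A] GA φ M := fun M =>
    (HHA (A := A) M 0).trans (secA φ M)
  have hEnat : ∀ {M N : X.Modules} (g : M ⟶ N) (x : Coh.HH X M 0),
      E N (Sheaf.H.map ((SheafOfModules.toSheaf _).map g) 0 x) = mapGA φ g (E M x) := fun g x =>
    (congrArg (secA φ _) (HHA_natural _ g 0 x)).trans (secA_natural φ g _)
  have hlift : ∀ e : ∀ n : ℕ, Γ(Formal.modPow m (n + 1) O, ⊤),
      (∀ n, (Formal.modPowTrans m (n + 1) O).app ⊤ (e (n + 1)) = e n) →
      ∃ x : Γ(X, ⊤), (Formal.modPowπ m 1 O).app ⊤ (x : Γ(X, ⊤)) = e 0 := by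
    intro e he
    let ξ : Formal.HHlim m O 0 := ⟨fun n => (E _).symm (e n), fun n => by
      refine (E _).injective ?_
      refine (hEnat _ _).trans ?_
      rw [LinearEquiv.apply_symm_apply, LinearEquiv.apply_symm_apply]
      exact he n⟩
    obtain ⟨c, hc⟩ := (complToLim_bijective m hO 0).2 ξ
    obtain ⟨g, rfl⟩ := AdicCompletion.mk_surjective m (Coh.HH X O 0) c
    have h0 : Formal.toHHmodPow m O 0 0 (g 1) = (E _).symm (e 0) :=
      congrArg (fun w : Formal.HHlim m O 0 => w.1 0) hc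
    refine ⟨(show Γ(O, ⊤) from E O (g 1)), ?_⟩
    refine ((hEnat _ _).symm.trans ?_)
    exact (congrArg (E _) h0).trans ((E _).apply_symm_apply _)
  obtain ⟨x, hx⟩ := hlift e (hcompat (hZc.inter ht) (hZc.inter ht') hd e he he')
  -- evaluate at `z₁ ∈ T` and `z₂ ∈ T'`
  obtain ⟨ev₁, ev₁one, ev₁loc, ev₁π⟩ := exists_modPow_eval m z₁ hz₁
  obtain ⟨ev₂, ev₂one, ev₂loc, ev₂π⟩ := exists_modPow_eval m z₂ hz₂
  have hz₁T' : z₁ ∉ T' := Set.disjoint_left.1 hd ⟨hz₁, hz₁t⟩
  have hz₂T : z₂ ∉ T := Set.disjoint_right.1 hd ⟨hz₂, hz₂t⟩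
  have v₁ : ev₁ (e 0) = 1 := by
    rw [← ev₁one, ← sub_eq_zero, ← map_sub]
    exact ev₁loc _ ⟨T'ᶜ, (hZc.inter ht').isOpen_compl⟩ hz₁T' (by rw [map_sub, he, sub_self])
  have v₂ : ev₂ (e 0) = 0 := ev₂loc _ ⟨Tᶜ, (hZc.inter ht).isOpen_compl⟩ hz₂T (he' 0)
  rw [← hx, ev₁π] at v₁
  rw [← hx, ev₂π] at v₂
  have hnt : ∀ z : X, Nontrivial Γ(Spec (X.residueField z), X.fromSpecResidueField z ⁻¹ᵁ ⊤) :=
    fun z =>
      have : Nonempty (X.fromSpecResidueField z ⁻¹ᵁ ⊤ : (Spec (X.residueField z)).Opens) :=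
        ⟨⟨Classical.arbitrary _, trivial⟩⟩
      Scheme.component_nontrivial _ _
  have := hnt z₁
  have := hnt z₂
  rcases IsLocalRing.isUnit_or_isUnit_one_sub_self (x : Γ(X, ⊤)) with h | h
  · exact not_isUnit_zero (v₂ ▸ h.map ((X.fromSpecResidueField z₂).app ⊤).hom)
  · have h' := h.map ((X.fromSpecResidueField z₁).app ⊤).hom
    rw [map_sub, map_one, v₁, sub_self] at h'
    exact not_isUnit_zero h'

/-- Global sections of `O_X` cyclic over `A` force the fibre over `V(m)` to be connected. -/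
theorem isPreconnected_closedFibre [IsNoetherianRing A] [IsLocalRing A]
    [IsProper (X ↘ Spec (CommRingCat.of A))]
    (hcyc : ∃ u : Coh.HH X (Coh.structureModule X) 0, ∀ x, ∃ a : A, a • u = x) :
    _root_.IsPreconnected ((X ↘ Spec (CommRingCat.of A)) ⁻¹'
      PrimeSpectrum.zeroLocus (IsLocalRing.maximalIdeal A : Set A)) := by
  rcases isEmpty_or_nonempty X with hX | hX
  · exact Set.Subsingleton.isPreconnected fun a _ => (hX.false a).elim
  have : Nonempty (⊤ : X.Opens) := ⟨⟨Classical.arbitrary X, trivial⟩⟩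
  have : Nontrivial Γ(X, ⊤) := Scheme.component_nontrivial _ _
  let φ := baseHom A X
  let E : Coh.HH X (Coh.structureModule X) 0 ≃ₗ[A] GA φ (Coh.structureModule X) :=
    (HHA (A := A) (Coh.structureModule X) 0).trans (secA φ (Coh.structureModule X))
  obtain ⟨u, hu⟩ := hcyc
  let w : Γ(X, ⊤) := (show Γ(Coh.structureModule X, ⊤) from E u)
  have hgen : ∀ x : Γ(X, ⊤), ∃ a : A, baseHom A X a * w = x := fun x => by
    obtain ⟨a, ha⟩ := hu (E.symm x)
    exact ⟨a, (E.map_smul a u).symm.trans ((congrArg E ha).trans (E.apply_symm_apply _))⟩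
  have hw : IsUnit w := by
    obtain ⟨a, ha⟩ := hgen 1
    exact IsUnit.of_mul_eq_one_right _ ha
  have hsurj : Function.Surjective (baseHom A X) := fun x => by
    obtain ⟨a, ha⟩ := hgen (x * w)
    exact ⟨a, hw.mul_left_injective ha⟩
  have : IsLocalRing Γ(X, ⊤) := IsLocalRing.of_surjective' _ hsurj
  exact isPreconnected_closedFibre_of_isLocalRing

end Local

section Global

variable {X Y : Scheme.{u}} (f : X ⟶ Y) [IsProper f] [IsLocallyNoetherian Y]

/-- If `f_* O_X = O_Y` then `H^0` over a local ring of `Y` is cyclic. -/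
theorem exists_cyclic_HH_zero (hiso : ∀ V : Y.Opens, IsIso (f.app V)) (y : Y)
    (X₁ : Scheme.{u}) [X₁.Over (Spec (CommRingCat.of (Y.presheaf.stalk y)))] (g : X₁ ⟶ X)
    (hsq : IsPullback g (X₁ ↘ Spec (CommRingCat.of (Y.presheaf.stalk y))) f (Y.fromSpecStalk y)) :
    ∃ u : Coh.HH X₁ (Coh.structureModule X₁) 0, ∀ x, ∃ a : Y.presheaf.stalk y, a • u = x := by
  have : IsLocallyNoetherian X := LocallyOfFiniteType.isLocallyNoetherian f
  have := hasInjectiveResolutions_modules X
  have : Coh.IsQCoh (Coh.structureModule X) := (isCoh_structureModule X).1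
  obtain ⟨eS⟩ := nonempty_stalk_rpush_equiv f (Coh.structureModule X) 0 y X₁ g hsq
  obtain ⟨i⟩ := AmpleLib.exists_pullStructureIso g (X := X)
  let E := eS.trans (HHCongr (Y.presheaf.stalk y) i 0)
  let R := (Coh.Rpush f 0).obj (Coh.structureModule X)
  let j : (Coh.push f).obj (Coh.structureModule X) ≅ R :=
    ((Coh.push f).rightDerivedZeroIsoSelf.app (Coh.structureModule X)).symm
  let one : ∀ W : Y.Opens, Γ(R, W) := fun W => j.hom.app W (1 : Γ(X, f ⁻¹ᵁ W))
  refine ⟨E (R.presheaf.germ ⊤ y trivial (one ⊤)), fun x => ?_⟩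
  obtain ⟨W, hyW, s, hs⟩ := R.presheaf.exists_germ_eq (E.symm x)
  have := hiso W
  have hj : IsIso (j.inv.app W) := Scheme.Modules.Hom.isIso_iff_isIso_app.mp inferInstance W
  obtain ⟨r, hr⟩ := (ConcreteCategory.bijective_of_isIso (f.app W)).2
    (show Γ(X, f ⁻¹ᵁ W) from j.inv.app W s)
  refine ⟨Y.presheaf.germ W y hyW r, E.symm.injective ?_⟩
  rw [map_smul, LinearEquiv.symm_apply_apply, ← hs]
  have hres : resM R (le_top (a := W)) (one ⊤) = one W := by
    refine (app_resM _ _ _).symm.trans ?_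
    refine congrArg (j.hom.app W) ?_
    exact map_one (X.presheaf.map _).hom
  have hsr : s = r • one W := by
    have h1 : s = j.hom.app W (j.inv.app W s) := congr(($(j.inv_hom_id)).app W s).symm
    rw [h1]
    refine Eq.trans ?_ (j.hom.app_smul r _)
    refine congrArg (j.hom.app W) ?_
    exact hr.symm.trans (mul_one (f.app W r)).symm
  rw [hsr, QCohLoc.germ_smul' (M := R) hyW r, ← hres]
  exact congrArg (Y.presheaf.germ W y hyW r • ·)
    (TopCat.Presheaf.germ_res_apply R.presheaf (homOfLE le_top) y hyW (one ⊤)).symm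

theorem isPreconnected_preimage_singleton (hiso : ∀ V : Y.Opens, IsIso (f.app V)) (y : Y) :
    _root_.IsPreconnected (f ⁻¹' {y} : Set X) := by
  let _ : (pullback f (Y.fromSpecStalk y)).Over (Spec (CommRingCat.of (Y.presheaf.stalk y))) :=
    ⟨pullback.snd f (Y.fromSpecStalk y)⟩
  have hP := IsPullback.of_hasPullback f (Y.fromSpecStalk y)
  have := isProper_of_stalk f y _ hP
  have hZ := isPreconnected_closedFibre (A := Y.presheaf.stalk y)
    (exists_cyclic_HH_zero f hiso y _ _ hP)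
  have himg : pullback.fst f (Y.fromSpecStalk y) '' (pullback.snd f (Y.fromSpecStalk y) ⁻¹'
      PrimeSpectrum.zeroLocus (IsLocalRing.maximalIdeal (Y.presheaf.stalk y) : Set _)) =
      f ⁻¹' {y} := by
    refine subset_antisymm ?_ fun x (hx : f x = y) => ?_
    · rintro _ ⟨p, hp, rfl⟩
      exact preimage_closedPoint_subset f y _ hP hp
    obtain ⟨p, rfl⟩ : x ∈ Set.range (pullback.fst f (Y.fromSpecStalk y)) := by
      rw [Scheme.Pullback.range_fst]
      exact ⟨IsLocalRing.closedPoint _, Scheme.fromSpecStalk_closedPoint.trans hx.symm⟩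
    refine ⟨p, ?_, rfl⟩
    have hp : pullback.snd f (Y.fromSpecStalk y) p = IsLocalRing.closedPoint _ :=
      (Y.fromSpecStalk y).isEmbedding.injective (by
        rw [← Scheme.Hom.comp_apply, ← pullback.condition, Scheme.Hom.comp_apply, hx]
        exact Scheme.fromSpecStalk_closedPoint.symm)
    intro c hc
    show c ∈ (pullback.snd f (Y.fromSpecStalk y) p).asIdeal
    rw [hp]
    exact hc
  rw [← himg]
  exact hZ.image _ (pullback.fst f (Y.fromSpecStalk y)).continuous.continuousOn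

/-- Zariski's connectedness theorem. -/
theorem connectedSpace_fiber_of_isIso_app (hiso : ∀ V : Y.Opens, IsIso (f.app V)) (y : Y) :
    ConnectedSpace (f.fiber y) := by
  have hne : (f ⁻¹' {y} : Set X).Nonempty := by
    by_contra h
    have hC : IsClosed (Set.range f) := f.isClosedMap.isClosed_range
    let V : Y.Opens := ⟨(Set.range f)ᶜ, hC.isOpen_compl⟩
    have hy : y ∈ V := fun ⟨x, hx⟩ => h ⟨x, hx⟩
    have hpre : f ⁻¹ᵁ V = ⊥ := eq_bot_iff.2 fun x hx => (hx ⟨x, rfl⟩).elim
    have : Subsingleton Γ(X, f ⁻¹ᵁ V) := by rw [hpre]; infer_instance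
    have := hiso V
    have : Subsingleton Γ(Y, V) :=
      (ConcreteCategory.bijective_of_isIso (f.app V)).1.subsingleton
    exact zero_ne_one (α := Y.presheaf.stalk y)
      ((map_zero (Y.presheaf.germ V y hy).hom).symm.trans
        ((congrArg _ (Subsingleton.elim 0 1)).trans (map_one (Y.presheaf.germ V y hy).hom)))
  have : ConnectedSpace (f ⁻¹' {y} : Set X) :=
    Subtype.connectedSpace ⟨hne, isPreconnected_preimage_singleton f hiso y⟩
  exact (f.fiberHomeo y).symm.surjective.connectedSpace (f.fiberHomeo y).symm.continuous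

end Global

end Groth.Agent.Coherent
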