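import Groth.Agent.ProjLib.BaseChange
import Groth.Agent.ProjLib.ProjSpace
import Groth.Prelude.Def_CohB1
import Mathlib.RingTheory.TensorProduct.MvPolynomial

/-!
# `P^n` over rings commutes with base change
-/

set_option autoImplicit false

universe u

open CategoryTheory CategoryTheory.Limits AlgebraicGeometry

namespace Groth.Agent.Coherent

variable (n : ℕ) (R' R : Type u) [CommRing R'] [CommRing R] [Algebra R' R]

attribute [local instance] MvPolynomial.algebraMvPolynomial

/-- Change of coefficients, as a graded map. -/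
noncomputable def polyGradedMap : CohB1.polyGrading n R' →+*ᵍ CohB1.polyGrading n R where
  toRingHom := algebraMap (MvPolynomial (Fin (n + 1)) R') (MvPolynomial (Fin (n + 1)) R)
  map_mem {i p} hp := MvPolynomial.IsHomogeneous.map hp (algebraMap R' R)

theorem polyGradedMap_irrelevant :
    HomogeneousIdeal.irrelevant (CohB1.polyGrading n R) ≤
      (HomogeneousIdeal.irrelevant (CohB1.polyGrading n R')).map (polyGradedMap n R' R) := by
  intro p hp
  have hp' := ProjLib.irrelevant_le_span_X n R hp
  refine (Ideal.span_le.2 ?_ : Ideal.span _ ≤ _) hp'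
  rintro _ ⟨i, rfl⟩
  have h : (polyGradedMap n R' R) (MvPolynomial.X i) = MvPolynomial.X i :=
    MvPolynomial.map_X _ _
  rw [← h]
  refine Ideal.mem_map_of_mem _ ?_
  exact HomogeneousIdeal.mem_irrelevant_of_mem _ one_pos (ProjLib.X_mem_polyGrading n R' i)

/-- `P^n_R = P^n_{R'} ×_{R'} R`. -/
theorem isPullback_projSpace :
    IsPullback (Proj.map (polyGradedMap n R' R) (polyGradedMap_irrelevant n R' R))
      (CohB1.ProjSpace.toSpec n R) (CohB1.ProjSpace.toSpec n R')
      (Spec.map (CommRingCat.ofHom (algebraMap R' R))) :=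
  ProjLib.map_isPullback (polyGradedMap n R' R) (fun _ => rfl) (polyGradedMap_irrelevant n R' R)

end Groth.Agent.Coherent
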