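import Groth.Agent.Coherent.ClosedEquiv

/-!
# The scheme theoretic support of a quasi-coherent module of finite type
-/

set_option autoImplicit false

universe u

open CategoryTheory CategoryTheory.Limits AlgebraicGeometry Opposite TopologicalSpace
  Groth.Agent.AssSch12

namespace Groth.Agent.Coherent

variable {X : Scheme.{u}} {F : X.Modules}

theorem map_annihilator_basicOpen (hq : Coh.IsQCoh F) (hft : CohB1.IsFT F) (U : X.affineOpens)
    (f : Γ(X, U.1)) :
    (Module.annihilator Γ(X, U.1) Γ(F, U.1)).map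
        (X.presheaf.map (homOfLE <| X.basicOpen_le f).op).hom =
      Module.annihilator Γ(X, X.basicOpen f) Γ(F, X.basicOpen f) := by
  have := hq
  refine le_antisymm (Ideal.map_le_iff_le_comap.2 fun a ha => Module.mem_annihilator.2 fun x => ?_) ?_
  · obtain ⟨k, t, ht⟩ := qcoh_exists_pow_smul U.2 F f x
    have hu := isUnit_res_pow f (X.basicOpen_le f) le_rfl k
    apply hu.smul_eq_zero.1
    rw [smul_comm, ← ht]
    refine (resM_smul F (X.basicOpen_le f) a t).symm.trans ?_
    rw [Module.mem_annihilator.1 ha t, map_zero]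
  · intro b hb
    have := U.2.isLocalization_basicOpen f
    obtain ⟨⟨r, ⟨_, k, rfl⟩⟩, hr⟩ := IsLocalization.surj (M := Submonoid.powers f) (R := Γ(X, U.1))
      (S := Γ(X, X.basicOpen f)) b
    replace hr : b * X.presheaf.map (homOfLE (X.basicOpen_le f)).op (f ^ k) =
      X.presheaf.map (homOfLE (X.basicOpen_le f)).op r := hr
    classical
    obtain ⟨S, hS⟩ := (finite_sections F (locallyFinGen_of_isFT F hft) U.2).fg_top
    have h0 : ∀ m : Γ(F, U.1), ∃ n : ℕ, f ^ n • (r • m) = 0 := fun m => by
      refine qcoh_exists_pow_smul_eq_zero U.2 F f (r • m) ?_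
      rw [resM_smul, ← hr, mul_comm, mul_smul, Module.mem_annihilator.1 hb, smul_zero]
    choose n hn using h0
    have hmem : f ^ S.sup n * r ∈ Module.annihilator Γ(X, U.1) Γ(F, U.1) := by
      refine Module.mem_annihilator.2 fun m => ?_
      have hm : m ∈ Submodule.span Γ(X, U.1) (S : Set Γ(F, U.1)) := hS.ge trivial
      induction hm using Submodule.span_induction with
      | mem z hz =>
        obtain ⟨d, hd⟩ := Nat.exists_eq_add_of_le (Finset.le_sup (f := n) hz)
        rw [mul_smul, hd, pow_add, mul_comm, mul_smul, hn, smul_zero]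
      | zero => rw [smul_zero]
      | add a c _ _ ha hc => rw [smul_add, ha, hc, add_zero]
      | smul t a _ ha => rw [smul_comm, ha, smul_zero]
    have hu := (isUnit_res_pow f (X.basicOpen_le f) le_rfl (S.sup n)).mul
      (isUnit_res_pow f (X.basicOpen_le f) le_rfl k)
    obtain ⟨v, hv⟩ := hu.exists_left_inv
    have e : b = v * X.presheaf.map (homOfLE (X.basicOpen_le f)).op (f ^ S.sup n * r) := by
      rw [map_mul, ← hr]
      calc b = 1 * b := (one_mul b).symm
        _ = (v * (X.presheaf.map (homOfLE (X.basicOpen_le f)).op (f ^ S.sup n) *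
            X.presheaf.map (homOfLE (X.basicOpen_le f)).op (f ^ k))) * b := by rw [hv]
        _ = _ := by ring
    rw [e]
    exact Ideal.mul_mem_left _ _ (Ideal.mem_map_of_mem _ hmem)

/-- The annihilator ideal sheaf. -/
noncomputable def annSheaf (hq : Coh.IsQCoh F) (hft : CohB1.IsFT F) : X.IdealSheafData where
  ideal U := Module.annihilator Γ(X, U.1) Γ(F, U.1)
  map_ideal_basicOpen U f := map_annihilator_basicOpen hq hft U f

theorem killed_annSheaf (hq : Coh.IsQCoh F) (hft : CohB1.IsFT F) :
    ClSub.KilledByIdeal (annSheaf hq hft) F :=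
  fun _ _ ha m => Module.mem_annihilator.1 ha m

theorem killed_ker_annSheaf (hq : Coh.IsQCoh F) (hft : CohB1.IsFT F) :
    ClSub.KilledByIdeal (annSheaf hq hft).subschemeι.ker F := by
  rw [Scheme.IdealSheafData.ker_subschemeι]
  exact killed_annSheaf hq hft

theorem support_annSheaf (hq : Coh.IsQCoh F) (hft : CohB1.IsFT F) :
    ((annSheaf hq hft).support : Set X) = CohB1.support F := by
  have := hq
  ext x
  obtain ⟨V, hV, hxV, -⟩ := Opens.isBasis_iff_nbhd.mp X.isBasis_affineOpens (Opens.mem_top x)
  change x ∈ (annSheaf hq hft).support ↔ _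
  rw [Scheme.IdealSheafData.mem_support_iff_of_mem (U := ⟨V, hV⟩) hxV]
  classical
  obtain ⟨S, hS⟩ := (finite_sections F (locallyFinGen_of_isFT F hft) hV).fg_top
  rw [Scheme.mem_zeroLocus_iff]
  constructor
  · intro h hsub
    have h0 : ∀ m : Γ(F, V), ∃ f : Γ(X, V), x ∈ X.basicOpen f ∧ f • m = 0 := fun m =>
      QCohLoc.exists_smul_eq_zero_of_germ F hV hxV m (hsub.elim _ _)
    choose g hg hgm using h0
    refine h (∏ m ∈ S, g m) (Module.mem_annihilator.2 fun m => ?_) ?_
    · have hm : m ∈ Submodule.span Γ(X, V) (S : Set Γ(F, V)) := hS.ge trivial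
      induction hm using Submodule.span_induction with
      | mem z hz => rw [← Finset.prod_erase_mul _ _ hz, mul_smul, hgm, smul_zero]
      | zero => rw [smul_zero]
      | add a c _ _ ha hc => rw [smul_add, ha, hc, add_zero]
      | smul t a _ ha => rw [smul_comm, ha, smul_zero]
    · rw [Scheme.mem_basicOpen _ _ _ hxV, map_prod]
      exact IsUnit.prod_iff.2 fun m _ => (Scheme.mem_basicOpen _ _ _ hxV).1 (hg m)
  · intro hx f hf hxf
    refine hx (subsingleton_of_forall_eq 0 fun a => ?_)
    obtain ⟨g, m, hg, hm⟩ := QCohLoc.exists_smul_stalk_eq_germ F hV hxV a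
    have h0 : f • m = 0 := Module.mem_annihilator.1 hf m
    have h1 := congrArg (F.presheaf.germ V x hxV) h0
    rw [QCohLoc.germ_smul', map_zero, ← hm,
      IsUnit.smul_eq_zero ((Scheme.mem_basicOpen _ _ _ hxV).1 hxf),
      IsUnit.smul_eq_zero ((Scheme.mem_basicOpen _ _ _ hxV).1 hg)] at h1
    exact h1

/-- The unit at a closed immersion is an isomorphism only for modules killed by the ideal. -/
theorem killed_of_isIso_clUnit {Z : Scheme.{u}} (i : Z ⟶ X) [IsClosedImmersion i] (G : X.Modules)
    [IsIso (clUnit i G)] : ClSub.KilledByIdeal i.ker G := by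
  intro U a ha s₀
  let s : Γ(G, U.1) := s₀
  change a • s = 0
  have hz : (clUnit i G).app U.1 (a • s) = 0 := by
    rw [Scheme.Hom.ker_apply, RingHom.mem_ker] at ha
    rw [Scheme.Modules.Hom.app_smul]
    let m : Γ((Scheme.Modules.pullback i).obj G, i ⁻¹ᵁ U.1) := (clUnit i G).app U.1 s
    change i.app U.1 a • m = 0
    rw [ha, zero_smul]
  have e := congrArg (fun ψ : G ⟶ G => ψ.app U.1 (a • s)) (IsIso.hom_inv_id (clUnit i G))
  refine e.symm.trans ?_
  change (inv (clUnit i G)).app U.1 ((clUnit i G).app U.1 (a • s)) = 0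
  rw [hz, map_zero]

end Groth.Agent.Coherent
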