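import Groth.Agent.Coherent.TensorSections
import Groth.Agent.Coherent.FiniteType

/-!
# Tensor products of quasi-coherent modules
-/

set_option autoImplicit false
set_option backward.isDefEq.respectTransparency false

universe u

open CategoryTheory CategoryTheory.Limits AlgebraicGeometry Opposite TopologicalSpace TensorProduct
open Groth.Agent.Coherent Groth.Agent.PicLib Groth.Agent.AmpleLib

namespace Groth.Agent.Coherent

variable {X : Scheme.{u}}

/-- The tensor product of quasi-coherent modules is quasi-coherent. -/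
theorem isQCoh_tensorMod (F G : X.Modules) [Coh.IsQCoh F] [Coh.IsQCoh G] :
    Coh.IsQCoh (CohB1.tensorMod F G) := by
  refine isQCoh_of_openImmersion_cover _ (fun U : X.affineOpens => U.2.fromSpec) (fun x => ?_) fun U => ?_
  · obtain ⟨V, hV, hxV, -⟩ := Opens.isBasis_iff_nbhd.mp X.isBasis_affineOpens (Opens.mem_top x)
    exact ⟨⟨V, hV⟩, by rw [hV.opensRange_fromSpec]; exact hxV⟩
  · let j := U.2.fromSpec
    have hF := Flatn12.isQCoh_restrict_fromSpec' F U.2
    have hG := Flatn12.isQCoh_restrict_fromSpec' G U.2
    exact isQCoh_of_iso ((tildeTensorIso (moduleSpecΓFunctor.obj (F.restrict j))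
      (moduleSpecΓFunctor.obj (G.restrict j))) ≪≫
        tensorIso (asIso (F.restrict j).fromTildeΓ) (asIso (G.restrict j).fromTildeΓ) ≪≫
          restrictTensorIso j F G)

/-- The tensor product of quasi-coherent modules of finite type is of finite type. -/
theorem isFT_tensorMod (F G : X.Modules) [Coh.IsQCoh F] [Coh.IsQCoh G] (hF : CohB1.IsFT F)
    (hG : CohB1.IsFT G) : CohB1.IsFT (CohB1.tensorMod F G) := by
  have := isQCoh_tensorMod F G
  refine isFT_of_locallyFinGen fun x => ?_
  obtain ⟨U, hU, hxU, -⟩ := Opens.isBasis_iff_nbhd.mp X.isBasis_affineOpens (Opens.mem_top x)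
  have := finite_sections F (locallyFinGen_of_isFT F hF) hU
  have := finite_sections G (locallyFinGen_of_isFT G hG) hU
  have : Module.Finite Γ(X, U) Γ(CohB1.tensorMod F G, U) :=
    Module.Finite.of_surjective (tmulMap F G U) (bijective_tmulMap hU F G).2
  obtain ⟨n, s, hs⟩ := Module.Finite.exists_fin (R := Γ(X, U)) (M := Γ(CohB1.tensorMod F G, U))
  refine ⟨U, ULift.{u} (Fin n), inferInstance, fun i => s i.down, hxU,
    genOn_of_span_top _ hU _ ?_⟩
  rw [show (Set.range fun i : ULift.{u} (Fin n) => s i.down) = Set.range s from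
    Equiv.ulift.surjective.range_comp s]
  exact hs

end Groth.Agent.Coherent
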