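import Groth.Agent.Coherent.AffineVanishing

/-!
# Cohomology of modules on schemes: restriction and affine morphisms
-/

set_option autoImplicit false

universe u

open CategoryTheory CategoryTheory.Abelian CategoryTheory.Limits AlgebraicGeometry Opposite
  TopologicalSpace

namespace Groth.Agent.Coherent

variable {X Y : Scheme.{u}}

/-- `H^n(U, M)` as `H'`, for an equality of opens. -/
noncomputable def H'Congr {T : TopCat.{u}}
    (F : Sheaf (Opens.grothendieckTopology T) AddCommGrpCat.{u}) (n : ℕ) {U V : Opens T}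
    (h : U = V) : Sheaf.H' F n U ≃+ Sheaf.H' F n V := by
  subst h
  exact AddEquiv.refl _

theorem H'Congr_naturality {T : TopCat.{u}}
    {F G : Sheaf (Opens.grothendieckTopology T) AddCommGrpCat.{u}} (φ : F ⟶ G) (n : ℕ)
    {U V : Opens T} (h : U = V) (x : Sheaf.H' F n U) :
    H'Congr G n h ((Ext.mk₀ φ).postcomp (freeSh U) (add_zero n) x) =
      (Ext.mk₀ φ).postcomp (freeSh V) (add_zero n) (H'Congr F n h x) := by
  subst h
  rfl

/-- `H^n(X, M) ≃+ H'(M, ⊤)`. -/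
noncomputable def HHTopEquiv (M : X.Modules) (n : ℕ) :
    Coh.HH X M n ≃+ Sheaf.H' (Coh.toAb M) n (⊤ : X.Opens) :=
  (H'TopEquiv (X := X.toTopCat) (Coh.toAb M) n).symm

/-- `H'(M|_X, V) ≃+ H'(M, j V)` for an open immersion `j`. -/
noncomputable def H'ModRestrictEquiv (j : X ⟶ Y) [IsOpenImmersion j] (M : Y.Modules)
    (V : X.Opens) (n : ℕ) :
    Sheaf.H' (Coh.toAb (M.restrict j)) n V ≃+ Sheaf.H' (Coh.toAb M) n (j ''ᵁ V) :=
  (H'RestrictEquiv (X := Y.toTopCat) (U := X.toTopCat) j.isOpenEmbedding (Coh.toAb M) V n).symm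

/-- `H^n(U, M|_U) ≃+ H'(M, U)`. -/
noncomputable def HHonEquiv (M : X.Modules) (U : X.Opens) (n : ℕ) :
    Coh.HHon X M U n ≃+ Sheaf.H' (Coh.toAb M) n U :=
  ((HHTopEquiv (M.restrict U.ι) n).trans (H'ModRestrictEquiv U.ι M ⊤ n)).trans
    (H'Congr (Coh.toAb M) n (by simp))

/-- Higher cohomology of a quasi-coherent module on an affine scheme vanishes. -/
theorem subsingleton_HH_of_isAffine [IsAffine X] (M : X.Modules) [Coh.IsQCoh M] (n : ℕ)
    (hn : 0 < n) : Subsingleton (Coh.HH X M n) := by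
  obtain ⟨n, rfl⟩ := Nat.exists_eq_succ_of_ne_zero hn.ne'
  have := subsingleton_H'_qcoh M (isAffineOpen_top X) n
  exact (HHTopEquiv M (n + 1)).subsingleton

theorem subsingleton_HHon_of_isAffineOpen (M : X.Modules) [Coh.IsQCoh M] {U : X.Opens}
    (hU : IsAffineOpen U) (n : ℕ) (hn : 0 < n) : Subsingleton (Coh.HHon X M U n) := by
  obtain ⟨n, rfl⟩ := Nat.exists_eq_succ_of_ne_zero hn.ne'
  have := subsingleton_H'_qcoh M hU n
  exact (HHonEquiv M U (n + 1)).subsingleton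

theorem acyclicOverBasis_affine (f : X ⟶ Y) [IsAffineHom f] (M : X.Modules) [Coh.IsQCoh M] :
    AcyclicOverBasis (X := X.toTopCat) (Y := Y.toTopCat) f.base
      {V : Y.Opens | IsAffineOpen V} (Coh.toAb M) :=
  fun _ hV n => subsingleton_H'_qcoh M (hV.preimage f) n

/-- `H^n(f⁻¹ V, M) ≃+ H^n(V, f_* M)` for `f` affine and `M` quasi-coherent. -/
noncomputable def H'AffinePushEquiv (f : X ⟶ Y) [IsAffineHom f] (M : X.Modules) [Coh.IsQCoh M]
    (V : Y.Opens) (n : ℕ) :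
    Sheaf.H' (Coh.toAb M) n (f ⁻¹ᵁ V) ≃+ Sheaf.H' (Coh.toAb ((Coh.push f).obj M)) n V :=
  H'PushEquiv (X := X.toTopCat) (Y := Y.toTopCat) (f := f.base) Y.isBasis_affineOpens
    (Coh.toAb M) (acyclicOverBasis_affine f M) V n

/-- `H^n(X, M) ≃+ H^n(Y, f_* M)` for `f` affine and `M` quasi-coherent. -/
noncomputable def HHAffinePushEquiv (f : X ⟶ Y) [IsAffineHom f] (M : X.Modules) [Coh.IsQCoh M]
    (n : ℕ) : Coh.HH X M n ≃+ Coh.HH Y ((Coh.push f).obj M) n :=
  ((HHTopEquiv M n).trans (H'AffinePushEquiv f M ⊤ n)).trans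
    (HHTopEquiv ((Coh.push f).obj M) n).symm

end Groth.Agent.Coherent
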