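import Groth.Agent.Coherent.FlatBaseChange
import Groth.Agent.Coherent.QcohOps
import Groth.Agent.Coherent.SchemeCoh
import Groth.Agent.EGA43.InjFibre.Scheme
import Groth.Agent.S0015

/-!
# Flat base change: affine opens, induction, and the affine base form
-/

set_option autoImplicit false
set_option backward.isDefEq.respectTransparency false

universe u

open CategoryTheory CategoryTheory.Abelian CategoryTheory.Limits AlgebraicGeometry Opposite
  TopologicalSpace TensorProduct

namespace Groth.Agent.Coherent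

variable {X X' : Scheme.{u}} (g : X' ⟶ X) {A B : Type u} [CommRing A] [CommRing B] [Algebra A B]
  (φ : A →+* Γ(X, ⊤)) (β : B →+* Γ(X', ⊤)) (M : X.Modules)
  (hcomm : ∀ a, g.appTop (φ a) = β (algebraMap A B a))

/-- `Γ(g⁻¹ U) = Γ(U) ⊗_A B`. -/
def IsBCPushout (U : X.Opens) : Prop :=
  IsPushout (CommRingCat.ofHom (((X.presheaf.map (homOfLE (le_top (a := U))).op).hom.comp φ)))
    (CommRingCat.ofHom (algebraMap A B)) (g.app U)
    (CommRingCat.ofHom ((X'.presheaf.map (homOfLE (le_top (a := g ⁻¹ᵁ U))).op).hom.comp β))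

theorem bijective_bcMap_zero [IsAffineHom g] [Coh.IsQCoh M] {U : X.Opens} (hU : IsAffineOpen U)
    (hp : IsBCPushout g φ β U) : Function.Bijective (bcMap g φ β M hcomm U 0) := by
  let U' : X'.Opens := g ⁻¹ᵁ U
  rw [IsBCPushout, g.app_eq_appLE] at hp
  let P : X'.Modules := bcSheaf g M
  let rU : A →+* Γ(X, U) := (X.presheaf.map (homOfLE (le_top (a := U))).op).hom.comp φ
  let rU' : B →+* Γ(X', U') := (X'.presheaf.map (homOfLE (le_top (a := U'))).op).hom.comp β
  let _ : Algebra A Γ(X, U) := rU.toAlgebra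
  let _ : Algebra Γ(X, U) Γ(X', U') := (g.appLE U U' le_rfl).hom.toAlgebra
  let _ : Algebra B Γ(X', U') := rU'.toAlgebra
  let _ : Algebra A Γ(X', U') := ((g.appLE U U' le_rfl).hom.comp rU).toAlgebra
  have : IsScalarTower A Γ(X, U) Γ(X', U') := .of_algebraMap_eq fun _ => rfl
  have : IsScalarTower A B Γ(X', U') :=
    .of_algebraMap_eq fun r => ConcreteCategory.congr_hom hp.w r
  have : Algebra.IsPushout A Γ(X, U) B Γ(X', U') := CommRingCat.isPushout_iff_isPushout.1 hp
  have : Algebra.IsPushout A B Γ(X, U) Γ(X', U') := Algebra.IsPushout.symm inferInstance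
  let _ : Module A Γ(M, U) := Module.compHom _ rU
  have : IsScalarTower A Γ(X, U) Γ(M, U) := IsScalarTower.of_algebraMap_smul fun _ _ => rfl
  let _ : Module Γ(X, U) Γ(P, U') := Module.compHom _ (g.appLE U U' le_rfl).hom
  let _ : Module A Γ(P, U') := Module.compHom _ ((g.appLE U U' le_rfl).hom.comp rU)
  let _ : Module B Γ(P, U') := Module.compHom _ rU'
  have : IsScalarTower Γ(X, U) Γ(X', U') Γ(P, U') := IsScalarTower.of_algebraMap_smul fun _ _ => rfl
  have : IsScalarTower A Γ(X, U) Γ(P, U') := IsScalarTower.of_algebraMap_smul fun _ _ => rfl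
  have : IsScalarTower B Γ(X', U') Γ(P, U') := IsScalarTower.of_algebraMap_smul fun _ _ => rfl
  have : IsScalarTower A B Γ(P, U') := IsScalarTower.of_algebraMap_smul fun a m => by
    show rU' (algebraMap A B a) • m = g.appLE U U' le_rfl (rU a) • m
    rw [show rU' (algebraMap A B a) = g.appLE U U' le_rfl (rU a) from (ConcreteCategory.congr_hom hp.w a).symm]
  obtain ⟨μ, hμ, hμe⟩ :=
    EGA43.InjFibre.pullMap_isBaseChange g hU (hU.preimage g) le_rfl (M := M)
  have hb := (EGA43.Cons.isBaseChange_iff_of_isPushout (R := A) (T := B) (R' := Γ(X, U))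
    (T' := Γ(X', U')) μ).1 hμ
  let eM : HA φ M U 0 ≃+ Γ(M, U) := secH (X := X.toTopCat) (Coh.toAb M) U
  let eM' : HA φ M U 0 ≃ₗ[A] Γ(M, U) :=
    { eM with
      map_smul' := fun a x =>
        (secH_postH (X := X.toTopCat) (smulEndAb M (φ a)) U x).trans (smulEndAb_app M (φ a) U _) }
  let eN : BCMod g M β U 0 ≃+ Γ(P, U') := secH (X := X.toTopCat) (Coh.toAb (bcPush g M)) U
  have key : ∀ z, eN (bcMap g φ β M hcomm U 0 z) = hb.equiv (LinearEquiv.baseChange A B _ _ eM' z) := fun z => by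
    induction z using TensorProduct.induction_on with
    | zero => simp
    | add u v hu hv => simp only [map_add, hu, hv]
    | tmul b x =>
      have h1 : hb.equiv (LinearEquiv.baseChange A B _ _ eM' (b ⊗ₜ x)) = b • μ (eM' x) := by
        simp [IsBaseChange.equiv_tmul]
      rw [h1, bcMap, LinearMap.liftBaseChange_tmul]
      refine (secH_postH (X := X.toTopCat) (bcAct g β M b) U _).trans ?_
      refine (bcAct_app g β M b U _).trans ?_
      refine congrArg (fun t : Γ(P, U') => rU' b • t) ?_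
      refine (secH_postH (X := X.toTopCat) _ U x).trans ?_
      refine Eq.trans ?_ ((hμe _).trans
        (pullMap_eq_resM_pullSec g hU (hU.preimage g) le_rfl M _)).symm
      exact (resM_refl _ _).symm
  have : ⇑(bcMap g φ β M hcomm U 0) = eN.symm ∘ (hb.equiv ∘ LinearEquiv.baseChange A B _ _ eM') :=
    funext fun z => eN.injective ((key z).trans (eN.apply_symm_apply _).symm)
  rw [this]
  exact eN.symm.bijective.comp (hb.equiv.bijective.comp (LinearEquiv.baseChange A B _ _ eM').bijective)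

theorem bijective_bcMap_succ [IsAffineHom g] [Coh.IsQCoh M] {U : X.Opens} (hU : IsAffineOpen U)
    (q : ℕ) : Function.Bijective (bcMap g φ β M hcomm U (q + 1)) := by
  have h₁ : Subsingleton (HA φ M U (q + 1)) := subsingleton_H'_qcoh M hU q
  have : Coh.IsQCoh (bcSheaf g M) := EGA43.InjFibre.isQCoh_pullback g M
  have : Coh.IsQCoh (bcPush g M) := isQCoh_push g (bcSheaf g M)
  have h₂ : Subsingleton (BCMod g M β U (q + 1)) := subsingleton_H'_qcoh (bcPush g M) hU q
  have h₃ : Subsingleton (B ⊗[A] HA φ M U (q + 1)) :=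
    subsingleton_of_forall_eq 0 fun z => by
      induction z using TensorProduct.induction_on with
      | zero => rfl
      | add u v hu hv => rw [hu, hv, add_zero]
      | tmul b x => rw [h₁.elim x 0, tmul_zero]
  exact ⟨fun _ _ _ => h₃.elim _ _, fun y => ⟨0, h₂.elim _ _⟩⟩

theorem bijective_bcMap [CompactSpace X] [QuasiSeparatedSpace X] [Module.Flat A B] [IsAffineHom g]
    [Coh.IsQCoh M] (hp : ∀ U, IsAffineOpen U → IsBCPushout g φ β U) {U : X.Opens}
    (hU : IsCompact (U : Set X)) : ∀ q, Function.Bijective (bcMap g φ β M hcomm U q) := by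
  refine Groth.Agent.S0015.result X (fun U => ∀ q, Function.Bijective (bcMap g φ β M hcomm U q))
    (fun U hU q => ?_) (fun U V _ _ h₁ h₂ h₃ q => bijective_bcMap_sup g φ β M hcomm h₁ h₂ h₃ q) U hU
  rcases q with _ | q
  · exact bijective_bcMap_zero g φ β M hcomm hU (hp U hU)
  · exact bijective_bcMap_succ g φ β M hcomm hU q

section Final

variable [X.Over (Spec (CommRingCat.of A))] [X'.Over (Spec (CommRingCat.of B))]

theorem appTop_toGlobal (h : IsPullback g (X' ↘ Spec (CommRingCat.of B)) (X ↘ Spec (CommRingCat.of A))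
    (Spec.map (CommRingCat.ofHom (algebraMap A B)))) (a : A) :
    g.appTop (Coh.toGlobal (X ↘ Spec (CommRingCat.of A)) a) =
      Coh.toGlobal (X' ↘ Spec (CommRingCat.of B)) (algebraMap A B a) := by
  show g.appTop ((X ↘ Spec (CommRingCat.of A)).appTop ((Scheme.ΓSpecIso (CommRingCat.of A)).inv a)) =
    (X' ↘ Spec (CommRingCat.of B)).appTop
      ((Scheme.ΓSpecIso (CommRingCat.of B)).inv (CommRingCat.ofHom (algebraMap A B) a))
  rw [← ConcreteCategory.comp_apply, ← Scheme.Hom.comp_appTop, h.w, Scheme.Hom.comp_appTop,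
    ConcreteCategory.comp_apply]
  exact congrArg _ congr($((Scheme.ΓSpecIso_inv_naturality (CommRingCat.ofHom (algebraMap A B))).symm) a)

theorem isBCPushout_of_isPullback (h : IsPullback g (X' ↘ Spec (CommRingCat.of B))
      (X ↘ Spec (CommRingCat.of A)) (Spec.map (CommRingCat.ofHom (algebraMap A B))))
    [IsAffineHom g] {U : X.Opens} (hU : IsAffineOpen U) :
    IsBCPushout g (Coh.toGlobal (X ↘ Spec (CommRingCat.of A)))
      (Coh.toGlobal (X' ↘ Spec (CommRingCat.of B))) U := by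
  have h1 : U ≤ (X ↘ Spec (CommRingCat.of A)) ⁻¹ᵁ (⊤ : (Spec (CommRingCat.of A)).Opens) := le_top
  have h2 : (⊤ : (Spec (CommRingCat.of B)).Opens) ≤
      Spec.map (CommRingCat.ofHom (algebraMap A B)) ⁻¹ᵁ ⊤ := le_top
  have h3 : g ⁻¹ᵁ U = g ⁻¹ᵁ U ⊓ (X' ↘ Spec (CommRingCat.of B)) ⁻¹ᵁ ⊤ := (inf_top_eq _).symm
  have := isIso_pushoutSection_of_isAffineOpen h h2 h1 h3 (isAffineOpen_top _) (isAffineOpen_top _) hU
  have hp := (isIso_pushoutSection_iff h h2 h1 h3).1 this
  refine hp.of_iso (Scheme.ΓSpecIso (CommRingCat.of A)) (Iso.refl _)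
    (Scheme.ΓSpecIso (CommRingCat.of B)) (Iso.refl _) ?_ ?_ ?_ ?_
  · ext a
    show (X ↘ Spec (CommRingCat.of A)).appLE ⊤ U h1 a = X.presheaf.map (homOfLE (le_top (a := U))).op
      ((X ↘ Spec (CommRingCat.of A)).appTop
        ((Scheme.ΓSpecIso (CommRingCat.of A)).inv ((Scheme.ΓSpecIso (CommRingCat.of A)).hom a)))
    rw [Iso.hom_inv_id_apply]
    rfl
  · rw [Scheme.Hom.appLE]
    erw [(Spec (CommRingCat.of B)).presheaf.map_id, Category.comp_id]
    exact Scheme.ΓSpecIso_naturality _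
  · simp [g.app_eq_appLE]
  · ext b
    show (X' ↘ Spec (CommRingCat.of B)).appLE ⊤ (g ⁻¹ᵁ U) _ b =
      X'.presheaf.map (homOfLE (le_top (a := g ⁻¹ᵁ U))).op ((X' ↘ Spec (CommRingCat.of B)).appTop
        ((Scheme.ΓSpecIso (CommRingCat.of B)).inv ((Scheme.ΓSpecIso (CommRingCat.of B)).hom b)))
    rw [Iso.hom_inv_id_apply]
    rfl

variable [Module.Flat A B] [CompactSpace X] [QuasiSeparatedSpace X]

theorem nonempty_flat_base_change [Coh.IsQCoh M]
    (h : IsPullback g (X' ↘ Spec (CommRingCat.of B)) (X ↘ Spec (CommRingCat.of A))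
      (Spec.map (CommRingCat.ofHom (algebraMap A B)))) (i : ℕ) :
    Nonempty (B ⊗[A] Coh.HH X M i ≃ₗ[B] Coh.HH X' (bcSheaf g M) i) := by
  have : IsAffineHom g := MorphismProperty.IsStableUnderBaseChange.of_isPullback
    (P := @IsAffineHom) h.flip inferInstance
  have : Coh.IsQCoh (bcSheaf g M) := EGA43.InjFibre.isQCoh_pullback g M
  let φ₀ := Coh.toGlobal (X ↘ Spec (CommRingCat.of A))
  let β₀ := Coh.toGlobal (X' ↘ Spec (CommRingCat.of B))
  have hc : ∀ a, g.appTop (φ₀ a) = β₀ (algebraMap A B a) := appTop_toGlobal g h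
  let eM : Coh.HH X M i ≃ₗ[A] HA φ₀ M (⊤ : X.Opens) i :=
    { (HHLinEquiv M i).toAddEquiv with
      map_smul' := fun a x => (HHLinEquiv M i).map_smul (φ₀ a) x }
  let eT := LinearEquiv.ofBijective (bcMap g φ₀ β₀ M hc ⊤ i)
    (bijective_bcMap g φ₀ β₀ M hc (fun U hU => isBCPushout_of_isPullback g h hU)
      (U := ⊤) isCompact_univ i)
  let eN : Coh.HH X' (bcSheaf g M) i ≃+ BCMod g M β₀ (⊤ : X.Opens) i :=
    (HHTopEquiv (bcSheaf g M) i).trans (H'AffinePushEquiv g (bcSheaf g M) ⊤ i)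
  let eN' : Coh.HH X' (bcSheaf g M) i ≃ₗ[B] BCMod g M β₀ (⊤ : X.Opens) i :=
    { eN with
      map_smul' := fun b x => by
        obtain ⟨z, rfl⟩ := (HHTopEquiv (bcSheaf g M) i).symm.surjective x
        show eN ((β₀ b) • (HHTopEquiv (bcSheaf g M) i).symm z : Coh.HH X' (bcSheaf g M) i) =
          b • eN ((HHTopEquiv (bcSheaf g M) i).symm z)
        rw [smul_HH_eq]
        simp only [eN, AddEquiv.trans_apply, AddEquiv.apply_symm_apply]
        exact H'PushEquiv_naturality (X := X'.toTopCat) (Y := X.toTopCat) (f := g.base)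
          X.isBasis_affineOpens (acyclicOverBasis_affine g (bcSheaf g M))
          (acyclicOverBasis_affine g (bcSheaf g M)) (smulEndAb (bcSheaf g M) (β₀ b)) ⊤ i z }
  exact ⟨((LinearEquiv.baseChange A B _ _ eM).trans eT).trans eN'.symm⟩

end Final

end Groth.Agent.Coherent
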