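import Groth.Agent.ProjLib.ProjSpace
import Groth.Agent.ProjLib.AwayDehom
import Mathlib.AlgebraicGeometry.Morphisms.Flat

/-!
# Projective space is flat over its base
-/

set_option autoImplicit false
set_option backward.isDefEq.respectTransparency false

universe u

open AlgebraicGeometry CategoryTheory TopologicalSpace MvPolynomial HomogeneousLocalization

namespace Groth.Agent.Coherent

variable (n : ℕ) (K : Type u) [CommRing K]

/-- Setting `X_i = 1`. -/
noncomputable def evalCoord (i : Fin (n + 1)) :
    MvPolynomial (Fin (n + 1)) K →ₐ[K] MvPolynomial {j : Fin (n + 1) // j ≠ i} K :=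
  aeval fun j => if h : j = i then 1 else X ⟨j, h⟩

theorem evalCoord_X_self (i : Fin (n + 1)) : evalCoord n K i (X i) = 1 :=
  (aeval_X _ _).trans (dif_pos rfl)

theorem evalCoord_X_ne (i : Fin (n + 1)) (j : Fin (n + 1)) (h : j ≠ i) :
    evalCoord n K i (X j) = X ⟨j, h⟩ :=
  (aeval_X _ _).trans (dif_neg h)

theorem evalCoord_span (i : Fin (n + 1)) :
    ∀ a ∈ Ideal.span {(X i : MvPolynomial (Fin (n + 1)) K) - 1}, evalCoord n K i a = 0 := fun a ha => by
  obtain ⟨c, rfl⟩ := Ideal.mem_span_singleton.mp ha
  rw [map_mul, map_sub, evalCoord_X_self, map_one, sub_self, zero_mul]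

/-- `K[X_0,…,X_n]/(X_i - 1)` is a polynomial algebra. -/
noncomputable def dehomAlg (i : Fin (n + 1)) :
    (MvPolynomial (Fin (n + 1)) K ⧸ Ideal.span {(X i : MvPolynomial (Fin (n + 1)) K) - 1}) ≃ₐ[K]
      MvPolynomial {j : Fin (n + 1) // j ≠ i} K :=
  AlgEquiv.ofAlgHom (Ideal.Quotient.liftₐ _ (evalCoord n K i) (evalCoord_span n K i))
    (aeval fun j => Ideal.Quotient.mk _ (X j.1))
    (MvPolynomial.algHom_ext fun j => by
      refine Eq.trans (congrArg (Ideal.Quotient.liftₐ _ (evalCoord n K i) (evalCoord_span n K i))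
        (aeval_X _ _)) ?_
      exact evalCoord_X_ne n K i j.1 j.2)
    (Ideal.Quotient.algHom_ext _ (MvPolynomial.algHom_ext fun j => by
      show (aeval fun j => Ideal.Quotient.mk _ (X j.1)) (evalCoord n K i (X j)) = _
      by_cases h : j = i
      · subst h
        rw [evalCoord_X_self, map_one]
        exact ((Ideal.Quotient.eq.mpr (Ideal.mem_span_singleton_self _)).trans (map_one _)).symm
      · rw [evalCoord_X_ne n K i j h, aeval_X]
        rfl))

theorem flat_toAway (i : Fin (n + 1)) : (ProjLib.toAway n K (X i)).Flat := by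
  let e := (ProjLib.awayEquivQuotient (ProjLib.X_mem_polyGrading n K i)).trans (dehomAlg n K i).toRingEquiv
  have he : ∀ r : K, e (ProjLib.toAway n K (X i) r) = C r := fun r => by
    show dehomAlg n K i (ProjLib.evalOne (algebraMap _ _ (ProjLib.toAway n K (X i) r))) = _
    rw [HomogeneousLocalization.algebraMap_apply, ProjLib.val_toAway]
    have : ProjLib.evalOne (f := (X i : MvPolynomial (Fin (n + 1)) K))
        (algebraMap _ (Localization.Away (X i : MvPolynomial (Fin (n + 1)) K)) (C r)) =
        Ideal.Quotient.mk _ (C r) := IsLocalization.Away.lift_eq _ _ _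
    rw [this]
    exact (dehomAlg n K i).commutes r
  have h1 : (C : K →+* MvPolynomial {j : Fin (n + 1) // j ≠ i} K).Flat :=
    RingHom.flat_algebraMap_iff.2 (inferInstance : Module.Flat K (MvPolynomial {j : Fin (n + 1) // j ≠ i} K))
  have h2 : ProjLib.toAway n K (X i) = e.symm.toRingHom.comp C :=
    RingHom.ext fun r => e.injective ((he r).trans (e.apply_symm_apply _).symm)
  rw [h2]
  exact h1.comp (RingHom.Flat.of_bijective e.symm.bijective)

instance flat_toSpec : Flat (CohB1.ProjSpace.toSpec n K) := by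
  refine (IsZariskiLocalAtSource.iff_of_iSup_eq_top (P := @AlgebraicGeometry.Flat) _
    (ProjLib.iSup_basicOpen_X n K)).2 fun i => ?_
  let j := Proj.awayι (CohB1.polyGrading n K) (X i) (ProjLib.X_mem_polyGrading n K i) one_pos
  have hflat : Flat (j ≫ CohB1.ProjSpace.toSpec n K) := by
    rw [show j ≫ CohB1.ProjSpace.toSpec n K = Spec.map (CommRingCat.ofHom (ProjLib.toAway n K (X i))) from
      ProjLib.awayι_toSpec n K _ one_pos, HasRingHomProperty.Spec_iff (P := @Flat)]
    exact flat_toAway n K i
  have hr : (Proj.basicOpen (CohB1.polyGrading n K) (X i)).ι.opensRange = j.opensRange := by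
    rw [Scheme.Opens.opensRange_ι]
    exact (Proj.opensRange_awayι (CohB1.polyGrading n K) (X i) (ProjLib.X_mem_polyGrading n K i) one_pos).symm
  let e := IsOpenImmersion.isoOfRangeEq (Proj.basicOpen (CohB1.polyGrading n K) (X i)).ι j
    (by simpa using congrArg SetLike.coe hr)
  show Flat ((Proj.basicOpen (CohB1.polyGrading n K) (X i)).ι ≫ CohB1.ProjSpace.toSpec n K)
  have he : e.hom ≫ j = (Proj.basicOpen (CohB1.polyGrading n K) (X i)).ι :=
    IsOpenImmersion.isoOfRangeEq_hom_fac _ j _
  rw [← he, Category.assoc]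
  infer_instance

instance flat_toBase (S : Scheme.{u}) : Flat (CohB1.ProjSpaceOver.toBase n S) := by
  unfold CohB1.ProjSpaceOver.toBase
  infer_instance

end Groth.Agent.Coherent
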