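import Groth.Agent.Coherent.DevissageIdeal
import Groth.Agent.Coherent.SchemeCoh
import Groth.Agent.Coherent.ProperFinite

/-!
# Filtrations of coherent modules, supports
-/

set_option autoImplicit false

universe u

open CategoryTheory CategoryTheory.Limits AlgebraicGeometry Opposite TopologicalSpace
  Groth.Agent.ModStalk Groth.Agent.AssSch12

open scoped ZeroObject

namespace Groth.Agent.Coherent

variable {X : Scheme.{u}}

local notation "St" => DerSch.stalkFunctor X

/-- The graded pieces allowed in a filtration. -/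
def IdealPiece (C : X.Modules) : Prop :=
  ∃ (Z : Scheme.{u}) (i : Z ⟶ X), IsClosedImmersion i ∧ IsIntegral Z ∧
    ∃ (I : Z.Modules) (ι : I ⟶ Coh.structureModule Z), Mono ι ∧ Coh.IsQCoh I ∧ ¬ IsZero I ∧
      Nonempty (C ≅ (Coh.push i).obj I)

/-- Modules with a finite filtration by ideal pieces. -/
inductive Filt : X.Modules → Prop
  | zero (M : X.Modules) (h : IsZero M) : Filt M
  | step {A B : X.Modules} (f : A ⟶ B) (hf : Mono f) (hA : Filt A) (hA' : Coh.IsCoh A)
      (hB : Coh.IsCoh B) (hq : IdealPiece (cokernel f)) : Filt B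

theorem IdealPiece.iso {C C' : X.Modules} (e : C ≅ C') (h : IdealPiece C) : IdealPiece C' :=
  let ⟨Z, i, hi, hZ, I, ι, hι, hI, hne, ⟨e'⟩⟩ := h
  ⟨Z, i, hi, hZ, I, ι, hι, hI, hne, ⟨e.symm ≪≫ e'⟩⟩

variable [IsLocallyNoetherian X]

theorem isCoh_iso {M N : X.Modules} (e : M ≅ N) (hM : Coh.IsCoh M) : Coh.IsCoh N :=
  have := hM.1
  isCoh_of_mono e.inv hM (isQCoh_of_iso e)

theorem Filt.of_iso {M N : X.Modules} (e : M ≅ N) (h : Filt M) : Filt N := by
  cases h with
  | zero _ h => exact .zero N (h.of_iso e.symm)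
  | step f hf hA hA' hB hq =>
    exact .step (f ≫ e.hom) (mono_comp _ _) hA hA' (isCoh_iso e hB)
      (hq.iso (cokernelCompIsIso f e.hom).symm)

theorem Filt.ext_aux {A B C : X.Modules} (h₃ : Filt C) (f : A ⟶ B) (g : B ⟶ C) (w : f ≫ g = 0)
    (hS : (ShortComplex.mk f g w).ShortExact) (h₁c : Coh.IsCoh A)
    (h₂c : Coh.IsCoh B) (h₁ : Filt A) : Filt B := by
  induction h₃ generalizing B with
  | zero C hC =>
    have : Mono f := hS.mono_f
    have : Epi f := hS.exact.epi_f (hC.eq_of_tgt _ _)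
    have : IsIso f := isIso_of_mono_of_epi f
    exact Filt.of_iso (asIso f) h₁
  | @step C' C h hh hC' hC'c hCc hq ih =>
    have : Mono f := hS.mono_f
    have : Epi g := hS.epi_g
    let q := g ≫ cokernel.π h
    have : Epi q := inferInstanceAs (Epi (g ≫ cokernel.π h))
    have := h₂c.1
    have := hC'c.1
    have := hCc.1
    have hcok : Coh.IsQCoh (cokernel h) := (isCoh_cokernel h hC'c.1 hCc).1
    have hK : Coh.IsCoh (kernel q) := isCoh_kernel q h₂c hcok
    let f' : A ⟶ kernel q := kernel.lift q f (by rw [reassoc_of% w, zero_comp])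
    let g' : kernel q ⟶ C' := Abelian.monoLift h (kernel.ι q ≫ g) (by
      rw [Category.assoc]; exact kernel.condition q)
    have hg' : g' ≫ h = kernel.ι q ≫ g := Abelian.monoLift_comp _ _ _
    have hf' : f' ≫ kernel.ι q = f := kernel.lift_ι _ _ _
    have w' : f' ≫ g' = 0 := by
      rw [← cancel_mono h, Category.assoc, hg', reassoc_of% hf', w, zero_comp]
    have : Mono f' := mono_of_mono_fac hf'
    have hS' : (ShortComplex.mk f' g' w').ShortExact :=
      { exact := by
          rw [ShortComplex.exact_iff_exact_up_to_refinements]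
          intro T x hx
          have hx' : (x ≫ kernel.ι q) ≫ g = 0 := by
            rw [Category.assoc, ← hg', reassoc_of% hx, zero_comp]
          obtain ⟨T', π, hπ, a, ha⟩ := hS.exact.exact_up_to_refinements _ hx'
          refine ⟨T', π, hπ, a, ?_⟩
          rw [← cancel_mono (kernel.ι q), Category.assoc, Category.assoc, hf']
          exact ha
        mono_f := inferInstanceAs (Mono f')
        epi_g := by
          rw [epi_iff_surjective_up_to_refinements]
          intro T c
          obtain ⟨T', π, hπ, b, hb⟩ := surjective_up_to_refinements_of_epi g (c ≫ h)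
          refine ⟨T', π, hπ, kernel.lift q b ?_, ?_⟩
          · change b ≫ g ≫ cokernel.π h = 0
            rw [← reassoc_of% hb, cokernel.condition, comp_zero, comp_zero]
          · rw [← cancel_mono h, Category.assoc, Category.assoc, hg', kernel.lift_ι_assoc]
            exact hb }
    refine .step (kernel.ι q) inferInstance (ih f' g' w' hS' hK) hK h₂c ?_
    exact hq.iso ((cokernelIsCokernel (kernel.ι q)).coconePointUniqueUpToIso
      (Abelian.epiIsCokernelOfKernel _ (limit.isLimit (parallelPair q 0)))).symm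

theorem Filt.ext (S : ShortComplex X.Modules) (hS : S.ShortExact) (h₁c : Coh.IsCoh S.X₁)
    (h₂c : Coh.IsCoh S.X₂) (h₁ : Filt S.X₁) (h₃ : Filt S.X₃) : Filt S.X₂ :=
  Filt.ext_aux h₃ S.f S.g S.zero hS h₁c h₂c h₁

theorem Filt.exists_chain {M : X.Modules} (h : Filt M) :
    ∃ (m : ℕ) (F : ℕ → X.Modules) (φ : (j : ℕ) → (F j ⟶ F (j + 1))),
      IsZero (F 0) ∧ Nonempty (F m ≅ M) ∧ (∀ j ≤ m, Coh.IsCoh (F j)) ∧
      ∀ j < m, Mono (φ j) ∧ IdealPiece (cokernel (φ j)) := by
  induction h with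
  | zero M h =>
    refine ⟨0, fun _ => M, fun _ => 0, h, ⟨Iso.refl _⟩, fun j _ => ?_, fun j hj => absurd hj (by omega)⟩
    exact (isCoh_iff_finite_sections M).2 ⟨isQCoh_of_isZero h, fun V _ => by
      have : Subsingleton Γ(M, V) := subsingleton_of_forall_eq 0 fun x =>
        congrArg (fun φ : M ⟶ M => φ.app V x) (h.eq_of_src (𝟙 M) 0)
      infer_instance⟩
  | @step A B f hf _ _ hB hq ih =>
    obtain ⟨m, F, φ, h0, ⟨e⟩, hc, hφ⟩ := ih
    let G : ℕ → X.Modules := fun j => if j ≤ m then F j else B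
    let ψ : (j : ℕ) → (G j ⟶ G (j + 1)) := fun j =>
      if h : j < m then
        eqToHom (if_pos h.le) ≫ φ j ≫ eqToHom (if_pos (show j + 1 ≤ m from h)).symm
      else if h' : j = m then
        eqToHom (by subst h'; exact if_pos le_rfl) ≫ e.hom ≫ f ≫
          eqToHom (if_neg (show ¬ j + 1 ≤ m by omega)).symm
      else 0
    have hG0 : G 0 = F 0 := if_pos m.zero_le
    refine ⟨m + 1, G, ψ, h0.of_iso (eqToIso hG0), ⟨eqToIso (if_neg (by omega))⟩, fun j hj => ?_,
      fun j hj => ?_⟩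
    · by_cases h : j ≤ m
      · exact isCoh_iso (eqToIso (if_pos h).symm) (hc j h)
      · exact isCoh_iso (eqToIso (if_neg h).symm) hB
    · by_cases h : j < m
      · obtain ⟨h1, h2⟩ := hφ j h
        simp only [ψ, dif_pos h]
        exact ⟨inferInstance, h2.iso ((cokernelEpiComp _ _) ≪≫ cokernelCompIsIso _ _).symm⟩
      · obtain rfl : j = m := by omega
        rw [show ψ j = _ from (dif_neg (lt_irrefl j)).trans (dif_pos rfl)]
        exact ⟨inferInstance, hq.iso ((cokernelEpiComp _ _) ≪≫ (cokernelEpiComp _ _) ≪≫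
          cokernelCompIsIso _ _).symm⟩

omit [IsLocallyNoetherian X] in
theorem filt_of_isCoh [IsNoetherian X] {M : X.Modules} (hM : Coh.IsCoh M) : Filt M := by
  refine mem_of_ideals (K := Filt) ⟨fun e h => Filt.of_iso e h, Filt.zero,
    fun S hS h₁ h₂ _ k₁ k₃ => Filt.ext S hS h₁ h₂ k₁ k₃⟩ Set.univ ?_ M hM (Set.subset_univ _)
  intro y _ I ι hι hI hne
  have : IsLocallyNoetherian (clI y).subscheme :=
    LocallyOfFiniteType.isLocallyNoetherian (clI y).subschemeι
  have hIc : Coh.IsCoh I := isCoh_of_mono ι (isCoh_structureModule _) hI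
  have := hI
  have hq : Coh.IsQCoh ((Coh.push (clI y).subschemeι).obj I) := isQCoh_push _ I
  have hp : Coh.IsCoh ((Coh.push (clI y).subschemeι).obj I) :=
    isCoh_of_mono ((Coh.push (clI y).subschemeι).map ι) (isCoh_clM y) hq
  let z : (0 : X.Modules) ⟶ (Coh.push (clI y).subschemeι).obj I := 0
  refine .step z inferInstance (.zero _ (isZero_zero _)) ?_ hp
    ⟨_, (clI y).subschemeι, inferInstance, inferInstance, I, ι, hι, hI, hne, ⟨?_⟩⟩
  · exact (isCoh_iff_finite_sections _).2 ⟨isQCoh_of_isZero (isZero_zero _), fun V _ => by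
      have : Subsingleton Γ((0 : X.Modules), V) := subsingleton_of_forall_eq 0 fun x =>
        congrArg (fun φ : (0 : X.Modules) ⟶ 0 => φ.app V x) ((isZero_zero _).eq_of_src (𝟙 _) 0)
      infer_instance⟩
  · exact cokernelZeroIsoTarget

/-- Splitting along the support. -/
theorem exists_split_support [CompactSpace X] (M : X.Modules) (hM : Coh.IsCoh M) (Z Z' : Set X)
    (hZ : IsClosed Z) (hZ' : IsClosed Z') (h : CohB1.support M = Z ∪ Z') :
    ∃ S : ShortComplex X.Modules, S.ShortExact ∧ Nonempty (S.X₂ ≅ M) ∧ Coh.IsCoh S.X₁ ∧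
      Coh.IsCoh S.X₃ ∧ CohB1.support S.X₁ ⊆ Z' ∧ CohB1.support S.X₃ ⊆ Z := by
  let W : X.Opens := ⟨Z'ᶜ, hZ'.isOpen_compl⟩
  let η := (Scheme.Modules.restrictAdjunction W.ι).unit.app M
  have := hM.1
  have : Coh.IsQCoh ((Coh.push W.ι).obj (M.restrict W.ι)) := isQCoh_push W.ι _
  have hI : Coh.IsQCoh (Abelian.image η) := @isQCoh_image _ _ _ η hM.1 ‹_›
  have w : kernel.ι η ≫ Abelian.factorThruImage η = 0 := by
    rw [← cancel_mono (Abelian.image.ι η), Category.assoc, Abelian.image.fac, kernel.condition,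
      zero_comp]
  refine ⟨ShortComplex.mk (kernel.ι η) (Abelian.factorThruImage η) w,
    { mono_f := inferInstanceAs (Mono (kernel.ι η))
      epi_g := inferInstanceAs (Epi (Abelian.factorThruImage η))
      exact := ShortComplex.exact_of_f_is_kernel _ (isKernelOfComp (f := Abelian.factorThruImage η)
        (Abelian.image.ι η) η (kernelIsKernel η) _ (Abelian.image.fac η)) },
    ⟨Iso.refl _⟩, isCoh_kernel η hM ‹_›,
    AssSch12.isCoh_of_epi M (Abelian.factorThruImage η) hI (locallyFinGen_of_isFT M hM.2),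
    fun z hz => ?_, fun z hz => ?_⟩
  · by_contra hzZ'
    refine hz (subsingleton_of_forall_eq 0 fun a => ?_)
    apply (ModuleCat.mono_iff_injective ((St z).map (kernel.ι η))).1 inferInstance
    refine Eq.trans ?_ (map_zero ((St z).map (kernel.ι η)).hom).symm
    apply (bijective_stalk_restrictUnit M (V := W) hzZ').1
    refine ((stalk_comp_apply _ _ _).trans ?_).trans (map_zero ((St z).map η).hom).symm
    rw [kernel.condition]
    exact stalk_zero_apply _
  · by_contra hzZ
    have h1 := support_subset_of_mono (Abelian.image.ι η) hz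
    refine h1 (subsingleton_of_forall_eq 0 fun a => ?_)
    obtain ⟨U, hU, t, rfl⟩ :=
      ((Coh.push W.ι).obj (M.restrict W.ι)).presheaf.exists_germ_eq a
    let U₁ : X.Opens := U ⊓ ⟨Zᶜ, hZ.isOpen_compl⟩
    rw [← TopCat.Presheaf.germ_res_apply _ (homOfLE (inf_le_left : U₁ ≤ U)) z ⟨hU, hzZ⟩]
    have : Subsingleton Γ(M, W.ι ''ᵁ W.ι ⁻¹ᵁ U₁) := subsingleton_sections_of_disjoint M _ <|
      Set.disjoint_left.2 fun x hx hxs => by
        obtain ⟨w, hw, rfl⟩ := hx
        rw [h] at hxs
        exact hxs.elim hw.2 w.2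
    let t₁ : Γ(M, W.ι ''ᵁ W.ι ⁻¹ᵁ U₁) :=
      ((Coh.push W.ι).obj (M.restrict W.ι)).presheaf.map (homOfLE (inf_le_left : U₁ ≤ U)).op t
    exact (congrArg (((Coh.push W.ι).obj (M.restrict W.ι)).presheaf.germ U₁ z ⟨hU, hzZ⟩)
      (this.elim t₁ 0)).trans (map_zero _)

/-- The zero dimensional support of a coherent module is discrete. -/
theorem exists_open_inter_support_eq (M : X.Modules) (hM : Coh.IsCoh M)
    (h0 : ∀ x ∈ CohB1.support M, IsClosed ({x} : Set X)) (x : X) :
    ∃ W : X.Opens, x ∈ W ∧ CohB1.support M ∩ W ⊆ {x} := by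
  classical
  obtain ⟨V, hV, hxV, -⟩ := Opens.isBasis_iff_nbhd.mp X.isBasis_affineOpens (Opens.mem_top x)
  have := IsLocallyNoetherian.component_noetherian (X := X) ⟨V, hV⟩
  have : IsAffine (V : Scheme.{u}) := hV
  have hns : NoetherianSpace V := noetherianSpace_of_isAffineOpen V hV
  let S : Closeds V := ⟨Subtype.val ⁻¹' CohB1.support M,
    (isClosed_support M (locallyFinGen_of_isFT M hM.2)).preimage continuous_subtype_val⟩
  obtain ⟨T, hT, hirr, hS⟩ := NoetherianSpace.exists_finite_set_closeds_irreducible S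
  have hfin : (CohB1.support M ∩ V).Finite := by
    have hTs : ∀ t ∈ T, ∃ z : X, Subtype.val '' (t : Set V) ⊆ {z} := fun t ht => by
      have : QuasiSober V := (show IsOpen (V : Set X) from V.2).isOpenEmbedding_subtypeVal.quasiSober
      let g := (hirr t ht).genericPoint
      refine ⟨g.1, ?_⟩
      rintro _ ⟨w, hw, rfl⟩
      have hgw : g ⤳ w := specializes_iff_mem_closure.2
        (by rw [(hirr t ht).closure_genericPoint t.2]; exact hw)
      have hgt : g ∈ (t : Set V) := by
        rw [← (hirr t ht).closure_genericPoint t.2]; exact subset_closure rfl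
      have hgS : g ∈ (S : Set V) := (hS ▸ le_sSup ht : t ≤ S) hgt
      have hgw' : g.1 ⤳ w.1 := hgw.map continuous_subtype_val
      exact (h0 _ hgS).closure_subset (specializes_iff_mem_closure.1 hgw')
    have hcl : IsClosed (⋃ t ∈ T, (t : Set V)) := hT.isClosed_biUnion fun t _ => t.2
    have hle : (S : Set V) ⊆ ⋃ t ∈ T, (t : Set V) := by
      have : sSup T ≤ (⟨_, hcl⟩ : Closeds V) := sSup_le fun t ht z hz => Set.mem_iUnion₂.2 ⟨t, ht, hz⟩
      exact hS ▸ this
    refine (hT.biUnion (t := fun t => Subtype.val '' (t : Set V)) fun t ht => ?_).subset ?_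
    · obtain ⟨z, hz⟩ := hTs t ht
      exact (Set.finite_singleton z).subset hz
    · rintro z ⟨hz, hzV⟩
      obtain ⟨t, ht, hzt⟩ := Set.mem_iUnion₂.1 (hle (show (⟨z, hzV⟩ : V) ∈ (S : Set V) from hz))
      exact Set.mem_biUnion ht ⟨_, hzt, rfl⟩
  have hcl : IsClosed ((CohB1.support M ∩ V) \ {x}) := by
    rw [← Set.biUnion_of_singleton ((CohB1.support M ∩ V) \ {x})]
    exact (hfin.subset Set.sdiff_subset).isClosed_biUnion fun z hz => h0 z hz.1.1
  refine ⟨V ⊓ ⟨_, hcl.isOpen_compl⟩, ⟨hxV, fun h => h.2 rfl⟩, fun z hz => ?_⟩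
  by_contra hzx
  exact hz.2.2 ⟨⟨hz.1, hz.2.1⟩, hzx⟩

theorem isFlasque_of_closedPoints (M : X.Modules) (hM : Coh.IsCoh M)
    (h0 : ∀ x ∈ CohB1.support M, IsClosed ({x} : Set X)) :
    TopCat.Sheaf.IsFlasque (X := X.toTopCat) (Coh.toAb M) where
  epi {U₀ V₀} i := (AddCommGrpCat.epi_iff_surjective _).2 fun s => by
    classical
    let U : X.Opens := V₀.unop
    let U' : X.Opens := U₀.unop
    have hle : U ≤ U' := leOfHom i.unop
    have hclosed : IsClosed (CohB1.support M ∩ (U : Set X)) := by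
      rw [← isOpen_compl_iff, isOpen_iff_forall_mem_open]
      intro z hz
      obtain ⟨W, hzW, hW⟩ := exists_open_inter_support_eq M hM h0 z
      exact ⟨W, fun a ha hab => hz (by obtain rfl : a = z := hW ⟨hab.1, ha⟩; exact hab), W.2, hzW⟩
    let W : X.Opens := U' ⊓ ⟨(CohB1.support M ∩ (U : Set X))ᶜ, hclosed.isOpen_compl⟩
    have hsub : Subsingleton Γ(M, U ⊓ W) := subsingleton_sections_of_disjoint M _ <|
      Set.disjoint_left.2 fun z hz hzs => hz.2.2 ⟨hzs, hz.1⟩
    let F : TopCat.Sheaf Ab X := ⟨M.presheaf, M.isSheaf⟩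
    let cov : ULift.{u} Bool → X.Opens := fun b => cond b.down U W
    let sf : ∀ b, Γ(M, cov b) := fun b => match b with
      | ⟨true⟩ => s
      | ⟨false⟩ => 0
    have hcompat : TopCat.Presheaf.IsCompatible F.obj cov sf := by
      rintro ⟨a⟩ ⟨b⟩
      cases a <;> cases b
      · rfl
      · have : Subsingleton Γ(M, W ⊓ U) := inf_comm U W ▸ hsub
        exact this.elim _ _
      · exact hsub.elim _ _
      · rfl
    obtain ⟨g, hg, -⟩ := TopCat.Sheaf.existsUnique_gluing' F cov U'
      (fun ⟨b⟩ => homOfLE (by cases b; exacts [inf_le_left, hle]))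
      (fun z hz => by
        by_cases hzU : z ∈ U
        · exact Opens.mem_iSup.2 ⟨⟨true⟩, hzU⟩
        · exact Opens.mem_iSup.2 ⟨⟨false⟩, hz, fun h => hzU h.2⟩) sf hcompat
    exact ⟨g, hg ⟨true⟩⟩

theorem subsingleton_HH_of_closedPoints (M : X.Modules) (hM : Coh.IsCoh M)
    (h0 : ∀ x ∈ CohB1.support M, IsClosed ({x} : Set X)) (i : ℕ) (hi : 0 < i) :
    Subsingleton (Coh.HH X M i) := by
  obtain ⟨k, rfl⟩ : ∃ k, i = k + 1 := ⟨i - 1, by omega⟩
  have := isFlasque_of_closedPoints M hM h0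
  exact subsingleton_H_of_isFlasque (X := X.toTopCat) (Coh.toAb M) k

omit [IsLocallyNoetherian X]

/-- Direct image of a module supported in a closed subset of the open. -/
theorem isCoh_push_of_closed_support (U : X.Opens) (T : Set X) (hT : IsClosed T)
    (hTU : T ⊆ (U : Set X)) (F : (U : Scheme.{u}).Modules) (hF : Coh.IsCoh F)
    (hs : ∀ x : U, x ∈ CohB1.support F → (x : X) ∈ T) : Coh.IsCoh ((Coh.push U.ι).obj F) := by
  let T' : X.Opens := ⟨Tᶜ, hT.isOpen_compl⟩
  let P := (Coh.push U.ι).obj F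
  have hzero : ∀ V : X.Opens, V ≤ T' → Subsingleton Γ(P, V) := fun V hV =>
    subsingleton_sections_of_disjoint F (U.ι ⁻¹ᵁ V) <|
      Set.disjoint_left.2 fun x hx hxs => hV hx (hs x hxs)
  let cov : ULift.{u} Bool → X.Opens := fun b => cond b.down U T'
  have hq : Coh.IsQCoh P := by
    refine isQCoh_of_openImmersion_cover P (fun b => (cov b).ι) (fun x => ?_) fun ⟨b⟩ => ?_
    · by_cases hx : x ∈ U
      · exact ⟨⟨true⟩, by rw [Scheme.Opens.opensRange_ι]; exact hx⟩
      · exact ⟨⟨false⟩, by rw [Scheme.Opens.opensRange_ι]; exact fun h => hx (hTU h)⟩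
    · cases b
      · refine isQCoh_of_isZero ((IsZero.iff_id_eq_zero _).2 (Scheme.Modules.hom_ext _ _ fun V => ?_))
        ext m
        have : Subsingleton Γ(P, T'.ι ''ᵁ V) := hzero _ (by
          rintro _ ⟨w, -, rfl⟩; exact w.2)
        exact this.elim _ _
      · have := hF.1
        exact @isQCoh_of_iso _ _ _ (asIso ((Scheme.Modules.restrictAdjunction U.ι).counit.app F)).symm hF.1
  have := hq
  refine ⟨hq, isFT_of_locallyFinGen (locallyFinGen_of_finite_sections P
    (fun V : {V : X.affineOpens // (V.1 : X.Opens) ≤ U ∨ (V.1 : X.Opens) ≤ T'} => V.1.1)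
    (fun V => V.1.2) (fun x => ?_) fun V => ?_)⟩
  · by_cases hx : x ∈ U
    · obtain ⟨V, hV, hxV, hle⟩ := Opens.isBasis_iff_nbhd.mp X.isBasis_affineOpens hx
      exact ⟨⟨⟨V, hV⟩, Or.inl hle⟩, hxV⟩
    · obtain ⟨V, hV, hxV, hle⟩ := Opens.isBasis_iff_nbhd.mp X.isBasis_affineOpens
        (show x ∈ T' from fun h => hx (hTU h))
      exact ⟨⟨⟨V, hV⟩, Or.inr hle⟩, hxV⟩
  · rcases V.2 with hle | hle
    · have hV' : IsAffineOpen (U.ι ⁻¹ᵁ V.1.1) :=
        V.1.2.preimage_of_isOpenImmersion U.ι (by rwa [Scheme.Opens.opensRange_ι])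
      have := hF.1
      have := finite_sections F (locallyFinGen_of_isFT F hF.2) hV'
      have : IsIso (U.ι.app V.1.1) := U.ι.isIso_app _ (by rwa [Scheme.Opens.opensRange_ι])
      refine finite_of_semilinear (A := Γ((U : Scheme.{u}), U.ι ⁻¹ᵁ V.1.1))
        (M := Γ(F, U.ι ⁻¹ᵁ V.1.1)) (AddMonoidHom.id Γ(F, U.ι ⁻¹ᵁ V.1.1)) Function.surjective_id
        fun a x => ?_
      obtain ⟨a', rfl⟩ := (ConcreteCategory.bijective_of_isIso (U.ι.app V.1.1)).2 a
      exact ⟨a', rfl⟩
    · have := hzero _ hle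
      infer_instance

end Groth.Agent.Coherent
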