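import Groth.Agent.Coherent.CohModule
import Groth.Agent.Coherent.CohOps
import Mathlib.RingTheory.Finiteness.Finsupp
import Mathlib.CategoryTheory.Preadditive.Biproducts

/-!
# Finiteness of cohomology modules over a base ring
-/

set_option autoImplicit false

universe u

open CategoryTheory CategoryTheory.Abelian CategoryTheory.Limits AlgebraicGeometry Opposite
  TopologicalSpace

namespace Groth.Agent.Coherent

variable {X : Scheme.{u}} {A : Type u} [CommRing A]

/-- Spelled on the underlying space, as the types below are. -/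
local instance (priority := 20000) hasExtTopCatFinite :
    HasExt.{u} (Sheaf (Opens.grothendieckTopology X.toTopCat) AddCommGrpCat.{u}) :=
  hasExtAb X.toTopCat

/-- `H^q(U, M)` as a module over `A`, through `φ : A → Γ(X, O_X)`. -/
@[nolint unusedArguments]
def HA (_φ : A →+* Γ(X, ⊤)) (M : X.Modules) (U : X.Opens) (q : ℕ) : Type u := HMod M U q

noncomputable instance (φ : A →+* Γ(X, ⊤)) (M : X.Modules) (U : X.Opens) (q : ℕ) :
    AddCommGroup (HA φ M U q) := inferInstanceAs (AddCommGroup (HMod M U q))

noncomputable instance (φ : A →+* Γ(X, ⊤)) (M : X.Modules) (U : X.Opens) (q : ℕ) :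
    Module A (HA φ M U q) := Module.compHom (HMod M U q) φ

theorem toAb_map_smulEndAb {M N : X.Modules} (f : M ⟶ N) (r : Γ(X, ⊤)) :
    smulEndAb M r ≫ (toAbFunctor X).map f = (toAbFunctor X).map f ≫ smulEndAb N r := by
  ext U m
  exact Scheme.Modules.Hom.app_smul f _ m

section Generic

variable {T : TopCat.{u}} {F G : Sheaf (Opens.grothendieckTopology T) AddCommGrpCat.{u}}
  {C : ShortComplex (Sheaf (Opens.grothendieckTopology T) AddCommGrpCat.{u})} (hC : C.ShortExact)

theorem postH_commSq (a : F ⟶ F) (b : G ⟶ G) (f : F ⟶ G) (h : a ≫ f = f ≫ b) (n : ℕ) (U : Opens T)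
    (x : Ext (freeSh U) F n) : postH f n U (postH a n U x) = postH b n U (postH f n U x) := by
  rw [← postH_comp, h, postH_comp]

/-- The connecting map. -/
noncomputable def extC (n : ℕ) (U : Opens T) :
    Ext (freeSh U) C.X₃ n →+ Ext (freeSh U) C.X₁ (n + 1) :=
  hC.extClass.postcomp (freeSh U) rfl

/-- Composition with a class of degree one. -/
noncomputable def postClass {F₁ F₃ : Sheaf (Opens.grothendieckTopology T) AddCommGrpCat.{u}}
    (e : Ext F₃ F₁ 1) (n : ℕ) (U : Opens T) : Ext (freeSh U) F₃ n →+ Ext (freeSh U) F₁ (n + 1) :=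
  e.postcomp (freeSh U) rfl

theorem postClass_comm {F₁ F₃ : Sheaf (Opens.grothendieckTopology T) AddCommGrpCat.{u}}
    (e : Ext F₃ F₁ 1) (a : F₃ ⟶ F₃) (b : F₁ ⟶ F₁)
    (h : (Ext.mk₀ a).comp e (zero_add 1) = e.comp (Ext.mk₀ b) (add_zero 1)) (n : ℕ) (U : Opens T)
    (x : Ext (freeSh U) F₃ n) : postClass e n U (postH a n U x) = postH b (n + 1) U (postClass e n U x) :=
  (Ext.comp_assoc_of_second_deg_zero x (Ext.mk₀ a) e (rfl : n + 1 = n + 1)).trans
    ((congrArg (fun z => x.comp z (rfl : n + 1 = n + 1)) h).trans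
      (Ext.comp_assoc_of_third_deg_zero x e (Ext.mk₀ b) (rfl : n + 1 = n + 1)).symm)

include hC in
theorem exact_postH (n : ℕ) (U : Opens T) : Function.Exact (postH C.f n U) (postH C.g n U) :=
  fun x => by
    refine ⟨fun h => Ext.covariant_sequence_exact₂ _ hC x h, ?_⟩
    rintro ⟨y, rfl⟩
    rw [← postH_comp, C.zero, postH_apply, Ext.mk₀_zero, Ext.comp_zero]

theorem exact_postH_extC (n : ℕ) (U : Opens T) : Function.Exact (postH C.g n U) (extC hC n U) :=
  fun x => by
    refine ⟨fun h => Ext.covariant_sequence_exact₃ _ hC x rfl h, ?_⟩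
    rintro ⟨y, rfl⟩
    exact (comp_extClass_eq_zero_iff hC _).2 ⟨y, rfl⟩

theorem exact_extC_postH (n : ℕ) (U : Opens T) : Function.Exact (extC hC n U) (postH C.f (n + 1) U) :=
  fun x => by
    refine ⟨fun h => Ext.covariant_sequence_exact₁ _ hC x h rfl, ?_⟩
    rintro ⟨y, rfl⟩
    exact (Ext.comp_assoc_of_third_deg_zero y hC.extClass (Ext.mk₀ C.f) (rfl : n + 1 = n + 1)).trans
      ((congrArg (fun z => y.comp z (rfl : n + 1 = n + 1)) hC.extClass_comp).trans
        (Ext.comp_zero _ _ _ _ _))

end Generic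

variable (φ : A →+* Γ(X, ⊤))

/-- Functoriality, linearly. -/
noncomputable def postA {M N : X.Modules} (f : M ⟶ N) (U : X.Opens) (q : ℕ) :
    HA φ M U q →ₗ[A] HA φ N U q where
  toFun := postHM f q U
  map_add' := map_add _
  map_smul' a x := postH_commSq (T := X.toTopCat) (smulEndAb M (φ a)) (smulEndAb N (φ a))
    ((toAbFunctor X).map f) (toAb_map_smulEndAb f (φ a)) q U x

/-- Restriction, linearly. -/
noncomputable def resA (M : X.Modules) {U V : X.Opens} (h : U ≤ V) (q : ℕ) :
    HA φ M V q →ₗ[A] HA φ M U q where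
  toFun := resHLin M h q
  map_add' := map_add (resHLin M h q)
  map_smul' a x := (resHLin M h q).map_smul (φ a) x

/-- A module between two finite ones is finite, over a Noetherian ring. -/
theorem finite_of_exact [IsNoetherianRing A] {M N P : Type*} [AddCommGroup M] [AddCommGroup N]
    [AddCommGroup P] [Module A M] [Module A N] [Module A P] {f : M →ₗ[A] N} {g : N →ₗ[A] P}
    (h : Function.Exact f g) [Module.Finite A M] [Module.Finite A P] : Module.Finite A N := by
  refine ⟨(⊤ : Submodule A N).fg_of_fg_map_of_fg_inf_ker g (IsNoetherian.noetherian _) ?_⟩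
  rw [top_inf_eq, LinearMap.exact_iff.1 h, LinearMap.range_eq_map]
  exact Module.Finite.fg_top.map f

section Sequence

variable {S : ShortComplex X.Modules} (hS : S.ShortExact) (U : X.Opens) (q : ℕ)

/-- The action of a global function on a short exact sequence. -/
noncomputable def smulSC (r : Γ(X, ⊤)) :
    S.map (toAbFunctor X) ⟶ S.map (toAbFunctor X) where
  τ₁ := smulEndAb S.X₁ r
  τ₂ := smulEndAb S.X₂ r
  τ₃ := smulEndAb S.X₃ r
  comm₁₂ := toAb_map_smulEndAb S.f r
  comm₂₃ := toAb_map_smulEndAb S.g r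

/-- The class of the sequence, on the underlying space. -/
noncomputable def sesClass : Ext (C := Sheaf (Opens.grothendieckTopology X.toTopCat) AddCommGrpCat.{u})
    (Coh.toAb S.X₃) (Coh.toAb S.X₁) 1 :=
  (toAb_shortExact hS).extClass

theorem sesClass_comm (r : Γ(X, ⊤)) :
    (Ext.mk₀ (C := Sheaf (Opens.grothendieckTopology X.toTopCat) AddCommGrpCat.{u})
      (smulEndAb S.X₃ r)).comp (sesClass hS) (zero_add 1) =
    (sesClass hS).comp (Ext.mk₀ (smulEndAb S.X₁ r)) (add_zero 1) :=
  (ShortComplex.ShortExact.extClass_naturality (toAb_shortExact hS) (toAb_shortExact hS)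
    (smulSC (S := S) r)).symm

/-- The connecting map, linearly. -/
noncomputable def deltaA : HA φ S.X₃ U q →ₗ[A] HA φ S.X₁ U (q + 1) where
  toFun := postClass (T := X.toTopCat) (sesClass hS) q U
  map_add' := map_add _
  map_smul' a x := postClass_comm (T := X.toTopCat) (sesClass hS) _ _ (sesClass_comm hS (φ a)) q U x

include hS in
theorem exact_postA : Function.Exact (postA φ S.f U q) (postA φ S.g U q) :=
  exact_postH (T := X.toTopCat) (toAb_shortExact hS) q U

theorem exact_postA_deltaA : Function.Exact (postA φ S.g U q) (deltaA φ hS U q) :=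
  exact_postH_extC (T := X.toTopCat) (toAb_shortExact hS) q U

theorem exact_deltaA_postA : Function.Exact (deltaA φ hS U q) (postA φ S.f U (q + 1)) :=
  exact_extC_postH (T := X.toTopCat) (toAb_shortExact hS) q U

include hS

variable [IsNoetherianRing A]

theorem finite_middle [Module.Finite A (HA φ S.X₁ U q)] [Module.Finite A (HA φ S.X₃ U q)] :
    Module.Finite A (HA φ S.X₂ U q) :=
  finite_of_exact (exact_postA φ hS U q)

theorem finite_right [Module.Finite A (HA φ S.X₂ U q)]
    [Module.Finite A (HA φ S.X₁ U (q + 1))] : Module.Finite A (HA φ S.X₃ U q) :=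
  finite_of_exact (exact_postA_deltaA φ hS U q)

theorem finite_left [Module.Finite A (HA φ S.X₃ U q)]
    [Module.Finite A (HA φ S.X₂ U (q + 1))] : Module.Finite A (HA φ S.X₁ U (q + 1)) :=
  finite_of_exact (exact_deltaA_postA φ hS U q)

end Sequence

/-- Invariance under isomorphisms. -/
noncomputable def isoA {M N : X.Modules} (e : M ≅ N) (U : X.Opens) (q : ℕ) :
    HA φ M U q ≃ₗ[A] HA φ N U q :=
  LinearEquiv.ofLinearMap (postA φ e.hom U q) (postA φ e.inv U q)
    (LinearMap.ext fun x => ((postHM_comp e.inv e.hom q U x).symm.trans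
      (by rw [e.inv_hom_id]; exact postHM_id N q U x)))
    (LinearMap.ext fun x => ((postHM_comp e.hom e.inv q U x).symm.trans
      (by rw [e.hom_inv_id]; exact postHM_id M q U x)))

theorem hasFiniteBiproducts (X : Scheme.{u}) : HasFiniteBiproducts X.Modules :=
  Abelian.hasFiniteBiproducts (C := X.Modules)

attribute [local instance] hasFiniteBiproducts in
theorem finite_HA_biproduct {ι : Type} [Fintype ι] (F : ι → X.Modules) (U : X.Opens) (q : ℕ)
    (h : ∀ i, Module.Finite A (HA φ (F i) U q)) : Module.Finite A (HA φ (⨁ F) U q) := by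
  classical
  refine Module.Finite.of_surjective
    (LinearMap.lsum A (fun i => HA φ (F i) U q) A fun i => postA φ (biproduct.ι F i) U q)
    fun x => ⟨fun i => postA φ (biproduct.π F i) U q x, ?_⟩
  have key : ∀ s : Finset ι, postHM (∑ i ∈ s, biproduct.π F i ≫ biproduct.ι F i) q U x =
      ∑ i ∈ s, postA φ (biproduct.ι F i) U q (postA φ (biproduct.π F i) U q x) := fun s => by
    induction s using Finset.induction with
    | empty => rw [Finset.sum_empty, Finset.sum_empty]; exact postHM_zero q U x
    | insert a s ha ih =>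
      rw [Finset.sum_insert ha, Finset.sum_insert ha]
      refine (postHM_add _ _ q U x).trans ?_
      exact congrArg₂ (· + ·) (postHM_comp (biproduct.π F a) (biproduct.ι F a) q U x) ih
  simp only [LinearMap.lsum_apply, LinearMap.sum_apply, LinearMap.comp_apply,
    LinearMap.proj_apply]
  refine (key Finset.univ).symm.trans ?_
  rw [biproduct.total]
  exact postHM_id _ q U x

/-- The structure map `A → Γ(X, O_X)`. -/
noncomputable abbrev baseHom (A : Type u) [CommRing A] (X : Scheme.{u})
    [X.Over (Spec (CommRingCat.of A))] : A →+* Γ(X, ⊤) :=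
  Coh.toGlobal (X ↘ Spec (CommRingCat.of A))

/-- Comparison with `HH`. -/
theorem finite_HH_iff (A : Type u) [CommRing A] [X.Over (Spec (CommRingCat.of A))] (M : X.Modules)
    (q : ℕ) : Module.Finite A (Coh.HH X M q) ↔
      Module.Finite A (HA (baseHom A X) M (⊤ : X.Opens) q) := by
  let e : Coh.HH X M q ≃ₗ[A] HA (baseHom A X) M (⊤ : X.Opens) q :=
    { (HHLinEquiv M q).toAddEquiv with
      map_smul' := fun a x => (HHLinEquiv M q).map_smul (baseHom A X a) x }
  exact ⟨fun _ => Module.Finite.equiv e, fun _ => Module.Finite.equiv e.symm⟩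

/-- Cohomology of every coherent module is finite over `A`. -/
def FinCoh : Prop :=
  ∀ (M : X.Modules), Coh.IsCoh M → ∀ q : ℕ, Module.Finite A (HA φ M (⊤ : X.Opens) q)

end Groth.Agent.Coherent
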