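import Groth.Agent.Coherent.GradedSystem
import Groth.Agent.Coherent.CohFinite
import Groth.Agent.Coherent.Devissage

/-!
# Cohomology of eventually generated systems of coherent modules
-/

set_option autoImplicit false

universe u

open CategoryTheory CategoryTheory.Abelian CategoryTheory.Limits AlgebraicGeometry Opposite
  TopologicalSpace

namespace Groth.Agent.Coherent

variable {X : Scheme.{u}} {A : Type u} [CommRing A] (φ : A →+* Γ(X, ⊤))

theorem postA_comp {M N P : X.Modules} (f : M ⟶ N) (g : N ⟶ P) (q : ℕ)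
    (x : HA φ M (⊤ : X.Opens) q) :
    postA φ (f ≫ g) ⊤ q x = postA φ g ⊤ q (postA φ f ⊤ q x) :=
  postHM_comp f g q _ x

theorem postA_id {M : X.Modules} (q : ℕ) (x : HA φ M (⊤ : X.Opens) q) :
    postA φ (𝟙 M) ⊤ q x = x :=
  postHM_id M q _ x

theorem postA_zero {M N : X.Modules} (q : ℕ) (x : HA φ M (⊤ : X.Opens) q) :
    postA φ (0 : M ⟶ N) ⊤ q x = 0 :=
  postHM_zero q _ x

/-- The connecting map is natural. -/
theorem deltaA_natural {S S' : ShortComplex X.Modules} (hS : S.ShortExact) (hS' : S'.ShortExact)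
    (τ : S ⟶ S') (q : ℕ) (x : HA φ S.X₃ (⊤ : X.Opens) q) :
    postA φ τ.τ₁ ⊤ (q + 1) (deltaA φ hS ⊤ q x) = deltaA φ hS' ⊤ q (postA φ τ.τ₃ ⊤ q x) := by
  have hnat := ShortComplex.ShortExact.extClass_naturality (toAb_shortExact hS)
    (toAb_shortExact hS') ((toAbFunctor X).mapShortComplex.map τ)
  let x' : Ext (freeSh (X := X.toTopCat) (⊤ : X.Opens)) (Coh.toAb S.X₃) q := x
  exact (Ext.comp_assoc_of_third_deg_zero x' (toAb_shortExact hS).extClass
      (Ext.mk₀ ((toAbFunctor X).map τ.τ₁)) (rfl : q + 1 = q + 1)).trans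
    ((congrArg (fun z => x'.comp z (rfl : q + 1 = q + 1)) hnat).trans
      (Ext.comp_assoc_of_second_deg_zero x' (Ext.mk₀ ((toAbFunctor X).map τ.τ₃))
        (toAb_shortExact hS').extClass (rfl : q + 1 = q + 1)).symm)

/-- Generation on sections over affines. -/
def SecEG {r : ℕ} (N : ℕ → X.Modules) (T : Fin r → ∀ n, N n ⟶ N (n + 1)) : Prop :=
  ∀ U : X.Opens, IsAffineOpen U →
    EG (A := Γ(X, U)) (H := fun n => Γ(N n, U)) fun i n => appLin (T i n) U

theorem kerSeq_shortExact {M N : X.Modules} (t : M ⟶ N) :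
    (ShortComplex.mk (kernel.ι t) (Abelian.factorThruImage t)
      (by rw [← cancel_mono (Abelian.image.ι t), Category.assoc, Abelian.image.fac, zero_comp,
        kernel.condition])).ShortExact :=
  { mono_f := inferInstanceAs (Mono (kernel.ι t))
    epi_g := inferInstanceAs (Epi (Abelian.factorThruImage t))
    exact := ShortComplex.exact_of_f_is_kernel _
      (isKernelOfComp (f := Abelian.factorThruImage t) (Abelian.image.ι t) t (kernelIsKernel t)
        _ (Abelian.image.fac t)) }

theorem imSeq_shortExact {M N : X.Modules} (t : M ⟶ N) :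
    (ShortComplex.mk (Abelian.image.ι t) (cokernel.π t)
      (kernel.condition (cokernel.π t))).ShortExact :=
  { exact := ShortComplex.exact_of_f_is_kernel _ (kernelIsKernel (cokernel.π t))
    mono_f := inferInstanceAs (Mono (kernel.ι (cokernel.π t)))
    epi_g := inferInstanceAs (Epi (cokernel.π t)) }

variable [IsLocallyNoetherian X] [CompactSpace X]

theorem secEG_zero_eventually {N : ℕ → X.Modules} (hN : ∀ n, Coh.IsQCoh (N n)) (T : Fin 0 → ∀ n, N n ⟶ N (n + 1))
    (hT : SecEG N T) : ∃ n₀, ∀ n, n₀ ≤ n → IsZero (N (n + 1)) := by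
  classical
  choose m hm using fun V : X.affineOpens => hT V.1 V.2
  obtain ⟨s, hs⟩ := CompactSpace.isCompact_univ.elim_finite_subcover
    (fun V : X.affineOpens => (V.1 : Set X)) (fun V => V.1.2) (fun z _ => by
      obtain ⟨V, hV, hz, -⟩ := Opens.isBasis_iff_nbhd.mp X.isBasis_affineOpens (Opens.mem_top z)
      exact Set.mem_iUnion.2 ⟨⟨V, hV⟩, hz⟩)
  refine ⟨s.sup m, fun n hn => ModStalk.isZero_of_stalks fun z => (notMem_support_iff _ z).1 ?_⟩
  obtain ⟨V, hV, hz⟩ := Set.mem_iUnion₂.1 (hs (Set.mem_univ z))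
  intro hmem
  refine hmem (subsingleton_of_forall_eq 0 fun a => ?_)
  have hsub : Subsingleton Γ(N (n + 1), V.1) := subsingleton_of_forall_eq 0 fun x => by
    obtain ⟨y, rfl⟩ := hm V n ((Finset.le_sup hV).trans hn) x
    exact Fintype.sum_empty _
  have := hN (n + 1)
  obtain ⟨g, w, hg, hw⟩ := QCohLoc.exists_smul_stalk_eq_germ (N (n + 1)) V.2 hz a
  have h1 := hw
  rw [hsub.elim w 0, map_zero, IsUnit.smul_eq_zero ((Scheme.mem_basicOpen _ _ _ hz).1 hg)] at h1
  exact h1

variable [IsNoetherianRing A] (Z : Set X)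
  (hφ : ∀ M : X.Modules, Coh.IsCoh M → CohB1.support M ⊆ Z → ∀ q,
    Module.Finite A (HA φ M (⊤ : X.Opens) q))

include hφ in
theorem eg_HA : ∀ (r : ℕ) (N : ℕ → X.Modules) (_ : ∀ n, Coh.IsCoh (N n))
    (_ : ∀ n, CohB1.support (N n) ⊆ Z)
    (T : Fin r → ∀ n, N n ⟶ N (n + 1)) (_ : ∀ i j n, T i n ≫ T j (n + 1) = T j n ≫ T i (n + 1))
    (_ : SecEG N T) (p : ℕ),
    EG (H := fun n => HA φ (N n) (⊤ : X.Opens) p) fun i n => postA φ (T i n) ⊤ p := by
  intro r
  induction r with
  | zero =>
    intro N hN _ T _ hT p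
    obtain ⟨n₀, hn₀⟩ := secEG_zero_eventually (fun n => (hN n).1) T hT
    refine ⟨n₀, fun n hn x => ⟨fun i => i.elim0, ?_⟩⟩
    rw [Fintype.sum_empty]
    have h := postA_id φ p x
    rw [(hn₀ n hn).eq_of_src (𝟙 (N (n + 1))) 0] at h
    exact h.symm.trans (postA_zero φ p x)
  | succ r ih =>
    intro N hN hsupp T hcomm hT p
    let t : ∀ n, N n ⟶ N (n + 1) := fun n => T (Fin.last r) n
    -- kernels, images, cokernels of the last operator
    let K : ℕ → X.Modules := fun n => kernel (t n)
    let C : ℕ → X.Modules := fun n => cokernel (t n)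
    let B : ℕ → X.Modules := fun n => Abelian.image (t n)
    let TK : Fin r → ∀ n, K n ⟶ K (n + 1) := fun i n => kernel.map (t n) (t (n + 1))
      (T i.castSucc n) (T i.castSucc (n + 1)) (hcomm _ _ n)
    let TC : Fin r → ∀ n, C n ⟶ C (n + 1) := fun i n => cokernel.map (t n) (t (n + 1))
      (T i.castSucc n) (T i.castSucc (n + 1)) (hcomm _ _ n)
    let TB : Fin r → ∀ n, B n ⟶ B (n + 1) := fun i n =>
      kernel.map (cokernel.π (t n)) (cokernel.π (t (n + 1))) (T i.castSucc (n + 1)) (TC i n)
        (cokernel.π_desc _ _ _)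
    have hTKι : ∀ i n, TK i n ≫ kernel.ι (t (n + 1)) = kernel.ι (t n) ≫ T i.castSucc n :=
      fun i n => kernel.lift_ι _ _ _
    have hTCπ : ∀ i n, cokernel.π (t n) ≫ TC i n = T i.castSucc (n + 1) ≫ cokernel.π (t (n + 1)) :=
      fun i n => cokernel.π_desc _ _ _
    have hTBι : ∀ i n, TB i n ≫ Abelian.image.ι (t (n + 1)) =
        Abelian.image.ι (t n) ≫ T i.castSucc (n + 1) :=
      fun i n => kernel.lift_ι _ _ _
    have hTBf : ∀ i n, Abelian.factorThruImage (t n) ≫ TB i n =
        T i.castSucc n ≫ Abelian.factorThruImage (t (n + 1)) := fun i n => by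
      rw [← cancel_mono (Abelian.image.ι (t (n + 1))), Category.assoc, hTBι, Category.assoc,
        Abelian.image.fac, ← Category.assoc, Abelian.image.fac]
      exact hcomm (Fin.last r) i.castSucc n
    have hKc : ∀ n, Coh.IsCoh (K n) := fun n => isCoh_kernel (t n) (hN n) (hN (n + 1)).1
    have hCc : ∀ n, Coh.IsCoh (C n) := fun n => isCoh_cokernel (t n) (hN n).1 (hN (n + 1))
    have hKs : ∀ n, CohB1.support (K n) ⊆ Z := fun n =>
      (support_subset_of_mono (kernel.ι (t n))).trans (hsupp n)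
    have hCs : ∀ n, CohB1.support (C n) ⊆ Z := fun n =>
      (support_subset_of_epi (cokernel.π (t n))).trans (hsupp (n + 1))
    have hcommK : ∀ i j n, TK i n ≫ TK j (n + 1) = TK j n ≫ TK i (n + 1) := fun i j n => by
      rw [← cancel_mono (kernel.ι (t (n + 1 + 1))), Category.assoc, Category.assoc, hTKι, hTKι,
        ← Category.assoc, ← Category.assoc, hTKι, hTKι, Category.assoc, Category.assoc, hcomm]
    have hcommC : ∀ i j n, TC i n ≫ TC j (n + 1) = TC j n ≫ TC i (n + 1) := fun i j n => by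
      rw [← cancel_epi (cokernel.π (t n)), ← Category.assoc, ← Category.assoc, hTCπ, hTCπ,
        Category.assoc, Category.assoc, hTCπ, hTCπ, ← Category.assoc, ← Category.assoc, hcomm]
    have hKeg : SecEG K TK := fun U hU => by
      have := IsLocallyNoetherian.component_noetherian (X := X) ⟨U, hU⟩
      let S : Fin (r + 1) → ∀ n, Γ(K n, U) →ₗ[Γ(X, U)] Γ(K (n + 1), U) :=
        Fin.lastCases (fun n => 0) (fun i n => appLin (TK i n) U)
      have hsec := (hT U hU).sub (H := fun n => Γ(N n, U)) (K := fun n => Γ(K n, U)) (S := S)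
        (fun n => ((isCoh_iff_finite_sections _).1 (hN n)).2 U hU)
        (fun i j n x => congrArg (fun ψ : N n ⟶ N (n + 1 + 1) => ψ.app U x) (hcomm j i n))
        (fun n => appLin (kernel.ι (t n)) U)
        (fun n => sections_injective (kerSeq_shortExact (t n)) U) (fun i n x => by
          induction i using Fin.lastCases with
          | last =>
            simp only [S, Fin.lastCases_last, LinearMap.zero_apply, map_zero]
            exact (congrArg (fun ψ : K n ⟶ N (n + 1) => ψ.app U x) (kernel.condition (t n))).symm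
          | cast i =>
            simp only [S, Fin.lastCases_castSucc]
            exact congrArg (fun ψ : K n ⟶ N (n + 1) => ψ.app U x) (hTKι i n))
      have := hsec.init (fun n x => by simp [S])
      simpa [S] using this
    have hCeg : SecEG C TC := fun U hU => by
      let S : Fin (r + 1) → ∀ n, Γ(C n, U) →ₗ[Γ(X, U)] Γ(C (n + 1), U) :=
        Fin.lastCases (fun n => 0) (fun i n => appLin (TC i n) U)
      have hsec := EG.quot_succ (K := fun n => Γ(C n, U)) (S := S) (hT U hU)
        (fun n => appLin (cokernel.π (t n)) U)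
        (fun n => by
          have : Coh.IsQCoh (B n) := by
            have := (hN n).1; have := (hN (n + 1)).1; exact isQCoh_image (t n)
          exact sections_surjective (imSeq_shortExact (t n)) hU)
        (fun i n x => by
          induction i using Fin.lastCases with
          | last =>
            simp only [S, Fin.lastCases_last, LinearMap.zero_apply]
            exact congrArg (fun ψ : N (n + 1) ⟶ C (n + 1) => ψ.app U x)
              (cokernel.condition (t (n + 1)))
          | cast i =>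
            simp only [S, Fin.lastCases_castSucc]
            exact congrArg (fun ψ : N (n + 1) ⟶ C (n + 1) => ψ.app U x) (hTCπ i n).symm)
      have := hsec.init (fun n x => by simp [S])
      simpa [S] using this
    -- cohomology
    let π' : ∀ n, HA φ (N (n + 1)) (⊤ : X.Opens) p →ₗ[A] HA φ (C n) (⊤ : X.Opens) p :=
      fun n => postA φ (cokernel.π (t n)) ⊤ p
    let δ : ∀ n, HA φ (B n) (⊤ : X.Opens) p →ₗ[A] HA φ (K n) (⊤ : X.Opens) (p + 1) :=
      fun n => deltaA φ (kerSeq_shortExact (t n)) ⊤ p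
    let ι' : ∀ n, HA φ (B n) (⊤ : X.Opens) p →ₗ[A] HA φ (N (n + 1)) (⊤ : X.Opens) p :=
      fun n => postA φ (Abelian.image.ι (t n)) ⊤ p
    have hπ : ∀ i n x, π' (n + 1) (postA φ (T i.castSucc (n + 1)) ⊤ p x) =
        postA φ (TC i n) ⊤ p (π' n x) := fun i n x =>
      (postA_comp φ (T i.castSucc (n + 1)) (cokernel.π (t (n + 1))) p x).symm.trans
        ((congrArg (fun ψ => postA φ ψ ⊤ p x) (hTCπ i n).symm).trans
          (postA_comp φ (cokernel.π (t n)) (TC i n) p x))
    have hδ : ∀ i n x, δ (n + 1) (postA φ (TB i n) ⊤ p x) =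
        postA φ (TK i n) ⊤ (p + 1) (δ n x) := fun i n x =>
      (deltaA_natural φ (kerSeq_shortExact (t n)) (kerSeq_shortExact (t (n + 1)))
        (⟨TK i n, T i.castSucc n, TB i n, hTKι i n, (hTBf i n).symm⟩ :
          ShortComplex.mk (kernel.ι (t n)) (Abelian.factorThruImage (t n)) _ ⟶
          ShortComplex.mk (kernel.ι (t (n + 1))) (Abelian.factorThruImage (t (n + 1))) _) p x).symm
    -- the image systems
    have hRC : EG (H := fun n => LinearMap.range (π' n)) (fun (i : Fin r) n =>
        (postA φ (TC i n) ⊤ p).restrict (p := LinearMap.range (π' n))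
          (q := LinearMap.range (π' (n + 1))) (by
            rintro _ ⟨x, rfl⟩; exact ⟨_, hπ i n x⟩)) :=
      (ih C hCc hCs TC hcommC hCeg p).sub (fun n => hφ (C n) (hCc n) (hCs n) p)
        (fun i j n x => (postA_comp φ _ _ p x).symm.trans
          ((congrArg (fun ψ => postA φ ψ ⊤ p x) (hcommC j i n)).trans (postA_comp φ _ _ p x)))
        (fun n => (LinearMap.range (π' n)).subtype) (fun n => Subtype.val_injective)
        (fun i n x => rfl)
    have hRK : EG (H := fun n => LinearMap.range (δ n)) (fun (i : Fin r) n =>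
        (postA φ (TK i n) ⊤ (p + 1)).restrict (p := LinearMap.range (δ n))
          (q := LinearMap.range (δ (n + 1))) (by
            rintro _ ⟨x, rfl⟩; exact ⟨_, hδ i n x⟩)) :=
      (ih K hKc hKs TK hcommK hKeg (p + 1)).sub (fun n => hφ (K n) (hKc n) (hKs n) (p + 1))
        (fun i j n x => (postA_comp φ _ _ (p + 1) x).symm.trans
          ((congrArg (fun ψ => postA φ ψ ⊤ (p + 1) x) (hcommK j i n)).trans
            (postA_comp φ _ _ (p + 1) x)))
        (fun n => (LinearMap.range (δ n)).subtype) (fun n => Subtype.val_injective)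
        (fun i n x => rfl)
    obtain ⟨a, ha⟩ := hRC
    obtain ⟨b, hb⟩ := hRK
    refine ⟨a + b + 1, fun m hm x => ?_⟩
    obtain ⟨n, rfl⟩ : ∃ n, m = n + 1 := ⟨m - 1, by omega⟩
    obtain ⟨y₀, hy₀⟩ := ha n (by omega) ⟨π' (n + 1) x, x, rfl⟩
    choose y hy using fun i => (y₀ i).2
    let x₁ := x - ∑ i : Fin r, postA φ (T i.castSucc (n + 1)) ⊤ p (y i)
    have hx₁ : π' (n + 1) x₁ = 0 := by
      have e := congrArg Subtype.val hy₀
      simp only [Submodule.coe_sum, LinearMap.restrict_apply] at e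
      rw [map_sub, map_sum, sub_eq_zero]
      refine e.trans (Finset.sum_congr rfl fun i _ => ?_)
      rw [hπ, hy]
    obtain ⟨z, hz⟩ := (exact_postA φ (imSeq_shortExact (t (n + 1))) ⊤ p x₁).1 hx₁
    obtain ⟨w₀, hw₀⟩ := hb n (by omega) ⟨δ (n + 1) z, z, rfl⟩
    choose w hw using fun i => (w₀ i).2
    let z₁ := z - ∑ i : Fin r, postA φ (TB i n) ⊤ p (w i)
    have hz₁ : δ (n + 1) z₁ = 0 := by
      have e := congrArg Subtype.val hw₀
      simp only [Submodule.coe_sum, LinearMap.restrict_apply] at e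
      rw [map_sub, map_sum, sub_eq_zero]
      refine e.trans (Finset.sum_congr rfl fun i _ => ?_)
      rw [hδ, hw]
    obtain ⟨v, hv⟩ := (exact_postA_deltaA φ (kerSeq_shortExact (t (n + 1))) ⊤ p z₁).1 hz₁
    refine ⟨Fin.lastCases v fun i => y i + ι' n (w i), ?_⟩
    rw [Fin.sum_univ_castSucc]
    simp only [Fin.lastCases_last, Fin.lastCases_castSucc, map_add, Finset.sum_add_distrib]
    have h1 : ι' (n + 1) z₁ = postA φ (T (Fin.last r) (n + 1)) ⊤ p v := by
      rw [← hv]
      exact (postA_comp φ _ _ p v).symm.trans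
        (congrArg (fun ψ => postA φ ψ ⊤ p v) (Abelian.image.fac (t (n + 1))))
    have h2 : ∀ i, ι' (n + 1) (postA φ (TB i n) ⊤ p (w i)) =
        postA φ (T i.castSucc (n + 1)) ⊤ p (ι' n (w i)) := fun i =>
      (postA_comp φ _ _ p _).symm.trans ((congrArg (fun ψ => postA φ ψ ⊤ p (w i)) (hTBι i n)).trans
        (postA_comp φ _ _ p _))
    have h3 : ι' (n + 1) z₁ = ι' (n + 1) z - ∑ i : Fin r, postA φ (T i.castSucc (n + 1)) ⊤ p (ι' n (w i)) := by
      rw [map_sub, map_sum]
      exact congrArg (ι' (n + 1) z - ·) (Finset.sum_congr rfl fun i _ => h2 i)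
    have h4 : ι' (n + 1) z = x₁ := hz
    rw [← h1, h3, h4]
    simp only [x₁]
    abel

end Groth.Agent.Coherent
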