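import Groth.Agent.Coherent.Vanishing
import Groth.Agent.SiteCoh.Space

/-!
# Vanishing of higher direct images from vanishing over a basis
-/

set_option autoImplicit false

universe u

open CategoryTheory CategoryTheory.Limits AlgebraicGeometry Opposite TopologicalSpace

namespace Groth.Agent.Coherent

section Top

variable {X Y : TopCat.{u}}

/-- The sheafification of a presheaf with zero values on a basis is zero. -/
theorem isZero_sheafify_of_basis (P : (Opens Y)ᵒᵖ ⥤ AddCommGrpCat.{u}) (B : Set (Opens Y))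
    (hB : Opens.IsBasis B) (h : ∀ V ∈ B, Subsingleton (P.obj (op V))) :
    IsZero ((presheafToSheaf (Opens.grothendieckTopology Y) AddCommGrpCat.{u}).obj P) := by
  let Q := (presheafToSheaf (Opens.grothendieckTopology Y) AddCommGrpCat.{u}).obj P
  have hη : ∀ (V : Opens Y) (x : P.obj (op V)),
      (toSheafify (Opens.grothendieckTopology Y) P).app (op V) x = 0 := by
    intro V x
    have hc : ∀ p : V, ∃ W ∈ B, (p : Y) ∈ W ∧ W ≤ V := fun p =>
      Opens.isBasis_iff_nbhd.mp hB p.2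
    choose W hWB hpW hWV using hc
    refine TopCat.Sheaf.eq_of_locally_eq' (C := AddCommGrpCat.{u}) Q W V (fun p => homOfLE (hWV p))
      (fun p hp => Opens.mem_iSup.mpr ⟨⟨p, hp⟩, hpW _⟩) _ _ fun p => ?_
    rw [map_zero]
    refine Eq.trans (ConcreteCategory.congr_hom
      ((toSheafify (Opens.grothendieckTopology Y) P).naturality (homOfLE (hWV p)).op) x).symm ?_
    have : P.map (homOfLE (hWV p)).op x = 0 := (h _ (hWB p)).elim _ _
    exact (congrArg ((toSheafify (Opens.grothendieckTopology Y) P).app (op (W p))) this).trans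
      (map_zero ((toSheafify (Opens.grothendieckTopology Y) P).app (op (W p))).hom)
  rw [IsZero.iff_id_eq_zero]
  apply ObjectProperty.hom_ext
  refine sheafify_hom_ext (Opens.grothendieckTopology Y) _ _ Q.property ?_
  ext V x
  change (toSheafify (Opens.grothendieckTopology Y) P).app V x = _
  rw [show (toSheafify (Opens.grothendieckTopology Y) P).app V x = 0 from hη V.unop x]
  rfl

/-- Higher direct images vanish when cohomology vanishes over preimages of a basis. -/
theorem isZero_rpushTop_of_basis (f : X ⟶ Y) (B : Set (Opens Y)) (hB : Opens.IsBasis B)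
    (F : Sheaf (Opens.grothendieckTopology X) AddCommGrpCat.{u}) (q : ℕ)
    (h : ∀ V ∈ B, Subsingleton (Sheaf.H' F q ((Opens.map f).obj V))) :
    IsZero ((CohTop.Rpush f q).obj F) :=
  IsZero.of_iso (isZero_sheafify_of_basis _ B hB h) ((SiteCoh.rpushTopIso f q).app F)

end Top

variable {X S : Scheme.{u}}

theorem isZero_rpushAb_of_basis (f : X ⟶ S) (B : Set S.Opens) (hB : Opens.IsBasis B)
    (F : Sheaf (Opens.grothendieckTopology X) AddCommGrpCat.{u}) (q : ℕ)
    (h : ∀ V ∈ B, Subsingleton (Sheaf.H' F q (f ⁻¹ᵁ V))) :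
    IsZero ((Coh.RpushAb f q).obj F) :=
  isZero_rpushTop_of_basis (X := X.toTopCat) (Y := S.toTopCat) f.base B hB F q h

theorem exists_bound_subsingleton_H'_preimage (f : X ⟶ S) [QuasiCompact f] [QuasiSeparated f]
    {V : S.Opens} (hV : IsAffineOpen V) :
    ∃ d, ∀ (M : X.Modules), Coh.IsQCoh M → ∀ (r : Γ(S, V)) (p : ℕ), d ≤ p →
      Subsingleton (Sheaf.H' (Coh.toAb M) p (f ⁻¹ᵁ S.basicOpen r)) := by
  let U : X.Opens := f ⁻¹ᵁ V
  have : CompactSpace (U : Scheme.{u}) :=
    isCompact_iff_compactSpace.mp (f.isCompact_preimage hV.isCompact)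
  have : QuasiSeparatedSpace (U : Scheme.{u}) := by
    have : IsAffine (V : Scheme.{u}) := hV
    exact quasiSeparatedSpace_of_quasiSeparated (f ∣_ V)
  obtain ⟨d, hd⟩ := exists_bound_subsingleton_H' (X := (U : Scheme.{u})) ⊤ isCompact_univ
  refine ⟨d, fun M hM r p hp => ?_⟩
  have : Coh.IsQCoh M := hM
  have hMU : Coh.IsQCoh (M.restrict U.ι) := inferInstance
  have := hd (M.restrict U.ι) hMU (U.topIso.inv (f.app V r)) p hp
  have e : U.ι ''ᵁ (⊤ ⊓ (U : Scheme.{u}).basicOpen (U.topIso.inv (f.app V r))) =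
      f ⁻¹ᵁ S.basicOpen r := by
    rw [top_inf_eq, Scheme.preimage_basicOpen, Scheme.Opens.ι_image_basicOpen_topIso_inv]
  have e' := ((H'ModRestrictEquiv U.ι M _ p).trans (H'Congr (Coh.toAb M) p e)).symm
  exact e'.subsingleton

theorem exists_bound_isZero_rpushAb (f : X ⟶ S) [QuasiCompact f] [QuasiSeparated f]
    [CompactSpace S] :
    ∃ n : ℕ, ∀ (M : X.Modules), Coh.IsQCoh M → ∀ p : ℕ, n ≤ p →
      IsZero ((Coh.RpushAb f p).obj (Coh.toAb M)) := by
  choose d hd using fun V : S.affineOpens => exists_bound_subsingleton_H'_preimage f V.2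
  obtain ⟨t, ht⟩ := isCompact_univ.elim_finite_subcover (fun V : S.affineOpens => (V.1 : Set S))
    (fun V => V.1.isOpen) (fun x _ => by
      obtain ⟨V, hV, hx, -⟩ :=
        Opens.isBasis_iff_nbhd.mp S.isBasis_affineOpens (show x ∈ (⊤ : S.Opens) from trivial)
      exact Set.mem_iUnion.mpr ⟨⟨V, hV⟩, hx⟩)
  refine ⟨t.sup d, fun M hM p hp => ?_⟩
  refine isZero_rpushAb_of_basis f {W | ∃ V ∈ t, ∃ r : Γ(S, V.1), W = S.basicOpen r} ?_ _ p ?_
  · rw [Opens.isBasis_iff_nbhd]
    intro O x hx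
    obtain ⟨V, hV, hxV⟩ := Set.mem_iUnion₂.mp (ht (Set.mem_univ x))
    obtain ⟨r, hr, hxr⟩ := V.2.exists_basicOpen_le ⟨x, hx⟩ hxV
    exact ⟨_, ⟨V, hV, r, rfl⟩, hxr, hr⟩
  · rintro W ⟨V, hV, r, rfl⟩
    exact hd V M hM r p ((Finset.le_sup hV).trans hp)

theorem isZero_rpushAb_of_isAffineHom (f : X ⟶ S) [IsAffineHom f] (M : X.Modules) [Coh.IsQCoh M]
    (i : ℕ) (hi : 0 < i) : IsZero ((Coh.RpushAb f i).obj (Coh.toAb M)) :=
  isZero_rpushAb_of_basis f {V | IsAffineOpen V} S.isBasis_affineOpens _ i fun _ hV =>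
    subsingleton_H'_qcoh_pos M (hV.preimage f) hi

end Groth.Agent.Coherent
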