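import Groth.Agent.SpecSeq.Grothendieck
import Groth.Agent.Coherent.HigherQcoh
import Groth.Agent.Coherent.RpushVanish
import Groth.Agent.SiteCoh.Leray

/-!
# Higher direct images of a composite with an affine or closed first morphism
-/

set_option autoImplicit false

universe w v v' v'' u u' u''

open CategoryTheory CategoryTheory.Limits DerivedCategory

namespace Groth.Agent.Coherent

section Derived

variable {A : Type u} [Category.{v} A] [Abelian A] [HasInjectiveResolutions A]
  {B : Type u'} [Category.{v'} B] [Abelian B] [HasInjectiveResolutions B]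
  {D : Type u''} [Category.{v''} D] [Abelian D]

set_option backward.isDefEq.respectTransparency false in
set_option backward.defeqAttrib.useBackward true in
/-- `R^n (R ⋙ G) M ≅ R^n G (R M)` for an exact `R` taking injectives to `G`-acyclic objects. -/
theorem nonempty_rightDerived_exactComp_iso (R : A ⥤ B) [R.Additive] [PreservesFiniteLimits R]
    [PreservesFiniteColimits R] (G : B ⥤ D) [G.Additive] [PreservesFiniteLimits G]
    (hR : ∀ Q : A, Injective Q → ∀ q : ℕ, 0 < q → IsZero ((G.rightDerived q).obj (R.obj Q)))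
    (M : A) (n : ℕ) :
    Nonempty (((R ⋙ G).rightDerived n).obj M ≅ (G.rightDerived n).obj (R.obj M)) := by
  let _ := HasDerivedCategory.standard B
  let _ := HasDerivedCategory.standard D
  have := SpecSeq.enoughInjectives_of_hasInjectiveResolutions B
  let I := injectiveResolution M
  let K : CochainComplex.Plus B :=
    ⟨(R.mapHomologicalComplex (ComplexShape.up ℤ)).obj I.cochainComplex, 0, inferInstance⟩
  let S₀ : CochainComplex.Plus B :=
    ⟨(CochainComplex.singleFunctor B 0).obj (R.obj M), 0, inferInstance⟩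
  let ι₀ : S₀.obj ⟶ K.obj :=
    (HomologicalComplex.singleMapHomologicalComplex R (ComplexShape.up ℤ) 0).inv.app M ≫
      (R.mapHomologicalComplex (ComplexShape.up ℤ)).map I.ι'
  have : QuasiIso ι₀ := inferInstance
  let e₁ : DerivedCategory.Plus.ι.obj ((DerivedCategory.Plus.singleFunctor B 0).obj (R.obj M)) ≅
      DerivedCategory.Q.obj S₀.obj :=
    ((SingleFunctors.evaluation _ _ 0).mapIso
      (DerivedCategory.singleFunctorsPostcompQIso B)).app (R.obj M)
  let e₂ : DerivedCategory.Plus.ι.obj (DerivedCategory.Plus.Q.obj S₀) ≅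
      DerivedCategory.Q.obj S₀.obj :=
    (DerivedCategory.quotientCompQhIso B).app S₀.obj
  let e : (DerivedCategory.Plus.singleFunctor B 0).obj (R.obj M) ≅ DerivedCategory.Plus.Q.obj K :=
    DerivedCategory.Plus.ι.preimageIso (e₁ ≪≫ e₂.symm) ≪≫
      SpecSeq.qIsoOfQuasiIso (K := S₀) (L := K) ι₀
  have hK : ∀ i, SpecSeq.RAcyclic G (K.obj.X i) := fun i => by
    rw [SpecSeq.rAcyclic_iff]
    intro q hq
    exact hR _ inferInstance q hq
  obtain ⟨ea⟩ := SpecSeq.nonempty_rdHn_acyclic K hK (n : ℤ)
  obtain ⟨eb⟩ := SpecSeq.nonempty_rdSingle_iso G (R.obj M) n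
  exact ⟨I.isoRightDerivedObj (R ⋙ G) n ≪≫
    ((((R ⋙ G).mapHomologicalComplex _).obj I.cocomplex).extendHomologyIso
      ComplexShape.embeddingUpNat rfl).symm ≪≫
    (HomologicalComplex.homologyFunctor D _ (n : ℤ)).mapIso
      (SpecSeq.mapExtendIso (R ⋙ G) I.cocomplex ComplexShape.embeddingUpNat).symm ≪≫
    ea.symm ≪≫ ((SpecSeq.rdH G).shift (n : ℤ)).mapIso e.symm ≪≫ eb⟩

end Derived

section Schemes

open AlgebraicGeometry

variable {X Y Z : Scheme.{w}}

instance faithful_toAbFunctor (X : Scheme.{w}) : (toAbFunctor X).Faithful where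
  map_injective h := (SheafOfModules.toSheaf X.ringCatSheaf).map_injective h

/-- Direct image along a closed immersion is exact. -/
instance preservesFiniteColimits_push (i : X ⟶ Y) [IsClosedImmersion i] :
    PreservesFiniteColimits (Coh.push i) := by
  have : PreservesFiniteLimits (Coh.push i) :=
    have : (Coh.push i).IsRightAdjoint :=
      (Scheme.Modules.pullbackPushforwardAdjunction i).isRightAdjoint
    ⟨fun _ _ _ => inferInstance⟩
  have := SiteCoh.preservesEpimorphisms_push_of_isClosedEmbedding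
    (X := X.toTopCat) (Y := Y.toTopCat) i.base i.isClosedEmbedding
  rw [Functor.preservesFiniteColimits_iff_forall_exact_map_and_epi]
  intro S hS
  have := hS.epi_g
  have : Epi ((toAbFunctor X).map S.g) := inferInstance
  have : Epi ((toAbFunctor Y).map ((Coh.push i).map S.g)) :=
    inferInstanceAs (Epi ((CohTop.push (X := X.toTopCat) (Y := Y.toTopCat) i.base).map
      ((toAbFunctor X).map S.g)))
  exact ⟨((Functor.preservesFiniteLimits_iff_forall_exact_map_and_mono _).1 inferInstance S
      hS).1, (toAbFunctor Y).epi_of_epi_map this⟩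

theorem isFlasque_pushAb (f : X ⟶ Y)
    (F : Sheaf (Opens.grothendieckTopology X) AddCommGrpCat.{w})
    [TopCat.Sheaf.IsFlasque (X := X.toTopCat) F] :
    TopCat.Sheaf.IsFlasque (X := Y.toTopCat) ((Coh.pushAb f).obj F) where
  epi {U V} i := inferInstanceAs (Epi (F.obj.map ((TopologicalSpace.Opens.map f.base).map i.unop).op))

/-- `R^q g_*` kills the direct image of an injective module. -/
theorem isZero_rpush_push_injective (f : X ⟶ Y) (g : Y ⟶ Z) [HasInjectiveResolutions Y.Modules]
    (Q : X.Modules) [Injective Q] (q : ℕ) :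
    IsZero ((Coh.Rpush g (q + 1)).obj ((Coh.push f).obj Q)) := by
  have := isFlasque_toAb_of_injective Q
  have := isFlasque_pushAb f (Coh.toAb Q)
  have h : IsZero ((Coh.RpushAb g (q + 1)).obj (Coh.toAb ((Coh.push f).obj Q))) :=
    SiteCoh.isZero_rpush_of_isFlasque (X := Y.toTopCat) (Y := Z.toTopCat) g.base
      ((Coh.pushAb f).obj (Coh.toAb Q)) q
  have h' : IsZero ((toAbFunctor Z).obj ((Coh.Rpush g (q + 1)).obj ((Coh.push f).obj Q))) :=
    h.of_iso ((toAbRpushNatIso g (q + 1)).app _)
  rw [IsZero.iff_id_eq_zero] at h' ⊢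
  exact (toAbFunctor Z).map_injective (((toAbFunctor Z).map_id _).trans (h'.trans ((toAbFunctor Z).map_zero _ _).symm))

/-- `R^n g_* (i_* M) ≅ R^n (i ≫ g)_* M` for a closed immersion `i`. -/
theorem nonempty_rpush_comp_closedImmersion (i : X ⟶ Y) [IsClosedImmersion i] (g : Y ⟶ Z)
    [HasInjectiveResolutions X.Modules] [HasInjectiveResolutions Y.Modules] (M : X.Modules)
    (n : ℕ) :
    Nonempty ((Coh.Rpush (i ≫ g) n).obj M ≅ (Coh.Rpush g n).obj ((Coh.push i).obj M)) := by
  have : PreservesFiniteLimits (Coh.push i) :=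
    have : (Coh.push i).IsRightAdjoint :=
      (Scheme.Modules.pullbackPushforwardAdjunction i).isRightAdjoint
    ⟨fun _ _ _ => inferInstance⟩
  have : PreservesFiniteLimits (Coh.push g) :=
    have : (Coh.push g).IsRightAdjoint :=
      (Scheme.Modules.pullbackPushforwardAdjunction g).isRightAdjoint
    ⟨fun _ _ _ => inferInstance⟩
  obtain ⟨e⟩ := nonempty_rightDerived_exactComp_iso (Coh.push i) (Coh.push g)
    (fun Q _ q hq => by
      obtain ⟨k, rfl⟩ : ∃ k, q = k + 1 := ⟨q - 1, by lia⟩
      exact isZero_rpush_push_injective i g Q k) M n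
  exact ⟨(SiteCoh.rightDerivedCongr (G := Coh.push (i ≫ g)) (G' := Coh.push i ⋙ Coh.push g)
    (Scheme.Modules.pushforwardComp i g).symm n).app M ≪≫ e⟩

/-- `R^n g_* (f_* M) ≅ R^n (f ≫ g)_* M` for an affine `f`, on abelian sheaves. -/
theorem nonempty_rpushAb_comp_affine (f : X ⟶ Y) [IsAffineHom f] (g : Y ⟶ Z) (M : X.Modules)
    [Coh.IsQCoh M] (n : ℕ) :
    Nonempty ((Coh.RpushAb g n).obj (Coh.toAb ((Coh.push f).obj M)) ≅
      (Coh.RpushAb (f ≫ g) n).obj (Coh.toAb M)) := by
  have : (Coh.pushAb f).PreservesInjectiveObjects :=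
    SiteCoh.pushTop_preservesInjectiveObjects (X := X.toTopCat) (Y := Y.toTopCat) f.base
  have : PreservesFiniteLimits (Coh.pushAb f) :=
    SiteCoh.pushTop_preservesFiniteLimits (X := X.toTopCat) (Y := Y.toTopCat) f.base
  let e := SiteCoh.rightDerivedCompAcyclicObjIso (Coh.pushAb f) (Coh.pushAb g)
    (F := Coh.toAb M) (fun q => isZero_rpushAb_of_isAffineHom f M (q + 1) q.succ_pos) n
  exact ⟨(e.symm ≪≫ (SiteCoh.rightDerivedCongr (G := Coh.pushAb f ⋙ Coh.pushAb g)
    (G' := Coh.pushAb (f ≫ g)) (NatIso.ofComponents (fun _ => Iso.refl _)) n).app (Coh.toAb M) :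
    (Coh.RpushAb g n).obj ((Coh.pushAb f).obj (Coh.toAb M)) ≅ _)⟩

end Schemes

end Groth.Agent.Coherent
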