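import Groth.Agent.EGA43.InjFibre.PullSections
import Groth.Agent.PicLib.PullbackGen

/-!
# The base change map on sections is the unit of the adjunction

`EGA43.InjFibre.pullMap f hU hU' e M m` equals the restriction to `U'` of `pullSec f m`;
hence the unit map `Γ(M, U) → Γ(f^* M, U')` is a base change on affine opens.
-/

set_option autoImplicit false
set_option backward.isDefEq.respectTransparency false

universe u

open CategoryTheory CategoryTheory.Limits AlgebraicGeometry Opposite TopologicalSpace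
open Groth.Agent.Flatn12 Groth.Agent.EGA43.InjFibre Groth.Agent.PicLib

namespace Groth.Agent.Coherent

variable {X W V : Scheme.{u}}

/-- Pullback of a section to a global section. -/
noncomputable def topSec (h : W ⟶ X) (M : X.Modules) {U : X.Opens} (e : (⊤ : W.Opens) ≤ h ⁻¹ᵁ U)
    (m : Γ(M, U)) : Γ((Scheme.Modules.pullback h).obj M, ⊤) :=
  resM _ e (pullSec h m)

theorem restrictIso_hom_app (j : W ⟶ X) [IsOpenImmersion j] (M : X.Modules) (U : X.Opens)
    (m : Γ(M, U)) :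
    ((Scheme.Modules.restrictFunctorIsoPullback j).hom.app M).app (j ⁻¹ᵁ U)
      (resM M (j.image_preimage_le U) m) = pullSec j m :=
  congr(($((Scheme.Modules.restrictAdjunction j).unit_leftAdjointUniq_hom_app
    (Scheme.Modules.pullbackPushforwardAdjunction j) M)).app U m)

theorem pullbackComp_inv_app_pullSec (h : W ⟶ V) (g : V ⟶ X) (M : X.Modules) (U : X.Opens)
    (m : Γ(M, U)) :
    ((Scheme.Modules.pullbackComp h g).inv.app M).app ((h ≫ g) ⁻¹ᵁ U) (pullSec (h ≫ g) m) =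
      pullSec h (pullSec g m) := by
  have e := unit_conjugateEquiv
    ((Scheme.Modules.pullbackPushforwardAdjunction g).comp
      (Scheme.Modules.pullbackPushforwardAdjunction h))
    (Scheme.Modules.pullbackPushforwardAdjunction (h ≫ g))
    (Scheme.Modules.pullbackComp h g).inv M
  rw [Scheme.Modules.conjugateEquiv_pullbackComp_inv] at e
  exact congr(($e).app U m).symm

theorem pullbackComp_inv_app_topSec (h : W ⟶ V) (g : V ⟶ X) (M : X.Modules) {U : X.Opens}
    {U₁ : V.Opens} (eg : U₁ ≤ g ⁻¹ᵁ U) (eh : (⊤ : W.Opens) ≤ h ⁻¹ᵁ U₁) (m : Γ(M, U)) :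
    ((Scheme.Modules.pullbackComp h g).inv.app M).app ⊤
        (topSec (h ≫ g) M (eh.trans ((Opens.map h.base).map (homOfLE eg)).le) m) =
      topSec h _ eh (resM _ eg (pullSec g m)) := by
  unfold topSec
  rw [app_resM, pullbackComp_inv_app_pullSec, ← resM_pullSec, resM_resM]
  rfl

theorem pullbackCongr_app_topSec {a b : W ⟶ X} (hab : a = b) (M : X.Modules) {U : X.Opens}
    (ea : (⊤ : W.Opens) ≤ a ⁻¹ᵁ U) (eb : (⊤ : W.Opens) ≤ b ⁻¹ᵁ U) (m : Γ(M, U)) :
    ((Scheme.Modules.pullbackCongr hab).hom.app M).app ⊤ (topSec a M ea m) = topSec b M eb m := by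
  subst hab
  rfl

theorem map_app_topSec (h : W ⟶ X) {M N : X.Modules} (g : M ⟶ N) {U : X.Opens}
    (e : (⊤ : W.Opens) ≤ h ⁻¹ᵁ U) (m : Γ(M, U)) :
    ((Scheme.Modules.pullback h).map g).app ⊤ (topSec h M e m) = topSec h N e (g.app U m) := by
  unfold topSec
  rw [app_resM]
  refine congrArg _ ?_
  exact congr(($((Scheme.Modules.pullbackPushforwardAdjunction h).unit.naturality g)).app U m).symm

theorem restrictIso_hom_app_secEquiv {U : X.Opens} (hU : IsAffineOpen U) (M : X.Modules)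
    (e : (⊤ : (Spec Γ(X, U)).Opens) ≤ hU.fromSpec ⁻¹ᵁ U) (m : Γ(M, U)) :
    ((Scheme.Modules.restrictFunctorIsoPullback hU.fromSpec).hom.app M).app ⊤
        ((secEquiv hU M).symm m) = topSec hU.fromSpec M e m := by
  unfold topSec
  rw [← restrictIso_hom_app hU.fromSpec M U m, ← app_resM]
  refine congrArg _ ?_
  change resM M (fromSpec_image_top hU).le m =
    resM M ((hU.fromSpec.opensFunctor.map (homOfLE e)).le)
      (resM M (hU.fromSpec.image_preimage_le U) m)
  rw [resM_resM]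

theorem tildePullbackIso_app_topSec {R S : CommRingCat.{u}} (φ : R ⟶ S) (N : ModuleCat.{u} R)
    (e : (⊤ : (Spec S).Opens) ≤ Spec.map φ ⁻¹ᵁ ⊤) (n : N) :
    letI := φ.hom.toAlgebra
    ((tildePullbackIso φ).hom.app N).app ⊤
        (topSec (Spec.map φ) _ e ((tilde.toTildeΓNatIso.app N).hom n)) =
      (tilde.toTildeΓNatIso.app ((ModuleCat.extendScalars φ.hom).obj N)).hom
        ((1 : S) ⊗ₜ[R] n) := by
  let _ := φ.hom.toAlgebra
  have h := ((tilde.adjunction.comp
      (Scheme.Modules.pullbackPushforwardAdjunction (Spec.map φ))).ofNatIsoRight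
      (pushforwardΓIso φ)).unit_leftAdjointUniq_hom_app
      ((ModuleCat.extendRestrictScalarsAdj φ.hom).comp tilde.adjunction) N
  unfold topSec
  rw [show resM ((Scheme.Modules.pullback (Spec.map φ)).obj ((tilde.functor R).obj N)) e
      (pullSec (Spec.map φ) ((tilde.toTildeΓNatIso.app N).hom n)) =
      pullSec (Spec.map φ) ((tilde.toTildeΓNatIso.app N).hom n) from resM_refl _ _]
  exact congr($h n)

theorem chain_seven {A₀ A₁ A₂ A₃ A₄ A₅ A₆ A₇ : Type*} {f₁ : A₀ → A₁} {f₂ : A₁ → A₂} {f₃ : A₂ → A₃}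
    {f₄ : A₃ → A₄} {f₅ : A₄ → A₅} {f₆ : A₅ → A₆} {f₇ : A₆ → A₇} {a₀ : A₀} {a₁ : A₁} {a₂ : A₂}
    {a₃ : A₃} {a₄ : A₄} {a₅ : A₅} {a₆ : A₆} {a₇ : A₇} (h₁ : f₁ a₀ = a₁) (h₂ : f₂ a₁ = a₂)
    (h₃ : f₃ a₂ = a₃) (h₄ : f₄ a₃ = a₄) (h₅ : f₅ a₄ = a₅) (h₆ : f₆ a₅ = a₆) (h₇ : f₇ a₆ = a₇) :
    f₇ (f₆ (f₅ (f₄ (f₃ (f₂ (f₁ a₀)))))) = a₇ := by
  subst h₁ h₂ h₃ h₄ h₅ h₆ h₇
  rfl

set_option maxHeartbeats 1000000 in
/-- The base change map is the unit, restricted. -/
theorem pullMap_eq_resM_pullSec {X' : Scheme.{u}} (f : X' ⟶ X) {U : X.Opens} (hU : IsAffineOpen U)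
    {U' : X'.Opens} (hU' : IsAffineOpen U') (e : U' ≤ f ⁻¹ᵁ U) (M : X.Modules) [Coh.IsQCoh M]
    (m : Γ(M, U)) :
    pullMap f hU hU' e M m = resM _ e (pullSec f m) := by
  let _ := (f.appLE U U' e).hom.toAlgebra
  have := isQCoh_restrict_fromSpec' M hU
  let φ := f.appLE U U' e
  let n : moduleSpecΓFunctor.obj (M.restrict hU.fromSpec) := (secEquiv hU M).symm m
  have ea : (⊤ : (Spec Γ(X', U')).Opens) ≤ hU'.fromSpec ⁻¹ᵁ U' := hU'.fromSpec_preimage_self.ge
  have eb : (⊤ : (Spec Γ(X, U)).Opens) ≤ hU.fromSpec ⁻¹ᵁ U := hU.fromSpec_preimage_self.ge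
  have eφ : (⊤ : (Spec Γ(X', U')).Opens) ≤ Spec.map φ ⁻¹ᵁ ⊤ := le_rfl
  have key : (pullSpecIso f hU hU' e M).hom.app ⊤
      ((secEquiv hU' _).symm (resM _ e (pullSec f m))) =
      (tilde.toTildeΓNatIso.app ((ModuleCat.extendScalars φ.hom).obj
        (moduleSpecΓFunctor.obj (M.restrict hU.fromSpec)))).hom
        ((1 : Γ(X', U')) ⊗ₜ[Γ(X, U)] n) := by
    have h2 : ((Scheme.Modules.pullbackComp hU'.fromSpec f).hom.app M).app ⊤
        (topSec hU'.fromSpec _ ea (resM _ e (pullSec f m))) =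
        topSec (hU'.fromSpec ≫ f) M (ea.trans ((Opens.map hU'.fromSpec.base).map (homOfLE e)).le) m := by
      rw [← pullbackComp_inv_app_topSec hU'.fromSpec f M e ea m]
      exact congr(($((Scheme.Modules.pullbackComp hU'.fromSpec f).inv_hom_id_app M)).app ⊤ _)
    have h5 : (inv (M.restrict hU.fromSpec).fromTildeΓ).app ⊤ n =
        (tilde.toTildeΓNatIso.app _).hom n := by
      have hz : (M.restrict hU.fromSpec).fromTildeΓ.app ⊤
          ((tilde.toTildeΓNatIso.app _).hom n) = n :=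
        congr($((tilde.adjunction (R := Γ(X, U))).right_triangle_components (M.restrict hU.fromSpec)) n)
      conv_lhs => rw [← hz]
      exact congr(($(IsIso.hom_inv_id (M.restrict hU.fromSpec).fromTildeΓ)).app ⊤ _)
    have h6 : ((Scheme.Modules.restrictFunctorIsoPullback hU.fromSpec).inv.app M).app ⊤
        (topSec hU.fromSpec M eb m) = n := by
      rw [← restrictIso_hom_app_secEquiv hU M eb m]
      exact congr(($((Scheme.Modules.restrictFunctorIsoPullback hU.fromSpec).hom_inv_id_app M)).app ⊤ _)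
    simp only [pullSpecIso, Iso.trans_hom, Iso.app_hom, Iso.symm_hom, Iso.app_inv,
      Functor.mapIso_hom, asIso_inv, Scheme.Modules.Hom.comp_app, ConcreteCategory.comp_apply]
    refine chain_seven (restrictIso_hom_app_secEquiv hU' _ ea _) h2
      (pullbackCongr_app_topSec (hU.SpecMap_appLE_fromSpec f hU' e).symm M _
        (eφ.trans ((Opens.map (Spec.map φ).base).map (homOfLE eb)).le) m)
      (pullbackComp_inv_app_topSec (Spec.map φ) hU.fromSpec M eb eφ m)
      (a₅ := topSec (Spec.map φ) (M.restrict hU.fromSpec) eφ n) ?_ ?_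
      (tildePullbackIso_app_topSec φ _ eφ n)
    · exact (map_app_topSec (Spec.map φ) _ eφ _).trans (congrArg (topSec (Spec.map φ) _ eφ) h6)
    · exact (map_app_topSec (Spec.map φ) _ eφ _).trans (congrArg (topSec (Spec.map φ) _ eφ) h5)
  unfold pullMap sectionsEquiv
  refine (secEquiv hU' _).symm.injective ?_
  erw [LinearEquiv.symm_apply_apply]
  refine (congrArg ((pullSpecIso f hU hU' e M).inv.app ⊤) key.symm).trans ?_
  exact congr(($((pullSpecIso f hU hU' e M).hom_inv_id)).app ⊤ _)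

end Groth.Agent.Coherent
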