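import Groth.Agent.Coherent.ShiftFinite

/-!
# Morphisms with coherent higher direct images
-/

set_option autoImplicit false

universe u

open CategoryTheory CategoryTheory.Abelian CategoryTheory.Limits AlgebraicGeometry Opposite
  TopologicalSpace

namespace Groth.Agent.Coherent

variable {X Y : Scheme.{u}} (f : X ⟶ Y)

/-- Functions on `V` as global functions on `f⁻¹ V`. -/
noncomputable abbrev preHom (V : Y.Opens) : Γ(Y, V) →+* Γ((f ⁻¹ᵁ V).toScheme, ⊤) :=
  openHom (f ⁻¹ᵁ V) (f.app V).hom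

/-- Positive degree cohomology on preimages of affines is finite over the affines. -/
def FinPre (M : X.Modules) : Prop :=
  ∀ V : Y.Opens, IsAffineOpen V → FinPos (preHom f V) (M.restrict (f ⁻¹ᵁ V).ι)

/-- Positive degree cohomology on preimages of affines inside `U₀` vanishes. -/
def ZeroPre (U₀ : Y.Opens) (M : X.Modules) : Prop :=
  ∀ V : Y.Opens, IsAffineOpen V → V ≤ U₀ →
    ∀ q, Subsingleton (HA (preHom f V) (M.restrict (f ⁻¹ᵁ V).ι) (⊤ : (f ⁻¹ᵁ V).toScheme.Opens) (q + 1))

/-- All higher direct images of coherent modules are coherent. -/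
def FinMor : Prop := ∀ V : Y.Opens, IsAffineOpen V → FinCoh (preHom f V)

theorem isCoh_restrict (U : X.Opens) {M : X.Modules} (hM : Coh.IsCoh M) :
    Coh.IsCoh (M.restrict U.ι) := by
  have := hM.1
  refine (isCoh_iff_finite_sections _).2 ⟨inferInstanceAs
    (((Scheme.Modules.restrictFunctor U.ι).obj M).IsQuasicoherent), fun W hW => ?_⟩
  obtain ⟨S, hS⟩ := ((isCoh_iff_finite_sections M).1 hM).2 (U.ι ''ᵁ W) (hW.image_of_isOpenImmersion U.ι)
  classical
  refine ⟨S.image (M.restrictAppIso U.ι W).inv, ?_⟩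
  rw [Submodule.eq_top_iff']
  intro x
  have hx : (M.restrictAppIso U.ι W).hom x ∈ Submodule.span Γ(X, U.ι ''ᵁ W)
      (S : Set Γ(M, U.ι ''ᵁ W)) := hS.ge trivial
  have hgen : ∀ y, y ∈ Submodule.span Γ(X, U.ι ''ᵁ W) (S : Set Γ(M, U.ι ''ᵁ W)) →
      (M.restrictAppIso U.ι W).inv y ∈ Submodule.span Γ(U, W)
        ((S.image (M.restrictAppIso U.ι W).inv : Finset _) : Set Γ(M.restrict U.ι, W)) := by
    intro y hy
    induction hy using Submodule.span_induction with
    | mem y hy => exact Submodule.subset_span (Finset.mem_image_of_mem _ hy)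
    | zero => rw [map_zero]; exact Submodule.zero_mem _
    | add a b _ _ ha hb => rw [map_add]; exact Submodule.add_mem _ ha hb
    | smul r a _ ha =>
      have e : (M.restrictAppIso U.ι W).inv (r • a) =
          (U.ι.appIso W).hom r • (M.restrictAppIso U.ι W).inv a := by
        refine (ConcreteCategory.bijective_of_isIso (M.restrictAppIso U.ι W).hom).1 ?_
        refine Eq.trans ?_ (Scheme.Modules.smul_restrictAppIso_hom_apply U.ι M W _ _).symm
        rw [Iso.inv_hom_id_apply, Iso.inv_hom_id_apply, Iso.hom_inv_id_apply]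
      rw [e]
      exact Submodule.smul_mem _ _ ha
  have := hgen _ hx
  rwa [Iso.hom_inv_id_apply] at this

namespace AcycEmb

variable {f} {M : X.Modules} (E : AcycEmb f M) {V : Y.Opens} (hV : IsAffineOpen V)

theorem restrictSeq_shortExact :
    (E.seq.map (Scheme.Modules.restrictFunctor (f ⁻¹ᵁ V).ι)).ShortExact :=
  restrict_shortExact _ E.seq_shortExact

include hV in
theorem subsingleton_restrict_N (q : ℕ) :
    Subsingleton (HA (preHom f V) (E.N.restrict (f ⁻¹ᵁ V).ι)
      (⊤ : (f ⁻¹ᵁ V).toScheme.Opens) (q + 1)) :=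
  subsingleton_HA_restrict E.N (f ⁻¹ᵁ V) (q + 1) _ (E.acycPre V hV q)

/-- From `H^0(f⁻¹ V, M')` to sections of the first direct image. -/
noncomputable def toR1 (V : Y.Opens) :
    GA (preHom f V) ((cokernel E.i).restrict (f ⁻¹ᵁ V).ι) →ₗ[Γ(Y, V)] Γ(E.R1, V) where
  toFun x := (cokernel.π E.pushG).app V (restrictSec (cokernel E.i) (f ⁻¹ᵁ V) x)
  map_add' a b := (congrArg ((cokernel.π E.pushG).app V)
    (map_add (restrictSec (cokernel E.i) (f ⁻¹ᵁ V)) a b)).trans (map_add _ _ _)
  map_smul' a x := (congrArg ((cokernel.π E.pushG).app V)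
    (restrictSec_smul (cokernel E.i) (f ⁻¹ᵁ V) (f.app V a) x)).trans
      ((cokernel.π E.pushG).app_smul a _)

variable [QuasiCompact f] [QuasiSeparated f] [Coh.IsQCoh M]

theorem qcoh_R1 : Coh.IsQCoh E.R1 := by
  have := E.qcoh
  have := E.qcoh_cokernel
  have := isQCoh_push f E.N
  have := isQCoh_push f (cokernel E.i)
  exact isQCoh_cokernel E.pushG

include hV in
theorem toR1_surjective : Function.Surjective (E.toR1 V) := by
  have := E.qcoh_cokernel
  have := isQCoh_push f (cokernel E.i)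
  have := E.qcoh_R1
  have : Coh.IsQCoh E.seqR.X₁ := isQCoh_kernel (cokernel.π E.pushG)
  intro r
  obtain ⟨m, rfl⟩ := sections_surjective E.seqR_shortExact hV r
  obtain ⟨x, hx⟩ := (restrictSec_bijective (cokernel E.i) (f ⁻¹ᵁ V)).2 m
  exact ⟨x, congrArg ((cokernel.π E.pushG).app V) hx⟩

omit [QuasiCompact f] [QuasiSeparated f] [Coh.IsQCoh M] in
theorem ker_deltaG_le : LinearMap.ker (deltaG (preHom f V) (E.restrictSeq_shortExact (V := V))) ≤
    LinearMap.ker (E.toR1 V) := fun x hx => by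
  obtain ⟨y, rfl⟩ := (deltaG_eq_zero_iff _ (E.restrictSeq_shortExact (V := V)) x).1 hx
  let y' : Γ((Coh.push f).obj E.N, V) := restrictSec E.N (f ⁻¹ᵁ V) y
  refine (congrArg ((cokernel.π E.pushG).app V)
    (restrictSec_natural (cokernel.π E.i) (f ⁻¹ᵁ V) y)).trans ?_
  exact congrArg (fun ψ : (Coh.push f).obj E.N ⟶ E.R1 => ψ.app V y') (cokernel.condition E.pushG)

include hV in
/-- Sections of the first direct image are finite. -/
theorem finite_R1_sections (h : FinPre f M) (hA : IsNoetherianRing Γ(Y, V)) :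
    Module.Finite Γ(Y, V) Γ(E.R1, V) := by
  have hH : Module.Finite Γ(Y, V) (HA (preHom f V) (E.seq.map (Scheme.Modules.restrictFunctor (f ⁻¹ᵁ V).ι)).X₁ (⊤ : (f ⁻¹ᵁ V).toScheme.Opens) 1) := h V hV 0
  exact finite_of_surjective_of_ker_le (E.toR1 V) (E.toR1_surjective hV)
    (deltaG (preHom f V) (E.restrictSeq_shortExact (V := V))) (E.ker_deltaG_le)

theorem isCoh_R1 [IsLocallyNoetherian Y] (h : FinPre f M) : Coh.IsCoh E.R1 :=
  (isCoh_iff_finite_sections _).2 ⟨E.qcoh_R1, fun V hV => E.finite_R1_sections hV h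
    (IsLocallyNoetherian.component_noetherian ⟨V, hV⟩)⟩

include hV in
theorem subsingleton_R1_sections {U₀ : Y.Opens} (h : ZeroPre f U₀ M) (hle : V ≤ U₀) :
    Subsingleton Γ(E.R1, V) :=
  subsingleton_of_forall_eq 0 fun r => by
    obtain ⟨x, rfl⟩ := E.toR1_surjective hV r
    have hsub := h V hV hle 0
    exact E.ker_deltaG_le (hsub.elim _ 0)

omit [QuasiCompact f] [QuasiSeparated f] [Coh.IsQCoh M] in
theorem finPre_cokernel [IsLocallyNoetherian Y] (h : FinPre f M) : FinPre f (cokernel E.i) :=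
  fun V hV q => by
    have := IsLocallyNoetherian.component_noetherian (X := Y) ⟨V, hV⟩
    have : Subsingleton (HA (preHom f V) (E.seq.map (Scheme.Modules.restrictFunctor (f ⁻¹ᵁ V).ι)).X₂ (⊤ : (f ⁻¹ᵁ V).toScheme.Opens) (q + 1)) := E.subsingleton_restrict_N hV q
    have : Module.Finite Γ(Y, V) (HA (preHom f V) (E.seq.map (Scheme.Modules.restrictFunctor (f ⁻¹ᵁ V).ι)).X₁ (⊤ : (f ⁻¹ᵁ V).toScheme.Opens) (q + 1 + 1)) := h V hV (q + 1)
    exact finite_right (preHom f V) (E.restrictSeq_shortExact (V := V)) ⊤ (q + 1)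

omit [QuasiCompact f] [QuasiSeparated f] [Coh.IsQCoh M] in
theorem zeroPre_cokernel {U₀ : Y.Opens} (h : ZeroPre f U₀ M) : ZeroPre f U₀ (cokernel E.i) :=
  fun V hV hle q => by
    have hN : Subsingleton (HA (preHom f V) (E.seq.map (Scheme.Modules.restrictFunctor (f ⁻¹ᵁ V).ι)).X₂ (⊤ : (f ⁻¹ᵁ V).toScheme.Opens) (q + 1)) := E.subsingleton_restrict_N hV q
    have hX : Subsingleton (HA (preHom f V) (E.seq.map (Scheme.Modules.restrictFunctor (f ⁻¹ᵁ V).ι)).X₁ (⊤ : (f ⁻¹ᵁ V).toScheme.Opens) (q + 1 + 1)) := h V hV hle (q + 1)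
    have hi : Function.Injective (deltaA (preHom f V) (E.restrictSeq_shortExact (V := V))
        (⊤ : (f ⁻¹ᵁ V).toScheme.Opens) (q + 1)) := (injective_iff_map_eq_zero _).2 fun x hx => by
      obtain ⟨y, rfl⟩ := (exact_postA_deltaA (preHom f V) (E.restrictSeq_shortExact (V := V))
        ⊤ (q + 1) x).1 hx
      exact (congrArg _ (hN.elim y 0)).trans (map_zero _)
    exact hi.subsingleton

end AcycEmb

variable {f} [QuasiCompact f] [QuasiSeparated f]

/-- `f_* M` is coherent. -/
theorem isCoh_push_of_finMor (hf : FinMor f) {M : X.Modules} (hM : Coh.IsCoh M) :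
    Coh.IsCoh ((Coh.push f).obj M) := by
  have := hM.1
  refine (isCoh_iff_finite_sections _).2 ⟨isQCoh_push f M, fun V hV => ?_⟩
  have := hf V hV (M.restrict (f ⁻¹ᵁ V).ι) (isCoh_restrict _ hM) 0
  let l : GA (preHom f V) (M.restrict (f ⁻¹ᵁ V).ι) →ₗ[Γ(Y, V)] Γ((Coh.push f).obj M, V) :=
    { toFun := restrictSec M (f ⁻¹ᵁ V)
      map_add' := map_add _
      map_smul' := fun a x => restrictSec_smul M (f ⁻¹ᵁ V) (f.app V a) x }
  exact Module.Finite.of_surjective (l.comp (secA (preHom f V) _).toLinearMap)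
    ((restrictSec_bijective M (f ⁻¹ᵁ V)).2.comp (secA (preHom f V) _).surjective)

variable {A : Type u} [CommRing A] [IsNoetherianRing A] (φ : A →+* Γ(Y, ⊤))
  [IsLocallyNoetherian Y]

omit [IsNoetherianRing A] in
theorem shiftStable_finPre (hY : FinCoh φ) : ShiftStable f φ (FinPre f) := fun _ hqc h E => by
  have := hqc
  exact ⟨E.finPre_cokernel h, hY E.R1 (E.isCoh_R1 h)⟩

variable [X.IsSeparated] [Y.IsSeparated] [CompactSpace X]

/-- Finiteness passes along a morphism with coherent higher direct images. -/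
theorem finCoh_comp (hf : FinMor f) (hY : FinCoh φ) : FinCoh (pullHom f φ) := fun M hM =>
  finAll_of_push φ (shiftStable_finPre φ hY) M hM.1
    (fun V hV q => hf V hV _ (isCoh_restrict _ hM) (q + 1))
    (hY _ (isCoh_push_of_finMor hf hM))

end Groth.Agent.Coherent
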