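import Groth.Agent.Coherent.SubFTCovers
import Groth.Agent.Coherent.QcohOps
import Groth.Prelude.Def_RelSpec

/-!
# Applications of extension of finite type submodules: sections, sums, algebras
-/

set_option autoImplicit false
set_option backward.isDefEq.respectTransparency false

universe u v

open CategoryTheory CategoryTheory.Limits AlgebraicGeometry Opposite TopologicalSpace
  Groth.Agent.AssSch12

namespace Groth.Agent.Coherent

variable {X : Scheme.{u}} {F : X.Modules}

theorem SubM.good_locSpan {V : X.Opens} {I : Type u} [Finite I] (s : I → Γ(F, V)) :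
    (SubM.locSpan F V s).Good V :=
  fun _ hx => ⟨V, le_rfl, hx, I, inferInstance, s, SubM.mem_locSpan_self s, fun _ _ _ ha => ha⟩

theorem resM_mem_iSup {κ : Type*} (Q : κ → SubM F) {W W' : X.Opens} (h : W' ≤ W) {c : Γ(F, W)}
    (hc : c ∈ ⨆ j, (Q j).carrier W) : resM F h c ∈ ⨆ j, (Q j).carrier W' := by
  refine Submodule.iSup_induction _ (motive := fun c => resM F h c ∈ ⨆ j, (Q j).carrier W') hc
    (fun j x hx => Submodule.mem_iSup_of_mem j ((Q j).res h hx)) ?_ (fun x z hx hz => ?_)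
  · rw [map_zero]; exact zero_mem _
  · rw [map_add]; exact add_mem hx hz

/-- The sum of a family of submodules. -/
noncomputable def SubM.sum {κ : Type*} (Q : κ → SubM F) : SubM F where
  carrier W :=
    { carrier := {a : Γ(F, W) | ∀ y ∈ W, ∃ (W' : X.Opens) (h : W' ≤ W), y ∈ W' ∧
        resM F h a ∈ ⨆ j, (Q j).carrier W'}
      zero_mem' := fun y hy => ⟨W, le_rfl, hy, by rw [map_zero]; exact zero_mem _⟩
      add_mem' := fun {a b} ha hb y hy => by
        obtain ⟨W₁, h₁, hy₁, m₁⟩ := ha y hy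
        obtain ⟨W₂, h₂, hy₂, m₂⟩ := hb y hy
        refine ⟨W₁ ⊓ W₂, inf_le_left.trans h₁, ⟨hy₁, hy₂⟩, ?_⟩
        rw [map_add]
        refine add_mem ?_ ?_
        · have := resM_mem_iSup Q (inf_le_left : W₁ ⊓ W₂ ≤ W₁) m₁
          rwa [resM_resM] at this
        · have := resM_mem_iSup Q (inf_le_right : W₁ ⊓ W₂ ≤ W₂) m₂
          rwa [resM_resM] at this
      smul_mem' := fun c a ha y hy => by
        obtain ⟨W₁, h₁, hy₁, m₁⟩ := ha y hy
        refine ⟨W₁, h₁, hy₁, ?_⟩
        rw [resM_smul]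
        exact Submodule.smul_mem _ _ m₁ }
  res {W W'} h {a} ha y hy := by
    obtain ⟨W₁, h₁, hy₁, m₁⟩ := ha y (h hy)
    refine ⟨W₁ ⊓ W', inf_le_right, ⟨hy₁, hy⟩, ?_⟩
    have := resM_mem_iSup Q (inf_le_left : W₁ ⊓ W' ≤ W₁) m₁
    rw [resM_resM] at this
    rwa [resM_resM]
  of_local {W} a ha y hy := by
    obtain ⟨W₁, h₁, hy₁, m₁⟩ := ha y hy
    obtain ⟨W₂, h₂, hy₂, m₂⟩ := m₁ y hy₁
    refine ⟨W₂, h₂.trans h₁, hy₂, ?_⟩
    rwa [resM_resM] at m₂

theorem SubM.le_sum {κ : Type*} (Q : κ → SubM F) (j : κ) (W : X.Opens) :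
    (Q j).carrier W ≤ (SubM.sum Q).carrier W :=
  fun a ha _ hy => ⟨W, le_rfl, hy, Submodule.mem_iSup_of_mem j ((Q j).res le_rfl ha)⟩

theorem SubM.good_sum {κ : Type u} [Finite κ] (Q : κ → SubM F) (hQ : ∀ j, (Q j).Good ⊤) :
    (SubM.sum Q).Good ⊤ := by
  intro x _
  choose V hVtop hxV I hI s hs using fun j => hQ j x trivial
  let W₀ : X.Opens := ⟨⋂ j, (V j : Set X), isOpen_iInter_of_finite fun j => (V j).2⟩
  have hle : ∀ j, W₀ ≤ V j := fun j z hz => Set.mem_iInter.1 hz j
  refine ⟨W₀, le_top, Set.mem_iInter.2 hxV, Σ j, I j, inferInstance,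
    fun p => resM F (hle p.1) (s p.1 p.2),
    fun p => SubM.le_sum Q p.1 _ ((Q p.1).res _ ((hs p.1).1 p.2)), fun W hW a ha => ?_⟩
  refine (SubM.locSpan F W₀ _).of_local a fun y hy => ?_
  obtain ⟨W', h, hy', hm⟩ := ha y hy
  refine ⟨W', h, hy', ?_⟩
  refine (iSup_le fun j b hb => ?_ : (⨆ j, (Q j).carrier W') ≤ _) hm
  intro z hz hzW
  obtain ⟨W₂, h₁, h₂, hz₂, hm₂⟩ := ((hs j).restrict (hle j)).2 W' (h.trans hW) b hb z hz hzW
  refine ⟨W₂, h₁, h₂, hz₂, Submodule.span_mono ?_ hm₂⟩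
  rintro _ ⟨k, rfl⟩
  exact ⟨⟨j, k⟩, rfl⟩

/-- Extension of finitely many sections to good submodules, locally noetherian space. -/
theorem exists_good_containing_locallyNoetherian [Coh.IsQCoh F]
    (hX : ∀ x : X, ∃ W : X.Opens, x ∈ W ∧ NoetherianSpace (W : Set X))
    {U : X.Opens} {I : Type u} [Finite I] (s : I → Γ(F, U)) :
    ∃ Q : SubM F, Q.Good ⊤ ∧ ∀ i, s i ∈ Q.carrier U := by
  obtain ⟨V, hV, hcov, hc⟩ := exists_noetherian_affine_cover hX
  obtain ⟨Q, hQ, hagree⟩ := exists_good_extension V hV hcov U _ (SubM.good_locSpan s)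
    (fun _ => True) trivial (fun _ _ _ _ => trivial) fun S _ hS => by
      obtain ⟨l, hl⟩ := (Set.ne_univ_iff_exists_notMem S).1 hS
      exact ⟨l, hl, trivial, hc l _⟩
  exact ⟨Q, hQ, fun i => (hagree U le_rfl).symm ▸ SubM.mem_locSpan_self s i⟩

/-- Extension of finitely many sections to good submodules, qcqs scheme. -/
theorem exists_good_containing_qcqs [Coh.IsQCoh F] [CompactSpace X] [QuasiSeparatedSpace X]
    {U : X.Opens} (hU : IsCompact (U : Set X)) {I : Type u} [Finite I] (s : I → Γ(F, U)) :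
    ∃ Q : SubM F, Q.Good ⊤ ∧ ∀ i, s i ∈ Q.carrier U := by
  classical
  obtain ⟨t, ht, hcov⟩ := isCompact_iff_finite_and_eq_biUnion_affineOpens.1
    (show IsCompact ((⊤ : X.Opens) : Set X) from isCompact_univ)
  have := ht.to_subtype
  obtain ⟨Q, hQ, hagree⟩ := exists_good_extension (fun j : t => j.1.1) (fun j => j.1.2) (by
      refine eq_top_iff.2 fun x hx => ?_
      rw [hcov] at hx
      simp only [Opens.mem_iSup] at hx ⊢
      obtain ⟨j, hj, hxj⟩ := hx
      exact ⟨⟨j, hj⟩, hxj⟩) U _ (SubM.good_locSpan s)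
    (fun _ => True) trivial (fun _ _ _ _ => trivial) fun S _ hS => by
      obtain ⟨l, hl⟩ := (Set.ne_univ_iff_exists_notMem S).1 hS
      refine ⟨l, hl, trivial, ?_⟩
      have h1 : IsCompact (↑(U ⊔ ⨆ j : S, j.1.1.1) : Set X) := by
        rw [Opens.coe_sup, Opens.coe_iSup]
        exact hU.union (isCompact_iUnion fun j => j.1.1.2.isCompact)
      rw [Opens.coe_inf]
      exact QuasiSeparatedSpace.inter_isCompact _ _ (U ⊔ ⨆ j : S, j.1.1.1).2 h1 l.1.1.2 l.1.2.isCompact
  exact ⟨Q, hQ, fun i => (hagree U le_rfl).symm ▸ SubM.mem_locSpan_self s i⟩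

/-- Every quasi-coherent finite type module on an open extends. -/
theorem exists_finiteType_extension_module
    (hX : ∀ x : X, ∃ W : X.Opens, x ∈ W ∧ NoetherianSpace (W : Set X)) (U : X.Opens)
    (G : (U : Scheme.{u}).Modules) [Coh.IsQCoh G] (hG : CohB1.IsFT G) :
    ∃ G' : X.Modules, Coh.IsQCoh G' ∧ CohB1.IsFT G' ∧ Nonempty (G'.restrict U.ι ≅ G) := by
  obtain ⟨V, hV, hcov, hc⟩ := exists_noetherian_affine_cover hX
  have : QuasiCompact U.ι := by
    refine quasiCompact_iff_forall_isAffineOpen.2 fun W hW => ?_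
    obtain ⟨t, ht⟩ := hW.isCompact.elim_finite_subcover (fun x => (V x : Set X)) (fun x => (V x).2)
      (fun y _ => by
        have := hcov.ge (Opens.mem_top y)
        simpa using this)
    rw [U.ι.isEmbedding.isCompact_iff, Scheme.Hom.coe_preimage, Set.image_preimage_eq_inter_range,
      Scheme.Opens.range_ι]
    have : (W : Set X) ∩ (U : Set X) = ⋃ x ∈ t, (↑((W ⊓ U) ⊓ V x) : Set X) := by
      ext y
      simp only [Set.mem_inter_iff, Set.mem_iUnion₂, Opens.coe_inf]
      exact ⟨fun h => by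
        obtain ⟨x, hx, hxy⟩ := Set.mem_iUnion₂.1 (ht h.1); exact ⟨x, hx, h, hxy⟩,
        fun ⟨x, hx, h, _⟩ => h⟩
    rw [this]
    exact t.isCompact_biUnion fun x _ => hc x _
  let F := (Scheme.Modules.pushforward U.ι).obj G
  have : Coh.IsQCoh F := isQCoh_push U.ι G
  obtain ⟨G', i', e, -, h1, h2, -⟩ := exists_finiteType_extension_locallyNoetherian U
    ((Scheme.Modules.restrictFunctorAdjCounitIso U.ι).inv.app G) (F := F) hG hX
  exact ⟨G', h1, h2, ⟨e⟩⟩

/-- Every quasi-coherent finite type module on a quasi-compact open of a qcqs scheme extends. -/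
theorem exists_finiteType_extension_module_qcqs [CompactSpace X] [QuasiSeparatedSpace X]
    (U : X.Opens) (hU : IsCompact (U : Set X))
    (G : (U : Scheme.{u}).Modules) [Coh.IsQCoh G] (hG : CohB1.IsFT G) :
    ∃ G' : X.Modules, Coh.IsQCoh G' ∧ CohB1.IsFT G' ∧ Nonempty (G'.restrict U.ι ≅ G) := by
  have : QuasiCompact U.ι := by
    refine quasiCompact_iff_forall_isAffineOpen.2 fun W hW => ?_
    rw [U.ι.isEmbedding.isCompact_iff, Scheme.Hom.coe_preimage, Set.image_preimage_eq_inter_range,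
      Scheme.Opens.range_ι]
    exact QuasiSeparatedSpace.inter_isCompact _ _ W.2 hW.isCompact U.2 hU
  let F := (Scheme.Modules.pushforward U.ι).obj G
  have : Coh.IsQCoh F := isQCoh_push U.ι G
  obtain ⟨G', i', e, -, h1, h2, -⟩ := exists_finiteType_extension_qcqs U
    ((Scheme.Modules.restrictFunctorAdjCounitIso U.ι).inv.app G) (F := F) hG hU
  exact ⟨G', h1, h2, ⟨e⟩⟩

section Algebra

variable (B : RelSpec.QCAlg X)

/-- Restriction in an algebra. -/
noncomputable abbrev algRes {W W' : X.Opens} (h : W' ≤ W) :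
    B.presheaf.obj (op W) →+* B.presheaf.obj (op W') :=
  (B.presheaf.map (homOfLE h).op).hom

/-- The structure map of an algebra. -/
noncomputable abbrev algStr (W : X.Opens) : Γ(X, W) →+* B.presheaf.obj (op W) :=
  (B.str.app (op W)).hom

theorem algRes_str {W W' : X.Opens} (h : W' ≤ W) (a : Γ(X, W)) :
    algRes B h (algStr B W a) = algStr B W' (X.presheaf.map (homOfLE h).op a) :=
  (ConcreteCategory.congr_hom (B.str.naturality (homOfLE h).op) a).symm

theorem algRes_algRes {W W' W'' : X.Opens} (h : W' ≤ W) (h' : W'' ≤ W')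
    (a : B.presheaf.obj (op W)) : algRes B h' (algRes B h a) = algRes B (h'.trans h) a :=
  (ConcreteCategory.congr_hom (B.presheaf.map_comp (homOfLE h).op (homOfLE h').op) a).symm

theorem isQCoh_toModule : Coh.IsQCoh B.toModule := by
  refine (isQCoh_iff_localizesOn _).2 fun U hU => ⟨fun f s => ?_, fun f t ht => ?_⟩
  · let _ := (algRes B (X.basicOpen_le f)).toAlgebra
    have := B.isQC U hU f
    obtain ⟨⟨t, ⟨_, n, rfl⟩⟩, hn⟩ := IsLocalization.surj (M := Submonoid.powers (algStr B U f))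
      (R := B.presheaf.obj (op U)) (S := B.presheaf.obj (op (X.basicOpen f)))
      (show B.presheaf.obj (op (X.basicOpen f)) from s)
    refine ⟨n, t, ?_⟩
    show algRes B (X.basicOpen_le f) t = algStr B (X.basicOpen f) _ * _
    rw [← algRes_str, map_pow, mul_comm]
    exact hn.symm
  · let _ := (algRes B (X.basicOpen_le f)).toAlgebra
    have := B.isQC U hU f
    obtain ⟨⟨_, n, rfl⟩, hn⟩ := IsLocalization.exists_of_eq
      (M := Submonoid.powers (algStr B U f)) (R := B.presheaf.obj (op U))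
      (S := B.presheaf.obj (op (X.basicOpen f)))
      (x := (show B.presheaf.obj (op U) from t)) (y := 0) (ht.trans (map_zero _).symm)
    refine ⟨n, ?_⟩
    show algStr B U (f ^ n) * _ = 0
    rw [map_pow]
    exact hn.trans (mul_zero _)

variable (Q : SubM B.toModule)

/-- The subring generated over the structure sheaf by the sections of `Q`. -/
noncomputable def genAlg (W : X.Opens) : Subring (B.presheaf.obj (op W)) :=
  Subring.closure (Set.range (algStr B W) ∪ {x | x ∈ (Q.carrier W : Set Γ(B.toModule, W))})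

theorem str_mem_genAlg (W : X.Opens) (a : Γ(X, W)) : algStr B W a ∈ genAlg B Q W :=
  Subring.subset_closure (Or.inl ⟨a, rfl⟩)

theorem algRes_mem_genAlg {W W' : X.Opens} (h : W' ≤ W) {a : B.presheaf.obj (op W)}
    (ha : a ∈ genAlg B Q W) : algRes B h a ∈ genAlg B Q W' := by
  refine (Subring.closure_le (t := (genAlg B Q W').comap (algRes B h))).2 ?_ ha
  rintro x (⟨c, rfl⟩ | hx)
  · show algRes B h (algStr B W c) ∈ genAlg B Q W'
    rw [algRes_str]; exact str_mem_genAlg B Q W' _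
  · exact Subring.subset_closure (Or.inr (Q.res h hx))

/-- Sections locally in the generated subring. -/
noncomputable def genSh (W : X.Opens) : Subring (B.presheaf.obj (op W)) where
  carrier := {a | ∀ y ∈ W, ∃ (W' : X.Opens) (h : W' ≤ W), y ∈ W' ∧ algRes B h a ∈ genAlg B Q W'}
  zero_mem' y hy := ⟨W, le_rfl, hy, by rw [map_zero]; exact zero_mem _⟩
  one_mem' y hy := ⟨W, le_rfl, hy, by rw [map_one]; exact one_mem _⟩
  neg_mem' {a} ha y hy := by
    obtain ⟨W₁, h₁, hy₁, m₁⟩ := ha y hy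
    exact ⟨W₁, h₁, hy₁, by rw [map_neg]; exact neg_mem m₁⟩
  add_mem' {a b} ha hb y hy := by
    obtain ⟨W₁, h₁, hy₁, m₁⟩ := ha y hy
    obtain ⟨W₂, h₂, hy₂, m₂⟩ := hb y hy
    refine ⟨W₁ ⊓ W₂, inf_le_left.trans h₁, ⟨hy₁, hy₂⟩, ?_⟩
    rw [map_add, ← algRes_algRes B h₁ inf_le_left a, ← algRes_algRes B h₂ inf_le_right b]
    exact add_mem (algRes_mem_genAlg B Q _ m₁) (algRes_mem_genAlg B Q _ m₂)
  mul_mem' {a b} ha hb y hy := by
    obtain ⟨W₁, h₁, hy₁, m₁⟩ := ha y hy
    obtain ⟨W₂, h₂, hy₂, m₂⟩ := hb y hy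
    refine ⟨W₁ ⊓ W₂, inf_le_left.trans h₁, ⟨hy₁, hy₂⟩, ?_⟩
    rw [map_mul, ← algRes_algRes B h₁ inf_le_left a, ← algRes_algRes B h₂ inf_le_right b]
    exact mul_mem (algRes_mem_genAlg B Q _ m₁) (algRes_mem_genAlg B Q _ m₂)

theorem genAlg_le_genSh (W : X.Opens) : genAlg B Q W ≤ genSh B Q W :=
  fun _ ha _ hy => ⟨W, le_rfl, hy, algRes_mem_genAlg B Q le_rfl ha⟩

variable {Q} (hQ : Q.Good ⊤)
include hQ

/-- Generated sections localise. -/
theorem exists_pow_mul_genAlg {V : X.Opens} (hV : IsAffineOpen V) (g : Γ(X, V))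
    {x : B.presheaf.obj (op (X.basicOpen g))} (hx : x ∈ genAlg B Q (X.basicOpen g)) :
    ∃ (k : ℕ) (t : B.presheaf.obj (op V)), t ∈ genAlg B Q V ∧
      algRes B (X.basicOpen_le g) t = algRes B (X.basicOpen_le g) (algStr B V (g ^ k)) * x := by
  have := isQCoh_toModule B
  have := SubM.isQCoh hQ
  induction hx using Subring.closure_induction with
  | mem x hx =>
    rcases hx with ⟨c, rfl⟩ | hx
    · have := hV.isLocalization_basicOpen g
      obtain ⟨⟨a, ⟨_, l, rfl⟩⟩, hal⟩ := IsLocalization.surj (M := Submonoid.powers g)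
        (R := Γ(X, V)) (S := Γ(X, X.basicOpen g)) c
      refine ⟨l, algStr B V a, str_mem_genAlg B Q V a, ?_⟩
      rw [algRes_str, algRes_str, ← map_mul, mul_comm]
      exact congrArg _ hal.symm
    · obtain ⟨n, t, ht⟩ := qcoh_exists_pow_smul hV Q.toMod g ⟨x, hx⟩
      refine ⟨n, Q.toι.app V t, Subring.subset_closure (Or.inr t.2), ?_⟩
      rw [algRes_str]
      exact congrArg Subtype.val ht
  | zero => exact ⟨0, 0, zero_mem _, by simp⟩
  | one => exact ⟨0, 1, one_mem _, by simp⟩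
  | add x y _ _ hx hy =>
    obtain ⟨k, t, ht, ht'⟩ := hx
    obtain ⟨l, r, hr, hr'⟩ := hy
    refine ⟨k + l, algStr B V (g ^ l) * t + algStr B V (g ^ k) * r,
      add_mem (mul_mem (str_mem_genAlg B Q V _) ht) (mul_mem (str_mem_genAlg B Q V _) hr), ?_⟩
    simp only [map_add, map_mul, ht', hr', pow_add]
    ring
  | neg x _ hx =>
    obtain ⟨k, t, ht, ht'⟩ := hx
    exact ⟨k, -t, neg_mem ht, by rw [map_neg, ht', mul_neg]⟩
  | mul x y _ _ hx hy =>
    obtain ⟨k, t, ht, ht'⟩ := hx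
    obtain ⟨l, r, hr, hr'⟩ := hy
    refine ⟨k + l, t * r, mul_mem ht hr, ?_⟩
    simp only [map_mul, ht', hr', pow_add]
    ring

/-- On an affine open, generation is local. -/
theorem genSh_eq_genAlg {V : X.Opens} (hV : IsAffineOpen V) : genSh B Q V = genAlg B Q V := by
  refine le_antisymm (fun b hb => ?_) (genAlg_le_genSh B Q V)
  let J : Ideal Γ(X, V) :=
    { carrier := {a : Γ(X, V) | algStr B V a * b ∈ genAlg B Q V}
      zero_mem' := by show algStr B V 0 * b ∈ genAlg B Q V; rw [map_zero, zero_mul]; exact zero_mem _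
      add_mem' := fun {a c} ha hc => by
        show algStr B V (a + c) * b ∈ genAlg B Q V
        rw [map_add, add_mul]; exact add_mem ha hc
      smul_mem' := fun c a ha => by
        show algStr B V (c * a) * b ∈ genAlg B Q V
        rw [map_mul, mul_assoc]; exact mul_mem (str_mem_genAlg B Q V c) ha }
  suffices hJ : J = ⊤ by
    have : (1 : Γ(X, V)) ∈ J := hJ ▸ trivial
    have h1 : algStr B V 1 * b ∈ genAlg B Q V := this
    rwa [map_one, one_mul] at h1
  by_contra hJ
  obtain ⟨m, hm, hJm⟩ := Ideal.exists_le_maximal J hJ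
  let q : PrimeSpectrum Γ(X, V) := ⟨m, hm.isPrime⟩
  have hbasic : ∀ g : Γ(X, V), hV.fromSpec q ∈ X.basicOpen g ↔ g ∉ m := fun g =>
    SetLike.ext_iff.1 (hV.fromSpec_preimage_basicOpen g) q
  have hxV : hV.fromSpec q ∈ V := X.basicOpen_le _ ((hbasic 1).2 fun h =>
    hm.ne_top ((Ideal.eq_top_iff_one m).2 h))
  obtain ⟨W', hW', hxW', hb'⟩ := hb _ hxV
  obtain ⟨g, hgW, hxg⟩ := hV.exists_basicOpen_le ⟨_, hxW'⟩ hxV
  have hb'' := algRes_mem_genAlg B Q hgW hb'
  rw [algRes_algRes] at hb''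
  obtain ⟨k, t, ht, ht'⟩ := exists_pow_mul_genAlg B hQ hV g hb''
  let _ := (algRes B (X.basicOpen_le g)).toAlgebra
  have := B.isQC V hV g
  obtain ⟨⟨_, n, rfl⟩, hn⟩ := IsLocalization.exists_of_eq
    (M := Submonoid.powers (algStr B V g)) (R := B.presheaf.obj (op V))
    (S := B.presheaf.obj (op (X.basicOpen g))) (x := algStr B V (g ^ k) * b) (y := t)
    ((map_mul _ _ _).trans ht'.symm)
  have hgJ : g ^ (n + k) ∈ J := by
    show algStr B V (g ^ (n + k)) * b ∈ genAlg B Q V
    rw [pow_add, map_mul, mul_assoc, map_pow _ g n]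
    exact (show algStr B V g ^ n * (algStr B V (g ^ k) * b) = algStr B V g ^ n * t from hn).symm ▸
      mul_mem (pow_mem (str_mem_genAlg B Q V g) n) ht
  exact (hbasic g).1 hxg (hm.isPrime.mem_of_pow_mem _ (hJm hgJ))

end Algebra

/-- A finite type quasi-coherent submodule generating a finite type algebra. -/
theorem exists_generating_submodule [CompactSpace X] (B : RelSpec.QCAlg X)
    (hB : ∀ U : X.affineOpens, (B.str.app (op (U : X.Opens))).hom.FiniteType)
    (hext : ∀ (V : X.affineOpens) (I : Type u) (_ : Finite I) (s : I → Γ(B.toModule, V.1)),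
      ∃ Q : SubM B.toModule, Q.Good ⊤ ∧ ∀ i, s i ∈ Q.carrier V.1) :
    ∃ (E : X.Modules) (j : E ⟶ B.toModule), Mono j ∧ Coh.IsQCoh E ∧ CohB1.IsFT E ∧
      ∀ U : X.affineOpens,
        Subring.closure (Set.range (B.str.app (op (U : X.Opens))).hom ∪
          Set.range (fun e : E.val.obj (op (U : X.Opens)) ↦
            (show B.presheaf.obj (op (U : X.Opens)) from (j.val.app (op (U : X.Opens))).hom e))) = ⊤ := by
  classical
  obtain ⟨t, htf, hcov⟩ := isCompact_iff_finite_and_eq_biUnion_affineOpens.1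
    (show IsCompact ((⊤ : X.Opens) : Set X) from isCompact_univ)
  have := htf.to_subtype
  have hgen : ∀ V : X.affineOpens, ∃ S : Finset (B.presheaf.obj (op V.1)),
      Subring.closure (Set.range (algStr B V.1) ∪ (S : Set (B.presheaf.obj (op V.1)))) = ⊤ := by
    intro V
    let _ := (algStr B V.1).toAlgebra
    obtain ⟨S, hS⟩ := ((hB V : (algStr B V.1).FiniteType) :
      Algebra.FiniteType Γ(X, V.1) (B.presheaf.obj (op V.1))).out
    refine ⟨S, ?_⟩
    refine (Algebra.adjoin_eq_ring_closure (R := Γ(X, V.1)) (S : Set (B.presheaf.obj (op V.1)))).symm.trans ?_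
    rw [hS, Algebra.top_toSubring]
  choose S hS using hgen
  choose Q hQ hmem using fun j : t => hext j.1 (S j.1) inferInstance (fun x => x.1)
  let P := SubM.sum Q
  have hP : P.Good ⊤ := SubM.good_sum Q hQ
  have := isQCoh_toModule B
  refine ⟨P.toMod, P.toι, inferInstance, SubM.isQCoh hP, SubM.isFT hP, fun U => ?_⟩
  have heq : Set.range (fun e : P.toMod.val.obj (op (U : X.Opens)) ↦
      (show B.presheaf.obj (op (U : X.Opens)) from (P.toι.val.app (op (U : X.Opens))).hom e)) =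
      {x | x ∈ (P.carrier U.1 : Set Γ(B.toModule, U.1))} :=
    Set.ext fun x => P.mem_range_toι
  rw [heq]
  refine eq_top_iff.2 fun b _ => ?_
  show b ∈ genAlg B P U.1
  rw [← genSh_eq_genAlg B hP U.2]
  intro y hy
  obtain ⟨j, hjy⟩ : ∃ j : t, y ∈ j.1.1 := by
    have := hcov.le (Opens.mem_top y)
    simp only [Opens.mem_iSup] at this
    obtain ⟨j, hj, hyj⟩ := this
    exact ⟨⟨j, hj⟩, hyj⟩
  obtain ⟨g, h, hgh, hyg⟩ := exists_basicOpen_le_affine_inter U.2 j.1.2 y ⟨hy, hjy⟩
  refine ⟨X.basicOpen g, X.basicOpen_le g, hyg, ?_⟩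
  have hle : X.basicOpen g ≤ j.1.1 := hgh.le.trans (X.basicOpen_le h)
  let x := algRes B (X.basicOpen_le g) b
  let _ := (algRes B (X.basicOpen_le h)).toAlgebra
  have := B.isQC j.1.1 j.1.2 h
  obtain ⟨⟨c, ⟨_, k, rfl⟩⟩, hc⟩ := IsLocalization.surj
    (M := Submonoid.powers (algStr B j.1.1 h)) (R := B.presheaf.obj (op j.1.1))
    (S := B.presheaf.obj (op (X.basicOpen h))) (algRes B hgh.ge x)
  have hc' : algRes B hgh.ge x * algRes B (X.basicOpen_le h) (algStr B j.1.1 h ^ k) =
      algRes B (X.basicOpen_le h) c := hc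
  have hcm : c ∈ genAlg B P j.1.1 := by
    refine (Subring.closure_le.2 ?_ : Subring.closure _ ≤ genAlg B P j.1.1) ((hS j.1).ge trivial)
    rintro z (⟨a, rfl⟩ | hz)
    · exact str_mem_genAlg B P _ a
    · exact Subring.subset_closure (Or.inr (SubM.le_sum Q j _ (hmem j ⟨z, hz⟩)))
  obtain ⟨v, hv⟩ := (isUnit_res_pow h (X.basicOpen_le h) le_rfl k).exists_right_inv
  rw [← map_pow (algStr B j.1.1) h k, algRes_str] at hc'
  have hx : algRes B hgh.ge x = algRes B (X.basicOpen_le h) c * algStr B (X.basicOpen h) v := by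
    rw [← hc', mul_assoc, ← map_mul, hv, map_one, mul_one]
  have hm : algRes B hgh.ge x ∈ genAlg B P (X.basicOpen h) := by
    rw [hx]; exact mul_mem (algRes_mem_genAlg B P _ hcm) (str_mem_genAlg B P _ v)
  have := algRes_mem_genAlg B P hgh.le hm
  rw [algRes_algRes, show algRes B (hgh.le.trans hgh.ge) x = x from
    ConcreteCategory.congr_hom (B.presheaf.map_id _) x] at this
  exact this

section SubAlgebra

variable (B : RelSpec.QCAlg X) {Q : SubM B.toModule} (hQ : Q.Good ⊤)

theorem genSh_algRes {W W' : X.Opens} (h : W' ≤ W) {a : B.presheaf.obj (op W)}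
    (ha : a ∈ genSh B Q W) : algRes B h a ∈ genSh B Q W' := by
  intro y hy
  obtain ⟨W₁, h₁, hy₁, m₁⟩ := ha y (h hy)
  refine ⟨W₁ ⊓ W', inf_le_right, ⟨hy₁, hy⟩, ?_⟩
  rw [algRes_algRes, ← algRes_algRes B h₁ inf_le_left a]
  exact algRes_mem_genAlg B Q _ m₁

theorem genSh_of_local {W : X.Opens} (a : B.presheaf.obj (op W))
    (ha : ∀ y ∈ W, ∃ (W' : X.Opens) (h : W' ≤ W), y ∈ W' ∧ algRes B h a ∈ genSh B Q W') :
    a ∈ genSh B Q W := by
  intro y hy
  obtain ⟨W₁, h₁, hy₁, m₁⟩ := ha y hy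
  obtain ⟨W₂, h₂, hy₂, m₂⟩ := m₁ y hy₁
  refine ⟨W₂, h₂.trans h₁, hy₂, ?_⟩
  rwa [algRes_algRes] at m₂

/-- The presheaf of rings of the generated subalgebra. -/
noncomputable def subAlgPre : TopCat.Presheaf CommRingCat.{u} X.carrier where
  obj W := CommRingCat.of (genSh B Q W.unop)
  map {W W'} f := CommRingCat.ofHom
    ((algRes B (leOfHom f.unop)).restrict (genSh B Q W.unop) (genSh B Q W'.unop)
      fun _ ha => genSh_algRes B _ ha)
  map_id W := by
    ext a
    show algRes B le_rfl a.1 = a.1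
    exact ConcreteCategory.congr_hom (B.presheaf.map_id _) a.1
  map_comp {W W' W''} f g := by
    ext a
    exact (algRes_algRes B (leOfHom f.unop) (leOfHom g.unop) a.1).symm

/-- Its structure map. -/
noncomputable def subAlgStr : X.presheaf ⟶ subAlgPre B (Q := Q) where
  app W := CommRingCat.ofHom ((algStr B W.unop).codRestrict (genSh B Q W.unop)
    fun a => genAlg_le_genSh B Q _ (str_mem_genAlg B Q _ a))
  naturality {W W'} f := by
    ext a
    refine Subtype.ext ?_
    show algStr B W'.unop (X.presheaf.map f a) = algRes B (leOfHom f.unop) (algStr B W.unop a)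
    rw [algRes_str, Subsingleton.elim f (homOfLE (leOfHom f.unop)).op]

theorem isSheaf_subAlgPre : (subAlgPre B (Q := Q)).IsSheaf := by
  let S : Subfunctor (B.presheaf ⋙ forget CommRingCat.{u}) :=
    { obj := fun W => {a | a ∈ genSh B Q W.unop}
      map := fun {W W'} f a ha => by
        have := genSh_algRes B (leOfHom f.unop) ha
        rw [show f = (homOfLE (leOfHom f.unop)).op from Subsingleton.elim _ _]
        exact this }
  have hF : Presieve.IsSheaf (Opens.grothendieckTopology X) (B.presheaf ⋙ forget CommRingCat.{u}) :=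
    (isSheaf_iff_isSheaf_of_type _ _).1
      ((Presheaf.isSheaf_iff_isSheaf_forget _ B.presheaf (forget CommRingCat.{u})).1 B.isSheaf)
  refine (Presheaf.isSheaf_iff_isSheaf_forget _ _ (forget CommRingCat.{u})).2 ?_
  rw [isSheaf_iff_isSheaf_of_type]
  let e : subAlgPre B (Q := Q) ⋙ forget CommRingCat.{u} ≅ S.toFunctor :=
    NatIso.ofComponents (fun W => Equiv.toIso
      { toFun := fun s => ⟨s.1, s.2⟩
        invFun := fun s => ⟨s.1, s.2⟩
        left_inv := fun _ => rfl
        right_inv := fun _ => rfl }) (fun {W W'} f => by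
          ext a
          refine Subtype.ext ?_
          show algRes B (leOfHom f.unop) a.1 = B.presheaf.map f a.1
          rw [show f = (homOfLE (leOfHom f.unop)).op from Subsingleton.elim _ _])
  refine Presieve.isSheaf_iso _ e.symm ((S.isSheaf_iff hF).2 fun W s hs => ?_)
  refine genSh_of_local B s fun y hy => ?_
  obtain ⟨W', g, hg, hyW'⟩ := hs y hy
  refine ⟨W', leOfHom g, hyW', ?_⟩
  have hg' : B.presheaf.map g.op s ∈ genSh B Q W' := hg
  rwa [show g.op = (homOfLE (leOfHom g)).op from Subsingleton.elim _ _] at hg'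

include hQ in
theorem isQC_subAlg : RelSpec.IsQC (subAlgPre B (Q := Q)) (subAlgStr B) := by
  intro U hU r
  let _ := (algRes B (X.basicOpen_le r)).toAlgebra
  have : IsLocalization.Away (algStr B U r) (B.presheaf.obj (op (X.basicOpen r))) := B.isQC U hU r
  let _ : Algebra (genSh B Q U) (genSh B Q (X.basicOpen r)) :=
    ((subAlgPre B (Q := Q)).map (homOfLE (X.basicOpen_le r)).op).hom.toAlgebra
  show IsLocalization.Away (⟨algStr B U r, genAlg_le_genSh B Q _ (str_mem_genAlg B Q _ r)⟩ : genSh B Q U)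
    (genSh B Q (X.basicOpen r))
  refine IsLocalization.Away.mk _ ?_ ?_ ?_
  · obtain ⟨v, hv⟩ := (isUnit_res_pow r (X.basicOpen_le r) le_rfl 1).exists_right_inv
    rw [pow_one] at hv
    refine isUnit_iff_exists_inv.2
      ⟨⟨algStr B _ v, genAlg_le_genSh B Q _ (str_mem_genAlg B Q _ v)⟩, Subtype.ext ?_⟩
    show algRes B (X.basicOpen_le r) (algStr B U r) * algStr B _ v = 1
    rw [algRes_str, ← map_mul, hv, map_one]
  · intro s
    have hs : s.1 ∈ genAlg B Q (X.basicOpen r) := (genSh_eq_genAlg B hQ (hU.basicOpen r)).le s.2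
    obtain ⟨k, t, ht, ht'⟩ := exists_pow_mul_genAlg B hQ hU r hs
    refine ⟨k, ⟨t, genAlg_le_genSh B Q _ ht⟩, Subtype.ext ?_⟩
    show s.1 * algRes B (X.basicOpen_le r) (algStr B U r) ^ k = algRes B (X.basicOpen_le r) t
    rw [ht', map_pow (algStr B U), map_pow, mul_comm]
  · intro x y hxy
    obtain ⟨⟨_, n, rfl⟩, hn⟩ := IsLocalization.exists_of_eq (M := Submonoid.powers (algStr B U r))
      (R := B.presheaf.obj (op U)) (S := B.presheaf.obj (op (X.basicOpen r)))
      (x := x.1) (y := y.1) (congrArg Subtype.val hxy)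
    exact ⟨n, Subtype.ext hn⟩

include hQ in
/-- The subalgebra generated by a good submodule. -/
theorem exists_subalgebra_generated :
    ∃ (B' : RelSpec.QCAlg X) (φ : B' ⟶ B),
      (∀ V : X.Opens, Function.Injective (φ.hom.app (op V)).hom) ∧
      (∀ V : X.affineOpens, (B'.str.app (op (V : X.Opens))).hom.FiniteType) ∧
      ∀ (V : X.Opens) (b : B.presheaf.obj (op V)), b ∈ (Q.carrier V : Set Γ(B.toModule, V)) →
        b ∈ Set.range (φ.hom.app (op V)).hom := by
  classical
  let B' : RelSpec.QCAlg X := ⟨subAlgPre B (Q := Q), isSheaf_subAlgPre B, subAlgStr B, isQC_subAlg B hQ⟩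
  let φ : B' ⟶ B :=
    { hom :=
        { app := fun W => CommRingCat.ofHom (genSh B Q W.unop).subtype
          naturality := fun W W' f => by
            ext a
            show algRes B (leOfHom f.unop) a.1 = B.presheaf.map f a.1
            rw [show f = (homOfLE (leOfHom f.unop)).op from Subsingleton.elim _ _] }
      comm := rfl }
  refine ⟨B', φ, fun V => Subtype.val_injective, fun V => ?_, fun V b hb =>
    ⟨⟨b, genAlg_le_genSh B Q V (Subring.subset_closure (Or.inr hb))⟩, rfl⟩⟩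
  have := isQCoh_toModule B
  have hq := SubM.isQCoh hQ
  obtain ⟨S, hS⟩ := (finite_sections Q.toMod (locallyFinGen_of_isFT _ (SubM.isFT hQ)) V.2).fg_top
  let σ : Γ(X, V.1) →+* genSh B Q V.1 :=
    (algStr B V.1).codRestrict _ fun a => genAlg_le_genSh B Q _ (str_mem_genAlg B Q _ a)
  show σ.FiniteType
  let _ := σ.toAlgebra
  let g : Γ(Q.toMod, V.1) → genSh B Q V.1 := fun e =>
    ⟨Q.toι.app V.1 e, genAlg_le_genSh B Q _ (Subring.subset_closure (Or.inr e.2))⟩
  have hgmem : ∀ e, g e ∈ Algebra.adjoin Γ(X, V.1) (g '' (S : Set Γ(Q.toMod, V.1))) := fun e => by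
    have he : e ∈ Submodule.span Γ(X, V.1) (S : Set Γ(Q.toMod, V.1)) := hS.ge trivial
    induction he using Submodule.span_induction with
    | mem e he => exact Algebra.subset_adjoin ⟨e, he, rfl⟩
    | zero => exact zero_mem _
    | add a b _ _ ha hb => exact add_mem ha hb
    | smul c a _ ha => exact mul_mem (Subalgebra.algebraMap_mem _ c) ha
  have key : ∀ z : genSh B Q V.1, z ∈ Algebra.adjoin Γ(X, V.1) (g '' (S : Set Γ(Q.toMod, V.1))) := by
    rintro ⟨z, hz⟩
    suffices h : ∃ w ∈ Algebra.adjoin Γ(X, V.1) (g '' (S : Set Γ(Q.toMod, V.1))), w.1 = z by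
      obtain ⟨w, hw, rfl⟩ := h; exact hw
    have hz' := (genSh_eq_genAlg B hQ V.2).le hz
    induction hz' using Subring.closure_induction with
    | mem x hx =>
      rcases hx with ⟨c, rfl⟩ | hx
      · exact ⟨σ c, Subalgebra.algebraMap_mem _ c, rfl⟩
      · exact ⟨g ⟨x, hx⟩, hgmem ⟨x, hx⟩, rfl⟩
    | zero => exact ⟨0, zero_mem _, rfl⟩
    | one => exact ⟨1, one_mem _, rfl⟩
    | add x y hx₀ hy₀ hx hy =>
      obtain ⟨a, ha, rfl⟩ := hx (genAlg_le_genSh B Q _ hx₀)
      obtain ⟨b, hb, rfl⟩ := hy (genAlg_le_genSh B Q _ hy₀)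
      exact ⟨a + b, add_mem ha hb, rfl⟩
    | neg x hx₀ hx =>
      obtain ⟨a, ha, rfl⟩ := hx (genAlg_le_genSh B Q _ hx₀)
      exact ⟨-a, neg_mem ha, rfl⟩
    | mul x y hx₀ hy₀ hx hy =>
      obtain ⟨a, ha, rfl⟩ := hx (genAlg_le_genSh B Q _ hx₀)
      obtain ⟨b, hb, rfl⟩ := hy (genAlg_le_genSh B Q _ hy₀)
      exact ⟨a * b, mul_mem ha hb, rfl⟩
  refine ⟨⟨S.image g, ?_⟩⟩
  rw [Finset.coe_image]
  exact eq_top_iff.2 fun z _ => key z

/-- Every section over an affine open lies in a finite type quasi-coherent subalgebra. -/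
theorem exists_subalgebra_through_section
    (hext : ∀ (V : X.affineOpens) (I : Type u) (_ : Finite I) (s : I → Γ(B.toModule, V.1)),
      ∃ Q : SubM B.toModule, Q.Good ⊤ ∧ ∀ i, s i ∈ Q.carrier V.1)
    (U : X.affineOpens) (b : B.presheaf.obj (op (U : X.Opens))) :
    ∃ (B' : RelSpec.QCAlg X) (φ : B' ⟶ B),
      (∀ V : X.Opens, Function.Injective (φ.hom.app (op V)).hom) ∧
      (∀ V : X.affineOpens, (B'.str.app (op (V : X.Opens))).hom.FiniteType) ∧
      b ∈ Set.range (φ.hom.app (op (U : X.Opens))).hom := by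
  obtain ⟨Q, hQ, hb⟩ := hext U PUnit inferInstance (fun _ => b)
  obtain ⟨B', φ, h₁, h₂, h₃⟩ := exists_subalgebra_generated B hQ
  exact ⟨B', φ, h₁, h₂, h₃ _ b (hb PUnit.unit)⟩

end SubAlgebra

end Groth.Agent.Coherent
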