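import Groth.Agent.Coherent.FinMor
import Groth.Agent.Coherent.ProjSpaceBase
import Mathlib.AlgebraicGeometry.Morphisms.Finite
import Mathlib.AlgebraicGeometry.Morphisms.Proper

/-!
# Coherent higher direct images: stability
-/

set_option autoImplicit false

universe u

open CategoryTheory CategoryTheory.Abelian CategoryTheory.Limits AlgebraicGeometry Opposite
  TopologicalSpace

namespace Groth.Agent.Coherent

/-- Finiteness transfers along a semilinear surjection. -/
theorem finite_of_semilinear {A A' M M' : Type u} [CommRing A] [CommRing A'] [AddCommGroup M]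
    [AddCommGroup M'] [Module A M] [Module A' M'] [Module.Finite A M] (g : M →+ M')
    (hg : Function.Surjective g) (h : ∀ (a : A) (x : M), ∃ a' : A', g (a • x) = a' • g x) :
    Module.Finite A' M' := by
  classical
  obtain ⟨S, hS⟩ := (Module.Finite.fg_top : (⊤ : Submodule A M).FG)
  refine ⟨S.image g, Submodule.eq_top_iff'.2 fun y => ?_⟩
  obtain ⟨x, rfl⟩ := hg y
  have hx : x ∈ Submodule.span A (S : Set M) := hS.ge trivial
  induction hx using Submodule.span_induction with
  | mem z hz => exact Submodule.subset_span (Finset.mem_image_of_mem _ hz)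
  | zero => rw [map_zero]; exact Submodule.zero_mem _
  | add a b _ _ ha hb => rw [map_add]; exact Submodule.add_mem _ ha hb
  | smul r z _ hz => obtain ⟨a', ha'⟩ := h r z; rw [ha']; exact Submodule.smul_mem _ _ hz

section Rings

variable {X : Scheme.{u}} {A A' : Type u} [CommRing A] [CommRing A'] (φ : A →+* Γ(X, ⊤))
  (ρ : A' →+* A)

theorem finCoh_of_comp (h : FinCoh (φ.comp ρ)) : FinCoh φ := fun M hM q => by
  have := h M hM q
  exact finite_of_semilinear (A := A') (M := HA (φ.comp ρ) M (⊤ : X.Opens) q)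
    (M' := HA φ M (⊤ : X.Opens) q) (AddMonoidHom.id _) Function.surjective_id
    fun a x => ⟨ρ a, rfl⟩

theorem finCoh_comp_of_surjective (hρ : Function.Surjective ρ) (h : FinCoh φ) :
    FinCoh (φ.comp ρ) := fun M hM q => by
  have := h M hM q
  exact finite_of_semilinear (A := A) (M := HA φ M (⊤ : X.Opens) q)
    (M' := HA (φ.comp ρ) M (⊤ : X.Opens) q) (AddMonoidHom.id _) Function.surjective_id
    fun a x => by
      obtain ⟨a', rfl⟩ := hρ a
      exact ⟨a', rfl⟩

end Rings

/-- Coherent cohomology is finite after base change to every Noetherian affine scheme. -/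
def RelFin {X Y : Scheme.{u}} (f : X ⟶ Y) : Prop :=
  ∀ ⦃V X' : Scheme.{u}⦄ [IsAffine V] [IsLocallyNoetherian V] (j : V ⟶ Y) (i : X' ⟶ X) (f' : X' ⟶ V),
    IsPullback i f' f j → FinCoh f'.appTop.hom

theorem RelFin.baseChange {X Y X' Y' : Scheme.{u}} {f : X ⟶ Y} (h : RelFin f) {g : Y' ⟶ Y}
    {i : X' ⟶ X} {f' : X' ⟶ Y'} (hsq : IsPullback i f' f g) : RelFin f' :=
  fun _ _ _ _ j k l hk => h (j ≫ g) (k ≫ i) l (hk.paste_horiz hsq)

theorem preHom_eq {X Y : Scheme.{u}} (f : X ⟶ Y) (V : Y.Opens) :
    preHom f V = (f ∣_ V).appTop.hom.comp V.topIso.inv.hom := by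
  rw [preHom, openHom, ← CommRingCat.hom_comp, ← CommRingCat.hom_comp]
  congr 1
  simp only [morphismRestrict_appTop, Scheme.Opens.topIso_inv]
  refine Eq.trans ?_ (f.naturality_assoc _ _).symm
  congr 1
  exact (Functor.map_comp _ _ _).symm.trans rfl |>.symm

theorem RelFin.finMor {X Y : Scheme.{u}} {f : X ⟶ Y} [IsLocallyNoetherian Y] (h : RelFin f) :
    FinMor f := fun V hV => by
  have : IsAffine V.toScheme := hV
  rw [preHom_eq]
  exact finCoh_comp_of_surjective _ _ (ConcreteCategory.bijective_of_isIso V.topIso.inv).2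
    (h V.ι (f ⁻¹ᵁ V).ι (f ∣_ V) (isPullback_morphismRestrict f V).flip)

theorem RelFin.finCoh {X Y : Scheme.{u}} {f : X ⟶ Y} [IsAffine Y] [IsLocallyNoetherian Y]
    (h : RelFin f) : FinCoh f.appTop.hom :=
  h (𝟙 Y) (𝟙 X) f (IsPullback.of_id_fst)

theorem isNoetherianRing_top (Y : Scheme.{u}) [IsAffine Y] [IsLocallyNoetherian Y] :
    IsNoetherianRing Γ(Y, ⊤) :=
  IsLocallyNoetherian.component_noetherian ⟨⊤, isAffineOpen_top Y⟩

/-- Finite morphisms. -/
theorem relFin_of_isFinite {X Y : Scheme.{u}} (f : X ⟶ Y) [IsFinite f] : RelFin f := by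
  intro V X' _ _ j i f' hsq M hM q
  have : IsFinite f' := MorphismProperty.of_isPullback (P := @IsFinite) hsq ‹IsFinite f›
  have : IsAffine X' := isAffine_of_isAffineHom f'
  have := hM.1
  rcases q with _ | q
  · have := ((isCoh_iff_finite_sections M).1 hM).2 ⊤ (isAffineOpen_top X')
    let : Algebra Γ(V, ⊤) Γ(X', ⊤) := f'.appTop.hom.toAlgebra
    let : Module Γ(V, ⊤) Γ(M, ⊤) := Module.compHom Γ(M, ⊤) f'.appTop.hom
    have : IsScalarTower Γ(V, ⊤) Γ(X', ⊤) Γ(M, ⊤) := ⟨fun a b x => mul_smul _ b x⟩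
    have : Module.Finite Γ(V, ⊤) Γ(X', ⊤) := f'.finite_appTop
    have : Module.Finite Γ(V, ⊤) (GA f'.appTop.hom M) := Module.Finite.trans Γ(X', ⊤) Γ(M, ⊤)
    exact Module.Finite.equiv (secA f'.appTop.hom M).symm
  · have : Subsingleton (HA f'.appTop.hom M (⊤ : X'.Opens) (q + 1)) :=
      subsingleton_H'_qcoh M (isAffineOpen_top X') q
    infer_instance

/-- Composition. -/
theorem RelFin.comp {X Y Z : Scheme.{u}} {f : X ⟶ Y} {g : Y ⟶ Z} [IsProper f] [IsProper g]
    (hf : RelFin f) (hg : RelFin g) : RelFin (f ≫ g) := by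
  intro V X' _ _ j i k hsq
  have hY := IsPullback.of_hasPullback g j
  let l : X' ⟶ pullback g j := pullback.lift (i ≫ f) k (by rw [Category.assoc, hsq.w])
  have h1 : IsPullback i l f (pullback.fst g j) :=
    IsPullback.of_bot (h₂₁ := pullback.fst g j) (by rw [pullback.lift_snd]; exact hsq)
      (pullback.lift_fst _ _ _).symm hY
  have hl : RelFin l := hf.baseChange h1
  have hp : IsProper l := MorphismProperty.of_isPullback (P := @IsProper) h1 ‹IsProper f›
  have : IsLocallyNoetherian (pullback g j) :=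
    LocallyOfFiniteType.isLocallyNoetherian (pullback.snd g j)
  have : (pullback g j).IsSeparated := ⟨by
    rw [show terminal.from (pullback g j) = pullback.snd g j ≫ terminal.from V from
      terminal.hom_ext _ _]
    infer_instance⟩
  have : X'.IsSeparated := ⟨by
    rw [show terminal.from X' = l ≫ terminal.from (pullback g j) from terminal.hom_ext _ _]
    infer_instance⟩
  have : CompactSpace X' := QuasiCompact.compactSpace_of_compactSpace (l ≫ pullback.snd g j)
  have := isNoetherianRing_top V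
  have := finCoh_comp (f := l) (pullback.snd g j).appTop.hom hl.finMor
    (hg j (pullback.fst g j) (pullback.snd g j) hY)
  unfold pullHom at this
  rwa [← CommRingCat.hom_comp, ← Scheme.Hom.comp_appTop, pullback.lift_snd] at this

/-- Finiteness transfers along an isomorphism. -/
theorem finCoh_of_iso {X X' : Scheme.{u}} (e : X ⟶ X') [IsIso e] [IsLocallyNoetherian X']
    [X'.IsSeparated] [CompactSpace X'] {A : Type u} [CommRing A] [IsNoetherianRing A]
    (φ : A →+* Γ(X', ⊤)) (h : FinCoh φ) : FinCoh (e.appTop.hom.comp φ) := by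
  have : X.IsSeparated := ⟨by
    rw [show terminal.from X = e ≫ terminal.from X' from terminal.hom_ext _ _]
    infer_instance⟩
  have : CompactSpace X := QuasiCompact.compactSpace_of_compactSpace e
  exact finCoh_comp (f := e) φ (relFin_of_isFinite e).finMor h

/-- Projections from projective space. -/
theorem relFin_toSpec (n : ℕ) (A : Type u) [CommRing A] :
    RelFin (CohB1.ProjSpace.toSpec n A) := by
  intro V X' _ _ j i k hsq
  let B : CommRingCat.{u} := Γ(V, ⊤)
  have := isNoetherianRing_top V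
  let ρ : CommRingCat.of A ⟶ B := Spec.preimage (V.isoSpec.inv ≫ j)
  let : Algebra A B := ρ.hom.toAlgebra
  have hρ : Spec.map (CommRingCat.ofHom (algebraMap A B)) = V.isoSpec.inv ≫ j :=
    Spec.map_preimage _
  have hP := isPullback_projSpace n A B
  rw [hρ] at hP
  have hk : IsPullback i (k ≫ V.isoSpec.hom) (CohB1.ProjSpace.toSpec n A) (V.isoSpec.inv ≫ j) :=
    IsPullback.of_iso hsq (Iso.refl _) (Iso.refl _) V.isoSpec (Iso.refl _) (by simp) (by simp)
      (by simp) (by simp)
  let e : X' ≅ CohB1.ProjSpace n B := hk.isoIsPullback _ _ hP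
  have he : e.hom ≫ CohB1.ProjSpace.toSpec n B = k ≫ V.isoSpec.hom :=
    hk.isoIsPullback_hom_snd _ _ hP
  have := isProper_projSpace_toSpec n B
  have : (CohB1.ProjSpace n B).IsSeparated := ⟨by
    rw [show terminal.from (CohB1.ProjSpace n B) =
      CohB1.ProjSpace.toSpec n B ≫ terminal.from _ from terminal.hom_ext _ _]
    infer_instance⟩
  have : IsLocallyNoetherian (CohB1.ProjSpace n B) :=
    LocallyOfFiniteType.isLocallyNoetherian (CohB1.ProjSpace.toSpec n B)
  have : CompactSpace (CohB1.ProjSpace n B) :=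
    QuasiCompact.compactSpace_of_compactSpace (CohB1.ProjSpace.toSpec n B)
  have h0 : FinCoh (CohB1.ProjSpace.toSpec n B).appTop.hom :=
    finCoh_of_comp _ (Scheme.ΓSpecIso B).inv.hom (finCoh_projSpace (n := n) (R := B))
  have h1 : FinCoh ((k ≫ V.isoSpec.hom).appTop.hom) := by
    have := isNoetherianRing_top (Spec B)
    rw [← he, Scheme.Hom.comp_appTop, CommRingCat.hom_comp]
    exact finCoh_of_iso e.hom _ h0
  rw [Scheme.Hom.comp_appTop, CommRingCat.hom_comp] at h1
  exact finCoh_of_comp _ _ h1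

end Groth.Agent.Coherent
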