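import Groth.Agent.Coherent.Devissage
import Groth.Agent.Coherent.RelFin
import Groth.Agent.ModStalk.Pullback
import Groth.Agent.EGA43.InjFibre.Scheme
import Mathlib.AlgebraicGeometry.Morphisms.ClosedImmersion

/-!
# Modules killed by the ideal of a closed subscheme are direct images
-/

set_option autoImplicit false

universe u

open CategoryTheory CategoryTheory.Limits AlgebraicGeometry Opposite TopologicalSpace
  Groth.Agent.ModStalk Groth.Agent.AssSch12

namespace Groth.Agent.Coherent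

variable {X Z : Scheme.{u}} (i : Z ⟶ X) [IsClosedImmersion i] {F : X.Modules}

/-- The unit `F → i_* i^* F`. -/
noncomputable abbrev clUnit (F : X.Modules) :
    F ⟶ (Coh.push i).obj ((Scheme.Modules.pullback i).obj F) :=
  (Scheme.Modules.pullbackPushforwardAdjunction i).unit.app F

theorem subsingleton_stalk_of_killed (hk : ClSub.KilledByIdeal i.ker F) {y : X}
    (hy : y ∉ Set.range i) : Subsingleton (F.presheaf.stalk y) := subsingleton_of_forall_eq 0 fun a => by
  obtain ⟨W, hyW, s, rfl⟩ := F.presheaf.exists_germ_eq a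
  obtain ⟨_, ⟨V, hV, rfl⟩, hyV, hVW⟩ := X.isBasis_affineOpens.exists_subset_of_mem_open
    (show y ∈ (W : Set X) ∩ (Set.range i)ᶜ from ⟨hyW, hy⟩)
    (W.2.inter i.isClosedEmbedding.isClosed_range.isOpen_compl)
  have hle : V ≤ W := fun z hz => (hVW hz).1
  have hemp : i ⁻¹ᵁ V = ⊥ := eq_bot_iff.2 fun z hz => (hVW hz).2 ⟨z, rfl⟩
  have h1 : (1 : Γ(X, V)) ∈ i.ker.ideal ⟨V, hV⟩ := by
    rw [Scheme.Hom.ker_apply, RingHom.mem_ker]
    have : Subsingleton Γ(Z, i ⁻¹ᵁ V) := by rw [hemp]; infer_instance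
    exact Subsingleton.elim _ _
  have h2 : (1 : Γ(X, V)) • F.presheaf.map (homOfLE hle).op s = 0 := hk ⟨V, hV⟩ 1 h1 _
  rw [one_smul] at h2
  rw [← TopCat.Presheaf.germ_res_apply F.presheaf (homOfLE hle) y hyV, h2, map_zero]

theorem smul_stalk_eq_zero_of_killed (hk : ClSub.KilledByIdeal i.ker F) (x : Z)
    (r : X.presheaf.stalk (i x)) (hr : i.stalkMap x r = 0) (a₀ : (DerSch.stalkFunctor X (i x)).obj F) :
    r • a₀ = 0 := by
  let a : F.presheaf.stalk (i x) := a₀
  change r • a = 0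
  obtain ⟨W₁, hxW₁, f₁, rfl⟩ := X.presheaf.exists_germ_eq r
  obtain ⟨W₂, hxW₂, s₂, hs⟩ := F.presheaf.exists_germ_eq a
  rw [Scheme.Hom.germ_stalkMap_apply, ← (Z.presheaf.germ (i ⁻¹ᵁ W₁) x hxW₁).hom.map_zero] at hr
  obtain ⟨N, hxN, i₁, i₂, hN⟩ := TopCat.Presheaf.germ_eq Z.presheaf x hxW₁ hxW₁ _ _ hr
  obtain ⟨N', hN', hNe⟩ := i.isClosedEmbedding.isInducing.isOpen_iff.1 N.2
  have hxN' : i x ∈ N' := by
    have : x ∈ i ⁻¹' N' := hNe.symm ▸ hxN
    exact this
  obtain ⟨_, ⟨V, hV, rfl⟩, hxV, hVW⟩ := X.isBasis_affineOpens.exists_subset_of_mem_open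
    (show i x ∈ (W₁ : Set X) ∩ W₂ ∩ N' from ⟨⟨hxW₁, hxW₂⟩, hxN'⟩)
    ((W₁.2.inter W₂.2).inter hN')
  have h1 : V ≤ W₁ := fun z hz => (hVW hz).1.1
  have h2 : V ≤ W₂ := fun z hz => (hVW hz).1.2
  have hVN : i ⁻¹ᵁ V ≤ N := fun z hz => by
    have : z ∈ i ⁻¹' N' := (hVW hz).2
    rwa [hNe] at this
  have hf : X.presheaf.map (homOfLE h1).op f₁ ∈ i.ker.ideal ⟨V, hV⟩ := by
    rw [Scheme.Hom.ker_apply, RingHom.mem_ker]
    refine (ConcreteCategory.congr_hom (i.naturality (homOfLE h1).op) f₁).trans ?_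
    have := congrArg (Z.presheaf.map (homOfLE hVN).op) hN
    rw [map_zero, map_zero] at this
    refine Eq.trans ?_ this
    exact (ConcreteCategory.congr_hom (Z.presheaf.map_comp i₁.op (homOfLE hVN).op) _)
  have h0 : X.presheaf.map (homOfLE h1).op f₁ • F.presheaf.map (homOfLE h2).op s₂ = 0 :=
    hk ⟨V, hV⟩ _ hf _
  have e := congrArg (F.presheaf.germ V (i x) hxV) h0
  rw [map_zero] at e
  refine Eq.trans ?_ e
  refine Eq.trans ?_ (QCohLoc.germ_smul' F hxV _ _).symm
  rw [TopCat.Presheaf.germ_res_apply, TopCat.Presheaf.germ_res_apply, hs]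

/-- Surjectivity: stalks of `i^* F` come from sections of `F`. -/
theorem exists_germ_clUnit (x : Z) (b₀ : (DerSch.stalkFunctor Z x).obj ((Scheme.Modules.pullback i).obj F)) :
    ∃ (V : X.Opens) (h : i x ∈ V) (m : Γ(F, V)),
      ((Scheme.Modules.pullback i).obj F).presheaf.germ (i ⁻¹ᵁ V) x h ((clUnit i F).app V m) = b₀ := by
  let G := (Scheme.Modules.pullback i).obj F
  have hlin : ∀ (V : X.Opens) (h : i x ∈ V) (f : Γ(X, V)) (m : Γ(F, V)),
      G.presheaf.germ (i ⁻¹ᵁ V) x h ((clUnit i F).app V (f • m)) =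
        i.stalkMap x (X.presheaf.germ V (i x) h f) •
          G.presheaf.germ (i ⁻¹ᵁ V) x h ((clUnit i F).app V m) := fun V h f m => by
    rw [Scheme.Modules.Hom.app_smul, Scheme.Hom.germ_stalkMap_apply]
    exact QCohLoc.germ_smul' G h (i.app V f) _
  have hres : ∀ {V V' : X.Opens} (hVV : V' ≤ V) (h : i x ∈ V') (m : Γ(F, V)),
      G.presheaf.germ (i ⁻¹ᵁ V') x h ((clUnit i F).app V' (F.presheaf.map (homOfLE hVV).op m)) =
        G.presheaf.germ (i ⁻¹ᵁ V) x (hVV h) ((clUnit i F).app V m) := fun {V V'} hVV h m => by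
    have e : (clUnit i F).app V' (F.presheaf.map (homOfLE hVV).op m) =
        G.presheaf.map ((Opens.map i.base).map (homOfLE hVV)).op ((clUnit i F).app V m) :=
      ConcreteCategory.congr_hom ((clUnit i F).mapPresheaf.naturality (homOfLE hVV).op) m
    rw [e]
    exact TopCat.Presheaf.germ_res_apply G.presheaf _ x h _
  let S : Submodule (Z.presheaf.stalk x) ((DerSch.stalkFunctor Z x).obj G) :=
    { carrier := {b | ∃ (V : X.Opens) (h : i x ∈ V) (m : Γ(F, V)),
        G.presheaf.germ (i ⁻¹ᵁ V) x h ((clUnit i F).app V m) = b}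
      zero_mem' := ⟨⊤, trivial, 0,
        (congrArg (G.presheaf.germ (i ⁻¹ᵁ ⊤) x trivial) (map_zero ((clUnit i F).app ⊤).hom)).trans (map_zero _)⟩
      add_mem' := by
        rintro _ _ ⟨V, hV, m, rfl⟩ ⟨V', hV', m', rfl⟩
        refine ⟨V ⊓ V', ⟨hV, hV'⟩, F.presheaf.map (homOfLE inf_le_left).op m +
          F.presheaf.map (homOfLE inf_le_right).op m', ?_⟩
        exact (congrArg _ (map_add ((clUnit i F).app (V ⊓ V')).hom _ _)).trans ((map_add _ _ _).trans
          (congrArg₂ (· + ·) (hres _ _ m) (hres _ _ m')))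
      smul_mem' := by
        rintro r _ ⟨V, hV, m, rfl⟩
        obtain ⟨r', rfl⟩ := i.stalkMap_surjective x r
        obtain ⟨W, hW, f, rfl⟩ := X.presheaf.exists_germ_eq r'
        refine ⟨W ⊓ V, ⟨hW, hV⟩, X.presheaf.map (homOfLE (inf_le_left : W ⊓ V ≤ W)).op f •
          F.presheaf.map (homOfLE (inf_le_right : W ⊓ V ≤ V)).op m, ?_⟩
        exact (hlin _ _ _ _).trans (congrArg₂ (· • ·)
          (congrArg (i.stalkMap x) (TopCat.Presheaf.germ_res_apply X.presheaf _ (i x) _ f))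
          (hres _ _ m)) }
  let g : (DerSch.stalkFunctor Z x).obj G ⟶ ModuleCat.of (Z.presheaf.stalk x)
      ((DerSch.stalkFunctor Z x).obj G ⧸ S) := ModuleCat.ofHom S.mkQ
  have h0 : clUnit i F ≫ (Coh.push i).map (skyMap x g) = 0 := by
    refine Scheme.Modules.hom_ext _ _ fun V => ?_
    ext m
    refine sval_ext (A := ModuleCat.of (Z.presheaf.stalk x) ((DerSch.stalkFunctor Z x).obj G ⧸ S))
      (U := i ⁻¹ᵁ V) fun h => ?_
    exact (Submodule.Quotient.mk_eq_zero S).2 ⟨V, h, m, rfl⟩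
  have h1 : skyMap x g = 0 := by
    have e := (Scheme.Modules.pullbackPushforwardAdjunction i).homEquiv_unit F _ (skyMap x g)
    refine ((Scheme.Modules.pullbackPushforwardAdjunction i).homEquiv F _).injective ?_
    rw [e, h0, Adjunction.homEquiv_unit, Functor.map_zero, comp_zero]
  obtain ⟨W, hW, s, hs⟩ := G.presheaf.exists_germ_eq (show G.presheaf.stalk x from b₀)
  have h2 : g (G.presheaf.germ W x hW s) = 0 := by
    have := congrArg (fun ψ : G ⟶ (sky x).obj (ModuleCat.of (Z.presheaf.stalk x)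
      ((DerSch.stalkFunctor Z x).obj G ⧸ S)) => sval (A := ModuleCat.of (Z.presheaf.stalk x)
      ((DerSch.stalkFunctor Z x).obj G ⧸ S)) (U := W) (ψ.app W s) hW) h1
    exact (skyMap_app_sval x g W s hW).symm.trans this
  obtain ⟨V, h, m, e⟩ := (Submodule.Quotient.mk_eq_zero S).1 h2
  exact ⟨V, h, m, e.trans hs⟩

theorem epi_clUnit : Epi (clUnit i F) := by
  let G := (Scheme.Modules.pullback i).obj F
  refine epi_of_locally_surjective _ fun W a y hy => ?_
  let a' : Γ(G, i ⁻¹ᵁ W) := a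
  by_cases hyZ : y ∈ Set.range i
  · obtain ⟨x, rfl⟩ := hyZ
    obtain ⟨V, hV, m, hm⟩ := exists_germ_clUnit i x (G.presheaf.germ (i ⁻¹ᵁ W) x hy a')
    obtain ⟨N, hxN, i₁, i₂, hN⟩ := TopCat.Presheaf.germ_eq G.presheaf x hV hy _ _ hm
    obtain ⟨N', hN', hNe⟩ := i.isClosedEmbedding.isInducing.isOpen_iff.1 N.2
    let W' : X.Opens := W ⊓ V ⊓ ⟨N', hN'⟩
    have hle : W' ≤ W := inf_le_left.trans inf_le_left
    have hleV : W' ≤ V := inf_le_left.trans inf_le_right
    have hWN : i ⁻¹ᵁ W' ≤ N := fun z hz => by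
      have : z ∈ i ⁻¹' N' := hz.2
      rwa [hNe] at this
    refine ⟨W', hle, ⟨⟨hy, hV⟩, (by
      have : x ∈ i ⁻¹' N' := hNe.symm ▸ hxN
      exact this)⟩, resM F hleV m, ?_⟩
    refine (app_resM (clUnit i F) hleV m).trans ?_
    have := congrArg (G.presheaf.map (homOfLE hWN).op) hN
    exact ((ConcreteCategory.congr_hom (G.presheaf.map_comp i₁.op (homOfLE hWN).op) _).trans this).trans
      (ConcreteCategory.congr_hom (G.presheaf.map_comp i₂.op (homOfLE hWN).op) _).symm
  · let W' : X.Opens := W ⊓ ⟨(Set.range i)ᶜ, i.isClosedEmbedding.isClosed_range.isOpen_compl⟩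
    refine ⟨W', inf_le_left, ⟨hy, hyZ⟩, 0, ?_⟩
    have hemp : i ⁻¹ᵁ W' = ⊥ := eq_bot_iff.2 fun z hz => hz.2 ⟨z, rfl⟩
    have : Subsingleton Γ(G, i ⁻¹ᵁ W') := by
      rw [hemp]
      exact ⟨fun p q => TopCat.Presheaf.section_ext (⟨G.presheaf, G.isSheaf⟩ : TopCat.Sheaf Ab Z) ⊥ p q
        fun z hz => hz.elim⟩
    exact Subsingleton.elim (α := Γ(G, i ⁻¹ᵁ W')) _ _

theorem mono_clUnit (hk : ClSub.KilledByIdeal i.ker F) : Mono (clUnit i F) := by
  have hinj : ∀ (W : X.Opens) (m : Γ(F, W)), (clUnit i F).app W m = 0 → m = 0 := fun W m hm => by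
    refine TopCat.Presheaf.section_ext (⟨F.presheaf, F.isSheaf⟩ : TopCat.Sheaf Ab X) W m 0
      fun y hy => ?_
    refine Eq.trans ?_ (map_zero (F.presheaf.germ W y hy).hom).symm
    by_cases hyZ : y ∈ Set.range i
    · obtain ⟨x, rfl⟩ := hyZ
      let φ : X.presheaf.stalk (i x) →+* Z.presheaf.stalk x := (i.stalkMap x).hom
      let e := RingHom.quotientKerEquivOfSurjective (f := φ) (i.stalkMap_surjective x)
      let M₀ := (DerSch.stalkFunctor X (i x)).obj F
      have htor : Module.IsTorsionBySet (X.presheaf.stalk (i x)) M₀ (RingHom.ker φ : Set _) :=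
        fun a r => smul_stalk_eq_zero_of_killed i hk x r r.2 a
      let : Module (X.presheaf.stalk (i x) ⧸ RingHom.ker φ) M₀ := htor.module
      let : Module (Z.presheaf.stalk x) M₀ := Module.compHom M₀ e.symm.toRingHom
      have hcompat : ∀ (r : X.presheaf.stalk (i x)) (a : M₀), φ r • a = r • a := fun r a => by
        change e.symm (φ r) • a = r • a
        rw [show e.symm (φ r) = Ideal.Quotient.mk _ r from (RingEquiv.symm_apply_eq e).2 rfl]
        exact htor.mk_smul r a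
      let B : ModuleCat.{u} (Z.presheaf.stalk x) := ModuleCat.of (Z.presheaf.stalk x) M₀
      let g : M₀ ⟶ (ModuleCat.restrictScalars (i.stalkMap x).hom).obj B :=
        ModuleCat.ofHom (Y := (ModuleCat.restrictScalars (i.stalkMap x).hom).obj B)
          { toFun := fun a => a
            map_add' := fun _ _ => rfl
            map_smul' := fun r a => (hcompat r a).symm }
      let h : F ⟶ (Coh.push i).obj ((sky x).obj B) :=
        skyMap (i x) g ≫ (skyPushIso i x).inv.app B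
      have hh : clUnit i F ≫ (Coh.push i).map
          (((Scheme.Modules.pullbackPushforwardAdjunction i).homEquiv F _).symm h) = h := by
        rw [← Adjunction.homEquiv_unit, Equiv.apply_symm_apply]
      let q := ((Scheme.Modules.pullbackPushforwardAdjunction i).homEquiv F _).symm h
      have h0 : h.app W m = 0 := by
        rw [← hh]
        change ((Coh.push i).map q).app W ((clUnit i F).app W m) = 0
        exact (congrArg (((Coh.push i).map q).app W) hm).trans (map_zero _)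
      have := congrArg (fun z => sval (A := B) (U := i ⁻¹ᵁ W) z hy) h0
      exact this
    · exact (subsingleton_stalk_of_killed i hk hyZ).elim _ _
  refine Preadditive.mono_of_cancel_zero _ fun {P} k hk0 => Scheme.Modules.hom_ext _ _ fun W => ?_
  ext p
  exact hinj W _ (congrArg (fun ψ : P ⟶ _ => ψ.app W p) hk0)

theorem isIso_clUnit (hk : ClSub.KilledByIdeal i.ker F) : IsIso (clUnit i F) :=
  have := mono_clUnit i hk
  have := epi_clUnit i (F := F)
  isIso_of_mono_of_epi _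

/-- `F ≅ i_* i^* F`. -/
noncomputable def clIso (hk : ClSub.KilledByIdeal i.ker F) :
    F ≅ (Coh.push i).obj ((Scheme.Modules.pullback i).obj F) :=
  have := isIso_clUnit i hk
  asIso (clUnit i F)

theorem isFT_pullback_of_killed (hk : ClSub.KilledByIdeal i.ker F) (hq : Coh.IsQCoh F)
    (hft : CohB1.IsFT F) : CohB1.IsFT ((Scheme.Modules.pullback i).obj F) := by
  have := hq
  have := EGA43.InjFibre.isQCoh_pullback i F
  let e := clIso i hk
  refine isFT_of_locallyFinGen (locallyFinGen_of_finite_sections _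
    (fun V : X.affineOpens => i ⁻¹ᵁ V.1) (fun V => V.2.preimage i) ?_ fun V => ?_)
  · intro z
    obtain ⟨V, hV, hz, -⟩ := Opens.isBasis_iff_nbhd.mp X.isBasis_affineOpens (Opens.mem_top (i z))
    exact ⟨⟨V, hV⟩, hz⟩
  · have hfin := finite_sections F (locallyFinGen_of_isFT F hft) V.2
    exact finite_of_semilinear (A := Γ(X, V.1)) (M := Γ(F, V.1))
      (M' := Γ((Scheme.Modules.pullback i).obj F, i ⁻¹ᵁ V.1))
      (e.hom.app V.1).hom
      (fun b => ⟨e.inv.app V.1 b, congrArg (fun ψ : (Coh.push i).obj _ ⟶ (Coh.push i).obj _ =>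
        ψ.app V.1 b) e.inv_hom_id⟩)
      fun a m => ⟨i.app V.1 a, Scheme.Modules.Hom.app_smul e.hom a m⟩

theorem isCoh_pullback_of_killed (hk : ClSub.KilledByIdeal i.ker F) (hF : Coh.IsCoh F) :
    Coh.IsCoh ((Scheme.Modules.pullback i).obj F) :=
  have := hF.1
  ⟨EGA43.InjFibre.isQCoh_pullback i F, isFT_pullback_of_killed i hk hF.1 hF.2⟩

end Groth.Agent.Coherent
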