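import Groth.Agent.Coherent.DevissageMain
import Groth.Agent.Coherent.ClosedEquiv
import Groth.Agent.AssSch12.Embed

/-!
# Dévissage by ideals of integral closed subschemes
-/

set_option autoImplicit false

universe u

open CategoryTheory CategoryTheory.Limits AlgebraicGeometry Opposite TopologicalSpace
  Groth.Agent.ModStalk Groth.Agent.AssSch12

namespace Groth.Agent.Coherent

variable {X : Scheme.{u}}

local notation "St" => DerSch.stalkFunctor X

theorem mono_of_sections_injective {M N : X.Modules} (f : M ⟶ N)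
    (h : ∀ U, Function.Injective (f.app U)) : Mono f :=
  Preadditive.mono_of_cancel_zero _ fun {P} t ht => Scheme.Modules.hom_ext _ _ fun U => by
    ext m
    exact h U ((congrArg (fun z : P ⟶ N => z.app U m) ht).trans (map_zero (f.app U).hom).symm)

/-- The unit `M → j_* j^* M` is bijective on stalks in the open. -/
theorem bijective_stalk_restrictUnit (M : X.Modules) {V : X.Opens} {y : X} (hy : y ∈ V) :
    Function.Bijective ((St y).map ((Scheme.Modules.restrictAdjunction V.ι).unit.app M)) := by
  let η := (Scheme.Modules.restrictAdjunction V.ι).unit.app M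
  have hmem : ∀ {U : X.Opens}, y ∈ U → y ∈ V.ι ''ᵁ V.ι ⁻¹ᵁ U := fun h => ⟨⟨y, hy⟩, h, rfl⟩
  refine ⟨(injective_iff_map_eq_zero ((St y).map η).hom).2 fun a ha => ?_, fun b => ?_⟩
  · obtain ⟨U, hU, s, rfl⟩ := M.presheaf.exists_germ_eq (show M.presheaf.stalk y from a)
    erw [stalk_map_germ, ← map_zero (((Coh.push V.ι).obj (M.restrict V.ι)).presheaf.germ U y hU).hom]
      at ha
    obtain ⟨W, hW, i₁, i₂, e⟩ := TopCat.Presheaf.germ_eq _ y hU hU _ _ ha
    rw [map_zero] at e
    have e' : M.presheaf.map (homOfLE ((V.ι.image_preimage_le W).trans (leOfHom i₁))).op s = 0 := by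
      refine Eq.trans ?_ e
      exact (ConcreteCategory.congr_hom (M.presheaf.map_comp
        (homOfLE (V.ι.image_preimage_le U)).op
        (homOfLE (V.ι.image_mono (V.ι.preimage_mono (leOfHom i₁)))).op) s)
    have := congrArg (M.presheaf.germ _ y (hmem hW)) e'
    rwa [map_zero, TopCat.Presheaf.germ_res_apply] at this
  · obtain ⟨U, hU, t, rfl⟩ :=
      ((Coh.push V.ι).obj (M.restrict V.ι)).presheaf.exists_germ_eq
        (show ((Coh.push V.ι).obj (M.restrict V.ι)).presheaf.stalk y from b)
    let U' := V.ι ''ᵁ V.ι ⁻¹ᵁ U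
    let t' : Γ(M, U') := t
    refine ⟨M.presheaf.germ U' y (hmem hU) t', ?_⟩
    refine (stalk_map_germ η (hmem hU) t').trans ?_
    refine Eq.trans ?_ (TopCat.Presheaf.germ_res_apply _ (homOfLE (V.ι.image_preimage_le U)) y
      (hmem hU) t)
    rfl

variable (y : X)

instance isIntegral_clI_subscheme : IsIntegral (clI y).subscheme := by
  let i := (clI y).subschemeι
  have hrange : Set.range i = closure {y} := by
    rw [(clI y).range_subschemeι]; rfl
  have : IsReduced (clI y).subscheme := Props12.isReduced_subscheme_vanishingIdeal _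
  obtain ⟨y', hy'⟩ : y ∈ Set.range i := by rw [hrange]; exact subset_closure rfl
  have hgen : closure {y'} = (Set.univ : Set (clI y).subscheme) := Set.eq_univ_of_forall fun w => by
    rw [i.isClosedEmbedding.isInducing.closure_eq_preimage_closure_image, Set.image_singleton, hy',
      ← hrange]
    exact ⟨w, rfl⟩
  have : IrreducibleSpace (clI y).subscheme := by
    rw [irreducibleSpace_def, Set.top_eq_univ, ← hgen]; exact isIrreducible_singleton.closure
  exact isIntegral_of_irreducibleSpace_of_isReduced _

theorem range_clι : Set.range (clI y).subschemeι = closure {y} := by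
  rw [(clI y).range_subschemeι]; rfl

theorem isCoh_clM [IsLocallyNoetherian X] : Coh.IsCoh (clM y) :=
  (isCoh_iff_finite_sections _).2 ⟨isQCoh_clM y, fun V hV =>
    Module.Finite.of_surjective (LinearMap.toSpanSingleton Γ(X, V) Γ(clM y, V) (clOne y V))
      fun z => by
        obtain ⟨r, hr⟩ := (clI y).subschemeι.app_surjective V hV z
        exact ⟨r, (smul_clOne y V r).trans hr⟩⟩

/-- `clM` injects into its restriction to a neighbourhood of the point. -/
theorem mono_clM_restrictUnit {V : X.Opens} (hy : y ∈ V) :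
    Mono ((Scheme.Modules.restrictAdjunction V.ι).unit.app (clM y)) := by
  refine mono_of_sections_injective _ fun U => (injective_iff_map_eq_zero _).2 fun z hz => ?_
  let i := (clI y).subschemeι
  let z' : Γ((clI y).subscheme, i ⁻¹ᵁ U) := z
  by_cases hne : Nonempty (i ⁻¹ᵁ U : (clI y).subscheme.Opens)
  · obtain ⟨⟨w, hw⟩⟩ := hne
    obtain ⟨y', hy'⟩ : y ∈ Set.range i := by rw [range_clι]; exact subset_closure rfl
    have hyU : y ∈ U := by
      have : y ⤳ i w := specializes_iff_mem_closure.2 (by rw [← range_clι]; exact ⟨w, rfl⟩)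
      exact this.mem_open U.2 hw
    have : Nonempty (i ⁻¹ᵁ (V.ι ''ᵁ V.ι ⁻¹ᵁ U) : (clI y).subscheme.Opens) :=
      ⟨⟨y', show i y' ∈ V.ι ''ᵁ V.ι ⁻¹ᵁ U from hy'.symm ▸ ⟨⟨y, hy⟩, hyU, rfl⟩⟩⟩
    refine map_injective_of_isIntegral (clI y).subscheme
      (homOfLE (i.preimage_mono (V.ι.image_preimage_le U))) ?_
    exact hz.trans (map_zero _).symm
  · have : i ⁻¹ᵁ U = ⊥ := eq_bot_iff.2 fun w hw => absurd ⟨⟨w, hw⟩⟩ hne
    have : Subsingleton Γ((clI y).subscheme, i ⁻¹ᵁ U) := by rw [this]; infer_instance
    exact this.elim z' 0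

/-- Direct image along a closed immersion is faithful. -/
instance faithful_push_closedImmersion {Z : Scheme.{u}} (i : Z ⟶ X) [IsClosedImmersion i] :
    (Coh.push i).Faithful where
  map_injective {M N f g} h := Scheme.Modules.hom_ext _ _ fun U => by
    obtain ⟨U', hU', e⟩ := i.isClosedEmbedding.isInducing.isOpen_iff.1 U.2
    obtain rfl : U = i ⁻¹ᵁ ⟨U', hU'⟩ := Opens.ext e.symm
    exact congrArg (fun z : (Coh.push i).obj M ⟶ (Coh.push i).obj N => z.app ⟨U', hU'⟩) h

variable {y} in
theorem killedByIdeal_of_mono {Z : Scheme.{u}} (i : Z ⟶ X) [QuasiCompact i] (G : Z.Modules) {I : X.Modules}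
    (a : I ⟶ (Coh.push i).obj G) [Mono a] : ClSub.KilledByIdeal i.ker I := fun U r hr m => by
  apply app_injective_of_mono a U.1
  rw [Scheme.Hom.ker_apply, RingHom.mem_ker] at hr
  refine ((a.app_smul r m).trans ?_).trans (map_zero (a.app U.1).hom).symm
  let w : Γ(G, i ⁻¹ᵁ U.1) := a.app U.1 m
  change i.app U.1 r • w = 0
  rw [hr, zero_smul]

variable [IsLocallyNoetherian X] {K : X.Modules → Prop} {y} {Z : Set X}

/-- Ideals of the closure of `y` give all modules with stalk `κ(y)`. -/
theorem oneK_of_ideals (hK : ExtClass K) (hsm : SmallerIn K y Z)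
    (hI : ∀ (I : (clI y).subscheme.Modules) (ι : I ⟶ Coh.structureModule (clI y).subscheme),
      Mono ι → Coh.IsQCoh I → ¬ IsZero I → K ((Coh.push (clI y).subschemeι).obj I)) :
    OneK K y Z := by
  rintro C hC hCZ ⟨e⟩
  have := hC.1
  let R := X.presheaf.stalk y
  let eC : (C.presheaf.stalk y) ≃ₗ[R] (R ⧸ IsLocalRing.maximalIdeal R) := e.toLinearEquiv
  have hsimple : IsSimpleModule R (C.presheaf.stalk y) :=
    have : IsSimpleModule R (R ⧸ IsLocalRing.maximalIdeal R) :=
      isSimpleModule_iff_quot_maximal.2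
        ⟨_, IsLocalRing.maximalIdeal.isMaximal R, ⟨LinearEquiv.refl R _⟩⟩
    IsSimpleModule.congr eC
  -- `y` is associated
  have hass : y ∈ AssSch.Ass C := by
    change IsLocalRing.maximalIdeal R ∈ associatedPrimes R (C.presheaf.stalk y)
    refine isAssociatedPrime_iff.2 ⟨(IsLocalRing.maximalIdeal.isMaximal R).isPrime,
      eC.symm (Submodule.Quotient.mk 1), ?_⟩
    ext r
    rw [Submodule.mem_colon_singleton, Submodule.mem_bot, ← map_smul, eC.symm.map_eq_zero_iff,
      ← Submodule.Quotient.mk_smul, Submodule.Quotient.mk_eq_zero, smul_eq_mul, mul_one]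
  obtain ⟨V, hyV, φ, hφ⟩ := exists_mono_of_mem_ass y C hC.1 hass
  let e' := Scheme.Modules.restrictFunctorIsoPullback V.ι
  let ψ : (clM y).restrict V.ι ⟶ C.restrict V.ι := (e'.app (clM y)).hom ≫ φ ≫ (e'.app C).inv
  have : Mono ψ := inferInstanceAs (Mono ((e'.app (clM y)).hom ≫ φ ≫ (e'.app C).inv))
  have : (Coh.push V.ι).IsRightAdjoint :=
    (Scheme.Modules.pullbackPushforwardAdjunction V.ι).isRightAdjoint
  let η := fun M : X.Modules => (Scheme.Modules.restrictAdjunction V.ι).unit.app M
  let u₁ : clM y ⟶ (Coh.push V.ι).obj (C.restrict V.ι) := η (clM y) ≫ (Coh.push V.ι).map ψ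
  let u₂ : C ⟶ (Coh.push V.ι).obj (C.restrict V.ι) := η C
  have : Mono u₁ := by
    have := mono_clM_restrictUnit y hyV
    exact mono_comp _ _
  let d := biprod.desc u₁ (-u₂)
  have hdec : d = biprod.fst ≫ u₁ - biprod.snd ≫ u₂ := by
    apply biprod.hom_ext' <;> simp [d]
  have hclM := isCoh_clM y
  have := hclM.1
  have hP : Coh.IsCoh (clM y ⊞ C) :=
    isCoh_X₂ (ShortComplex.Splitting.ofHasBinaryBiproduct (clM y) C).shortExact hclM hC
  have := hP.1
  have : Coh.IsQCoh ((Coh.push V.ι).obj (C.restrict V.ι)) := isQCoh_push V.ι _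
  have hG : Coh.IsCoh (kernel d) := isCoh_kernel d hP ‹_›
  let a : kernel d ⟶ clM y := kernel.ι d ≫ biprod.fst
  let b : kernel d ⟶ C := kernel.ι d ≫ biprod.snd
  have hab : a ≫ u₁ = b ≫ u₂ := by
    rw [← sub_eq_zero, Category.assoc, Category.assoc, ← Preadditive.comp_sub, ← hdec,
      kernel.condition]
  have hbmono : Mono b := Preadditive.mono_of_cancel_zero _ fun {P} t ht => by
    have h1 : t ≫ a = 0 := by
      rw [← cancel_mono u₁, Category.assoc, hab, ← Category.assoc, ht, zero_comp, zero_comp]
    rw [← cancel_mono (kernel.ι d), zero_comp]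
    apply biprod.hom_ext
    · rw [Category.assoc, zero_comp]; exact h1
    · rw [Category.assoc, zero_comp]; exact ht
  have hu₂ := bijective_stalk_restrictUnit C hyV
  have hTy := (ShortComplex.ShortExact.moduleCat_exact_iff_function_exact _).1
    ((ShortComplex.exact_kernel d).map (St y))
  have hainj : ∀ w, (St y).map a w = 0 → w = 0 := fun w hw => by
    apply (ModuleCat.mono_iff_injective ((St y).map b)).1 inferInstance
    rw [map_zero]
    apply hu₂.1
    rw [map_zero]
    refine (stalk_comp_apply b u₂ w).trans ?_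
    rw [← hab, ← stalk_comp_apply, hw, map_zero]
  -- the stalk of `kernel d` is nonzero
  obtain ⟨y', hy'⟩ : y ∈ Set.range (clI y).subschemeι := by
    rw [range_clι]; exact subset_closure rfl
  let one : (St y).obj (clM y) :=
    (clM y).presheaf.germ (⊤ : X.Opens) y trivial (clOne y ⊤)
  have hone : one ≠ 0 := fun h0 => by
    have h0' : (clM y).presheaf.germ (⊤ : X.Opens) y trivial (clOne y ⊤) =
        (clM y).presheaf.germ (⊤ : X.Opens) y trivial 0 := h0.trans (map_zero _).symm
    obtain ⟨W, hW, i₁, i₂, e₁⟩ := TopCat.Presheaf.germ_eq _ y (U := (⊤ : X.Opens)) (V := (⊤ : X.Opens)) trivial trivial _ _ h0'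
    rw [map_zero] at e₁
    let i := (clI y).subschemeι
    have e₂ : (clI y).subscheme.presheaf.map ((Opens.map i.base).map i₁).op
        (1 : Γ((clI y).subscheme, i ⁻¹ᵁ ⊤)) = 0 := e₁
    rw [map_one] at e₂
    have := congrArg ((clI y).subscheme.presheaf.germ (i ⁻¹ᵁ W) y'
      (show i y' ∈ W from hy'.symm ▸ hW)) e₂
    rw [map_one, map_zero] at this
    exact one_ne_zero this
  obtain ⟨c, hc⟩ := hu₂.2 ((St y).map u₁ one)
  let p : (St y).obj (clM y ⊞ C) := (St y).map biprod.inl one + (St y).map biprod.inr c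
  have hp : (St y).map d p = 0 := by
    simp only [p, map_add]
    rw [stalk_comp_apply, stalk_comp_apply, biprod.inl_desc, biprod.inr_desc]
    rw [(St y).map_neg]
    exact add_neg_eq_zero.2 hc.symm
  obtain ⟨w, hw⟩ := (hTy p).1 hp
  have haw : (St y).map a w = one := by
    refine (stalk_comp_apply (kernel.ι d) biprod.fst w).symm.trans ?_
    rw [show (St y).map (kernel.ι d) w = p from hw]
    simp only [p, map_add]
    rw [stalk_comp_apply, stalk_comp_apply]
    erw [biprod.inl_fst, biprod.inr_fst]
    rw [stalk_id_apply, stalk_zero_apply, add_zero]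
  have hbw : (St y).map b w ≠ 0 := fun h0 => by
    have := (ModuleCat.mono_iff_injective ((St y).map b)).1 inferInstance
      (h0.trans (map_zero _).symm)
    exact hone (haw.symm.trans (by rw [this, map_zero]))
  have hbsurj : Function.Surjective ((St y).map b) := fun z => by
    have hsimple' : IsSimpleModule R ((St y).obj C) := hsimple
    obtain ⟨r, rfl⟩ := IsSimpleModule.toSpanSingleton_surjective (R := R) hbw z
    exact ⟨r • w, map_smul _ r w⟩
  -- the cokernel is smaller
  have hQ : Coh.IsCoh (cokernel b) := isCoh_cokernel b hG.1 hC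
  have hKQ : K (cokernel b) := hsm _ hQ ((support_subset_of_epi (cokernel.π b)).trans hCZ)
    fun hy => hy (subsingleton_of_forall_eq 0 fun z => by
      obtain ⟨x, rfl⟩ := (ModuleCat.epi_iff_surjective ((St y).map (cokernel.π b))).1 inferInstance z
      obtain ⟨x, rfl⟩ := hbsurj x
      refine (stalk_comp_apply _ _ _).trans ?_
      rw [cokernel.condition]
      exact stalk_zero_apply _)
  have hGZ : CohB1.support (kernel d) ⊆ Z := (support_subset_of_mono b).trans hCZ
  -- the kernel and image of `a`
  have := hG.1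
  have hker : Coh.IsCoh (kernel a) := isCoh_kernel a hG hclM.1
  have hKker : K (kernel a) := hsm _ hker ((support_subset_of_mono (kernel.ι a)).trans hGZ)
    fun hy => hy (subsingleton_of_forall_eq 0 fun z => by
      apply (ModuleCat.mono_iff_injective ((St y).map (kernel.ι a))).1 inferInstance
      refine Eq.trans ?_ (map_zero ((St y).map (kernel.ι a)).hom).symm
      refine hainj _ ((stalk_comp_apply _ _ _).trans ?_)
      rw [kernel.condition]
      exact stalk_zero_apply _)
  have hIq : Coh.IsQCoh (Abelian.image a) := isQCoh_image a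
  have hIc : Coh.IsCoh (Abelian.image a) := isCoh_of_mono (Abelian.image.ι a) hclM hIq
  let i := (clI y).subschemeι
  let j : Abelian.image a ⟶ (Coh.push i).obj (Coh.structureModule _) := Abelian.image.ι a
  have hk := killedByIdeal_of_mono i _ j
  let I := (Scheme.Modules.pullback i).obj (Abelian.image a)
  let ι : I ⟶ Coh.structureModule _ :=
    ((Scheme.Modules.pullbackPushforwardAdjunction i).homEquiv _ _).symm j
  have hu : clUnit i (Abelian.image a) ≫ (Coh.push i).map ι = j := by
    rw [← Adjunction.homEquiv_unit, Equiv.apply_symm_apply]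
  have hιmono : Mono ι := by
    have := isIso_clUnit i hk
    have : Mono ((Coh.push i).map ι) := by
      rw [show (Coh.push i).map ι = inv (clUnit i (Abelian.image a)) ≫ j from
        (IsIso.eq_inv_comp _).2 hu]
      infer_instance
    exact (Coh.push i).mono_of_mono_map this
  have hne : ¬ IsZero I := fun h0 => by
    have h1 : IsZero (Abelian.image a) := ((Coh.push i).map_isZero h0).of_iso (clIso i hk)
    apply hone
    rw [← haw, ← Abelian.image.fac a, h1.eq_of_tgt (Abelian.factorThruImage a) 0, zero_comp]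
    exact stalk_zero_apply w
  have hKI : K (Abelian.image a) := hK.iso (clIso i hk).symm
    (hI I ι hιmono (EGA43.InjFibre.isQCoh_pullback i _) hne)
  have w0 : kernel.ι a ≫ Abelian.factorThruImage a = 0 := by
    rw [← cancel_mono (Abelian.image.ι a), Category.assoc, Abelian.image.fac, kernel.condition,
      zero_comp]
  have hKG : K (kernel d) :=
    hK.ext (ShortComplex.mk (kernel.ι a) (Abelian.factorThruImage a) w0)
      { mono_f := inferInstanceAs (Mono (kernel.ι a))
        epi_g := inferInstanceAs (Epi (Abelian.factorThruImage a))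
        exact := ShortComplex.exact_of_f_is_kernel _ (isKernelOfComp (f := Abelian.factorThruImage a)
          (Abelian.image.ι a) a (kernelIsKernel a) _ (Abelian.image.fac a)) }
      hker hG hIc hKker hKI
  exact hK.ext (ShortComplex.mk b (cokernel.π b) (cokernel.condition b))
    { exact := ShortComplex.exact_cokernel b } hG hC hQ hKG hKQ

omit [IsLocallyNoetherian X] in
/-- Dévissage by ideals of integral closed subschemes. -/
theorem mem_of_ideals [IsNoetherian X] (hK : ExtClass K) (X' : Set X)
    (hI : ∀ y : X, closure {y} ⊆ X' →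
      ∀ (I : (clI y).subscheme.Modules) (ι : I ⟶ Coh.structureModule (clI y).subscheme),
        Mono ι → Coh.IsQCoh I → ¬ IsZero I → K ((Coh.push (clI y).subschemeι).obj I))
    (F : X.Modules) (hF : Coh.IsCoh F) (hFX : CohB1.support F ⊆ X') : K F := by
  let S : Closeds X := ⟨CohB1.support F, isClosed_support F (locallyFinGen_of_isFT F hF.2)⟩
  refine mem_of_support hK X' (fun Z _ _ hZX y hy Z₀ _ hsm => ?_) S hFX F hF le_rfl
  exact oneK_of_ideals hK hsm (hI y (hy ▸ hZX))

end Groth.Agent.Coherent
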