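import Groth.Agent.Coherent.Affineness
import Groth.Agent.Coherent.HigherQcoh
import Groth.Prelude.Def_ega3
import Mathlib.AlgebraicGeometry.QuasiAffine

/-!
# Applications of Serre's criterion: extending ideals from opens, torsion cohomology,
affineness from acyclicity of the structure sheaf
-/

set_option autoImplicit false

universe u

open CategoryTheory CategoryTheory.Abelian CategoryTheory.Limits AlgebraicGeometry Opposite
  TopologicalSpace

namespace Groth.Agent.Coherent

variable {X : Scheme.{u}}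

section Basic

/-- Functoriality of cohomology in the module. -/
noncomputable def postHM {M N : X.Modules} (φ : M ⟶ N) (n : ℕ) (U : X.Opens) :
    Ext (freeSh (X := X.toTopCat) U) (Coh.toAb M) n →+
      Ext (freeSh (X := X.toTopCat) U) (Coh.toAb N) n :=
  postH (X := X.toTopCat) (F := Coh.toAb M) (G := Coh.toAb N) ((toAbFunctor X).map φ) n U

theorem postHM_comp {M N P : X.Modules} (φ : M ⟶ N) (ψ : N ⟶ P) (n : ℕ) (U : X.Opens)
    (x : Ext (freeSh (X := X.toTopCat) U) (Coh.toAb M) n) :
    postHM (φ ≫ ψ) n U x = postHM ψ n U (postHM φ n U x) :=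
  (congrArg (fun z => postH (X := X.toTopCat) (F := Coh.toAb M) (G := Coh.toAb P) z n U x)
    ((toAbFunctor X).map_comp φ ψ)).trans
    (postH_comp (X := X.toTopCat) (F := Coh.toAb M) (G := Coh.toAb N) (K := Coh.toAb P)
      ((toAbFunctor X).map φ) ((toAbFunctor X).map ψ) n U x)

theorem postHM_id (M : X.Modules) (n : ℕ) (U : X.Opens)
    (x : Ext (freeSh (X := X.toTopCat) U) (Coh.toAb M) n) : postHM (𝟙 M) n U x = x :=
  (congrArg (fun z => postH (X := X.toTopCat) (F := Coh.toAb M) (G := Coh.toAb M) z n U x)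
    ((toAbFunctor X).map_id M)).trans (postH_id (X := X.toTopCat) (F := Coh.toAb M) n U x)

theorem postHM_zero {M N : X.Modules} (n : ℕ) (U : X.Opens)
    (x : Ext (freeSh (X := X.toTopCat) U) (Coh.toAb M) n) :
    postHM (0 : M ⟶ N) n U x = 0 := by
  have h : (toAbFunctor X).map (0 : M ⟶ N) = 0 := (toAbFunctor X).map_zero _ _
  unfold postHM
  rw [h, postH_apply, Ext.mk₀_zero, Ext.comp_zero]

theorem postHM_add {M N : X.Modules} (φ ψ : M ⟶ N) (n : ℕ) (U : X.Opens)
    (x : Ext (freeSh (X := X.toTopCat) U) (Coh.toAb M) n) :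
    postHM (φ + ψ) n U x = postHM φ n U x + postHM ψ n U x := by
  have h : (toAbFunctor X).map (φ + ψ) = (toAbFunctor X).map φ + (toAbFunctor X).map ψ :=
    (toAbFunctor X).map_add
  unfold postHM
  rw [h, postH_apply, Ext.mk₀_add, Ext.comp_add]
  rfl

theorem subsingleton_H'_of_iso {M N : X.Modules} (e : M ≅ N) (n : ℕ) (U : X.Opens)
    (h : Subsingleton (Sheaf.H' (Coh.toAb M) n U)) : Subsingleton (Sheaf.H' (Coh.toAb N) n U) := by
  refine ⟨fun a b => ?_⟩
  suffices h' : ∀ x : Ext (freeSh (X := X.toTopCat) U) (Coh.toAb N) n, x = 0 from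
    (h' a).trans (h' b).symm
  intro x
  have := postHM_comp e.inv e.hom n U x
  rw [e.inv_hom_id, postHM_id] at this
  exact this.trans ((congrArg (postHM e.hom n U) (h.elim _ 0)).trans (map_zero _))

theorem subsingleton_H'_freeMod {I : Type u} [Fintype I] [DecidableEq I] (n : ℕ) (U : X.Opens)
    (h : Subsingleton (Sheaf.H' (Coh.toAb (Coh.structureModule X)) n U)) :
    Subsingleton (Sheaf.H' (Coh.toAb (freeMod X I)) n U) := by
  refine ⟨fun a b => ?_⟩
  suffices h' : ∀ x : Ext (freeSh (X := X.toTopCat) U) (Coh.toAb (freeMod X I)) n, x = 0 from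
    (h' a).trans (h' b).symm
  intro x
  have hid : (∑ i, freeProj i ≫ freeInj i) = 𝟙 (freeMod X I) := by
    refine freeMod_hom_ext fun j => ?_
    rw [Preadditive.comp_sum, Finset.sum_eq_single j]
    · rw [← Category.assoc, freeInj_freeProj, if_pos rfl]
      simp
    · intro i _ hij
      rw [← Category.assoc, freeInj_freeProj, if_neg hij.symm, zero_comp]
    · intro hj
      exact absurd (Finset.mem_univ j) hj
  have hterm : ∀ i : I, postHM (freeProj i ≫ freeInj i) n U x = 0 := fun i =>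
    (postHM_comp (freeProj i) (freeInj i) n U x).trans
      ((congrArg (postHM (freeInj i) n U) (h.elim _ 0)).trans (map_zero _))
  have hsum : ∀ s : Finset I, postHM (∑ i ∈ s, freeProj i ≫ freeInj i) n U x = 0 := fun s => by
    induction s using Finset.induction with
    | empty => rw [Finset.sum_empty]; exact postHM_zero n U x
    | insert a s ha ih => rw [Finset.sum_insert ha, postHM_add, hterm, ih, add_zero]
  have := hsum Finset.univ
  rw [hid, postHM_id] at this
  exact this

end Basic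

section OpenExtension

variable {U : Scheme.{u}} (j : U ⟶ X) [IsOpenImmersion j]

/-- A quasi-coherent ideal on a quasi-compact open extends. -/
theorem exists_extend_ideal [QuasiCompact j] (J : U.Modules) (i : J ⟶ Coh.structureModule U)
    [Mono i] [hJ : Coh.IsQCoh J] :
    ∃ (I : X.Modules) (ι : I ⟶ Coh.structureModule X),
      Mono ι ∧ Coh.IsQCoh I ∧ Nonempty (I.restrict j ≅ J) := by
  let adj := Scheme.Modules.restrictAdjunction j
  let π := cokernel.π i
  let e : (Scheme.Modules.restrictFunctor j).obj (Coh.structureModule X) ≅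
      Coh.structureModule U := Scheme.Modules.restrictUnitIso j
  let v := adj.homEquiv (Coh.structureModule X) (cokernel i) (e.hom ≫ π)
  have hO : Coh.IsQCoh (Coh.structureModule X) := isQCoh_structureModule (X := X)
  have hOU : Coh.IsQCoh (Coh.structureModule U) := isQCoh_structureModule (X := U)
  have hQ : Coh.IsQCoh (cokernel i) := isQCoh_cokernel i
  have hP : Coh.IsQCoh ((Scheme.Modules.pushforward j).obj (cokernel i)) :=
    isQCoh_push j (cokernel i)
  refine ⟨kernel v, kernel.ι v, inferInstance, isQCoh_kernel v, ⟨?_⟩⟩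
  have hv : (Scheme.Modules.restrictFunctor j).map v ≫ adj.counit.app (cokernel i) = e.hom ≫ π := by
    have := (adj.homEquiv _ _).symm_apply_apply (e.hom ≫ π)
    rwa [Adjunction.homEquiv_counit] at this
  exact PreservesKernel.iso (Scheme.Modules.restrictFunctor j) v ≪≫
    (kernelCompMono ((Scheme.Modules.restrictFunctor j).map v)
      (adj.counit.app (cokernel i))).symm ≪≫ kernelIsoOfEq hv ≪≫ kernelIsIsoComp e.hom π ≪≫
    (asIso (Abelian.factorThruImage i)).symm

end OpenExtension

section Torsion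

theorem smul_HH_eq (M : X.Modules) (p : ℕ) (r : Γ(X, ⊤))
    (y : Sheaf.H' (Coh.toAb M) p (⊤ : X.Opens)) :
    (r • ((HHTopEquiv M p).symm y) : Coh.HH X M p) =
      (HHTopEquiv M p).symm (postH (X := X.toTopCat) (smulEndAb M r) p (⊤ : X.Opens) y) :=
  (H'TopEquiv_naturality (X := X.toTopCat) (smulEndAb M r) p y).symm

theorem pow_smul_HH_eq (M : X.Modules) (p n : ℕ) (r : Γ(X, ⊤)) (y : Coh.HH X M p) :
    HHTopEquiv M p (r ^ n • y) =
      powH (X := X.toTopCat) (smulEndAb M r) n p (⊤ : X.Opens) (HHTopEquiv M p y) := by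
  obtain ⟨z, rfl⟩ := (HHTopEquiv M p).symm.surjective y
  refine ((congrArg (HHTopEquiv M p) (smul_HH_eq M p (r ^ n) z)).trans
    ((HHTopEquiv M p).apply_symm_apply _)).trans ?_
  refine Eq.trans ?_ (congrArg (powH (X := X.toTopCat) (smulEndAb M r) n p (⊤ : X.Opens))
    ((HHTopEquiv M p).apply_symm_apply z)).symm
  exact congrArg (fun φ : End (Coh.toAb M) => postH (X := X.toTopCat) φ p (⊤ : X.Opens) z)
    (smulEndAb_pow M r n).symm

/-- Powers of `f` act injectively on cohomology over `X_f`. -/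
theorem eq_zero_of_powH_basicOpen (M : X.Modules) (f : Γ(X, ⊤)) (p n : ℕ)
    (y : Ext (freeSh (X := X.toTopCat) (X.basicOpen f)) (Coh.toAb M) p)
    (h : powH (X := X.toTopCat) (smulEndAb M f) n p (X.basicOpen f) y = 0) : y = 0 := by
  refine (bijective_postH_of_le (X := X.toTopCat) (F := Coh.toAb M) (G := Coh.toAb M)
    (smulEndAb M f ^ n) (X.basicOpen f) (fun (V : X.Opens) hV => ?_) p).1 (h.trans (map_zero _).symm)
  rw [smulEndAb_pow]
  have hu := isUnit_res_pow f (le_top (a := V)) hV n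
  have hb : Function.Bijective fun m : Γ(M, V) => X.presheaf.map (homOfLE (le_top (a := V))).op (f ^ n) • m :=
    IsUnit.smul_bijective (α := Γ(X, V)) (β := Γ(M, V)) hu
  exact hb

/-- Positive degree classes die on an affine `X_f`, hence are `f`-power torsion. -/
theorem exists_pow_smul_eq_zero_of_isAffineOpen [CompactSpace X] [QuasiSeparatedSpace X]
    (f : Γ(X, ⊤)) (hf : IsAffineOpen (X.basicOpen f)) (M : X.Modules) [Coh.IsQCoh M] (p : ℕ)
    (hp : 0 < p) (ξ : Coh.HH X M p) : ∃ n : ℕ, f ^ n • ξ = 0 := by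
  have hloc := isLocRes_top M f p
  obtain ⟨n, hn⟩ := hloc.eq_zero (HHTopEquiv M p ξ)
    ((subsingleton_H'_qcoh_pos M hf hp).elim _ 0)
  refine ⟨n, (HHTopEquiv M p).injective ?_⟩
  rw [pow_smul_HH_eq, map_zero]
  exact hn

/-- If `H¹` of every ideal is `f`-power torsion then `X_f` is affine. -/
theorem isAffineOpen_basicOpen_of_torsion [CompactSpace X] [QuasiSeparatedSpace X] (f : Γ(X, ⊤))
    (hc : IsCompact (X.basicOpen f : Set X))
    (h : ∀ (J : X.Modules) (ι : J ⟶ Coh.structureModule X), Mono ι → Coh.IsQCoh J →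
        ∀ ζ : Coh.HH X J 1, ∃ n : ℕ, f ^ n • ζ = 0) :
    IsAffineOpen (X.basicOpen f) := by
  have : CompactSpace (X.basicOpen f : Scheme.{u}) := isCompact_iff_compactSpace.mp hc
  refine isAffine_of_H'_one (X := (X.basicOpen f : Scheme.{u})) fun J i hi hJ => ?_
  obtain ⟨I, ι, hι, hI, ⟨e⟩⟩ := exists_extend_ideal (X.basicOpen f).ι J i
  refine subsingleton_H'_of_iso e 1 ⊤ ?_
  suffices hsub : Subsingleton (Sheaf.H' (Coh.toAb I) 1 (X.basicOpen f)) from
    @Equiv.subsingleton _ _ (((H'ModRestrictEquiv (X.basicOpen f).ι I ⊤ 1).trans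
      (H'Congr (Coh.toAb I) 1 (by simp))).toEquiv) hsub
  have hloc := isLocRes_top I f 1
  suffices h' : ∀ y : Ext (freeSh (X := X.toTopCat) (X.basicOpen f)) (Coh.toAb I) 1, y = 0 from
    ⟨fun a b => (h' a).trans (h' b).symm⟩
  intro y
  obtain ⟨n, x, hx⟩ := hloc.surj y
  obtain ⟨m, hm⟩ := h I ι hι hI ((HHTopEquiv I 1).symm x)
  have hm' : powH (X := X.toTopCat) (smulEndAb I f) m 1 (⊤ : X.Opens) x = 0 := by
    have := (pow_smul_HH_eq I 1 m f ((HHTopEquiv I 1).symm x)).symm.trans
      ((congrArg (HHTopEquiv I 1) hm).trans (map_zero _))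
    exact ((congrArg (powH (X := X.toTopCat) (smulEndAb I f) m 1 (⊤ : X.Opens))
      ((HHTopEquiv I 1).apply_symm_apply x)).symm).trans this
  have h0 : powH (X := X.toTopCat) (smulEndAb I f) (m + n) 1 (X.basicOpen f) y = 0 := by
    rw [powH_add, ← hx, ← resH_powH, hm', map_zero]
  exact eq_zero_of_powH_basicOpen I f 1 (m + n) y h0

end Torsion

section Acyclic

variable {n : ℕ} (f : Fin n → Γ(X, ⊤))

theorem smulModΓ_app (M : X.Modules) (r : Γ(X, ⊤)) (V : X.Opens) (m : Γ(M, V)) :
    (Formal.smulModΓ M r).app V m = X.presheaf.map (homOfLE (le_top (a := V))).op r • m := rfl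

/-- A map with partial sections `S i` (inverse up to `f i`) is an epimorphism. -/
theorem epi_of_partial_sections (hcov : ∀ x : X, ∃ i, x ∈ X.basicOpen (f i)) {P Z : X.Modules}
    (p : P ⟶ Z) (S : Fin n → (Z ⟶ P)) (hS : ∀ i, S i ≫ p = Formal.smulModΓ Z (f i)) : Epi p := by
  refine epi_of_locally_surjective p fun W a y hy => ?_
  obtain ⟨i, hi⟩ := hcov y
  let W' : X.Opens := W ⊓ X.basicOpen (f i)
  have hu := isUnit_res_pow (f i) (le_top (a := W')) inf_le_right 1
  rw [pow_one] at hu
  obtain ⟨v, hv⟩ := hu.exists_right_inv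
  refine ⟨W', inf_le_left, ⟨hy, hi⟩, (S i).app W' (v • resM Z inf_le_left a), ?_⟩
  refine (congrArg (fun φ : Z ⟶ Z => φ.app W' (v • resM Z inf_le_left a)) (hS i)).trans ?_
  rw [smulModΓ_app, smul_smul, hv, one_smul]

/-- The kernel again has a presentation with partial sections. -/
theorem exists_partial_sections_kernel {I : Type u} {Z : X.Modules} (p : freeMod X I ⟶ Z)
    (S : Fin n → (Z ⟶ freeMod X I)) (hS : ∀ i, S i ≫ p = Formal.smulModΓ Z (f i)) :
    ∃ (p' : freeMod X (ULift.{u} (Fin n) × I) ⟶ kernel p)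
      (S' : Fin n → (kernel p ⟶ freeMod X (ULift.{u} (Fin n) × I))),
      ∀ i, S' i ≫ p' = Formal.smulModΓ (kernel p) (f i) := by
  let σ : Fin n → (freeMod X I ⟶ freeMod X I) := fun i =>
    Formal.smulModΓ (freeMod X I) (f i) - p ≫ S i
  have hσ : ∀ i, σ i ≫ p = 0 := fun i => by
    refine (Preadditive.sub_comp (C := X.Modules) _ _ _).trans (sub_eq_zero.2 ?_)
    exact (smulModΓ_comm (f i) p).symm.trans
      ((congrArg (p ≫ ·) (hS i)).symm.trans (Category.assoc _ _ _).symm)
  let p' : freeMod X (ULift.{u} (Fin n) × I) ⟶ kernel p := freeDesc fun ia =>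
    freeInj ia.2 ≫ kernel.lift p (σ ia.1.down) (hσ _)
  let incl : Fin n → (freeMod X I ⟶ freeMod X (ULift.{u} (Fin n) × I)) := fun i =>
    freeDesc fun a => freeInj (ULift.up i, a)
  refine ⟨p', fun i => kernel.ι p ≫ incl i, fun i => ?_⟩
  have h₁ : incl i ≫ p' = kernel.lift p (σ i) (hσ i) := by
    refine freeMod_hom_ext fun a => ?_
    rw [← Category.assoc, freeInj_freeDesc, freeInj_freeDesc]
  refine (cancel_mono (kernel.ι p)).1 ?_
  refine ((congrArg (· ≫ kernel.ι p)
    ((Category.assoc _ _ _).trans (congrArg (kernel.ι p ≫ ·) h₁))).trans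
    ((Category.assoc _ _ _).trans (congrArg (kernel.ι p ≫ ·) (kernel.lift_ι p _ _)))).trans ?_
  refine (Preadditive.comp_sub (C := X.Modules) _ _ _).trans ?_
  rw [kernel.condition_assoc, zero_comp, sub_zero]
  exact smulModΓ_comm (f i) (kernel.ι p)

/-- Cohomology vanishes for modules with a presentation by frees having partial sections, provided
the structure sheaf is acyclic. -/
theorem subsingleton_H'_of_partial_sections [CompactSpace X] [QuasiSeparatedSpace X]
    (hcov : ∀ x : X, ∃ i, x ∈ X.basicOpen (f i))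
    (hO : ∀ q : ℕ, 0 < q →
      Subsingleton (Sheaf.H' (Coh.toAb (Coh.structureModule X)) q (⊤ : X.Opens))) :
    ∀ (q : ℕ), 0 < q → ∀ (I : Type u) [Fintype I] [DecidableEq I] (Z : X.Modules)
      (p : freeMod X I ⟶ Z) (S : Fin n → (Z ⟶ freeMod X I)), Coh.IsQCoh Z →
      (∀ i, S i ≫ p = Formal.smulModΓ Z (f i)) →
      Subsingleton (Sheaf.H' (Coh.toAb Z) q (⊤ : X.Opens)) := by
  obtain ⟨t, ht⟩ := exists_bound_subsingleton_H'_top (X := X)
  suffices H : ∀ (d q : ℕ), 0 < q → t ≤ q + d → ∀ (I : Type u) [Fintype I] [DecidableEq I]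
      (Z : X.Modules) (p : freeMod X I ⟶ Z) (S : Fin n → (Z ⟶ freeMod X I)), Coh.IsQCoh Z →
      (∀ i, S i ≫ p = Formal.smulModΓ Z (f i)) →
      Subsingleton (Sheaf.H' (Coh.toAb Z) q (⊤ : X.Opens)) from fun q hq => H t q hq (by omega)
  intro d
  induction d with
  | zero => intro q hq hqt I _ _ Z p S hZ _; exact ht Z hZ q (by omega)
  | succ d ih =>
    intro q hq hqt I _ _ Z p S hZ hS
    have : Coh.IsQCoh (freeMod X I) := isQCoh_freeMod (X := X) (I := I)
    have hK : Coh.IsQCoh (kernel p) := isQCoh_kernel p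
    obtain ⟨p', S', hS'⟩ := exists_partial_sections_kernel f p S hS
    have hK1 := ih (q + 1) (by omega) (by omega) (ULift.{u} (Fin n) × I) (kernel p) p' S' hK hS'
    have hP := subsingleton_H'_freeMod (X := X) (I := I) q ⊤ (hO q hq)
    have : Epi p := epi_of_partial_sections f hcov p S hS
    let T : ShortComplex X.Modules := ShortComplex.mk (kernel.ι p) p (kernel.condition p)
    have hT : T.ShortExact := { exact := T.exact_of_f_is_kernel (kernelIsKernel p) }
    have hT' := toAb_shortExact hT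
    suffices h' : ∀ x : Ext (freeSh (X := X.toTopCat) (⊤ : X.Opens)) (Coh.toAb Z) q, x = 0 from
      ⟨fun a b => (h' a).trans (h' b).symm⟩
    intro x
    obtain ⟨y, hy⟩ := Ext.covariant_sequence_exact₃ (freeSh (X := X.toTopCat) (⊤ : X.Opens)) hT' x
      (rfl : q + 1 = q + 1) (hK1.elim _ _)
    have hy0 : y = 0 := hP.elim y 0
    rw [hy0, Ext.zero_comp] at hy
    exact hy.symm

/-- A quasi-compact quasi-separated scheme covered by finitely many affine `X_f` whose structure
sheaf is acyclic is affine. -/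
theorem isAffine_of_acyclic [CompactSpace X] [QuasiSeparatedSpace X]
    (haff : ∀ i, IsAffineOpen (X.basicOpen (f i)))
    (hcov : ∀ x : X, ∃ i, x ∈ X.basicOpen (f i))
    (hO : ∀ q : ℕ, 0 < q →
      Subsingleton (Sheaf.H' (Coh.toAb (Coh.structureModule X)) q (⊤ : X.Opens))) :
    IsAffine X := by
  classical
  let I := ULift.{u} (Fin n)
  let p : freeMod X I ⟶ Coh.structureModule X :=
    freeDesc fun i => unitDesc _ (f i.down)
  let S : Fin n → (Coh.structureModule X ⟶ freeMod X I) := fun i => freeInj (ULift.up i)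
  have hS : ∀ i, S i ≫ p = Formal.smulModΓ _ (f i) := by
    intro i
    rw [freeInj_freeDesc]
    refine Scheme.Modules.hom_ext _ _ fun V => ?_
    ext a
    refine (app_unit _ a).trans
      ((congrArg (fun z : Γ(Coh.structureModule X, V) => (show Γ(X, V) from a) • z)
        (unitVal_unitDesc _ _ V)).trans ?_)
    exact mul_comm (G := Γ(X, V)) _ _
  have hQO : Coh.IsQCoh (Coh.structureModule X) := isQCoh_structureModule (X := X)
  have hQP : Coh.IsQCoh (freeMod X I) := isQCoh_freeMod (X := X) (I := I)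
  have : Epi p := epi_of_partial_sections f hcov p S hS
  obtain ⟨p', S', hS'⟩ := exists_partial_sections_kernel f p S hS
  have hK1 := subsingleton_H'_of_partial_sections f hcov hO 1 one_pos (ULift.{u} (Fin n) × I)
    (kernel p) p' S' (isQCoh_kernel p) hS'
  let T : ShortComplex X.Modules := ShortComplex.mk (kernel.ι p) p (kernel.condition p)
  have hT : T.ShortExact := { exact := T.exact_of_f_is_kernel (kernelIsKernel p) }
  obtain ⟨a, ha⟩ := sections_top_surjective_of_subsingleton hT hK1 (1 : Γ(X, ⊤))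
  refine isAffine_of_isAffineOpen_basicOpen (Set.range f) ?_ (fun g hg => ?_)
  · have hsum : p.app ⊤ a = (∑ i, freeCoord ⊤ i a * f i.down : Γ(X, ⊤)) := by
      refine (freeMod_app p a).trans (Finset.sum_congr rfl fun i _ => ?_)
      rw [freeInj_freeDesc]
      refine (congrArg (freeCoord ⊤ i a • ·) (unitVal_unitDesc (Coh.structureModule X) _ ⊤)).trans ?_
      exact congrArg (freeCoord ⊤ i a * ·)
        (ConcreteCategory.congr_hom (X.presheaf.map_id (op ⊤)) (f i.down))
    rw [Ideal.eq_top_iff_one]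
    refine (hsum.symm.trans ha).symm ▸ ?_
    exact Ideal.sum_mem _ fun i _ => Ideal.mul_mem_left _ _ (Ideal.subset_span ⟨i.down, rfl⟩)
  · obtain ⟨i, rfl⟩ := hg
    exact haff i

/-- A quasi-affine scheme with acyclic structure sheaf is affine. -/
theorem isAffine_of_isQuasiAffine [X.IsQuasiAffine]
    (hO : ∀ q : ℕ, 0 < q →
      Subsingleton (Sheaf.H' (Coh.toAb (Coh.structureModule X)) q (⊤ : X.Opens))) :
    IsAffine X := by
  classical
  have hcov : ∀ x : X, ∃ g : Γ(X, ⊤), IsAffineOpen (X.basicOpen g) ∧ x ∈ X.basicOpen g := by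
    intro x
    obtain ⟨_, ⟨g, hg, rfl⟩, hx, -⟩ := Opens.isBasis_iff_nbhd.mp
      (Scheme.IsQuasiAffine.isBasis_basicOpen X) (Opens.mem_top x)
    exact ⟨g, hg, hx⟩
  choose g hg hxg using hcov
  obtain ⟨t, ht⟩ := isCompact_univ.elim_finite_subcover (fun x : X => (X.basicOpen (g x) : Set X))
    (fun x => (X.basicOpen (g x)).2) (fun x _ => Set.mem_iUnion.2 ⟨x, hxg x⟩)
  refine isAffine_of_acyclic (fun i => g (t.equivFin.symm i)) (fun i => hg _) (fun x => ?_) hO
  obtain ⟨y, hy, hxy⟩ := Set.mem_iUnion₂.1 (ht (Set.mem_univ x))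
  exact ⟨t.equivFin ⟨y, hy⟩, by simpa using hxy⟩

end Acyclic

end Groth.Agent.Coherent
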