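import Groth.Agent.Coherent.InternalHom
import Groth.Prelude.Def_DCoh4
import Mathlib.CategoryTheory.Adjunction.Unique

/-!
# The tensor-Hom adjunction for modules on a scheme
-/

set_option autoImplicit false
set_option backward.isDefEq.respectTransparency false

universe u

open CategoryTheory CategoryTheory.Limits AlgebraicGeometry Opposite TopologicalSpace
open Groth.Agent.Coherent Groth.Agent.PicLib Groth.Agent.AmpleLib

namespace Groth.Agent.Coherent

variable {X : Scheme.{u}}

/-- The bilinear map of a morphism out of a tensor product. -/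
noncomputable def bilinOfHom {F A N : X.Modules} (φ : CohB1.tensorMod F A ⟶ N) : Bilin F A N where
  app U a b := φ.app U (tmul a b)
  add_left U a a' b := by rw [tmul_add_left, map_add]
  add_right U a b b' := by rw [tmul_add_right, map_add]
  smul_left U r a b := by rw [tmul_smul_left, Scheme.Modules.Hom.app_smul]
  smul_right U r a b := by rw [tmul_smul_right, Scheme.Modules.Hom.app_smul]
  res U V h a b := by rw [← app_resM, resM_tmul]

/-- Evaluation, as a bilinear map. -/
noncomputable def evalBilin (F N : X.Modules) : Bilin F (internalHom F N) N := uncurry (𝟙 _)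

/-- Currying is bijective. -/
noncomputable def tensorHomEquiv (F A N : X.Modules) :
    ((tensE F).obj A ⟶ N) ≃ (A ⟶ internalHom F N) where
  toFun φ := curry (bilinOfHom φ)
  invFun ψ := (uncurry ψ).desc
  left_inv φ := AmpleLib.hom_ext fun U a b => by
    refine (Bilin.desc_tmul _ U a b).trans ?_
    show φ.app U (tmul a (resM A le_rfl b)) = φ.app U (tmul a b)
    rw [PicLib.resM_self]
  right_inv ψ := Scheme.Modules.hom_ext _ _ fun U => ConcreteCategory.hom_ext _ _ fun a =>
    locHom_ext (φ := secHom _) (ψ := secHom (ψ.app U a)) fun W hW x => by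
      show (uncurry ψ).desc.app W (tmul x (resM A hW a)) = ev (secHom (ψ.app U a)) W hW x
      rw [Bilin.desc_tmul]
      show ev (secHom (ψ.app W (resM A hW a))) W le_rfl x = _
      rw [app_resM]
      rfl

/-- Functoriality of the internal Hom in the target. -/
noncomputable def internalHomMap (F : X.Modules) {N N' : X.Modules} (g : N ⟶ N') :
    internalHom F N ⟶ internalHom F N' :=
  tensorHomEquiv F _ _ ((evalBilin F N).desc ≫ g)

theorem ev_internalHomMap (F : X.Modules) {N N' : X.Modules} (g : N ⟶ N') {U : X.Opens}
    (ψ : Γ(internalHom F N, U)) (W : X.Opens) (hW : W ≤ U) (x : Γ(F, W)) :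
    ev (secHom ((internalHomMap F g).app U ψ)) W hW x = g.app W (ev (secHom ψ) W hW x) := by
  show g.app W ((evalBilin F N).desc.app W (tmul x (resM (internalHom F N) hW ψ))) = _
  rw [Bilin.desc_tmul]
  rfl

/-- The internal Hom functor. -/
noncomputable def internalHomFunctor (F : X.Modules) : X.Modules ⥤ X.Modules where
  obj N := internalHom F N
  map g := internalHomMap F g
  map_id N := Scheme.Modules.hom_ext _ _ fun U => ConcreteCategory.hom_ext _ _ fun ψ =>
    locHom_ext (φ := secHom _) (ψ := secHom ψ) fun W hW x => ev_internalHomMap F (𝟙 N) ψ W hW x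
  map_comp g g' := Scheme.Modules.hom_ext _ _ fun U => ConcreteCategory.hom_ext _ _ fun ψ =>
    locHom_ext (φ := secHom _) (ψ := secHom _) fun W hW x => by
      rw [ev_internalHomMap F (g ≫ g') ψ W hW x]
      refine Eq.symm ?_
      refine (ev_internalHomMap F g' ((internalHomMap F g).app U ψ) W hW x).trans ?_
      rw [ev_internalHomMap]
      rfl

/-- The tensor-Hom adjunction. -/
noncomputable def tensorHomAdj (F : X.Modules) : tensE F ⊣ internalHomFunctor F :=
  Adjunction.mkOfHomEquiv
    { homEquiv := tensorHomEquiv F
      homEquiv_naturality_left_symm := fun {A A' N} g ψ => AmpleLib.hom_ext fun U x a => by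
        refine (Bilin.desc_tmul (uncurry (g ≫ ψ)) U x a).trans ?_
        show _ = ((uncurry ψ).desc.app U) ((tE F g).app U (tmul x a))
        rw [tensE_map_tmul, Bilin.desc_tmul]
        rfl
      homEquiv_naturality_right := fun {A N N'} φ g => Scheme.Modules.hom_ext _ _ fun U =>
        ConcreteCategory.hom_ext _ _ fun a => locHom_ext (φ := secHom _) (ψ := secHom _) fun W hW x => by
          refine Eq.symm ?_
          refine (ev_internalHomMap F g _ W hW x).trans ?_
          rfl }

instance isLeftAdjoint_tensE (F : X.Modules) : (tensE F).IsLeftAdjoint := (tensorHomAdj F).isLeftAdjoint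

/-- `DCoh.HasSheafHom` holds for every module. -/
theorem hasSheafHom (F : X.Modules) : DCoh.HasSheafHom F := isLeftAdjoint_tensE F

/-- The chosen sheaf Hom is the internal Hom. -/
noncomputable def sheafHomIso (F : X.Modules) [DCoh.HasSheafHom F] :
    DCoh.sheafHom F ≅ internalHomFunctor F :=
  (DCoh.sheafHomAdj F).rightAdjointUniq (tensorHomAdj F)

end Groth.Agent.Coherent
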