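import Groth.Agent.Coherent.TopCoh
import Groth.Prelude.Def_Coh
import Mathlib.Algebra.Category.ModuleCat.Presheaf.Colimits

/-!
# The forgetful functor from sheaves of modules to abelian sheaves is exact
-/

set_option autoImplicit false

universe v u v₁ u₁

open CategoryTheory CategoryTheory.Limits TopologicalSpace

namespace Groth.Agent.Coherent

section

variable {C : Type u₁} [Category.{v₁} C] {J : GrothendieckTopology C} {R : Sheaf J RingCat.{u}}
  [HasSheafify J AddCommGrpCat.{v}] [J.WEqualsLocallyBijective AddCommGrpCat.{v}]

instance epi_toSheaf_map {M N : SheafOfModules.{v} R} (g : M ⟶ N) [Epi g] :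
    Epi ((SheafOfModules.toSheaf.{v} R).map g) := by
  let L := PresheafOfModules.sheafification.{v} (𝟙 R.obj)
  let adj := PresheafOfModules.sheafificationAdjunction.{v} (𝟙 R.obj)
  let φ := (SheafOfModules.forget R ⋙ PresheafOfModules.restrictScalars (𝟙 R.obj)).map g
  have hnat : L.map φ ≫ adj.counit.app N = adj.counit.app M ≫ g := adj.counit.naturality g
  have : Epi (L.map φ) := by
    have : Epi (L.map φ ≫ adj.counit.app N) := by rw [hnat]; infer_instance
    have e : L.map φ = (L.map φ ≫ adj.counit.app N) ≫ inv (adj.counit.app N) :=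
      ((Category.assoc _ _ _).trans ((congrArg _ (IsIso.hom_inv_id (adj.counit.app N))).trans
        (Category.comp_id _))).symm
    rw [e]
    infer_instance
  have hm : L.map (Abelian.factorThruImage φ) ≫ L.map (Abelian.image.ι φ) = L.map φ := by
    rw [← Functor.map_comp, Abelian.image.fac]
  have : Epi (L.map (Abelian.factorThruImage φ) ≫ L.map (Abelian.image.ι φ)) := by
    rw [hm]; infer_instance
  have : Epi (L.map (Abelian.image.ι φ)) :=
    epi_of_epi (L.map (Abelian.factorThruImage φ)) _
  have : Mono (L.map (Abelian.image.ι φ)) := inferInstance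
  have : IsIso (L.map (Abelian.image.ι φ)) := isIso_of_mono_of_epi _
  have : Epi ((SheafOfModules.toSheaf.{v} R).map (L.map (Abelian.factorThruImage φ))) :=
    (presheafToSheaf J AddCommGrpCat.{v}).map_epi
      ((PresheafOfModules.toPresheaf R.obj).map (Abelian.factorThruImage φ))
  have : Epi ((SheafOfModules.toSheaf.{v} R).map (L.map φ)) := by
    rw [← hm, Functor.map_comp]; infer_instance
  have e : (SheafOfModules.toSheaf.{v} R).map (L.map φ) ≫
      (SheafOfModules.toSheaf.{v} R).map (adj.counit.app N) =
      (SheafOfModules.toSheaf.{v} R).map (adj.counit.app M) ≫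
        (SheafOfModules.toSheaf.{v} R).map g := by
    rw [← Functor.map_comp, ← Functor.map_comp, hnat]
  have : Epi ((SheafOfModules.toSheaf.{v} R).map (adj.counit.app M) ≫
      (SheafOfModules.toSheaf.{v} R).map g) := by
    rw [← e]; infer_instance
  exact epi_of_epi ((SheafOfModules.toSheaf.{v} R).map (adj.counit.app M)) _

instance toSheaf_preservesEpimorphisms :
    (SheafOfModules.toSheaf.{v} R).PreservesEpimorphisms where
  preserves g _ := epi_toSheaf_map g

end

open AlgebraicGeometry

/-- The underlying abelian sheaf, as a functor. -/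
noncomputable abbrev toAbFunctor (X : Scheme.{u}) :
    X.Modules ⥤ Sheaf (Opens.grothendieckTopology X) AddCommGrpCat.{u} where
  obj M := Coh.toAb M
  map f := (SheafOfModules.toSheaf X.ringCatSheaf).map f
  map_id M := (SheafOfModules.toSheaf X.ringCatSheaf).map_id M
  map_comp f g := (SheafOfModules.toSheaf X.ringCatSheaf).map_comp f g

instance (X : Scheme.{u}) : (toAbFunctor X).Additive where
  map_add := (SheafOfModules.toSheaf X.ringCatSheaf).map_add

instance (X : Scheme.{u}) : PreservesFiniteLimits (toAbFunctor X) :=
  inferInstanceAs (PreservesFiniteLimits (SheafOfModules.toSheaf.{u} X.ringCatSheaf))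

theorem epi_toAbFunctor_map {X : Scheme.{u}} {M N : X.Modules} (g : M ⟶ N) [h : Epi g] :
    Epi ((toAbFunctor X).map g) :=
  @epi_toSheaf_map _ _ _ X.ringCatSheaf _ _ M N g h

/-- A short exact sequence of modules is short exact on abelian sheaves. -/
theorem toAb_shortExact {X : Scheme.{u}} {S : ShortComplex X.Modules} (hS : S.ShortExact) :
    (S.map (toAbFunctor X)).ShortExact := by
  have hmono : Mono S.f := hS.mono_f
  have : Epi S.g := hS.epi_g
  have : Mono (S.map (toAbFunctor X)).f := (toAbFunctor X).map_mono S.f
  have : Epi (S.map (toAbFunctor X)).g := epi_toAbFunctor_map S.g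
  refine { exact := ?_ }
  exact hS.exact.map_of_mono_of_preservesKernel (toAbFunctor X) hmono inferInstance

end Groth.Agent.Coherent
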