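import Groth.Agent.Coherent.RpushSections
import Groth.Agent.Coherent.ModulesExact
import Groth.Agent.DCat.ModulesGrothendieck
import Mathlib.Algebra.Homology.DerivedCategory.Ext.Map
import Mathlib.Algebra.Category.ModuleCat.Presheaf.Generator

/-!
# Derived functors of sections on O-modules agree with cohomology of abelian sheaves
-/

set_option autoImplicit false

universe u

open CategoryTheory CategoryTheory.Abelian CategoryTheory.Limits AlgebraicGeometry Opposite
  TopologicalSpace

namespace Groth.Agent.Coherent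

variable {X Y : Scheme.{u}}

instance preservesFiniteColimits_toAbFunctor (X : Scheme.{u}) :
    PreservesFiniteColimits (toAbFunctor X) :=
  ((toAbFunctor X).preservesFiniteColimits_iff_forall_exact_map_and_epi).2
    fun _ hS => ⟨(toAb_shortExact hS).exact, (toAb_shortExact hS).epi_g⟩

/-- Recorded as a constant. -/
instance (priority := 10000) hasExtMod (X : Scheme.{u}) : HasExt.{u} X.Modules :=
  have : IsGrothendieckAbelian.{u} X.Modules := DCat.schemeModules_isGrothendieckAbelian X
  inferInstance

/-- `j_! O_U`, functorial in `U`. -/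
noncomputable def freeModOn (X : Scheme.{u}) : X.Opens ⥤ X.Modules :=
  yoneda ⋙ PresheafOfModules.free X.ringCatSheaf.obj ⋙
    PresheafOfModules.sheafification (𝟙 X.ringCatSheaf.obj)

/-- Maps out of `j_! O_U` are sections. -/
noncomputable def freeModOnEquiv (U : X.Opens) (M : X.Modules) :
    ((freeModOn X).obj U ⟶ M) ≃ Γ(M, U) :=
  ((PresheafOfModules.sheafificationAdjunction (𝟙 X.ringCatSheaf.obj)).homEquiv _ M).trans
    PresheafOfModules.freeYonedaEquiv

theorem freeModOnEquiv_comp (U : X.Opens) {M N : X.Modules} (φ : (freeModOn X).obj U ⟶ M)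
    (f : M ⟶ N) : freeModOnEquiv U N (φ ≫ f) = f.app U (freeModOnEquiv U M φ) := by
  change PresheafOfModules.freeYonedaEquiv
    ((PresheafOfModules.sheafificationAdjunction (𝟙 X.ringCatSheaf.obj)).homEquiv _ N (φ ≫ f)) = _
  refine (congrArg PresheafOfModules.freeYonedaEquiv
    ((PresheafOfModules.sheafificationAdjunction (𝟙 X.ringCatSheaf.obj)).homEquiv_naturality_right
      φ f)).trans ?_
  rfl

/-- The generator of `j_! O_U`. -/
noncomputable def genMod (U : X.Opens) : Γ((freeModOn X).obj U, U) :=
  freeModOnEquiv U _ (𝟙 _)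

theorem app_genMod (U : X.Opens) {M : X.Modules} (f : (freeModOn X).obj U ⟶ M) :
    f.app U (genMod U) = freeModOnEquiv U M f :=
  ((congrArg (freeModOnEquiv U M) (Category.id_comp f)).symm.trans
    (freeModOnEquiv_comp U (𝟙 _) f)).symm

theorem freeObj_map_freeMk {C : Type*} [Category C] {R : Cᵒᵖ ⥤ RingCat.{u}} (F : Cᵒᵖ ⥤ Type u)
    {V W : Cᵒᵖ} (j : V ⟶ W) (t : F.obj V) :
    (PresheafOfModules.freeObj (R := R) F).map j (ModuleCat.freeMk t) =
      ModuleCat.freeMk (F.map j t) :=
  ModuleCat.freeDesc_apply _ _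

theorem map_genMod {U V : X.Opens} (h : U ≤ V) :
    ((freeModOn X).map (homOfLE h)).app U (genMod U) =
      resM ((freeModOn X).obj V) h (genMod V) := by
  rw [app_genMod]
  change PresheafOfModules.freeYonedaEquiv
    ((PresheafOfModules.sheafificationAdjunction (𝟙 X.ringCatSheaf.obj)).homEquiv _ _
      ((PresheafOfModules.sheafification (𝟙 X.ringCatSheaf.obj)).map
        ((PresheafOfModules.free X.ringCatSheaf.obj).map (yoneda.map (homOfLE h))))) = _
  refine (congrArg (fun z => PresheafOfModules.freeYonedaEquiv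
    ((PresheafOfModules.sheafificationAdjunction (𝟙 X.ringCatSheaf.obj)).homEquiv _ _ z))
    (Category.comp_id _).symm).trans ?_
  refine (congrArg PresheafOfModules.freeYonedaEquiv
    ((PresheafOfModules.sheafificationAdjunction (𝟙 X.ringCatSheaf.obj)).homEquiv_naturality_left
      _ (𝟙 _))).trans ?_
  let g := (PresheafOfModules.sheafificationAdjunction (𝟙 X.ringCatSheaf.obj)).homEquiv
    ((PresheafOfModules.free X.ringCatSheaf.obj).obj (yoneda.obj V)) _ (𝟙 _)
  change g.app (op U) (((PresheafOfModules.free X.ringCatSheaf.obj).map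
    (yoneda.map (homOfLE h))).app (op U) (ModuleCat.freeMk (R := X.ringCatSheaf.obj.obj (op U)) (𝟙 U))) = _
  refine Eq.trans (congrArg (g.app (op U)) ?_)
    (PresheafOfModules.naturality_apply g (homOfLE h).op (ModuleCat.freeMk (R := X.ringCatSheaf.obj.obj (op V)) (𝟙 V)))
  refine (ModuleCat.free_map_apply (R := X.ringCatSheaf.obj.obj (op U)) _ _).trans ?_
  refine Eq.trans ?_ (freeObj_map_freeMk (R := X.ringCatSheaf.obj) (yoneda.obj V) (homOfLE h).op (𝟙 V)).symm
  rfl

/-- `ℤ_U ⟶ j_! O_U`. -/
noncomputable def freeUnit (U : X.Opens) :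
    freeSh (X := X.toTopCat) U ⟶ Coh.toAb ((freeModOn X).obj U) :=
  (freeShEquiv (X := X.toTopCat) U _).symm (genMod U)

theorem freeUnit_naturality {U V : X.Opens} (h : U ≤ V) :
    freeShMap (X := X.toTopCat) h ≫ freeUnit V =
      freeUnit U ≫ (toAbFunctor X).map ((freeModOn X).map (homOfLE h)) := by
  apply (freeShEquiv (X := X.toTopCat) U _).injective
  refine (freeShEquiv_map (X := X.toTopCat) h _ _).trans ?_
  refine Eq.trans ?_ (freeShEquiv_comp (X := X.toTopCat) U _ _).symm
  refine Eq.trans ?_ (congrArg (((toAbFunctor X).map _).hom.app (op U))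
    ((freeShEquiv (X := X.toTopCat) U _).apply_symm_apply (genMod U))).symm
  refine Eq.trans ?_ (map_genMod h).symm
  exact congrArg _ ((freeShEquiv (X := X.toTopCat) V _).apply_symm_apply (genMod V))

/-- Comparison of Ext of modules with cohomology. -/
noncomputable def extToH (U : X.Opens) (M : X.Modules) (n : ℕ) :
    Ext ((freeModOn X).obj U) M n →+ Ext (freeSh (X := X.toTopCat) U) (Coh.toAb M) n :=
  ((Ext.mk₀ (freeUnit U)).precomp (Coh.toAb M) (zero_add n)).comp
    ((toAbFunctor X).mapExtAddHom _ M n)

theorem extToH_apply (U : X.Opens) (M : X.Modules) (n : ℕ) (x : Ext ((freeModOn X).obj U) M n) :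
    extToH U M n x = (Ext.mk₀ (freeUnit U)).comp (x.mapExactFunctor (toAbFunctor X)) (zero_add n) :=
  rfl

theorem extToH_comp {U : X.Opens} {M N : X.Modules} {n m k : ℕ}
    (x : Ext ((freeModOn X).obj U) M n) (y : Ext M N m) (h : n + m = k) :
    extToH U N k (x.comp y h) =
      (extToH U M n x).comp (y.mapExactFunctor (toAbFunctor X)) h := by
  rw [extToH_apply, extToH_apply, Ext.mapExactFunctor_comp]
  exact (Ext.comp_assoc _ _ _ (zero_add n) h (by omega)).symm

theorem extToH_res {U V : X.Opens} (h : U ≤ V) (M : X.Modules) (n : ℕ)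
    (x : Ext ((freeModOn X).obj V) M n) :
    extToH U M n ((Ext.mk₀ ((freeModOn X).map (homOfLE h))).comp x (zero_add n)) =
      resH (X := X.toTopCat) (Coh.toAb M) n h (extToH V M n x) := by
  rw [extToH_apply, extToH_apply, Ext.mapExactFunctor_comp, Ext.mapExactFunctor_mk₀, resH_apply,
    Ext.mk₀_comp_mk₀_assoc, Ext.mk₀_comp_mk₀_assoc, freeUnit_naturality]

theorem bijective_extToH_zero (U : X.Opens) (M : X.Modules) :
    Function.Bijective (extToH U M 0) := by
  have key : ∀ f : (freeModOn X).obj U ⟶ M, extToH U M 0 (Ext.mk₀ f) =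
      Ext.mk₀ ((freeShEquiv (X := X.toTopCat) U (Coh.toAb M)).symm (freeModOnEquiv U M f)) := by
    intro f
    rw [extToH_apply, Ext.mapExactFunctor_mk₀, Ext.mk₀_comp_mk₀]
    refine congrArg Ext.mk₀ ((freeShEquiv (X := X.toTopCat) U (Coh.toAb M)).injective ?_)
    refine (freeShEquiv_comp (X := X.toTopCat) U _ _).trans ?_
    refine Eq.trans ?_ ((freeShEquiv (X := X.toTopCat) U _).apply_symm_apply _).symm
    exact (congrArg (((toAbFunctor X).map f).hom.app (op U))
      ((freeShEquiv (X := X.toTopCat) U _).apply_symm_apply (genMod U))).trans (app_genMod U f)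
  constructor
  · intro a b hab
    obtain ⟨f, rfl⟩ := (Ext.mk₀_bijective _ _).2 a
    obtain ⟨g, rfl⟩ := (Ext.mk₀_bijective _ _).2 b
    rw [key, key] at hab
    exact congrArg Ext.mk₀ ((freeModOnEquiv U M).injective
      ((freeShEquiv (X := X.toTopCat) U _).symm.injective ((Ext.mk₀_bijective _ _).1 hab)))
  · intro y
    obtain ⟨g, rfl⟩ := (Ext.mk₀_bijective _ _).2 y
    refine ⟨Ext.mk₀ ((freeModOnEquiv U M).symm (freeShEquiv (X := X.toTopCat) U _ g)), ?_⟩
    refine (key _).trans (congrArg Ext.mk₀ ?_)
    exact (congrArg (freeShEquiv (X := X.toTopCat) U _).symm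
      ((freeModOnEquiv U M).apply_symm_apply _)).trans
      ((freeShEquiv (X := X.toTopCat) U _).symm_apply_apply g)

/-- The underlying abelian sheaf of an injective module is flasque. -/
theorem isFlasque_toAb_of_injective (I : X.Modules) [Injective I] :
    TopCat.Sheaf.IsFlasque (X := X.toTopCat) (Coh.toAb I) where
  epi {U V} i := (AddCommGrpCat.epi_iff_surjective _).2 fun s => by
    have hle : V.unop ≤ U.unop := leOfHom i.unop
    have : Mono ((freeModOn X).map (homOfLE hle)) := mono_freeModOn_map hle
    obtain ⟨φ, rfl⟩ := (freeModOnEquiv V.unop I).surjective s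
    let ψ := Injective.factorThru φ ((freeModOn X).map (homOfLE hle))
    refine ⟨freeModOnEquiv U.unop I ψ, ?_⟩
    rw [← Injective.comp_factorThru φ ((freeModOn X).map (homOfLE hle))]
    refine Eq.trans ?_ (freeModOnEquiv_comp V.unop _ ψ).symm
    rw [← app_genMod, ← app_genMod, map_genMod]
    exact (app_resM ψ hle (genMod U.unop)).symm
where
  mono_freeModOn_map {U V : X.Opens} (h : U ≤ V) : Mono ((freeModOn X).map (homOfLE h)) := by
    have hf : ∀ W, Function.Injective ((yoneda.map (homOfLE h)).app W) := fun W a b _ =>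
      Subsingleton.elim (α := (W.unop ⟶ U)) a b
    have : Mono ((PresheafOfModules.free X.ringCatSheaf.obj).map (yoneda.map (homOfLE h))) :=
      PresheafOfModules.mono_of_injective fun W => Finsupp.mapDomain_injective (hf W)
    exact (PresheafOfModules.sheafification (𝟙 X.ringCatSheaf.obj)).map_mono _

theorem bijective_extToH (U : X.Opens) : ∀ (n : ℕ) (M : X.Modules),
    Function.Bijective (extToH U M n)
  | 0, M => bijective_extToH_zero U M
  | n + 1, M => by
    have : EnoughInjectives X.Modules :=
      have : IsGrothendieckAbelian.{u} X.Modules := DCat.schemeModules_isGrothendieckAbelian X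
      inferInstance
    let S := SiteCoh.injEmbed M
    have hS : S.ShortExact := SiteCoh.injEmbed_shortExact M
    have : Injective S.X₂ := inferInstanceAs (Injective (Injective.under M))
    have hS' := hS.map_of_exact (toAbFunctor X)
    have := isFlasque_toAb_of_injective S.X₂
    have hacyc : Subsingleton (Ext (freeSh (X := X.toTopCat) U) (Coh.toAb S.X₂) (n + 1)) :=
      subsingleton_H'_of_isFlasque (X := X.toTopCat) (Coh.toAb S.X₂) U n
    have e₁ := Ext.mapExactFunctor_extClass (toAbFunctor X) hS
    constructor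
    · rw [injective_iff_map_eq_zero]
      intro x hx
      obtain ⟨y, hy⟩ := Ext.covariant_sequence_exact₁ _ hS x (Ext.eq_zero_of_injective _) rfl
      rw [← hy, extToH_comp, e₁] at hx
      obtain ⟨w, hw⟩ := Ext.covariant_sequence_exact₃ _ hS' (extToH U S.X₃ n y) rfl hx
      obtain ⟨v, hv⟩ := (bijective_extToH U n S.X₂).2 w
      have : y = v.comp (Ext.mk₀ S.g) (add_zero n) := by
        apply (bijective_extToH U n S.X₃).1
        rw [extToH_comp, Ext.mapExactFunctor_mk₀, hv]
        exact hw.symm
      rw [← hy, this, Ext.comp_assoc_of_second_deg_zero, hS.comp_extClass, Ext.comp_zero]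
    · intro z
      obtain ⟨w, hw⟩ := Ext.covariant_sequence_exact₁ _ hS' z (@Subsingleton.elim _ hacyc _ _) rfl
      obtain ⟨y, rfl⟩ := (bijective_extToH U n S.X₃).2 w
      refine ⟨y.comp hS.extClass rfl, ?_⟩
      rw [extToH_comp, e₁]
      exact hw

/-- `Ext` of `j_! O_U` into `M` is the cohomology presheaf of `M`. -/
noncomputable def extGroupsIsoCohPsh (M : X.Modules) (n : ℕ) :
    (SiteCoh.extGroups (freeModOn X) n).obj M ≅ (Coh.toAb M).cohomologyPresheaf n :=
  NatIso.ofComponents
    (fun U => (AddEquiv.ofBijective (extToH U.unop M n)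
      (bijective_extToH U.unop n M)).toAddCommGrpIso)
    (fun {U V} i => AddCommGrpCat.hom_ext (AddMonoidHom.ext fun x => by
      change extToH V.unop M n
          ((Ext.mk₀ ((freeModOn X).map (homOfLE (leOfHom i.unop)))).comp x (zero_add n)) =
        resH (X := X.toTopCat) (Coh.toAb M) n (leOfHom i.unop) (extToH U.unop M n x)
      exact extToH_res (leOfHom i.unop) M n x))

/-- `freeModOnEquiv` as an additive equivalence. -/
noncomputable def secMod (U : X.Opens) (M : X.Modules) :
    ((freeModOn X).obj U ⟶ M) ≃+ (Coh.toAb M).obj.obj (op U) :=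
  AddEquiv.mk' (freeModOnEquiv U M) fun f g => by
    change freeModOnEquiv U M (f + g) = (freeModOnEquiv U M f + freeModOnEquiv U M g : Γ(M, U))
    rw [← app_genMod, ← app_genMod, ← app_genMod]
    rfl

theorem secMod_res {U V : X.Opens} (h : U ≤ V) (M : X.Modules)
    (f : (freeModOn X).obj V ⟶ M) :
    secMod U M ((freeModOn X).map (homOfLE h) ≫ f) =
      (Coh.toAb M).obj.map (homOfLE h).op (secMod V M f) := by
  change freeModOnEquiv U M _ = resM M h (freeModOnEquiv V M f)
  rw [freeModOnEquiv_comp, ← app_genMod, ← app_genMod V, map_genMod]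
  exact app_resM f _ _

theorem secMod_comp (U : X.Opens) {M N : X.Modules} (f : (freeModOn X).obj U ⟶ M) (g : M ⟶ N) :
    secMod U N (f ≫ g) = ((toAbFunctor X).map g).hom.app (op U) (secMod U M f) :=
  freeModOnEquiv_comp U f g

/-- Sections of the underlying abelian sheaf as `Hom` groups. -/
noncomputable def homGroupsIsoSectionsMod (X : Scheme.{u}) :
    SiteCoh.homGroups (freeModOn X) ≅
      toAbFunctor X ⋙ sheafToPresheaf (Opens.grothendieckTopology X) AddCommGrpCat.{u} :=
  NatIso.ofComponents
    (fun M => NatIso.ofComponents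
      (fun U => (secMod U.unop M).toAddCommGrpIso)
      (fun {U V} i => AddCommGrpCat.hom_ext (AddMonoidHom.ext fun f => by
        exact secMod_res (leOfHom i.unop) M f)))
    (fun {M N} g => NatTrans.ext (funext fun U => AddCommGrpCat.hom_ext
      (AddMonoidHom.ext fun f => by exact secMod_comp U.unop f g)))

theorem extToH_post (U : X.Opens) {M N : X.Modules} (g : M ⟶ N) (n : ℕ)
    (x : Ext ((freeModOn X).obj U) M n) :
    extToH U N n (x.comp (Ext.mk₀ g) (add_zero n)) =
      postH (X := X.toTopCat) ((toAbFunctor X).map g) n U (extToH U M n x) := by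
  rw [extToH_comp, Ext.mapExactFunctor_mk₀]
  rfl

/-- `extGroupsIsoCohPsh`, naturally in the module. -/
noncomputable def extGroupsNatIso (X : Scheme.{u}) (n : ℕ) :
    SiteCoh.extGroups (freeModOn X) n ≅
      toAbFunctor X ⋙ Sheaf.cohomologyPresheafFunctor (Opens.grothendieckTopology X) n :=
  NatIso.ofComponents (fun M => extGroupsIsoCohPsh M n) (fun {M N} g =>
    NatTrans.ext (funext fun U => AddCommGrpCat.hom_ext (AddMonoidHom.ext fun x =>
      extToH_post U.unop g n x)))

/-- `R^n f_*` of modules and of abelian sheaves agree, naturally in the module. -/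
noncomputable def toAbRpushNatIso (f : X ⟶ Y) [HasInjectiveResolutions X.Modules] (n : ℕ) :
    Coh.Rpush f n ⋙ toAbFunctor Y ≅ toAbFunctor X ⋙ Coh.RpushAb f n :=
  have : EnoughInjectives X.Modules :=
    have : IsGrothendieckAbelian.{u} X.Modules := DCat.schemeModules_isGrothendieckAbelian X
    inferInstance
  (SiteCoh.rightDerivedCompExactIso (Coh.push f) (toAbFunctor Y) n).symm ≪≫
    SiteCoh.rightDerivedCongr
      (show Coh.push f ⋙ toAbFunctor Y ≅ SiteCoh.homGroups (freeModOn X) ⋙
          ((Functor.whiskeringLeft _ _ AddCommGrpCat.{u}).obj (Opens.map f.base).op ⋙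
            presheafToSheaf (Opens.grothendieckTopology Y) AddCommGrpCat.{u}) from
        NatIso.ofComponents (fun _ => Iso.refl _) (fun _ =>
            (Category.comp_id _).trans (Category.id_comp _).symm) ≪≫
          Functor.isoWhiskerLeft (toAbFunctor X)
            (SiteCoh.pushIso (Opens.grothendieckTopology X) (Opens.grothendieckTopology Y)
              (Opens.map f.base)) ≪≫ (Functor.associator _ _ _).symm ≪≫
            Functor.isoWhiskerRight (homGroupsIsoSectionsMod X).symm _) n ≪≫
    SiteCoh.rightDerivedCompExactIso _ _ n ≪≫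
    Functor.isoWhiskerRight
      (SiteCoh.rightDerivedHomGroupsIso (freeModOn X) n ≪≫ extGroupsNatIso X n)
      ((Functor.whiskeringLeft _ _ AddCommGrpCat.{u}).obj (Opens.map f.base).op ⋙
        presheafToSheaf (Opens.grothendieckTopology Y) AddCommGrpCat.{u}) ≪≫
    Functor.associator _ _ _ ≪≫
    Functor.isoWhiskerLeft (toAbFunctor X)
      (SiteCoh.rpushTopIso (X := X.toTopCat) (Y := Y.toTopCat) f.base n).symm

/-- Higher direct images of modules and of the underlying abelian sheaves agree. -/
noncomputable def toAbRpushIso (f : X ⟶ Y) [HasInjectiveResolutions X.Modules] (M : X.Modules)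
    (n : ℕ) : Coh.toAb ((Coh.Rpush f n).obj M) ≅ (Coh.RpushAb f n).obj (Coh.toAb M) :=
  (toAbRpushNatIso f n).app M

end Groth.Agent.Coherent
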