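import Groth.Agent.Coherent.ConnectedFibre
import Groth.Agent.Coherent.FlatBaseChangeMain
import Groth.Agent.VarietyLib.GeomComponents

/-!
# Geometric connectedness of fibres when `f_* O_X = O_Y`

A finite separable extension of the residue field at `y` lifts to a finite free local algebra over
the local ring, so connectedness of closed fibres after flat base change gives geometric connectedness.
-/

set_option autoImplicit false
set_option backward.isDefEq.respectTransparency false

universe u

open CategoryTheory CategoryTheory.Limits AlgebraicGeometry TopologicalSpace Polynomial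

open scoped TensorProduct

namespace Groth.Agent.Coherent

/-- A finite separable extension of the residue field lifts to a finite free local algebra. -/
theorem exists_finite_free_lift (A L : Type u) [CommRing A] [IsLocalRing A] [Field L]
    [Algebra (IsLocalRing.ResidueField A) L] [FiniteDimensional (IsLocalRing.ResidueField A) L]
    [Algebra.IsSeparable (IsLocalRing.ResidueField A) L] :
    ∃ (B : Type u) (_ : CommRing B) (_ : IsLocalRing B) (_ : Algebra A B) (_ : Module.Finite A B)
      (_ : Module.Free A B) (π : B →+* L), Function.Surjective π ∧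
        π.comp (algebraMap A B) =
          (algebraMap (IsLocalRing.ResidueField A) L).comp (IsLocalRing.residue A) := by
  classical
  let k := IsLocalRing.ResidueField A
  obtain ⟨α, hα⟩ := Field.exists_primitive_element k L
  have hint : _root_.IsIntegral k α := Algebra.IsIntegral.isIntegral α
  obtain ⟨g, hg, -, hgm⟩ := lifts_and_natDegree_eq_and_monic
    (f := IsLocalRing.residue A) (p := minpoly k α)
    (map_surjective _ IsLocalRing.residue_surjective _)
    (minpoly.monic hint)
  let i : A →+* L := (algebraMap k L).comp (IsLocalRing.residue A)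
  have hroot : g.eval₂ i α = 0 := by
    show g.eval₂ ((algebraMap k L).comp _) α = 0
    rw [← eval₂_map, hg]
    exact minpoly.aeval k α
  let π : AdjoinRoot g →+* L := AdjoinRoot.lift i α hroot
  have hπ : Function.Surjective π := fun x => by
    have hx : x ∈ (IntermediateField.adjoin k {α}).toSubalgebra := by rw [hα]; trivial
    rw [IntermediateField.adjoin_simple_toSubalgebra_of_isAlgebraic hint.isAlgebraic,
      Algebra.adjoin_singleton_eq_range_aeval] at hx
    obtain ⟨p, hp⟩ := hx
    obtain ⟨q, rfl⟩ := map_surjective (IsLocalRing.residue A) IsLocalRing.residue_surjective p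
    refine ⟨AdjoinRoot.mk g q, ?_⟩
    show AdjoinRoot.lift i α hroot (AdjoinRoot.mk g q) = x
    rw [AdjoinRoot.lift_mk]
    show q.eval₂ ((algebraMap k L).comp _) α = x
    rw [← eval₂_map]
    exact hp
  have : Module.Finite A (AdjoinRoot g) := hgm.finite_adjoinRoot
  have : Module.Free A (AdjoinRoot g) := hgm.free_adjoinRoot
  have : Nontrivial (AdjoinRoot g) := π.domain_nontrivial
  have hker : RingHom.ker π ≤
      (IsLocalRing.maximalIdeal A).map (algebraMap A (AdjoinRoot g)) := by
    intro x hx
    obtain ⟨q, rfl⟩ := AdjoinRoot.mk_surjective (g := g) x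
    have hx' : q.eval₂ i α = 0 := (AdjoinRoot.lift_mk hroot q).symm.trans hx
    have hdvd : minpoly k α ∣ q.map (IsLocalRing.residue A) := by
      refine minpoly.dvd k α ?_
      rw [aeval_def, eval₂_map]
      exact hx'
    obtain ⟨r, hr⟩ := hdvd
    obtain ⟨r', rfl⟩ := map_surjective (IsLocalRing.residue A) IsLocalRing.residue_surjective r
    have hmem : q - g * r' ∈ (IsLocalRing.maximalIdeal A).map (C : A →+* A[X]) := by
      rw [Ideal.mem_map_C_iff]
      intro n
      rw [← IsLocalRing.residue_eq_zero_iff, ← coeff_map, Polynomial.map_sub, Polynomial.map_mul,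
        hg, hr, sub_self, coeff_zero]
    have h2 := Ideal.mem_map_of_mem (AdjoinRoot.mk g) hmem
    rw [Ideal.map_map, map_sub, map_mul, AdjoinRoot.mk_self, zero_mul, sub_zero] at h2
    exact h2
  have hmax : (RingHom.ker π).IsMaximal := RingHom.ker_isMaximal_of_surjective π hπ
  have hloc : IsLocalRing (AdjoinRoot g) := by
    refine IsLocalRing.of_unique_max_ideal ⟨RingHom.ker π, hmax, fun M hM => ?_⟩
    have h1 : M.comap (algebraMap A (AdjoinRoot g)) = IsLocalRing.maximalIdeal A :=
      IsLocalRing.eq_maximalIdeal (Ideal.isMaximal_comap_of_isIntegral_of_isMaximal M)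
    exact (hmax.eq_of_le hM.ne_top
      (hker.trans (Ideal.map_le_iff_le_comap.mpr h1.ge))).symm
  refine ⟨AdjoinRoot g, inferInstance, hloc, inferInstance, inferInstance, inferInstance, π, hπ,
    RingHom.ext fun a => ?_⟩
  exact AdjoinRoot.lift_of hroot

/-- Cyclicity of `H^0(O)` is preserved by flat base change. -/
theorem exists_cyclic_HH_zero_baseChange {A B : Type u} [CommRing A] [CommRing B] [Algebra A B]
    [Module.Flat A B] {X X' : Scheme.{u}} [X.Over (Spec (CommRingCat.of A))]
    [X'.Over (Spec (CommRingCat.of B))] [CompactSpace X] [QuasiSeparatedSpace X] (g : X' ⟶ X)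
    (h : IsPullback g (X' ↘ Spec (CommRingCat.of B)) (X ↘ Spec (CommRingCat.of A))
      (Spec.map (CommRingCat.ofHom (algebraMap A B))))
    (hcyc : ∃ v : Coh.HH X (Coh.structureModule X) 0, ∀ x, ∃ a : A, a • v = x) :
    ∃ v : Coh.HH X' (Coh.structureModule X') 0, ∀ x, ∃ b : B, b • v = x := by
  have : Coh.IsQCoh (Coh.structureModule X) := isQCoh_structureModule
  obtain ⟨e⟩ := nonempty_flat_base_change (A := A) (B := B) g (M := Coh.structureModule X) h 0
  obtain ⟨i⟩ := AmpleLib.exists_pullStructureIso g (X := X)
  obtain ⟨v, hv⟩ := hcyc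
  let E := e.trans (HHCongr B i 0)
  refine ⟨E (1 ⊗ₜ v), fun x => ?_⟩
  obtain ⟨t, rfl⟩ := E.surjective x
  suffices ∃ b : B, t = b ⊗ₜ v by
    obtain ⟨b, rfl⟩ := this
    exact ⟨b, by rw [← map_smul, TensorProduct.smul_tmul', smul_eq_mul, mul_one]⟩
  induction t using TensorProduct.induction_on with
  | zero => exact ⟨0, (TensorProduct.zero_tmul _ _).symm⟩
  | add s t hs ht =>
    obtain ⟨b, rfl⟩ := hs
    obtain ⟨c, rfl⟩ := ht
    exact ⟨b + c, (TensorProduct.add_tmul _ _ _).symm⟩
  | tmul c w =>
    obtain ⟨a, rfl⟩ := hv w
    exact ⟨a • c, (TensorProduct.smul_tmul a c v).symm⟩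

variable {X Y : Scheme.{u}} (f : X ⟶ Y) [IsProper f] [IsLocallyNoetherian Y]

/-- Fibres stay connected after finite separable extensions of the residue field. -/
theorem connectedSpace_pullback_fiber_of_finite_separable (hiso : ∀ V : Y.Opens, IsIso (f.app V))
    (y : Y) (L : Type u) [Field L] [Algebra (Y.residueField y) L]
    [FiniteDimensional (Y.residueField y) L] [Algebra.IsSeparable (Y.residueField y) L] :
    ConnectedSpace ↥(pullback (f.fiberToSpecResidueField y)
      (VarietyLib.sK (Y.residueField y) L)) := by
  let A := Y.presheaf.stalk y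
  let _ : Algebra (IsLocalRing.ResidueField A) L := ‹Algebra (Y.residueField y) L›
  have : FiniteDimensional (IsLocalRing.ResidueField A) L :=
    ‹FiniteDimensional (Y.residueField y) L›
  have : Algebra.IsSeparable (IsLocalRing.ResidueField A) L :=
    ‹Algebra.IsSeparable (Y.residueField y) L›
  obtain ⟨B, _, _, _, _, _, π, hπ, hcomp⟩ := exists_finite_free_lift A L
  have : IsNoetherianRing B := IsNoetherianRing.of_finite A B
  let sB : Spec (CommRingCat.of B) ⟶ Spec A := Spec.map (CommRingCat.ofHom (algebraMap A B))
  let ι : Spec (CommRingCat.of L) ⟶ Spec (CommRingCat.of B) := Spec.map (CommRingCat.ofHom π)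
  have : IsClosedImmersion ι := IsClosedImmersion.spec_of_surjective _ hπ
  let p₁ := pullback.snd f (Y.fromSpecStalk y)
  let _ : (pullback f (Y.fromSpecStalk y)).Over (Spec (CommRingCat.of A)) := ⟨p₁⟩
  let _ : (pullback p₁ sB).Over (Spec (CommRingCat.of B)) := ⟨pullback.snd p₁ sB⟩
  have hP := IsPullback.of_hasPullback f (Y.fromSpecStalk y)
  have : IsProper p₁ := isProper_of_stalk f y _ hP
  have hp₂ : IsProper (pullback.snd p₁ sB) := MorphismProperty.pullback_snd _ _ inferInstance
  have : IsProper (pullback p₁ sB ↘ Spec (CommRingCat.of B)) := hp₂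
  have : CompactSpace ↥(pullback f (Y.fromSpecStalk y)) :=
    QuasiCompact.compactSpace_of_compactSpace p₁
  have : QuasiSeparatedSpace ↥(pullback f (Y.fromSpecStalk y)) :=
    quasiSeparatedSpace_of_quasiSeparated p₁
  have hcyc := exists_cyclic_HH_zero_baseChange (A := A) (B := B) (pullback.fst p₁ sB)
    (IsPullback.of_hasPullback p₁ sB) (exists_cyclic_HH_zero f hiso y _ _ hP)
  have hZ := isPreconnected_closedFibre (A := B) (X := pullback p₁ sB) hcyc
  let jB := pullback.fst (pullback.snd p₁ sB) ι
  have hrange : Set.range jB = pullback.snd p₁ sB ⁻¹'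
      PrimeSpectrum.zeroLocus (IsLocalRing.maximalIdeal B : Set B) := by
    rw [Scheme.Pullback.range_fst]
    congr 1
    have hk : RingHom.ker π = IsLocalRing.maximalIdeal B :=
      IsLocalRing.eq_maximalIdeal (RingHom.ker_isMaximal_of_surjective π hπ)
    rw [← hk]
    exact range_comap_of_surjective _ π hπ
  have : PreconnectedSpace ↥(pullback (pullback.snd p₁ sB) ι) := by
    refine ⟨?_⟩
    rw [← jB.isEmbedding.isInducing.isPreconnected_image, Set.image_univ, hrange]
    exact hZ
  have heq : VarietyLib.sK (Y.residueField y) L ≫ Y.fromSpecResidueField y =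
      ι ≫ sB ≫ Y.fromSpecStalk y := by
    rw [Scheme.fromSpecResidueField, ← Category.assoc, ← Category.assoc, ← Spec.map_comp,
      ← Spec.map_comp]
    congr 2
    exact CommRingCat.hom_ext hcomp.symm
  let e : pullback (pullback.snd p₁ sB) ι ≅ pullback (f.fiberToSpecResidueField y)
      (VarietyLib.sK (Y.residueField y) L) :=
    pullbackLeftPullbackSndIso p₁ sB ι ≪≫
      pullbackLeftPullbackSndIso f (Y.fromSpecStalk y) (ι ≫ sB) ≪≫
      pullback.congrHom rfl ((Category.assoc ι sB _).trans heq.symm) ≪≫
      (pullbackLeftPullbackSndIso f (Y.fromSpecResidueField y)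
        (VarietyLib.sK (Y.residueField y) L)).symm
  have : Nonempty ↥(pullback (f.fiberToSpecResidueField y)
      (VarietyLib.sK (Y.residueField y) L)) := by
    have := connectedSpace_fiber_of_isIso_app f hiso y
    obtain ⟨z⟩ := this.toNonempty
    obtain ⟨w, -⟩ := VarietyLib.surjective_fst (Y.residueField y) (f.fiberToSpecResidueField y)
      (L := L) z
    exact ⟨w⟩
  have : PreconnectedSpace ↥(pullback (f.fiberToSpecResidueField y)
      (VarietyLib.sK (Y.residueField y) L)) := by
    refine ⟨?_⟩
    rw [← Set.image_univ_of_surjective e.hom.surjective]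
    exact isPreconnected_univ.image _ e.hom.continuous.continuousOn
  exact @ConnectedSpace.mk _ _ ‹_› ‹_›

/-- Zariski's connectedness theorem, geometric form. -/
theorem geometricallyConnected_fiber_of_isIso_app (hiso : ∀ V : Y.Opens, IsIso (f.app V)) (y : Y) :
    GeometricallyConnected (f.fiberToSpecResidueField y) :=
  VarietyLib.geometricallyConnected_of_finite_separable (Y.residueField y)
    (f.fiberToSpecResidueField y) fun L _ _ _ _ =>
      connectedSpace_pullback_fiber_of_finite_separable f hiso y L

theorem geometricallyConnected_of_isIso_app (hiso : ∀ V : Y.Opens, IsIso (f.app V)) :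
    GeometricallyConnected f :=
  (GeometricallyConnected.iff_geometricallyConnected_fiber f).mpr
    (geometricallyConnected_fiber_of_isIso_app f hiso)

end Groth.Agent.Coherent

namespace Groth.Agent.Coherent

variable {X Y : Scheme.{u}} (f : X ⟶ Y) [IsProper f] [IsLocallyNoetherian Y]

/-- A fibre over a point with a neighbourhood on which `f_* O_X = O_Y` is geometrically connected. -/
theorem geometricallyConnected_fiber_of_isIso_app_nhd (U : Y.Opens) (y : Y) (hy : y ∈ U)
    (hU : ∀ V : Y.Opens, V ≤ U → IsIso (f.app V)) :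
    GeometricallyConnected (f.fiberToSpecResidueField y) := by
  have : IsLocallyNoetherian (U : Scheme.{u}) := isLocallyNoetherian_of_isOpenImmersion U.ι
  have hiso : ∀ V : (U : Scheme.{u}).Opens, IsIso ((f ∣_ U).app V) := fun V => by
    rw [morphismRestrict_app]
    have := hU (U.ι ''ᵁ V) (by rintro _ ⟨x, -, rfl⟩; exact x.2)
    infer_instance
  have := geometricallyConnected_of_isIso_app (f ∣_ U) hiso
  have hr : Set.range (Y.fromSpecResidueField y) ⊆ Set.range U.ι := by
    rw [Scheme.range_fromSpecResidueField, Scheme.Opens.range_ι]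
    exact Set.singleton_subset_iff.mpr hy
  let j := IsOpenImmersion.lift U.ι (Y.fromSpecResidueField y) hr
  have hj : j ≫ U.ι = Y.fromSpecResidueField y := IsOpenImmersion.lift_fac _ _ hr
  have hpb : IsPullback (pullback.snd (f ∣_ U) j) (pullback.fst (f ∣_ U) j ≫ (f ⁻¹ᵁ U).ι)
      (Y.fromSpecResidueField y) f := by
    have h1 := (IsPullback.of_hasPullback (f ∣_ U) j).paste_horiz
      (isPullback_morphismRestrict f U).flip
    rw [hj] at h1
    exact h1.flip
  have hgc : GeometricallyConnected (pullback.snd (f ∣_ U) j) := inferInstance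
  have hfib : IsPullback (f.fiberToSpecResidueField y) (f.fiberι y)
      (Y.fromSpecResidueField y) f := (IsPullback.of_hasPullback _ _).flip
  let e := hfib.isoIsPullback _ _ hpb
  have he : e.hom ≫ pullback.snd (f ∣_ U) j = f.fiberToSpecResidueField y :=
    hfib.isoIsPullback_hom_fst _ _ hpb
  rw [← he]
  exact (MorphismProperty.cancel_left_of_respectsIso @GeometricallyConnected e.hom _).mpr hgc

end Groth.Agent.Coherent
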