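import Groth.Agent.Coherent.InternalHom
import Groth.Agent.DCat.PullPerf
import Mathlib.CategoryTheory.Abelian.RightDerived

/-!
# The projection formula for a finite locally free module
-/

set_option autoImplicit false
set_option backward.isDefEq.respectTransparency false

universe u

open CategoryTheory CategoryTheory.Limits AlgebraicGeometry Opposite TopologicalSpace
open Groth.Agent.Coherent Groth.Agent.PicLib Groth.Agent.AmpleLib

namespace Groth.Agent.Coherent

variable {X Y : Scheme.{u}} (f : X ⟶ Y) (E : Y.Modules)

/-- The pullback of `E`. -/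
noncomputable abbrev pullE : X.Modules := (Scheme.Modules.pullback f).obj E

/-- The projection map, as a bilinear map. -/
noncomputable def projBilin (N : X.Modules) :
    Bilin E ((Scheme.Modules.pushforward f).obj N)
      ((Scheme.Modules.pushforward f).obj (CohB1.tensorMod (pullE f E) N)) where
  app U a n := (show Γ(CohB1.tensorMod (pullE f E) N, f ⁻¹ᵁ U) from
    tmul (pullSec f a) (show Γ(N, f ⁻¹ᵁ U) from n))
  add_left U a a' n := by
    show tmul (pullSec f (a + a')) (show Γ(N, f ⁻¹ᵁ U) from n) =
      tmul (pullSec f a) (show Γ(N, f ⁻¹ᵁ U) from n) + tmul (pullSec f a') (show Γ(N, f ⁻¹ᵁ U) from n)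
    rw [show pullSec f (a + a') = pullSec f a + pullSec f a' from map_add _ _ _, tmul_add_left]
  add_right U a n n' := tmul_add_right (pullSec f a) _ _
  smul_left U r a n := by
    show tmul (pullSec f (r • a)) (show Γ(N, f ⁻¹ᵁ U) from n) =
      f.app U r • tmul (pullSec f a) (show Γ(N, f ⁻¹ᵁ U) from n)
    rw [pullSec_smul, tmul_smul_left]
  smul_right U r a n := by
    show tmul (pullSec f a) (f.app U r • (show Γ(N, f ⁻¹ᵁ U) from n)) =
      f.app U r • tmul (pullSec f a) (show Γ(N, f ⁻¹ᵁ U) from n)
    rw [tmul_smul_right]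
  res U V h a n := by
    show resM _ ((Opens.map f.base).map (homOfLE h)).le
      (tmul (pullSec f a) (show Γ(N, f ⁻¹ᵁ U) from n)) = _
    rw [resM_tmul, resM_pullSec f h]
    rfl

/-- The projection map `E ⊗ f_* N → f_* (f^* E ⊗ N)`. -/
noncomputable def projHom (N : X.Modules) :
    CohB1.tensorMod E ((Scheme.Modules.pushforward f).obj N) ⟶
      (Scheme.Modules.pushforward f).obj (CohB1.tensorMod (pullE f E) N) :=
  (projBilin f E N).desc

variable {f E} in
theorem projHom_tmul {N : X.Modules} (U : Y.Opens) (a : Γ(E, U))
    (n : Γ((Scheme.Modules.pushforward f).obj N, U)) :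
    (projHom f E N).app U (tmul a n) = (projBilin f E N).app U a n :=
  Bilin.desc_tmul _ U a n

/-- The projection map is natural. -/
noncomputable def projNat :
    Scheme.Modules.pushforward f ⋙ tensE E ⟶ tensE (pullE f E) ⋙ Scheme.Modules.pushforward f where
  app N := projHom f E N
  naturality {M N} φ := AmpleLib.hom_ext fun U a n => by
    show (projHom f E N).app U ((tE E ((Scheme.Modules.pushforward f).map φ)).app U (tmul a n)) =
      ((Scheme.Modules.pushforward f).map (tE (pullE f E) φ)).app U ((projHom f E M).app U (tmul a n))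
    rw [tensE_map_tmul, projHom_tmul, projHom_tmul]
    exact (tensE_map_tmul (pullE f E) φ (f ⁻¹ᵁ U) (pullSec f a) n).symm

variable {f E} (hE : FlatMod.IsFinLocFree E)
include hE

theorem isIso_projHom (N : X.Modules) : IsIso (projHom f E N) := by
  refine TwistLib.G.isIso_of_bijective_on_basis _
    (fun B => ∃ (n : ℕ) (e : ULift.{u} (Fin n) → Γ(E, B)), IsBasisOn E B e) (fun V y hy => ?_) ?_
  · obtain ⟨U, n, e, hyU, hUV, he⟩ := exists_basis_nhd hE y V hy
    exact ⟨U, ⟨n, e, he⟩, hyU, hUV⟩
  · rintro B ⟨n, e, he⟩
    have h1 := bijective_sum_tmul he ((Scheme.Modules.pushforward f).obj N) B le_rfl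
    have h2 := bijective_sum_tmul (IsBasisOn.pull f he) N (f ⁻¹ᵁ B) le_rfl
    refine (Function.Bijective.of_comp_iff _ h1).1 ?_
    refine (congrArg Function.Bijective (funext fun m => ?_)).mpr h2
    refine (map_sum ((projHom f E N).app B).hom _ Finset.univ).trans ?_
    refine Finset.sum_congr rfl fun i _ => ?_
    refine (projHom_tmul B (resM E le_rfl (e i)) (m i)).trans ?_
    show tmul (pullSec f (resM E le_rfl (e i))) _ = _
    rw [← resM_pullSec f le_rfl]

/-- The projection formula for modules. -/
noncomputable def projIso :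
    Scheme.Modules.pushforward f ⋙ tensE E ≅ tensE (pullE f E) ⋙ Scheme.Modules.pushforward f :=
  have : ∀ N, IsIso ((projNat f E).app N) := fun N => isIso_projHom hE N
  have := NatIso.isIso_of_isIso_app (projNat f E)
  asIso (projNat f E)

set_option backward.defeqAttrib.useBackward true in
/-- The projection formula for higher direct images. -/
theorem nonempty_projection_formula [HasInjectiveResolutions X.Modules] (F : X.Modules) (q : ℕ) :
    Nonempty (CohB1.tensorMod E ((Coh.Rpush f q).obj F) ≅
      (Coh.Rpush f q).obj (CohB1.tensorMod ((Scheme.Modules.pullback f).obj E) F)) := by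
  let G := Scheme.Modules.pushforward f
  let P := pullE f E
  have hP : FlatMod.IsFinLocFree P := DCat.PullPerf.isFinLocFree_pullback f hE
  have := preservesFiniteLimits_tensE hE
  have := preservesFiniteColimits_tensE hE
  have := preservesFiniteLimits_tensE hP
  have := preservesFiniteColimits_tensE hP
  let I := injectiveResolution F
  let J : InjectiveResolution ((tensE P).obj F) :=
    { cocomplex := ((tensE P).mapHomologicalComplex (ComplexShape.up ℕ)).obj I.cocomplex
      injective := fun n => injective_tensE hP (I.cocomplex.X n)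
      ι := (HomologicalComplex.singleMapHomologicalComplex (tensE P) (ComplexShape.up ℕ) 0).inv.app F ≫
        ((tensE P).mapHomologicalComplex (ComplexShape.up ℕ)).map I.ι }
  let K := (G.mapHomologicalComplex (ComplexShape.up ℕ)).obj I.cocomplex
  let e₁ : (Coh.Rpush f q).obj ((tensE P).obj F) ≅
      (((tensE P ⋙ G).mapHomologicalComplex (ComplexShape.up ℕ)).obj I.cocomplex).homology q :=
    J.isoRightDerivedObj G q
  let e₂ := HomologicalComplex.homologyMapIso
    (((NatIso.mapHomologicalComplex (projIso (f := f) hE) (ComplexShape.up ℕ)).app I.cocomplex)) q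
  let e₃ : (((G ⋙ tensE E).mapHomologicalComplex (ComplexShape.up ℕ)).obj I.cocomplex).homology q ≅
      (tensE E).obj (K.homology q) := (K.sc q).mapHomologyIso (tensE E)
  exact ⟨(tensE E).mapIso (I.isoRightDerivedObj G q) ≪≫ e₃.symm ≪≫ e₂ ≪≫ e₁.symm⟩

end Groth.Agent.Coherent
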