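import Groth.Agent.Coherent.ProjSpaceFlat
import Groth.Agent.Coherent.ProjSpaceCoh
import Groth.Agent.Coherent.ProjSpaceFinite
import Groth.Agent.Coherent.CohBC.FlatHomology
import Groth.Agent.Coherent.CohBC.Fibre
import Groth.Agent.Coherent.CohBC.Geom
import Groth.Agent.Coherent.CohBC.HomSheaf
import Groth.Agent.PnEmb.Segre
import Groth.Agent.PicLib.FiniteSetTriv
import Groth.Agent.AmpleLib.Ample

/-!
# Cohomology of `O(d)` after base change from the integers
-/

set_option autoImplicit false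
set_option backward.isDefEq.respectTransparency false

universe u

open CategoryTheory CategoryTheory.Limits AlgebraicGeometry Opposite TopologicalSpace TensorProduct
open Groth.Agent.Coherent Groth.Agent.Coherent.CohBC

namespace Groth.Agent.Coherent

variable (n : ℕ) (d : ℤ) (Z : Type u) [CommRing Z]

theorem isInvertible_twistProjSpaceZ :
    PicF.IsInvertible (Twist.twistProjSpace n (Z) d) :=
  TwistLib.G.isInvertible_twist (𝒜 := CohB1.polyGrading n (Z))
    (UPLib.exists_degOne (UPLib.adjoin_one_eq_top (UPLib.linForm_mem (R := Z) n)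
      (UPLib.isSymmetricAlgebra_linForm n))) d


theorem isFinLocFree_of_invertible {X : Scheme.{u}} {L : X.Modules} (hL : PicF.IsInvertible L) :
    FlatMod.IsFinLocFree L := fun x => by
  obtain ⟨U, hU, ⟨e⟩⟩ := hL x
  exact ⟨U, 1, hU, ⟨e ≪≫ (PicLib.freeModOneIso _).symm⟩⟩

theorem isFlatOver_twistProjSpaceZ :
    FlatMod.IsFlatOver (CohB1.ProjSpace n (Z) ↘ Spec (CommRingCat.of (Z)))
      (Twist.twistProjSpace n (Z) d) :=
  haveI : Flat (CohB1.ProjSpace n (Z) ↘ Spec (CommRingCat.of (Z))) :=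
    flat_toSpec n (Z)
  CohBC.isFlatOver_of_isFinLocFree _ (isFinLocFree_of_invertible (isInvertible_twistProjSpaceZ n d Z))


theorem flat_homogeneous {σ : Type} (R : Type u) [CommRing R] (k : ℕ) :
    Module.Flat R (MvPolynomial.homogeneousSubmodule σ R k) := by
  obtain ⟨e⟩ := nonempty_equiv_homogeneous R k (Equiv.refl {μ : σ →₀ ℕ // μ.degree = k})
  exact Module.Flat.of_linearEquiv e.symm

theorem flat_HH_twist (R : Type u) [CommRing R] (q : ℕ) :
    Module.Flat R (Coh.HH (CohB1.ProjSpace n R) (Twist.twistProjSpace n R d) q) := by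
  by_cases h₀ : q = 0 ∧ 0 ≤ d
  · obtain ⟨rfl, hd⟩ := h₀
    obtain ⟨k, rfl⟩ : ∃ k : ℕ, d = k := ⟨d.toNat, (Int.toNat_of_nonneg hd).symm⟩
    obtain ⟨e⟩ := nonempty_HH_zero_twist (n := n) R k
    have := flat_homogeneous (σ := Fin (n + 1)) R k
    exact Module.Flat.of_linearEquiv e
  by_cases hn : q = n ∧ d ≤ -((n : ℤ) + 1)
  · obtain ⟨rfl, hd⟩ := hn
    obtain ⟨k, rfl⟩ : ∃ k : ℕ, d = -((q : ℤ) + 1 + k) := ⟨(-d - q - 1).toNat, by omega⟩
    obtain ⟨e⟩ := nonempty_HH_top_twist (n := q) R k
    have := flat_homogeneous (σ := Fin (q + 1)) R k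
    exact Module.Flat.of_linearEquiv e
  have := subsingleton_HH_twist (R := R) (d := d) q h₀ hn
  infer_instance

/-- Outside the two exceptional cases `O(d)` is acyclic after any base change. -/
theorem subsingleton_HH_twist_bc {A : Type u} [CommRing A] (φ : Z →+* A) {P : Scheme.{u}}
    [P.Over (Spec (CommRingCat.of A))] {g : P ⟶ CohB1.ProjSpace n (Z)}
    (h : IsPullback g (P ↘ Spec (CommRingCat.of A))
      (CohB1.ProjSpace n (Z) ↘ Spec (CommRingCat.of (Z)))
      (Spec.map (CommRingCat.ofHom φ)))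
    (q : ℕ) (h₀ : ¬ (q = 0 ∧ 0 ≤ d)) (hn : ¬ (q = n ∧ d ≤ -((n : ℤ) + 1))) :
    Subsingleton (Coh.HH P ((Scheme.Modules.pullback g).obj (Twist.twistProjSpace n (Z) d)) q) := by
  let X := CohB1.ProjSpace n Z
  have : IsProper (X ↘ Spec (CommRingCat.of Z)) := isProper_projSpace_toSpec n Z
  let F : X.Modules := Twist.twistProjSpace n Z d
  have hFq : Coh.IsQCoh F := AmpleLib.isQCoh_of_isInvertible (isInvertible_twistProjSpaceZ n d Z)
  obtain ⟨ι, _, W, hcov, hW⟩ := exists_affine_cover Z X
  have hfl := flat_cxA W F (isFlatOver_twistProjSpaceZ n d Z) hW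
  have hH : ∀ m, Module.Flat Z ((cxA Z W F).homology m) := fun m => by
    have := flat_HH_twist n d Z m
    exact Module.Flat.of_linearEquiv (hhCech Z W hcov hW F m).symm
  obtain ⟨e⟩ := nonempty_homology_tensor_nat (cxA Z W F) hfl (Nat.card ι)
    (fun m hm M => isZero_T_cxA W F hW hcov m hm M) hH q
    ((ModuleCat.restrictScalars φ).obj (ModuleCat.of A A))
  have : Subsingleton ((cxA Z W F).homology q) := by
    have := subsingleton_HH_twist (R := Z) (d := d) q h₀ hn
    exact (hhCech Z W hcov hW F q).symm.toEquiv.subsingleton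
  have hT : Subsingleton (CohIII.T (cxA Z W F) q ((ModuleCat.restrictScalars φ).obj (ModuleCat.of A A))) :=
    e.symm.toEquiv.subsingleton
  have hbc : Subsingleton ((CohIII.bcCx φ (cxA Z W F)).homology q) :=
    ((bcHomologyIso φ (cxA Z W F) q).toLinearEquiv.symm.toEquiv).subsingleton
  let W' := fun i => g ⁻¹ᵁ W i
  have hgaff : IsAffineHom g := MorphismProperty.of_isPullback (P := @IsAffineHom) h.flip inferInstance
  have hW' : ∀ (p : ℕ) (a : Fin (p + 1) → ι), IsAffineOpen (cinter W' a) :=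
    fun p a => by rw [cinter_pull]; exact (hW p a).preimage g
  have hcov' : ⨆ i, W' i = ⊤ := by
    rw [← Scheme.Hom.preimage_iSup, hcov, Scheme.Hom.preimage_top]
  have : Coh.IsQCoh ((Scheme.Modules.pullback g).obj F) := EGA43.InjFibre.isQCoh_pullback g F
  have : Subsingleton ((cxA A W' ((Scheme.Modules.pullback g).obj F)).homology q) :=
    (HomologicalComplex.homologyMapIso (cxBCIso φ g h W hW F) q).toLinearEquiv.symm.toEquiv.subsingleton
  exact (hhCech A W' hcov' hW' ((Scheme.Modules.pullback g).obj F) q).toEquiv.subsingleton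

end Groth.Agent.Coherent
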