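import Groth.Agent.AmpleLib.Twist
import Groth.Agent.PicLib.BasisOn

/-!
# Sections of a tensor product with a finite locally free module
-/

set_option autoImplicit false
set_option backward.isDefEq.respectTransparency.types false

universe u

open CategoryTheory CategoryTheory.Limits AlgebraicGeometry Opposite TopologicalSpace
open Groth.Agent.Coherent Groth.Agent.PicLib Groth.Agent.AmpleLib

namespace Groth.Agent.Coherent

variable {X : Scheme.{u}} {E : X.Modules} {U : X.Opens} {I : Type u} [Fintype I] {e : I → Γ(E, U)}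

theorem sum_tmul_left {M : X.Modules} {V : X.Opens} {ι : Type*} (s : Finset ι) (a : ι → Γ(E, V))
    (b : Γ(M, V)) : tmul (∑ i ∈ s, a i) b = ∑ i ∈ s, tmul (a i) b := by
  induction s using Finset.cons_induction with
  | empty => simp [tmul_zero_left]
  | cons j s hj ih => rw [Finset.sum_cons, Finset.sum_cons, tmul_add_left, ih]

theorem tmul_zero_right {M : X.Modules} {V : X.Opens} (a : Γ(E, V)) : tmul a (0 : Γ(M, V)) = 0 := by
  have := tmul_add_right a (0 : Γ(M, V)) 0
  simpa using this

/-- Over an open with a basis, a section of the tensor product is uniquely `∑ e_i ⊗ m_i`. -/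
theorem bijective_sum_tmul (hb : IsBasisOn E U e) (M : X.Modules) (V : X.Opens) (h : V ≤ U) :
    Function.Bijective fun m : I → Γ(M, V) => ∑ i, tmul (resM E h (e i)) (m i) := by
  classical
  let N' := (Scheme.Modules.pushforward U.ι).obj (M.restrict U.ι)
  have hU : ∀ W : X.Opens, U.ι ''ᵁ (U.ι ⁻¹ᵁ W) ≤ U := fun W =>
    (U.ι.image_mono le_top).trans (Scheme.Opens.ι_image_top U).le
  have hW : ∀ W : X.Opens, U.ι ''ᵁ (U.ι ⁻¹ᵁ W) ≤ W := fun W => Set.image_preimage_subset _ _
  let c : I → ∀ W : X.Opens, Γ(E, W) → Γ(M, W) → Γ(M, U.ι ''ᵁ (U.ι ⁻¹ᵁ W)) := fun k W x m =>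
    hb.coef (hU W) (resM E (hW W) x) k • resM M (hW W) m
  have hsc : ∀ (W : X.Opens) (r : Γ(X, W)),
      (U.ι.appIso (U.ι ⁻¹ᵁ W)).inv (U.ι.app W r) = X.presheaf.map (homOfLE (hW W)).op r := fun W r => by
    rw [← CategoryTheory.comp_apply (U.ι.app W), Scheme.Hom.app_appIso_inv]
    rfl
  let f : I → Bilin E M N' := fun k =>
    { app := fun W x m => (show Γ(N', W) from c k W x m)
      add_left := fun W x x' m => by
        show c k W (x + x') m = c k W x m + c k W x' m
        simp only [c, map_add, hb.coef_add, Pi.add_apply, add_smul]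
      add_right := fun W x m m' => by
        show c k W x (m + m') = c k W x m + c k W x m'
        simp only [c, map_add, smul_add]
      smul_left := fun W r x m => by
        show c k W (r • x) m = (U.ι.appIso (U.ι ⁻¹ᵁ W)).inv (U.ι.app W r) • c k W x m
        rw [hsc]
        simp only [c, resM_smul, hb.coef_smul, ← mul_smul]
      smul_right := fun W r x m => by
        show c k W x (r • m) = (U.ι.appIso (U.ι ⁻¹ᵁ W)).inv (U.ι.app W r) • c k W x m
        rw [hsc]
        simp only [c, resM_smul, ← mul_smul]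
        rw [mul_comm]
      res := fun W W' hWW' x m => by
        have hle : U.ι ''ᵁ (U.ι ⁻¹ᵁ W') ≤ U.ι ''ᵁ (U.ι ⁻¹ᵁ W) := U.ι.image_mono fun z hz => hWW' hz
        show resM M hle (c k W x m) = c k W' (resM E hWW' x) (resM M hWW' m)
        simp only [c, resM_smul, resM_resM]
        rw [← congrFun (hb.coef_res (hU W) hle _) k, resM_resM] }
  have hinj : ∀ (V : X.Opens) (h : V ≤ U),
      Function.Injective fun m : I → Γ(M, V) => ∑ i, tmul (resM E h (e i)) (m i) := by
    intro V h m m' heq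
    funext k
    have key : ∀ n : I → Γ(M, V),
        (show Γ(M, U.ι ''ᵁ (U.ι ⁻¹ᵁ V)) from (f k).desc.app V (∑ i, tmul (resM E h (e i)) (n i))) =
          resM M (hW V) (n k) := fun n => by
      refine (map_sum ((f k).desc.app V).hom _ _).trans ?_
      refine (Finset.sum_congr rfl fun i _ =>
        (Bilin.desc_tmul (f k) V (resM E h (e i)) (n i))).trans ?_
      show ∑ i, c k V (resM E h (e i)) (n i) = _
      simp only [c, resM_resM, hb.coef_self, ite_smul, one_smul, zero_smul, Finset.sum_ite_eq,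
        Finset.mem_univ, if_true]
    have e1 : resM M (hW V) (m k) = resM M (hW V) (m' k) :=
      ((key m).symm.trans (congrArg (fun z => (f k).desc.app V z) heq)).trans (key m')
    have e2 := congrArg (resM M (show V ≤ U.ι ''ᵁ (U.ι ⁻¹ᵁ V) from fun x hx => ⟨⟨x, h hx⟩, hx, rfl⟩)) e1
    rwa [resM_resM, resM_resM, resM_self, resM_self] at e2
  suffices hP : ∀ (V : X.Opens) (z : Γ(CohB1.tensorMod E M, V)), ∀ h : V ≤ U,
      ∃ m : I → Γ(M, V), ∑ i, tmul (resM E h (e i)) (m i) = z from ⟨hinj V h, fun z => hP V z h⟩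
  refine induction_local (fun V z z' hz hz' h => ?_) (fun V h => ⟨0, by simp [tmul_zero_right]⟩)
    (fun V z hz h => ?_) fun V a b h => ⟨fun i => hb.coef h a i • b, ?_⟩
  · obtain ⟨m, rfl⟩ := hz h
    obtain ⟨m', rfl⟩ := hz' h
    exact ⟨m + m', by simp [tmul_add_right, Finset.sum_add_distrib]⟩
  · have hz' : ∀ y : V, ∃ (W : X.Opens) (hW : W ≤ V), y.1 ∈ W ∧
        ∃ m : I → Γ(M, W), ∑ i, tmul (resM E (hW.trans h) (e i)) (m i) = resM _ hW z := fun y => by
      obtain ⟨W, hW, hy, h'⟩ := hz y.1 y.2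
      exact ⟨W, hW, hy, h' (hW.trans h)⟩
    choose W hWle hyW m hm using hz'
    have hcov : V ≤ ⨆ y : V, W y := fun y hy => Opens.mem_iSup.2 ⟨⟨y, hy⟩, hyW ⟨y, hy⟩⟩
    have hcomp : ∀ (i j : V), (fun k => resM M (inf_le_left : W i ⊓ W j ≤ W i) (m i k)) =
        fun k => resM M (inf_le_right : W i ⊓ W j ≤ W j) (m j k) := fun i j => by
      refine hinj (W i ⊓ W j) ((inf_le_left.trans (hWle i)).trans h) ?_
      have hl := congrArg (resM _ (inf_le_left : W i ⊓ W j ≤ W i)) (hm i)
      have hr' := congrArg (resM _ (inf_le_right : W i ⊓ W j ≤ W j)) (hm j)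
      simp only [map_sum, resM_tmul, resM_resM] at hl hr'
      exact hl.trans hr'.symm
    have hglue : ∀ k : I, ∃ ρ : Γ(M, V), ∀ y, resM M (hWle y) ρ = m y k := fun k =>
      (TopCat.Sheaf.existsUnique_gluing' (⟨M.presheaf, M.isSheaf⟩ : TopCat.Sheaf Ab X)
        W V (fun y => homOfLE (hWle y)) hcov (fun y => m y k)
        (fun i j => congrFun (hcomp i j) k)).exists
    choose ρ hρ using hglue
    refine ⟨ρ, sec_ext _ _ _ fun y hy => ⟨W ⟨y, hy⟩, hWle _, hyW ⟨y, hy⟩, ?_⟩⟩
    simp only [map_sum, resM_tmul, resM_resM, hρ]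
    exact hm ⟨y, hy⟩
  · simp only [tmul_smul_right, ← tmul_smul_left]
    rw [← sum_tmul_left, hb.coef_spec]

end Groth.Agent.Coherent
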