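import Groth.Agent.Coherent.RelFin
import Groth.Agent.Props12.KerReduced
import Mathlib.AlgebraicGeometry.Morphisms.Immersion
import Mathlib.AlgebraicGeometry.Morphisms.FiniteType

/-!
# A weak form of Chow's lemma
-/

set_option autoImplicit false

universe u

open CategoryTheory CategoryTheory.Limits AlgebraicGeometry Opposite TopologicalSpace
  HomogeneousLocalization

namespace Groth.Agent.Coherent

section AffineChart

variable (n : ℕ) (R : Type u) [CommRing R] {B : Type u} [CommRing B] [Algebra R B]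

/-- The point `(1, x₁, …, xₙ)`. -/
noncomputable def chartEval (x : Fin n → B) :
    Away (CohB1.polyGrading n R) (MvPolynomial.X 0) →+* B :=
  (IsLocalization.Away.lift (S := Localization.Away (MvPolynomial.X 0 : MvPolynomial (Fin (n + 1)) R))
      (MvPolynomial.X 0 : MvPolynomial (Fin (n + 1)) R)
      (g := (MvPolynomial.aeval (Fin.cases (1 : B) x) :
        MvPolynomial (Fin (n + 1)) R →ₐ[R] B).toRingHom)
      (by simp)).comp
    (algebraMap (Away (CohB1.polyGrading n R) (MvPolynomial.X 0))
      (Localization.Away (MvPolynomial.X 0 : MvPolynomial (Fin (n + 1)) R)))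

theorem chartEval_toAway (x : Fin n → B) (r : R) :
    chartEval n R x (ProjLib.toAway n R (MvPolynomial.X 0) r) = algebraMap R B r := by
  simp only [chartEval, RingHom.comp_apply, HomogeneousLocalization.algebraMap_apply,
    ProjLib.val_toAway, IsLocalization.Away.lift_eq]
  exact MvPolynomial.aeval_C _ r

theorem chartEval_coord (x : Fin n → B) (i : Fin n) :
    chartEval n R x (Away.mk (CohB1.polyGrading n R) (ProjLib.X_mem_polyGrading n R 0) 1
      (MvPolynomial.X i.succ) (by simpa using ProjLib.X_mem_polyGrading n R i.succ)) = x i := by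
  simp only [chartEval, RingHom.comp_apply, HomogeneousLocalization.algebraMap_apply, Away.val_mk]
  rw [Localization.mk_eq_mk', IsLocalization.Away.lift, IsLocalization.lift_mk'_spec]
  simp

theorem chartEval_surjective (x : Fin n → B) (hx : Algebra.adjoin R (Set.range x) = ⊤) :
    Function.Surjective (chartEval n R x) := fun b => by
  have hb : b ∈ Algebra.adjoin R (Set.range x) := hx.ge trivial
  change b ∈ (chartEval n R x).range
  induction hb using Algebra.adjoin_induction with
  | mem b hb => obtain ⟨i, rfl⟩ := hb; exact ⟨_, chartEval_coord n R x i⟩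
  | algebraMap r => exact ⟨_, chartEval_toAway n R x r⟩
  | add a b _ _ ha hb => exact add_mem ha hb
  | mul a b _ _ ha hb => exact mul_mem ha hb

/-- An affine scheme of finite type over `R` is immersed in some `P^n_R`. -/
theorem exists_immersion_projSpace {U : Scheme.{u}} [IsAffine U]
    (h : U ⟶ Spec (CommRingCat.of R)) [LocallyOfFiniteType h] :
    ∃ (n : ℕ) (e : U ⟶ CohB1.ProjSpace n R), IsImmersion e ∧ e ≫ CohB1.ProjSpace.toSpec n R = h := by
  let B : CommRingCat.{u} := Γ(U, ⊤)
  let φ : CommRingCat.of R ⟶ B := Spec.preimage (U.isoSpec.inv ≫ h)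
  let : Algebra R B := φ.hom.toAlgebra
  have hφ : Spec.map φ = U.isoSpec.inv ≫ h := Spec.map_preimage _
  have hft : φ.hom.FiniteType := by
    refine (HasRingHomProperty.Spec_iff (P := @LocallyOfFiniteType)).1 ?_
    rw [hφ]; infer_instance
  obtain ⟨s, hs⟩ := (show Algebra.FiniteType R B from hft).out
  let x : Fin s.card → B := fun i => (s.equivFin.symm i).1
  have hx : Algebra.adjoin R (Set.range x) = ⊤ := by
    rw [← hs]
    congr 1
    ext b
    exact ⟨by rintro ⟨i, rfl⟩; exact (s.equivFin.symm i).2,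
      fun hb => ⟨s.equivFin ⟨b, hb⟩, by simp [x]⟩⟩
  have hc : IsClosedImmersion (Spec.map (CommRingCat.ofHom (chartEval s.card R x))) :=
    IsClosedImmersion.spec_of_surjective _ (chartEval_surjective s.card R x hx)
  refine ⟨s.card, U.isoSpec.hom ≫ Spec.map (CommRingCat.ofHom (chartEval s.card R x)) ≫
    Proj.awayι (CohB1.polyGrading s.card R) (MvPolynomial.X 0)
      (ProjLib.X_mem_polyGrading s.card R 0) one_pos, ?_, ?_⟩
  · have : IsOpenImmersion (Proj.awayι (CohB1.polyGrading s.card R) (MvPolynomial.X 0)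
      (ProjLib.X_mem_polyGrading s.card R 0) one_pos) := inferInstance
    have h1 : IsImmersion (Spec.map (CommRingCat.ofHom (chartEval s.card R x)) ≫
        Proj.awayι (CohB1.polyGrading s.card R) (MvPolynomial.X 0)
          (ProjLib.X_mem_polyGrading s.card R 0) one_pos) := inferInstance
    exact @IsImmersion.comp _ _ _ _ _ inferInstance h1
  · have hw := ProjLib.awayι_toSpec s.card R (ProjLib.X_mem_polyGrading s.card R 0) one_pos
    refine (congrArg (fun g => U.isoSpec.hom ≫ g) ((Category.assoc _ _ _).trans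
      (congrArg (fun g => Spec.map (CommRingCat.ofHom (chartEval s.card R x)) ≫ g) hw))).trans ?_
    rw [← Spec.map_comp, show CommRingCat.ofHom (ProjLib.toAway s.card R (MvPolynomial.X 0)) ≫
      CommRingCat.ofHom (chartEval s.card R x) = φ from
        CommRingCat.hom_ext (RingHom.ext (chartEval_toAway s.card R x)), hφ, Iso.hom_inv_id_assoc]

end AffineChart

variable {A : Type u} [CommRing A]

/-- A common target for finitely many maps to projective spaces. -/
theorem exists_tower {U : Scheme.{u}} (u₀ : U ⟶ Spec (CommRingCat.of A)) :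
    ∀ (k : ℕ) (N : Fin k → ℕ) (e : ∀ i, U ⟶ CohB1.ProjSpace (N i) A)
      (_ : ∀ i, e i ≫ CohB1.ProjSpace.toSpec (N i) A = u₀),
      ∃ (P : Scheme.{u}) (p : P ⟶ Spec (CommRingCat.of A)) (j : U ⟶ P)
        (q : ∀ i, P ⟶ CohB1.ProjSpace (N i) A),
        IsProper p ∧ RelFin p ∧ j ≫ p = u₀ ∧
          ∀ i, j ≫ q i = e i ∧ q i ≫ CohB1.ProjSpace.toSpec (N i) A = p := by
  intro k
  induction k with
  | zero => exact fun N e _ => ⟨_, 𝟙 _, u₀, fun i => i.elim0, inferInstance,
      relFin_of_isFinite _, Category.comp_id _, fun i => i.elim0⟩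
  | succ k ih =>
    intro N e he
    obtain ⟨P, p, j, q, hp, hrel, hj, hq⟩ :=
      ih (fun i => N i.castSucc) (fun i => e i.castSucc) (fun i => he i.castSucc)
    let t := CohB1.ProjSpace.toSpec (N (Fin.last k)) A
    have := isProper_projSpace_toSpec (N (Fin.last k)) A
    refine ⟨pullback p t, pullback.fst p t ≫ p,
      pullback.lift j (e (Fin.last k)) (hj.trans (he _).symm),
      Fin.lastCases (pullback.snd p t) (fun i => pullback.fst p t ≫ q i),
      inferInstance, ?_, by rw [pullback.lift_fst_assoc, hj], fun i => ?_⟩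
    · exact ((relFin_toSpec (N (Fin.last k)) A).baseChange
        (IsPullback.of_hasPullback p t).flip).comp hrel
    · induction i using Fin.lastCases with
      | last => simp only [Fin.lastCases_last]; exact ⟨pullback.lift_snd _ _ _, pullback.condition.symm⟩
      | cast i =>
        simp only [Fin.lastCases_castSucc]
        exact ⟨by rw [pullback.lift_fst_assoc, (hq i).1], by rw [Category.assoc, (hq i).2]⟩

/-- The scheme theoretic image of a reduced scheme is reduced. -/
theorem isReduced_image {X Y : Scheme.{u}} (f : X ⟶ Y) [IsReduced X] : IsReduced f.image := by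
  unfold Scheme.Hom.image
  rw [Props12.ker_eq_vanishingIdeal]
  exact Props12.isReduced_subscheme_vanishingIdeal _

/-- Lift along a closed immersion from a reduced scheme, given on a dominant. -/
theorem exists_lift_of_dominant {W W' O C : Scheme.{u}} (s : W' ⟶ W) [IsDominant s] [IsReduced W]
    (m : W ⟶ O) (a : C ⟶ O) [IsClosedImmersion a] (b : W' ⟶ C) (h : s ≫ m = b ≫ a) :
    ∃ φ : W ⟶ C, φ ≫ a = m := by
  let l : W' ⟶ pullback m a := pullback.lift s b h
  have : IsDominant (l ≫ pullback.fst m a) := by rw [pullback.lift_fst]; infer_instance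
  have : IsDominant (pullback.fst m a) := IsDominant.of_comp l _
  have : Surjective (pullback.fst m a) :=
    surjective_of_isDominant_of_isClosed_range _ (pullback.fst m a).isClosedEmbedding.isClosed_range
  have := isIso_of_isClosedImmersion_of_surjective (pullback.fst m a)
  exact ⟨inv (pullback.fst m a) ≫ pullback.snd m a, by
    rw [Category.assoc, ← pullback.condition, IsIso.inv_hom_id_assoc]⟩

/-- A proper morphism that is an immersion over an open cover of its image is a closed immersion. -/
theorem isClosedImmersion_of_cover {X P : Scheme.{u}} (r : X ⟶ P) [IsProper r] {ι : Type}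
    (Q : ι → P.Opens) (hQ : ∀ i, IsImmersion ((r ⁻¹ᵁ Q i).ι ≫ r))
    (hcov : ∀ x : X, ∃ i, r x ∈ Q i) : IsClosedImmersion r := by
  have hclosed : IsClosed (Set.range r) := r.isClosedMap.isClosed_range
  let O : Option ι → P.Opens := fun o => o.elim ⟨(Set.range r)ᶜ, hclosed.isOpen_compl⟩ Q
  refine IsZariskiLocalAtTarget.of_iSup_eq_top O (top_unique fun x _ => ?_) fun o => ?_
  · by_cases hx : x ∈ Set.range r
    · obtain ⟨z, rfl⟩ := hx
      obtain ⟨i, hi⟩ := hcov z
      exact TopologicalSpace.Opens.mem_iSup.2 ⟨some i, hi⟩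
    · exact TopologicalSpace.Opens.mem_iSup.2 ⟨none, hx⟩
  · have : IsProper (r ∣_ O o) :=
      MorphismProperty.of_isPullback (P := @IsProper) (isPullback_morphismRestrict r (O o)).flip ‹_›
    have : IsImmersion (r ∣_ O o) := by
      cases o with
      | none =>
        have : IsEmpty (r ⁻¹ᵁ O none : Scheme.{u}) := ⟨fun z => z.2 ⟨z.1, rfl⟩⟩
        infer_instance
      | some i =>
        have : IsImmersion ((r ∣_ Q i) ≫ (Q i).ι) := by rw [morphismRestrict_ι]; exact hQ i
        exact IsImmersion.of_comp (r ∣_ Q i) (Q i).ι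
    exact IsClosedImmersion.of_isPreimmersion _ (r ∣_ O o).isClosedMap.isClosed_range

/-- Weak Chow lemma. -/
theorem exists_weakChow [IsNoetherianRing A] {Z : Scheme.{u}} [IsIntegral Z]
    (g : Z ⟶ Spec (CommRingCat.of A)) [IsProper g] :
    ∃ (Z' : Scheme.{u}) (π : Z' ⟶ Z) (U₀ : Z.Opens), IsReduced Z' ∧ IsProper π ∧
      (U₀ : Set Z).Nonempty ∧ IsIso (π ∣_ U₀) ∧ RelFin π ∧ RelFin (π ≫ g) := by
  classical
  have : IsLocallyNoetherian Z := LocallyOfFiniteType.isLocallyNoetherian g
  have : CompactSpace Z := QuasiCompact.compactSpace_of_compactSpace g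
  have : AlgebraicGeometry.IsNoetherian Z := {}
  have : Z.IsSeparated := ⟨by
    rw [show terminal.from Z = g ≫ terminal.from _ from terminal.hom_ext _ _]; infer_instance⟩
  have hnb : ∀ z : Z, ∃ V : Z.Opens, IsAffineOpen V ∧ z ∈ V := fun z => by
    obtain ⟨V, hV, hz, -⟩ := Opens.isBasis_iff_nbhd.mp Z.isBasis_affineOpens (Opens.mem_top z)
    exact ⟨V, hV, hz⟩
  choose V hV hzV using hnb
  obtain ⟨s, hs⟩ := CompactSpace.isCompact_univ.elim_finite_subcover (fun z : Z => (V z : Set Z))
    (fun z => (V z).2) (fun z _ => Set.mem_iUnion.2 ⟨z, hzV z⟩)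
  let k := s.card
  let Ui : Fin k → Z.Opens := fun i => V (s.equivFin.symm i).1
  have hcov : ∀ z : Z, ∃ i, z ∈ Ui i := fun z => by
    obtain ⟨w, hw, hz⟩ := Set.mem_iUnion₂.1 (hs (Set.mem_univ z))
    exact ⟨s.equivFin ⟨w, hw⟩, by simpa [Ui] using hz⟩
  have hUaff : ∀ i, IsAffine (Ui i : Scheme.{u}) := fun i => hV _
  have := IrreducibleSpace.isIrreducible_univ Z
  let U : Z.Opens := Finset.univ.inf Ui
  have hUne : genericPoint Z ∈ U := by
    have hgen : ∀ i, genericPoint Z ∈ Ui i := fun i =>
      (genericPoint_spec Z).mem_open_set_iff (Ui i).2 |>.2 (by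
        exact ⟨_, trivial, hzV (s.equivFin.symm i).1⟩)
    change genericPoint Z ∈ ((Finset.univ.inf Ui : Z.Opens) : Set Z)
    rw [Opens.coe_finset_inf]
    simp only [Set.mem_iInter, Finset.mem_univ, Finset.inf_set_eq_iInter]
    exact fun i _ => hgen i
  have hUle : ∀ i, U ≤ Ui i := fun i => Finset.inf_le (Finset.mem_univ i)
  choose N e he hew using fun i => exists_immersion_projSpace A ((Ui i).ι ≫ g)
  obtain ⟨P, p, j, q, hp, hrel, hj, hq⟩ := exists_tower (U.ι ≫ g) k N
    (fun i => Z.homOfLE (hUle i) ≫ e i) (fun i => by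
      rw [Category.assoc, hew, Scheme.homOfLE_ι_assoc])
  let m : (U : Scheme.{u}) ⟶ pullback g p := pullback.lift U.ι j hj.symm
  let t : (U : Scheme.{u}) ⟶ m.image := m.toImage
  let π : m.image ⟶ Z := m.imageι ≫ pullback.fst g p
  let r : m.image ⟶ P := m.imageι ≫ pullback.snd g p
  have ht : t ≫ π = U.ι := by rw [Scheme.Hom.toImage_imageι_assoc]; exact pullback.lift_fst _ _ _
  have htr : t ≫ r = j := by rw [Scheme.Hom.toImage_imageι_assoc]; exact pullback.lift_snd _ _ _
  have : IsProper (pullback.fst g p) :=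
    MorphismProperty.of_isPullback (P := @IsProper) (IsPullback.of_hasPullback g p).flip hp
  have : IsProper (pullback.snd g p) :=
    MorphismProperty.of_isPullback (P := @IsProper) (IsPullback.of_hasPullback g p) ‹IsProper g›
  have : CompactSpace (U : Scheme.{u}) := isCompact_iff_compactSpace.mp
    (NoetherianSpace.isCompact (U : Set Z))
  have : (pullback g p).IsSeparated := ⟨by
    rw [show terminal.from (pullback g p) = pullback.fst g p ≫ terminal.from Z from
      terminal.hom_ext _ _]
    infer_instance⟩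
  have : QuasiCompact (m ≫ terminal.from _) := by
    rw [show m ≫ terminal.from _ = terminal.from (U : Scheme.{u}) from terminal.hom_ext _ _]
    exact (quasiCompact_iff_compactSpace _).mpr ‹_› 
  have : QuasiCompact m := QuasiCompact.of_comp m (terminal.from _)
  have : IsDominant t := inferInstanceAs (IsDominant m.toImage)
  have hred : IsReduced m.image := isReduced_image m
  have hπ : IsProper π := inferInstanceAs (IsProper (m.imageι ≫ pullback.fst g p))
  have hr : IsProper r := inferInstanceAs (IsProper (m.imageι ≫ pullback.snd g p))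
  have hZ'sep : m.image.IsSeparated := ⟨by
    rw [show terminal.from m.image = π ≫ terminal.from Z from terminal.hom_ext _ _]
    infer_instance⟩
  -- each `Z'_i → P` is an immersion
  have hQ : ∀ i, IsImmersion ((r ⁻¹ᵁ (q i ⁻¹ᵁ (e i).coborderRange)).ι ≫ r) := by
    intro i
    let O := (e i).coborderRange
    let Q := q i ⁻¹ᵁ O
    let W := r ⁻¹ᵁ Q
    let a := (e i).liftCoborder
    have ha : a ≫ O.ι = e i := (e i).liftCoborder_ι
    have htW : Set.range t ⊆ (W : Set m.image) := by
      rintro _ ⟨x, rfl⟩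
      change q i (r (t x)) ∈ O
      rw [← Scheme.Hom.comp_apply t r, htr, ← Scheme.Hom.comp_apply j (q i), (hq i).1, ← ha]
      exact (a (Z.homOfLE (hUle i) x)).2
    let sW : (U : Scheme.{u}) ⟶ W.toScheme :=
      IsOpenImmersion.lift W.ι t (by rwa [Scheme.Opens.range_ι])
    have hsW : sW ≫ W.ι = t := IsOpenImmersion.lift_fac _ _ _
    have : IsDominant (sW ≫ W.ι) := by rw [hsW]; infer_instance
    have : IsDominant sW := IsDominant.of_comp_of_isOpenImmersion sW W.ι
    let mW : W.toScheme ⟶ O.toScheme := (r ≫ q i) ∣_ O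
    have hmW : mW ≫ O.ι = W.ι ≫ r ≫ q i := morphismRestrict_ι (r ≫ q i) O
    have hcomp : sW ≫ mW = Z.homOfLE (hUle i) ≫ a := by
      rw [← cancel_mono O.ι, Category.assoc, Category.assoc, hmW, ha, reassoc_of% hsW,
        reassoc_of% htr, (hq i).1]
    obtain ⟨φ, hφ⟩ := exists_lift_of_dominant sW mW a (Z.homOfLE (hUle i)) hcomp
    have hφπ : φ ≫ (Ui i).ι = W.ι ≫ π := by
      refine ext_of_isDominant sW ?_
      have h1 : sW ≫ φ = Z.homOfLE (hUle i) := by
        rw [← cancel_mono a, Category.assoc, hφ, hcomp]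
      rw [reassoc_of% h1, Scheme.homOfLE_ι, reassoc_of% hsW, ht]
    let qQ : Q.toScheme ⟶ O.toScheme := q i ∣_ O
    have hqQ : qQ ≫ O.ι = Q.ι ≫ q i := morphismRestrict_ι (q i) O
    let rQ : W.toScheme ⟶ Q.toScheme := r ∣_ Q
    have hrQ : rQ ≫ Q.ι = W.ι ≫ r := morphismRestrict_ι r Q
    let b : W.toScheme ⟶ pullback qQ a := pullback.lift rQ φ (by
      rw [hφ, ← cancel_mono O.ι, Category.assoc, hqQ, hmW, reassoc_of% hrQ])
    let γ : pullback qQ a ⟶ pullback g p :=
      pullback.lift (pullback.snd qQ a ≫ (Ui i).ι) (pullback.fst qQ a ≫ Q.ι) (by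
        rw [Category.assoc, Category.assoc, ← hew i, ← (hq i).2, ← ha, ← reassoc_of% hqQ,
          Category.assoc, ← pullback.condition_assoc])
    have hbγ : b ≫ γ = W.ι ≫ m.imageι := by
      apply pullback.hom_ext
      · rw [Category.assoc, pullback.lift_fst, pullback.lift_snd_assoc, hφπ, Category.assoc]
      · rw [Category.assoc, pullback.lift_snd, pullback.lift_fst_assoc, hrQ, Category.assoc]
    have : IsImmersion (b ≫ γ) := by rw [hbγ]; infer_instance
    have : IsImmersion b := IsImmersion.of_comp b γ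
    have : IsImmersion (b ≫ pullback.fst qQ a ≫ Q.ι) := inferInstance
    have e1 : b ≫ pullback.fst qQ a ≫ Q.ι = W.ι ≫ r := by rw [pullback.lift_fst_assoc, hrQ]
    exact e1 ▸ this
  have hrcl : IsClosedImmersion r := by
    refine isClosedImmersion_of_cover r _ hQ fun w => ?_
    obtain ⟨i, hi⟩ := hcov (π w)
    refine ⟨i, ?_⟩
    let W := π ⁻¹ᵁ Ui i
    let sW : (U : Scheme.{u}) ⟶ W.toScheme :=
      IsOpenImmersion.lift W.ι t (by
        rw [Scheme.Opens.range_ι]
        rintro _ ⟨x, rfl⟩
        change π (t x) ∈ Ui i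
        rw [← Scheme.Hom.comp_apply t π, ht]
        exact hUle i x.2)
    have hsW : sW ≫ W.ι = t := IsOpenImmersion.lift_fac _ _ _
    have : IsDominant (sW ≫ W.ι) := by rw [hsW]; infer_instance
    have : IsDominant sW := IsDominant.of_comp_of_isOpenImmersion sW W.ι
    have := isProper_projSpace_toSpec (N i) A
    have : (CohB1.ProjSpace (N i) A).IsSeparated := ⟨by
      rw [show terminal.from (CohB1.ProjSpace (N i) A) =
        CohB1.ProjSpace.toSpec (N i) A ≫ terminal.from _ from terminal.hom_ext _ _]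
      infer_instance⟩
    have h1 : sW ≫ (π ∣_ Ui i) = Z.homOfLE (hUle i) := by
      rw [← cancel_mono (Ui i).ι, Category.assoc, morphismRestrict_ι, reassoc_of% hsW, ht,
        Scheme.homOfLE_ι]
    have heq : (π ∣_ Ui i) ≫ e i = W.ι ≫ r ≫ q i := by
      refine ext_of_isDominant sW ?_
      rw [reassoc_of% h1, reassoc_of% hsW, reassoc_of% htr, (hq i).1]
    change q i (r w) ∈ (e i).coborderRange
    have h2 : (W.ι ≫ r ≫ q i) ⟨w, hi⟩ = q i (r w) := rfl
    rw [← h2, ← heq]
    change (e i) ((π ∣_ Ui i) ⟨w, hi⟩) ∈ (e i).coborderRange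
    have h3 := congrArg (fun F : (Ui i).toScheme ⟶ _ => F ((π ∣_ Ui i) ⟨w, hi⟩)) (e i).liftCoborder_ι
    exact h3 ▸ ((e i).liftCoborder ((π ∣_ Ui i) ⟨w, hi⟩)).2
  refine ⟨m.image, π, U, hred, hπ, ⟨_, hUne⟩, ?_, ?_, ?_⟩
  · let s₀ : (U : Scheme.{u}) ⟶ (π ⁻¹ᵁ U : m.image.Opens) :=
      IsOpenImmersion.lift (π ⁻¹ᵁ U).ι t (by
        rw [Scheme.Opens.range_ι]
        rintro _ ⟨x, rfl⟩
        change π (t x) ∈ U
        rw [← Scheme.Hom.comp_apply t π, ht]
        exact x.2)
    have hs₀ : s₀ ≫ (π ⁻¹ᵁ U).ι = t := IsOpenImmersion.lift_fac _ _ _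
    have : IsDominant (s₀ ≫ (π ⁻¹ᵁ U).ι) := by rw [hs₀]; infer_instance
    have : IsDominant s₀ := IsDominant.of_comp_of_isOpenImmersion s₀ (π ⁻¹ᵁ U).ι
    have h1 : s₀ ≫ (π ∣_ U) = 𝟙 _ := by
      rw [← cancel_mono U.ι, Category.assoc, morphismRestrict_ι, reassoc_of% hs₀, ht,
        Category.id_comp]
    refine ⟨s₀, ?_, h1⟩
    rw [← cancel_mono (π ⁻¹ᵁ U).ι, Category.id_comp]
    refine ext_of_isDominant s₀ ?_
    rw [Category.assoc, reassoc_of% h1]
  · exact (relFin_of_isFinite m.imageι).comp (hrel.baseChange (IsPullback.of_hasPullback g p).flip)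
  · have hπg : π ≫ g = r ≫ p := by
      simp only [π, r, Category.assoc, pullback.condition]
    rw [hπg]
    exact (relFin_of_isFinite r).comp hrel

end Groth.Agent.Coherent
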