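import Groth.Agent.Coherent.TensorFinLoc
import Groth.Agent.Coherent.CohOps

/-!
# The internal Hom of modules on a scheme, by local linear maps; duals of finite locally free modules
-/

set_option autoImplicit false
set_option backward.isDefEq.respectTransparency false

universe u

open CategoryTheory CategoryTheory.Limits AlgebraicGeometry Opposite TopologicalSpace
open Groth.Agent.Coherent Groth.Agent.PicLib Groth.Agent.AmpleLib

namespace Groth.Agent.Coherent

/-- Functions on a proposition with values in a group. -/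
@[instance_reducible]
def propArrowAddCommGroup (p : Prop) (A : Type*) [AddCommGroup A] : AddCommGroup (p → A) where
  add f g h := f h + g h
  add_assoc f g k := funext fun h => add_assoc (f h) (g h) (k h)
  zero _ := 0
  zero_add f := funext fun h => zero_add (f h)
  add_zero f := funext fun h => add_zero (f h)
  nsmul n f h := n • f h
  nsmul_zero f := funext fun h => zero_smul ℕ (f h)
  nsmul_succ n f := funext fun h => succ_nsmul (f h) n
  neg f h := -f h
  sub f g h := f h - g h
  sub_eq_add_neg f g := funext fun h => sub_eq_add_neg (f h) (g h)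
  zsmul n f h := n • f h
  zsmul_zero' f := funext fun h => zero_zsmul (f h)
  zsmul_succ' n f := funext fun h => SubNegMonoid.zsmul_succ' n (f h)
  zsmul_neg' n f := funext fun h => SubNegMonoid.zsmul_neg' n (f h)
  neg_add_cancel f := funext fun h => neg_add_cancel (f h)
  add_comm f g := funext fun h => add_comm (f h) (g h)

attribute [local instance] propArrowAddCommGroup

variable {X : Scheme.{u}} (F N : X.Modules)

/-- Families of linear maps on the opens inside `U`, compatible with restriction. -/
noncomputable def locHom (U : X.Opens) : AddSubgroup (∀ (W : X.Opens), W ≤ U → (Γ(F, W) →+ Γ(N, W))) where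
  carrier := {φ | (∀ W hW (r : Γ(X, W)) a, φ W hW (r • a) = r • φ W hW a) ∧
    ∀ W W' (hW : W ≤ U) (h : W' ≤ W) a, resM N h (φ W hW a) = φ W' (h.trans hW) (resM F h a)}
  zero_mem' := ⟨fun _ _ _ _ => (smul_zero _).symm, fun _ _ _ h _ => map_zero (resM N h)⟩
  add_mem' := fun {φ ψ} hφ hψ => ⟨fun W hW r a => by
      show φ W hW (r • a) + ψ W hW (r • a) = r • (φ W hW a + ψ W hW a)
      rw [hφ.1, hψ.1, smul_add],
    fun W W' hW h a => by
      show resM N h (φ W hW a + ψ W hW a) = _ + _
      rw [map_add, hφ.2, hψ.2]⟩
  neg_mem' := fun {φ} hφ => ⟨fun W hW r a => by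
      show -(φ W hW (r • a)) = r • -(φ W hW a)
      rw [hφ.1, smul_neg],
    fun W W' hW h a => by
      show resM N h (-(φ W hW a)) = -_
      rw [map_neg, hφ.2]⟩

variable {F N}

/-- Evaluation. -/
noncomputable def ev {U : X.Opens} (φ : locHom F N U) (W : X.Opens) (hW : W ≤ U) (a : Γ(F, W)) : Γ(N, W) :=
  φ.1 W hW a

theorem locHom_ext {U : X.Opens} {φ ψ : locHom F N U}
    (h : ∀ W hW a, ev φ W hW a = ev ψ W hW a) : φ = ψ :=
  Subtype.ext (funext fun W => funext fun hW => AddMonoidHom.ext (h W hW))

theorem ev_smul_arg {U : X.Opens} (φ : locHom F N U) (W : X.Opens) (hW : W ≤ U) (r : Γ(X, W))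
    (a : Γ(F, W)) : ev φ W hW (r • a) = r • ev φ W hW a := φ.2.1 W hW r a

theorem ev_res {U : X.Opens} (φ : locHom F N U) {W W' : X.Opens} (hW : W ≤ U) (h : W' ≤ W)
    (a : Γ(F, W)) : resM N h (ev φ W hW a) = ev φ W' (h.trans hW) (resM F h a) := φ.2.2 W W' hW h a

theorem ev_sum {U : X.Opens} (φ : locHom F N U) (W : X.Opens) (hW : W ≤ U) {ι : Type*} (s : Finset ι)
    (a : ι → Γ(F, W)) : ev φ W hW (∑ i ∈ s, a i) = ∑ i ∈ s, ev φ W hW (a i) :=
  map_sum (φ.1 W hW) a s

noncomputable instance (U : X.Opens) : SMul Γ(X, U) (locHom F N U) where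
  smul r φ := ⟨fun W hW =>
      (DistribSMul.toAddMonoidHom Γ(N, W) (X.presheaf.map (homOfLE hW).op r)).comp (φ.1 W hW), by
    refine ⟨fun W hW s a => ?_, fun W W' hW h a => ?_⟩
    · show (X.presheaf.map (homOfLE hW).op r : Γ(X, W)) • φ.1 W hW (s • a) =
        s • ((X.presheaf.map (homOfLE hW).op r : Γ(X, W)) • φ.1 W hW a)
      rw [φ.2.1, smul_comm]
    · show resM N h ((X.presheaf.map (homOfLE hW).op r : Γ(X, W)) • φ.1 W hW a) =
        (X.presheaf.map (homOfLE (h.trans hW)).op r : Γ(X, W')) • φ.1 W' (h.trans hW) (resM F h a)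
      rw [resM_smul, φ.2.2 W W' hW h a, ← ConcreteCategory.comp_apply, ← Functor.map_comp]
      rfl⟩

theorem ev_smul {U : X.Opens} (r : Γ(X, U)) (φ : locHom F N U) (W : X.Opens) (hW : W ≤ U)
    (a : Γ(F, W)) : ev (r • φ) W hW a = X.presheaf.map (homOfLE hW).op r • ev φ W hW a := rfl

noncomputable instance (U : X.Opens) : Module Γ(X, U) (locHom F N U) where
  one_smul φ := locHom_ext fun W hW a => by rw [ev_smul, map_one, one_smul]
  mul_smul r s φ := locHom_ext fun W hW a => by rw [ev_smul, ev_smul, ev_smul, map_mul, mul_smul]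
  smul_zero r := locHom_ext fun W hW a => by rw [ev_smul]; exact smul_zero _
  smul_add r φ ψ := locHom_ext fun W hW a => by
    rw [ev_smul]; exact smul_add _ _ _
  add_smul r s φ := locHom_ext fun W hW a => by
    rw [ev_smul, map_add, add_smul]; rfl
  zero_smul φ := locHom_ext fun W hW a => by rw [ev_smul, map_zero, zero_smul]; rfl

variable (F N)

/-- Restriction of families. -/
noncomputable def locHomRes {U U' : X.Opens} (h : U' ≤ U) : locHom F N U →+ locHom F N U' where
  toFun φ := ⟨fun W hW => φ.1 W (hW.trans h),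
    fun W hW r a => φ.2.1 W (hW.trans h) r a, fun W W' hW h' a => φ.2.2 W W' (hW.trans h) h' a⟩
  map_zero' := rfl
  map_add' _ _ := rfl

/-- The presheaf of families. -/
noncomputable def locHomPre : (X.Opens)ᵒᵖ ⥤ Ab.{u} where
  obj U := AddCommGrpCat.of (locHom F N U.unop)
  map f := AddCommGrpCat.ofHom (locHomRes F N (leOfHom f.unop))
  map_id _ := rfl
  map_comp _ _ := rfl

theorem isSheaf_locHomPre :
    TopCat.Presheaf.IsSheaf (X := X.toTopCat) (locHomPre F N) := by
  rw [TopCat.Presheaf.isSheaf_iff_isSheafUniqueGluing]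
  intro ι V sf hc
  let T : TopCat.Sheaf Ab X := ⟨N.presheaf, N.isSheaf⟩
  have hcomp : ∀ (i j : ι) (W : X.Opens) (hi : W ≤ V i) (hj : W ≤ V j) (a : Γ(F, W)),
      ev (sf i) W hi a = ev (sf j) W hj a := fun i j W hi hj a =>
    congrArg (fun φ : locHom F N (V i ⊓ V j) => ev φ W (le_inf hi hj) a) (hc i j)
  have hcov : ∀ (W : X.Opens), W ≤ iSup V → W ≤ ⨆ i, W ⊓ V i := fun W hW y hy => by
    obtain ⟨i, hi⟩ := Opens.mem_iSup.1 (hW hy)
    exact Opens.mem_iSup.2 ⟨i, hy, hi⟩
  have hg : ∀ (W : X.Opens) (hW : W ≤ iSup V) (a : Γ(F, W)), ∃! b : Γ(N, W), ∀ i,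
      resM N (inf_le_left : W ⊓ V i ≤ W) b =
        ev (sf i) (W ⊓ V i) inf_le_right (resM F inf_le_left a) := fun W hW a =>
    TopCat.Sheaf.existsUnique_gluing' T (fun i => W ⊓ V i) W (fun i => homOfLE inf_le_left)
      (hcov W hW) _ (fun i j => by
        show resM N inf_le_left (ev (sf i) _ _ (resM F _ a)) = resM N inf_le_right (ev (sf j) _ _ (resM F _ a))
        rw [ev_res, ev_res, resM_resM, resM_resM]
        exact hcomp i j _ _ _ _)
  choose b hb hu using hg
  let φ : ∀ (W : X.Opens), W ≤ iSup V → (Γ(F, W) →+ Γ(N, W)) := fun W hW =>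
    AddMonoidHom.mk' (b W hW) fun a a' => (hu W hW (a + a') _ fun i => by
      rw [map_add, map_add, hb, hb]; exact (map_add ((sf i).1 _ _) _ _).symm).symm
  refine ⟨⟨φ, ⟨fun W hW r a => ?_, fun W W' hW h a => ?_⟩⟩, fun i => ?_, fun ψ hψ => ?_⟩
  · refine (hu W hW (r • a) _ fun i => ?_).symm
    show resM N _ (r • b W hW a) = _
    rw [resM_smul, hb, resM_smul, ev_smul_arg]
  · refine hu W' (h.trans hW) (resM F h a) _ fun i => ?_
    show resM N _ (resM N h (b W hW a)) = _
    rw [resM_resM, ← resM_resM N inf_le_left (inf_le_inf_right (V i) h) (b W hW a), hb, ev_res,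
      resM_resM, resM_resM]
  · refine locHom_ext fun W hW a => ?_
    show b W (hW.trans (le_iSup V i)) a = ev (sf i) W hW a
    refine (hu W _ a _ fun j => ?_).symm
    rw [ev_res]
    exact hcomp i j _ _ _ _
  · refine locHom_ext fun W hW a => ?_
    show ev ψ W hW a = b W hW a
    refine hu W hW a _ fun i => ?_
    rw [ev_res]
    exact congrArg (fun φ : locHom F N (V i) => ev φ (W ⊓ V i) inf_le_right (resM F inf_le_left a)) (hψ i)

noncomputable instance locHomPre.instModule (U : (X.Opens)ᵒᵖ) :
    Module (X.ringCatSheaf.obj.obj U) ((locHomPre F N).obj U) :=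
  inferInstanceAs (Module Γ(X, U.unop) (locHom F N U.unop))

/-- The internal Hom. -/
noncomputable def internalHom : X.Modules where
  val := PresheafOfModules.ofPresheaf (locHomPre F N) (fun {U U'} f r φ => by
    refine locHom_ext fun W hW a => ?_
    show X.presheaf.map (homOfLE (hW.trans (leOfHom f.unop))).op r •
        ev φ W (hW.trans (leOfHom f.unop)) a =
      X.presheaf.map (homOfLE hW).op (X.presheaf.map f r) • ev φ W (hW.trans (leOfHom f.unop)) a
    rw [← ConcreteCategory.comp_apply, ← Functor.map_comp]
    rfl)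
  isSheaf := isSheaf_locHomPre F N

variable {F N}

/-- A section of the internal Hom as a family. -/
def secHom {U : X.Opens} (φ : Γ(internalHom F N, U)) : locHom F N U := φ

theorem resM_internalHom {U U' : X.Opens} (h : U' ≤ U) (φ : Γ(internalHom F N, U)) (W : X.Opens)
    (hW : W ≤ U') (a : Γ(F, W)) :
    ev (secHom (resM (internalHom F N) h φ)) W hW a = ev (secHom φ) W (hW.trans h) a := rfl

/-- Curried bilinear maps. -/
noncomputable def curry {A : X.Modules} (β : Bilin F A N) : A ⟶ internalHom F N :=
  ⟨PresheafOfModules.homMk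
    { app := fun U => AddCommGrpCat.ofHom (AddMonoidHom.mk'
        (fun a => (show locHom F N U.unop from
          ⟨fun W hW => AddMonoidHom.mk' (fun x => β.app W x (resM A hW a))
              (fun x x' => β.add_left W x x' _),
            fun W hW r x => β.smul_left W r x _, fun W W' hW h x => by
              show resM N h (β.app W x (resM A hW a)) = β.app W' (resM F h x) (resM A _ a)
              rw [β.res, resM_resM]⟩))
        (fun a a' => locHom_ext fun W hW x => by
          show β.app W x (resM A hW (a + a')) = β.app W x (resM A hW a) + β.app W x (resM A hW a')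
          rw [map_add, β.add_right]))
      naturality := fun U U' f => ConcreteCategory.hom_ext _ _ fun a => locHom_ext fun W hW x => by
        show β.app W x (resM A hW (A.presheaf.map f a)) =
          β.app W x (resM A (hW.trans (leOfHom f.unop)) a)
        rw [show f = (homOfLE (leOfHom f.unop)).op from Subsingleton.elim _ _]
        exact congrArg (β.app W x) (resM_resM A _ _ a) }
    fun U r a => locHom_ext fun W hW x => by
      show β.app W x (resM A hW (r • a)) = X.presheaf.map (homOfLE hW).op r • β.app W x (resM A hW a)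
      rw [resM_smul, β.smul_right]⟩

theorem ev_curry {A : X.Modules} (β : Bilin F A N) {U : X.Opens} (a : Γ(A, U)) (W : X.Opens)
    (hW : W ≤ U) (x : Γ(F, W)) :
    ev (secHom ((curry β).app U a)) W hW x = β.app W x (resM A hW a) := rfl

/-- Uncurried maps into the internal Hom. -/
noncomputable def uncurry {A : X.Modules} (φ : A ⟶ internalHom F N) : Bilin F A N where
  app U x a := ev (secHom (φ.app U a)) U le_rfl x
  add_left U x x' a := map_add ((secHom (φ.app U a)).1 U le_rfl) x x'
  add_right U x a a' := by rw [map_add]; rfl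
  smul_left U r x a := ev_smul_arg _ U le_rfl r x
  smul_right U r x a := by
    rw [Scheme.Modules.Hom.app_smul]
    show (X.presheaf.map (homOfLE (le_refl U)).op r : Γ(X, U)) • ev (secHom (φ.app U a)) U le_rfl x =
      r • ev (secHom (φ.app U a)) U le_rfl x
    rw [show X.presheaf.map (homOfLE (le_refl U)).op r = r from
      ConcreteCategory.congr_hom (X.presheaf.map_id (op U)) r]
  res U V h x a := by
    rw [ev_res, app_resM]
    rfl

/-- Contraction `E ⊗ N → Hom(Hom(E, O), N)`. -/
noncomputable def contractBilin (E N : X.Modules) :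
    Bilin E N (internalHom (internalHom E (Coh.structureModule X)) N) where
  app U x n := (show locHom (internalHom E (Coh.structureModule X)) N U from
    ⟨fun W hW => AddMonoidHom.mk'
        (fun ξ => (show Γ(X, W) from ev (secHom ξ) W le_rfl (resM E hW x)) • resM N hW n)
        (fun ξ ξ' => add_smul _ _ _),
      fun W hW r ξ => by
        show (X.presheaf.map (homOfLE (le_refl W)).op r * (show Γ(X, W) from ev (secHom ξ) W le_rfl (resM E hW x))) • resM N hW n =
          r • ((show Γ(X, W) from ev (secHom ξ) W le_rfl (resM E hW x)) • resM N hW n)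
        rw [show X.presheaf.map (homOfLE (le_refl W)).op r = r from
          ConcreteCategory.congr_hom (X.presheaf.map_id (op W)) r, mul_smul],
      fun W W' hW h ξ => by
        show resM N h ((show Γ(X, W) from ev (secHom ξ) W le_rfl (resM E hW x)) • resM N hW n) = _
        rw [resM_smul, resM_resM]
        refine congrArg (fun c : Γ(X, W') => c • resM N (h.trans hW) n) ?_
        refine (ev_res (secHom ξ) le_rfl h (resM E hW x)).trans ?_
        rw [resM_resM]
        rfl⟩)
  add_left U x x' n := locHom_ext fun W hW ξ => by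
    show (show Γ(X, W) from ev (secHom ξ) W le_rfl (resM E hW (x + x'))) • _ =
      (show Γ(X, W) from ev (secHom ξ) W le_rfl (resM E hW x)) • resM N hW n + _
    rw [map_add, show ev (secHom ξ) W le_rfl (resM E hW x + resM E hW x') =
      ev (secHom ξ) W le_rfl (resM E hW x) + ev (secHom ξ) W le_rfl (resM E hW x') from
      map_add ((secHom ξ).1 W le_rfl) _ _, add_smul]
    rfl
  add_right U x n n' := locHom_ext fun W hW ξ => by
    show (show Γ(X, W) from ev (secHom ξ) W le_rfl (resM E hW x)) • resM N hW (n + n') =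
      (show Γ(X, W) from ev (secHom ξ) W le_rfl (resM E hW x)) • resM N hW n +
        (show Γ(X, W) from ev (secHom ξ) W le_rfl (resM E hW x)) • resM N hW n'
    rw [map_add, smul_add]
  smul_left U r x n := locHom_ext fun W hW ξ => by
    show (show Γ(X, W) from ev (secHom ξ) W le_rfl (resM E hW (r • x))) • resM N hW n =
      (X.presheaf.map (homOfLE hW).op r : Γ(X, W)) •
        ((show Γ(X, W) from ev (secHom ξ) W le_rfl (resM E hW x)) • resM N hW n)
    rw [resM_smul, ev_smul_arg, ← mul_smul]
    rfl
  smul_right U r x n := locHom_ext fun W hW ξ => by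
    show (show Γ(X, W) from ev (secHom ξ) W le_rfl (resM E hW x)) • resM N hW (r • n) =
      (X.presheaf.map (homOfLE hW).op r : Γ(X, W)) •
        ((show Γ(X, W) from ev (secHom ξ) W le_rfl (resM E hW x)) • resM N hW n)
    rw [resM_smul, smul_comm]
  res U V h x n := locHom_ext fun W hW ξ => by
    show (show Γ(X, W) from ev (secHom ξ) W le_rfl (resM E _ x)) • resM N _ n =
      (show Γ(X, W) from ev (secHom ξ) W le_rfl (resM E hW (resM E h x))) • resM N hW (resM N h n)
    rw [resM_resM, resM_resM]

variable {E : X.Modules} {U : X.Opens} {I : Type u} [Fintype I] {e : I → Γ(E, U)}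

/-- The coordinate functions of a basis. -/
noncomputable def coordHom (hb : IsBasisOn E U e) (k : I) :
    Γ(internalHom E (Coh.structureModule X), U) :=
  (show locHom E (Coh.structureModule X) U from
    ⟨fun W hW => AddMonoidHom.mk' (fun a => (show Γ(Coh.structureModule X, W) from hb.coef hW a k))
        (fun a a' => congrFun (hb.coef_add hW a a') k),
      fun _ hW r a => congrFun (hb.coef_smul hW r a) k,
      fun _ _ hW h a => (congrFun (hb.coef_res hW h a) k).symm⟩)

theorem coordHom_ev (hb : IsBasisOn E U e) (k : I) (W : X.Opens) (hW : W ≤ U) (a : Γ(E, W)) :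
    (show Γ(X, W) from ev (secHom (coordHom hb k)) W hW a) = hb.coef hW a k := rfl

/-- The coordinate functions form a basis of the dual. -/
theorem isBasisOn_coordHom (hb : IsBasisOn E U e) :
    IsBasisOn (internalHom E (Coh.structureModule X)) U (coordHom hb) := by
  classical
  intro V hV
  have hev : ∀ (c : I → Γ(X, V)) (W : X.Opens) (hW : W ≤ V) (a : Γ(E, W)),
      (show Γ(X, W) from ev (secHom (∑ i, c i • resM (internalHom E (Coh.structureModule X)) hV
        (coordHom hb i))) W hW a) =
      ∑ i, X.presheaf.map (homOfLE hW).op (c i) * hb.coef (hW.trans hV) a i := by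
    intro c W hW a
    let g : Γ(internalHom E (Coh.structureModule X), V) →+ Γ(X, W) :=
      { toFun := fun φ => (show Γ(X, W) from ev (secHom φ) W hW a)
        map_zero' := rfl
        map_add' := fun _ _ => rfl }
    exact map_sum g _ Finset.univ
  constructor
  · intro c c' h
    funext k
    have h' := congrArg (fun φ : Γ(internalHom E (Coh.structureModule X), V) =>
      (show Γ(X, V) from ev (secHom φ) V le_rfl (resM E hV (e k)))) h
    simp only [hev, hb.coef_self, mul_ite, mul_one, mul_zero, Finset.sum_ite_eq', Finset.mem_univ,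
      if_true] at h'
    have hid : ∀ x : Γ(X, V), X.presheaf.map (homOfLE (le_refl V)).op x = x := fun x =>
      ConcreteCategory.congr_hom (X.presheaf.map_id (op V)) x
    rwa [hid, hid] at h'
  · intro φ
    refine ⟨fun i => (show Γ(X, V) from ev (secHom φ) V le_rfl (resM E hV (e i))),
      locHom_ext (φ := secHom _) (ψ := secHom φ) fun W hW a => ?_⟩
    refine (hev _ W hW a).trans ?_
    conv_rhs => rw [← hb.coef_spec (hW.trans hV) a]
    rw [ev_sum]
    refine Finset.sum_congr rfl fun i _ => ?_
    rw [ev_smul_arg, mul_comm]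
    refine congrArg (fun b : Γ(X, W) => hb.coef (hW.trans hV) a i * b) ?_
    refine (ev_res (secHom φ) le_rfl hW (resM E hV (e i))).trans ?_
    rw [resM_resM]

/-- Contraction is bijective over an open with a basis. -/
theorem bijective_contract_app (hb : IsBasisOn E U e) (N : X.Modules) (V : X.Opens) (hV : V ≤ U) :
    Function.Bijective ((contractBilin E N).desc.app V) := by
  classical
  have hd := isBasisOn_coordHom hb
  have hval : ∀ (n : I → Γ(N, V)) (W : X.Opens) (hW : W ≤ V) (k : I),
      ev (secHom ((contractBilin E N).desc.app V (∑ i, tmul (resM E hV (e i)) (n i)))) W hW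
        (resM (internalHom E (Coh.structureModule X)) (hW.trans hV) (coordHom hb k)) =
        resM N hW (n k) := by
    intro n W hW k
    let g : Γ(internalHom (internalHom E (Coh.structureModule X)) N, V) →+ Γ(N, W) :=
      { toFun := fun φ => ev (secHom φ) W hW
          (resM (internalHom E (Coh.structureModule X)) (hW.trans hV) (coordHom hb k))
        map_zero' := rfl
        map_add' := fun _ _ => rfl }
    show g ((contractBilin E N).desc.app V (∑ i, tmul (resM E hV (e i)) (n i))) = _
    rw [map_sum, map_sum]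
    simp only [Bilin.desc_tmul]
    show ∑ i, (show Γ(X, W) from hb.coef (hW.trans hV) (resM E hW (resM E hV (e i))) k) •
      resM N hW (n i) = _
    simp only [resM_resM, hb.coef_self, ite_smul, one_smul, zero_smul, Finset.sum_ite_eq,
      Finset.mem_univ, if_true]
  constructor
  · intro z z' h
    obtain ⟨n, rfl⟩ := (bijective_sum_tmul hb N V hV).2 z
    obtain ⟨n', rfl⟩ := (bijective_sum_tmul hb N V hV).2 z'
    refine congrArg (fun m : I → Γ(N, V) => ∑ i, tmul (resM E hV (e i)) (m i)) (funext fun k => ?_)
    have h1 := (hval n V le_rfl k).symm.trans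
      ((congrArg (fun φ => ev (secHom φ) V le_rfl _) h).trans (hval n' V le_rfl k))
    rwa [PicLib.resM_self, PicLib.resM_self] at h1
  · intro φ
    refine ⟨∑ i, tmul (resM E hV (e i))
      (ev (secHom φ) V le_rfl (resM (internalHom E (Coh.structureModule X)) hV (coordHom hb i))),
      locHom_ext (φ := secHom _) (ψ := secHom φ) fun W hW ξ => ?_⟩
    conv_lhs => rw [← hd.coef_spec (hW.trans hV) ξ]
    conv_rhs => rw [← hd.coef_spec (hW.trans hV) ξ]
    rw [ev_sum, ev_sum]
    refine Finset.sum_congr rfl fun k _ => ?_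
    rw [ev_smul_arg, ev_smul_arg, hval, ev_res, resM_resM]

variable {hE : FlatMod.IsFinLocFree E}

/-- Contraction is an isomorphism. -/
theorem isIso_contract (hE : FlatMod.IsFinLocFree E) (N : X.Modules) :
    IsIso (contractBilin E N).desc := by
  refine TwistLib.G.isIso_of_bijective_on_basis _
    (fun B => ∃ (n : ℕ) (e : ULift.{u} (Fin n) → Γ(E, B)), IsBasisOn E B e) (fun V y hy => ?_)
    fun B ⟨n, e, he⟩ => bijective_contract_app he N B le_rfl
  obtain ⟨U, n, e, hyU, hUV, he⟩ := exists_basis_nhd hE y V hy
  exact ⟨U, ⟨n, e, he⟩, hyU, hUV⟩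

/-- Tensoring with a finite locally free module preserves injective objects. -/
theorem injective_tensE (hE : FlatMod.IsFinLocFree E) (J : X.Modules) [Injective J] :
    Injective (CohB1.tensorMod E J) := by
  have := isIso_contract hE J
  let θ := (contractBilin E J).desc
  let D := internalHom E (Coh.structureModule X)
  refine Injective.of_iso (asIso θ).symm ?_
  refine ⟨fun {A B} φ g hg => ?_⟩
  have hD : ∀ V : X.Opens, ∀ z z' : Γ(CohB1.tensorMod D A, V),
      (tE D g).app V z = (tE D g).app V z' → z = z' := by
    intro V z z' h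
    refine sec_ext _ z z' fun y hy => ?_
    obtain ⟨U, n, e, hyU, hUV, he⟩ := exists_basis_nhd hE y V hy
    have hd := isBasisOn_coordHom he
    refine ⟨U, hUV, hyU, ?_⟩
    obtain ⟨m, hm⟩ := (bijective_sum_tmul hd A U le_rfl).2 (resM _ hUV z)
    obtain ⟨m', hm'⟩ := (bijective_sum_tmul hd A U le_rfl).2 (resM _ hUV z')
    have h1 := congrArg (resM _ hUV) h
    rw [← app_resM, ← app_resM, ← hm, ← hm', tensE_map_sum, tensE_map_sum] at h1
    have h2 := (bijective_sum_tmul hd B U le_rfl).1 (a₁ := fun i => g.app U (m i))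
      (a₂ := fun i => g.app U (m' i)) h1
    rw [← hm, ← hm', show m = m' from funext fun i => app_injective_of_mono g U (congrFun h2 i)]
  have : Mono (tE D g) := ⟨fun u v h => Scheme.Modules.hom_ext _ _ fun V => by
    ext a; exact hD V _ _ (congr($h |>.app V a))⟩
  let ψ := Injective.factorThru (uncurry φ).desc (tE D g)
  let β : Bilin D B J :=
    { app := fun U ξ b => ψ.app U (tmul ξ b)
      add_left := fun U ξ ξ' b => by rw [tmul_add_left, map_add]
      add_right := fun U ξ b b' => by rw [tmul_add_right, map_add]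
      smul_left := fun U r ξ b => by rw [tmul_smul_left, Scheme.Modules.Hom.app_smul]
      smul_right := fun U r ξ b => by rw [tmul_smul_right, Scheme.Modules.Hom.app_smul]
      res := fun U V h ξ b => by rw [← app_resM, resM_tmul] }
  refine ⟨curry β, Scheme.Modules.hom_ext _ _ fun U => ConcreteCategory.hom_ext _ _ fun a =>
    locHom_ext (φ := secHom _) (ψ := secHom (φ.app U a)) fun W hW ξ => ?_⟩
  show ψ.app W (tmul ξ (resM B hW (g.app U a))) = ev (secHom (φ.app U a)) W hW ξ
  rw [← app_resM, ← tensE_map_tmul D g W ξ (resM A hW a)]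
  refine (congr($(Injective.comp_factorThru (uncurry φ).desc (tE D g)).app W (tmul ξ (resM A hW a)))).trans ?_
  rw [Bilin.desc_tmul]
  show ev (secHom (φ.app W (resM A hW a))) W le_rfl ξ = _
  rw [app_resM]
  rfl

end Groth.Agent.Coherent
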