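import Groth.Agent.Coherent.TensorQcoh
import Groth.Agent.Coherent.PullUnit
import Groth.Prelude.Def_ega3

/-!
# Sections of `F ⊗_A M` over an affine open
-/

set_option autoImplicit false
set_option backward.isDefEq.respectTransparency false

universe u

open CategoryTheory CategoryTheory.Limits AlgebraicGeometry Opposite TopologicalSpace TensorProduct
open Groth.Agent.Coherent Groth.Agent.PicLib Groth.Agent.AmpleLib

namespace Groth.Agent.Coherent.CohBC

variable (A : Type u) [CommRing A] {X : Scheme.{u}} [X.Over (Spec (CommRingCat.of A))]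

/-- The structure map into the functions on an open. -/
noncomputable def toΓ (U : X.Opens) : A →+* Γ(X, U) :=
  (X.presheaf.map (homOfLE (le_top (a := U))).op).hom.comp (Coh.toGlobal (X ↘ Spec (CommRingCat.of A)))

@[instance_reducible]
noncomputable def algA (U : X.Opens) : Algebra A Γ(X, U) := (toΓ A U).toAlgebra

@[instance_reducible]
noncomputable def modA (F : X.Modules) (U : X.Opens) : Module A Γ(F, U) := Module.compHom _ (toΓ A U)

scoped[Groth.Agent.Coherent.CohBC] attribute [instance] algA modA

variable {A}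

instance (F : X.Modules) (U : X.Opens) : IsScalarTower A Γ(X, U) Γ(F, U) :=
  IsScalarTower.of_algebraMap_smul fun _ _ => rfl

theorem toΓ_res {U V : X.Opens} (h : V ≤ U) (a : A) :
    X.presheaf.map (homOfLE h).op (toΓ A U a) = toΓ A V a := by
  show X.presheaf.map (homOfLE h).op (X.presheaf.map _ _) = X.presheaf.map _ _
  rw [← ConcreteCategory.comp_apply, ← X.presheaf.map_comp]
  rfl

theorem resM_smulA (F : X.Modules) {U V : X.Opens} (h : V ≤ U) (a : A) (x : Γ(F, U)) :
    resM F h (a • x) = a • resM F h x := by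
  show resM F h (toΓ A U a • x) = toΓ A V a • resM F h x
  rw [resM_smul, toΓ_res]

theorem app_smulA {F G : X.Modules} (φ : F ⟶ G) (U : X.Opens) (a : A) (x : Γ(F, U)) :
    φ.app U (a • x) = a • φ.app U x :=
  Scheme.Modules.Hom.app_smul φ (toΓ A U a) x

variable (A) in
/-- The inverse image of `M~`. -/
noncomputable abbrev pullTilde (M : ModuleCat.{u} A) : X.Modules :=
  (Scheme.Modules.pullback (X ↘ Spec (CommRingCat.of A))).obj
    (tilde (R := CommRingCat.of A) M)

instance isQCoh_pullTilde (M : ModuleCat.{u} A) : Coh.IsQCoh (X := X) (pullTilde A M) :=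
  EGA43.InjFibre.isQCoh_pullback _ _

variable (A) in
/-- The section of the inverse image of `M~` attached to an element. -/
noncomputable def pullTildeSec (M : ModuleCat.{u} A) (U : X.Opens) (m : M) :
    Γ(pullTilde A M, U) :=
  resM (pullTilde A M) (le_top (a := U))
    (pullSec (X ↘ Spec (CommRingCat.of A)) (tsec (R := CommRingCat.of A) M m))

theorem pullTildeSec_res (M : ModuleCat.{u} A) {U V : X.Opens} (h : V ≤ U) (m : M) :
    resM (pullTilde A M) h (pullTildeSec A M U m) = pullTildeSec A M V m :=
  resM_resM _ _ _ _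

theorem pullTildeSec_map {M N : ModuleCat.{u} A} (g : M ⟶ N) (U : X.Opens) (m : M) :
    ((Scheme.Modules.pullback (X ↘ Spec (CommRingCat.of A))).map (tilde.map (R := CommRingCat.of A) g)).app U
      (pullTildeSec A M U m) = pullTildeSec A N U (g m) := by
  refine (app_resM _ _ _).trans (congrArg (resM _ _) ?_)
  refine (DCat.PullTensor.pullback_map_pullSec _ (tilde.map (R := CommRingCat.of A) g) ⊤ _).trans ?_
  exact congrArg _ (map_tsec (R := CommRingCat.of A) g m)

/-- `pullTildeSec` as a linear map. -/
noncomputable def pullTildeLin (M : ModuleCat.{u} A) (U : X.Opens) : M →ₗ[A] Γ(pullTilde A M, U) where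
  toFun := pullTildeSec A M U
  map_add' m m' := by
    rw [pullTildeSec, tsec_add]
    exact ((congrArg (resM _ _) (map_add _ _ _)).trans (map_add _ _ _))
  map_smul' a m := by
    rw [pullTildeSec, tsec_smul]
    refine (congrArg (fun z : Γ(tilde (R := CommRingCat.of A) M, ⊤) => resM (pullTilde A M) (le_top (a := U))
      (pullSec (X ↘ Spec (CommRingCat.of A)) z))
      (Scheme.Modules.smul_Spec_def (R := CommRingCat.of A) a _)).trans ?_
    refine (congrArg (resM (pullTilde A M) (le_top (a := U))) (pullSec_smul _ _ _)).trans ?_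
    refine (resM_smul (pullTilde A M) (le_top (a := U)) _ _).trans ?_
    refine congrArg (fun c : Γ(X, U) => c • pullTildeSec A M U m) ?_
    show X.presheaf.map _ ((X ↘ Spec (CommRingCat.of A)).app ⊤
      ((Spec (CommRingCat.of A)).presheaf.map _ _)) = X.presheaf.map _ _
    rw [show (Spec (CommRingCat.of A)).presheaf.map (⊤ : (Spec (CommRingCat.of A)).Opens).leTop.op = 𝟙 _ from
      (Spec (CommRingCat.of A)).presheaf.map_id _]
    rfl

/-- Sections of the inverse image of `M~` over an affine open. -/
theorem isBaseChange_pullTildeLin (M : ModuleCat.{u} A) {U : X.Opens} (hU : IsAffineOpen U) :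
    IsBaseChange Γ(X, U) (pullTildeLin (A := A) M U) := by
  let π := X ↘ Spec (CommRingCat.of A)
  let S := Γ(Spec (CommRingCat.of A), ⊤)
  let N := Γ(tilde (R := CommRingCat.of A) M, ⊤)
  let _ : Algebra S Γ(X, U) := (π.appLE ⊤ U le_top).hom.toAlgebra
  let _ : Module S Γ(pullTilde A M, U) := Module.compHom _ (π.appLE ⊤ U le_top).hom
  have : IsScalarTower S Γ(X, U) Γ(pullTilde A M, U) :=
    IsScalarTower.of_algebraMap_smul fun _ _ => rfl
  let ρ : A →+* S := (Scheme.ΓSpecIso (CommRingCat.of A)).inv.hom
  have hsurj : Function.Surjective ρ :=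
    (ConcreteCategory.bijective_of_isIso (Scheme.ΓSpecIso (CommRingCat.of A)).inv).2
  have happ : ∀ a : A, π.appLE ⊤ U le_top (ρ a) = toΓ A U a := fun a => rfl
  let t : M → N := tsec (R := CommRingCat.of A) M
  have ht : Function.Bijective t :=
    (tilde.isoTop (R := CommRingCat.of A) M).toLinearEquiv.bijective
  let t' := Equiv.ofBijective t ht
  have htadd : ∀ m m' : M, t (m + m') = t m + t m' := tsec_add (R := CommRingCat.of A) M
  have htsmul : ∀ (a : A) (m : M), t (a • m) = ρ a • t m := fun a m => by
    refine (tsec_smul (R := CommRingCat.of A) M a m).trans ?_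
    show ((Spec (CommRingCat.of A)).presheaf.map
      (⊤ : (Spec (CommRingCat.of A)).Opens).leTop.op) (ρ a) • t m = ρ a • t m
    rw [show (Spec (CommRingCat.of A)).presheaf.map (⊤ : (Spec (CommRingCat.of A)).Opens).leTop.op = 𝟙 _ from
      (Spec (CommRingCat.of A)).presheaf.map_id _]
    rfl
  have hadd' : ∀ n n' : N, t'.symm (n + n') = t'.symm n + t'.symm n' := fun n n' =>
    ht.1 ((t'.apply_symm_apply _).trans (((htadd _ _).trans
      (congrArg₂ (· + ·) (t'.apply_symm_apply n) (t'.apply_symm_apply n'))).symm))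
  have hsmul' : ∀ (a : A) (n : N), t'.symm (ρ a • n) = a • t'.symm n := fun a n =>
    ht.1 ((t'.apply_symm_apply _).trans (((htsmul _ _).trans
      (congrArg (ρ a • ·) (t'.apply_symm_apply n))).symm))
  let κ : Γ(X, U) ⊗[A] M →+ Γ(X, U) ⊗[S] N :=
    TensorProduct.liftAddHom
      (AddMonoidHom.mk' (fun c => AddMonoidHom.mk' (fun m => c ⊗ₜ[S] t m)
        fun m m' => by rw [htadd, tmul_add])
        fun c c' => AddMonoidHom.ext fun m => add_tmul c c' (t m))
      fun a c m => by
        show (toΓ A U a * c) ⊗ₜ[S] t m = c ⊗ₜ[S] t (a • m)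
        rw [htsmul, ← TensorProduct.smul_tmul, ← happ]
        rfl
  let κ' : Γ(X, U) ⊗[S] N →+ Γ(X, U) ⊗[A] M :=
    TensorProduct.liftAddHom
      (AddMonoidHom.mk' (fun c => AddMonoidHom.mk' (fun n => c ⊗ₜ[A] t'.symm n)
        fun n n' => by rw [hadd', tmul_add])
        fun c c' => AddMonoidHom.ext fun n => add_tmul c c' (t'.symm n))
      fun s c n => by
        obtain ⟨a, rfl⟩ := hsurj s
        show (π.appLE ⊤ U le_top (ρ a) * c) ⊗ₜ[A] t'.symm n = c ⊗ₜ[A] t'.symm (ρ a • n)
        rw [hsmul', ← TensorProduct.smul_tmul, happ]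
        rfl
  have hκ : Function.Bijective κ := by
    refine Function.bijective_iff_has_inverse.2 ⟨κ', fun z => ?_, fun z => ?_⟩
    · induction z using TensorProduct.induction_on with
      | zero => rw [map_zero, map_zero]
      | add x y hx hy => rw [map_add, map_add, hx, hy]
      | tmul c m => exact congrArg (c ⊗ₜ[A] ·) (t'.symm_apply_apply m)
    · induction z using TensorProduct.induction_on with
      | zero => rw [map_zero, map_zero]
      | add x y hx hy => rw [map_add, map_add, hx, hy]
      | tmul c n => exact congrArg (c ⊗ₜ[S] ·) (t'.apply_symm_apply n)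
  obtain ⟨μ, hμ, hμe⟩ := EGA43.InjFibre.pullMap_isBaseChange π (isAffineOpen_top _) hU
    (e := le_top) (M := tilde (R := CommRingCat.of A) M)
  have hμt : ∀ m : M, μ (t m) = pullTildeLin M U m := fun m => by
    refine (hμe _).trans ((pullMap_eq_resM_pullSec π (isAffineOpen_top _) hU le_top _ _).trans ?_)
    rfl
  let L : Γ(X, U) ⊗[A] M →ₗ[Γ(X, U)] Γ(pullTilde A M, U) := (pullTildeLin M U).liftBaseChange Γ(X, U)
  have hL : Function.Bijective L := by
    have : ⇑L = hμ.equiv ∘ κ := funext fun z => by
      induction z using TensorProduct.induction_on with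
      | zero => rw [map_zero, Function.comp_apply, map_zero, map_zero]
      | add x y hx hy =>
        simp only [Function.comp_apply, map_add] at hx hy ⊢
        rw [hx, hy]
      | tmul c m =>
        show L (c ⊗ₜ m) = hμ.equiv (c ⊗ₜ[S] t m)
        refine Eq.trans ?_ (hμ.equiv_tmul c (t m)).symm
        refine Eq.trans (LinearMap.liftBaseChange_tmul ..) ?_
        exact congrArg (c • ·) (hμt m).symm
    rw [this]
    exact hμ.equiv.bijective.comp hκ
  exact IsBaseChange.of_equiv (LinearEquiv.ofBijective L hL) fun m => by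
    simp [L, LinearMap.liftBaseChange_tmul]

variable (A) in
/-- The map `Γ(U, F) ⊗_A M → Γ(U, F ⊗_A M)`. -/
noncomputable def tensorASec (F : X.Modules) (M : ModuleCat.{u} A) (U : X.Opens) :
    Γ(F, U) ⊗[A] M →ₗ[A] Γ(CohB1.tensorMod F (pullTilde A M), U) :=
  TensorProduct.lift (LinearMap.mk₂ A (fun x m => tmul x (pullTildeLin M U m))
    (fun x x' m => tmul_add_left _ _ _) (fun a x m => tmul_smul_left (toΓ A U a) x _)
    (fun x m m' => by rw [map_add, tmul_add_right])
    (fun a x m => by rw [map_smul]; exact tmul_smul_right (toΓ A U a) x _))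

theorem tensorASec_tmul (F : X.Modules) (M : ModuleCat.{u} A) (U : X.Opens) (x : Γ(F, U)) (m : M) :
    tensorASec A F M U (x ⊗ₜ m) = tmul x (pullTildeSec A M U m) := rfl

theorem bijective_tensorASec (F : X.Modules) [Coh.IsQCoh F] (M : ModuleCat.{u} A) {U : X.Opens}
    (hU : IsAffineOpen U) : Function.Bijective (tensorASec A F M U) := by
  have hb := isBaseChange_pullTildeLin (A := A) M hU
  let e : Γ(F, U) ⊗[A] M ≃ₗ[Γ(X, U)] Γ(F, U) ⊗[Γ(X, U)] Γ(pullTilde A M, U) :=
    (AlgebraTensorModule.cancelBaseChange A Γ(X, U) Γ(X, U) Γ(F, U) M).symm.trans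
      (TensorProduct.congr (LinearEquiv.refl _ _) hb.equiv)
  have : ⇑(tensorASec A F M U) = tmulMap F (pullTilde A M) U ∘ e := funext fun z => by
    induction z using TensorProduct.induction_on with
    | zero => rw [map_zero, Function.comp_apply, map_zero, map_zero]
    | add a b ha hb =>
      simp only [Function.comp_apply, map_add] at ha hb ⊢
      rw [ha, hb]
    | tmul x m =>
      simp only [Function.comp_apply, e, LinearEquiv.trans_apply,
        AlgebraTensorModule.cancelBaseChange_symm_tmul, TensorProduct.congr_tmul,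
        LinearEquiv.refl_apply, IsBaseChange.equiv_tmul, one_smul, tmulMap_tmul]
      rfl
  rw [this]
  exact (bijective_tmulMap hU F (pullTilde A M)).comp e.bijective

end Groth.Agent.Coherent.CohBC
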