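import Groth.Agent.Coherent.RpushSupport
import Groth.Agent.Coherent.RpushCoh
import Groth.Agent.Coherent.ProperFinite
import Groth.Agent.Coherent.FiniteType
import Groth.Agent.NormalExtLib.Basic
import Groth.Prelude.Def_ega3
import Mathlib.CategoryTheory.Abelian.RightDerived

/-!
# `f_* O_X = O_Y` for proper morphisms onto normal schemes with `R(Y)` algebraically closed in `R(X)`
-/

set_option autoImplicit false
set_option backward.isDefEq.respectTransparency false

universe u

open CategoryTheory CategoryTheory.Limits AlgebraicGeometry Opposite TopologicalSpace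

namespace Groth.Agent.Coherent

variable {X Y : Scheme.{u}} (f : X ⟶ Y)

/-- Sections of `O_X` over the preimage of an affine open are finite over it, for `f` proper. -/
theorem finite_app_of_isProper [IsProper f] [IsLocallyNoetherian Y] {V : Y.Opens}
    (hV : IsAffineOpen V) : (f.app V).hom.Finite := by
  have : IsLocallyNoetherian X := LocallyOfFiniteType.isLocallyNoetherian f
  have := hasInjectiveResolutions_modules X
  let O := Coh.structureModule X
  have hR := isCoh_rpush f (isCoh_structureModule X) 0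
  have hP : Coh.IsCoh ((Coh.push f).obj O) :=
    isCoh_of_iso ((Coh.push f).rightDerivedZeroIsoSelf.app O) hR
  have hfin := ((isCoh_iff_finite_sections _).1 hP).2 V hV
  let _ := (f.app V).hom.toAlgebra
  show Module.Finite Γ(Y, V) Γ(X, f ⁻¹ᵁ V)
  exact Module.Finite.of_surjective (M := Γ((Coh.push f).obj O, V))
    ({ toFun := fun m => (m : Γ(X, f ⁻¹ᵁ V))
       map_add' := fun _ _ => rfl
       map_smul' := fun r m => rfl } : Γ((Coh.push f).obj O, V) →ₗ[Γ(Y, V)] Γ(X, f ⁻¹ᵁ V))
    fun x => ⟨x, rfl⟩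

variable [IsIntegral X] [IsIntegral Y]

theorem stalkToFunctionField_germ (h : f.base (genericPoint X) ⤳ genericPoint Y) (V : Y.Opens)
    (hV : genericPoint Y ∈ V) (hV' : genericPoint X ∈ f ⁻¹ᵁ V) (r : Γ(Y, V)) :
    CohIII.stalkToFunctionField f (genericPoint Y) h (Y.presheaf.germ V _ hV r) =
      X.presheaf.germ (f ⁻¹ᵁ V) _ hV' (f.app V r) := by
  show f.stalkMap (genericPoint X) (Y.presheaf.stalkSpecializes h (Y.presheaf.germ V _ hV r)) = _
  rw [TopCat.Presheaf.germ_stalkSpecializes_apply, Scheme.Hom.germ_stalkMap_apply]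

theorem isIntegralElem_germ [IsProper f] [IsLocallyNoetherian Y]
    (h : f.base (genericPoint X) ⤳ genericPoint Y) {V : Y.Opens} (hV : IsAffineOpen V)
    (hη : genericPoint Y ∈ V) (hV' : genericPoint X ∈ f ⁻¹ᵁ V) (s : Γ(X, f ⁻¹ᵁ V)) :
    ((CohIII.stalkToFunctionField f (genericPoint Y) h).comp
      (Y.presheaf.germ V _ hη).hom).IsIntegralElem (X.presheaf.germ (f ⁻¹ᵁ V) _ hV' s) := by
  obtain ⟨q, hq, hqs⟩ := (RingHom.IsIntegral.of_finite (finite_app_of_isProper f hV)) s
  refine ⟨q, hq, ?_⟩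
  have e : (CohIII.stalkToFunctionField f (genericPoint Y) h).comp (Y.presheaf.germ V _ hη).hom =
      (X.presheaf.germ (f ⁻¹ᵁ V) _ hV').hom.comp (f.app V).hom :=
    RingHom.ext fun r => stalkToFunctionField_germ f h V hη hV' r
  rw [e, ← Polynomial.hom_eval₂, hqs, map_zero]

/-- `Γ(Y, V) = Γ(X, f⁻¹ V)` on affine opens. -/
theorem bijective_app_of_isAffineOpen [IsProper f] [IsLocallyNoetherian Y]
    (hY : Pi1.IsNormalScheme Y) (h : f.base (genericPoint X) ⤳ genericPoint Y)
    (halg : ∀ x : X.functionField,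
      (CohIII.stalkToFunctionField f (genericPoint Y) h).IsIntegralElem x →
      x ∈ (CohIII.stalkToFunctionField f (genericPoint Y) h).range)
    {V : Y.Opens} (hV : IsAffineOpen V) : Function.Bijective (f.app V) := by
  rcases (V : Set Y).eq_empty_or_nonempty with hE | ⟨y, hy⟩
  · have hV0 : V = ⊥ := Opens.ext hE
    have : Subsingleton Γ(Y, V) := by rw [hV0]; infer_instance
    have : Subsingleton Γ(X, f ⁻¹ᵁ V) := by
      rw [hV0]
      exact inferInstanceAs (Subsingleton Γ(X, ⊥))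
    exact ⟨fun _ _ _ => Subsingleton.elim _ _, fun b => ⟨0, Subsingleton.elim _ _⟩⟩
  have : Nonempty V := ⟨⟨y, hy⟩⟩
  have hη : genericPoint Y ∈ V := (genericPoint_specializes y).mem_open V.isOpen hy
  have hV' : genericPoint X ∈ f ⁻¹ᵁ V := h.mem_open V.isOpen hη
  have : Nonempty (f ⁻¹ᵁ V : X.Opens) := ⟨⟨_, hV'⟩⟩
  have := functionField_isFractionRing_of_isAffineOpen Y V hV
  have := NormalExtLib.isIntegrallyClosed_sections hY V hV
  let σ := CohIII.stalkToFunctionField f (genericPoint Y) h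
  have hσ : Function.Injective σ := RingHom.injective σ
  have hgY : Function.Injective (Y.presheaf.germ V _ hη) := Y.germToFunctionField_injective V
  have hgX : Function.Injective (X.presheaf.germ (f ⁻¹ᵁ V) _ hV') :=
    X.germToFunctionField_injective (f ⁻¹ᵁ V)
  refine ⟨fun a b hab => hgY (hσ ?_), fun s => ?_⟩
  · rw [stalkToFunctionField_germ f h V hη hV', stalkToFunctionField_germ f h V hη hV', hab]
  · have hint := isIntegralElem_germ f h hV hη hV' s
    obtain ⟨q, hq, hqs⟩ := hint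
    obtain ⟨t, ht⟩ := halg _ ⟨q.map (Y.presheaf.germ V _ hη).hom, hq.map _, by
      rw [Polynomial.eval₂_map]; exact hqs⟩
    have ht' : _root_.IsIntegral Γ(Y, V) t := by
      refine ⟨q, hq, hσ ?_⟩
      rw [map_zero, Polynomial.hom_eval₂, ht]
      exact hqs
    obtain ⟨r, rfl⟩ := IsIntegrallyClosed.isIntegral_iff.mp ht'
    exact ⟨r, hgX ((stalkToFunctionField_germ f h V hη hV' r).symm.trans ht)⟩

/-- `O_Y → f_* O_X` is an isomorphism. -/
theorem isIso_app_of_algClosed [IsProper f] [IsLocallyNoetherian Y]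
    (hY : Pi1.IsNormalScheme Y) (h : f.base (genericPoint X) ⤳ genericPoint Y)
    (halg : ∀ x : X.functionField,
      (CohIII.stalkToFunctionField f (genericPoint Y) h).IsIntegralElem x →
      x ∈ (CohIII.stalkToFunctionField f (genericPoint Y) h).range) (V : Y.Opens) :
    IsIso (f.app V) := by
  let φ : Y.sheaf ⟶ (TopCat.Sheaf.pushforward CommRingCat f.base).obj X.sheaf := ⟨f.c⟩
  have hφ : IsIso φ := TopCat.Sheaf.isIso_iff_isIso_basis
    (B := fun U : Y.affineOpens => (U : Y.Opens))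
    (by simpa [Subtype.range_val] using Y.isBasis_affineOpens) fun U =>
      (ConcreteCategory.isIso_iff_bijective _).2 (bijective_app_of_isAffineOpen f hY h halg U.2)
  exact inferInstanceAs (IsIso (((sheafToPresheaf _ _).map φ).app (op V)))

/-- Conversely, on a normal source a morphism with `f_* O_X = O_Y` has `R(Y)` integrally closed in
`R(X)`. -/
theorem mem_range_of_isIntegralElem (hX : Pi1.IsNormalScheme X)
    (h : f.base (genericPoint X) ⤳ genericPoint Y) (hf : ∀ U : Y.Opens, IsIso (f.app U))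
    (x : X.functionField)
    (hx : (CohIII.stalkToFunctionField f (genericPoint Y) h).IsIntegralElem x) :
    x ∈ (CohIII.stalkToFunctionField f (genericPoint Y) h).range := by
  let σ := CohIII.stalkToFunctionField f (genericPoint Y) h
  obtain ⟨_, ⟨V, hV, rfl⟩, hη, -⟩ :=
    Y.isBasis_affineOpens.exists_subset_of_mem_open (Set.mem_univ (genericPoint Y)) isOpen_univ
  have : Nonempty V := ⟨⟨_, hη⟩⟩
  have hV' : genericPoint X ∈ f ⁻¹ᵁ V := h.mem_open V.isOpen hη
  have : Nonempty (f ⁻¹ᵁ V : X.Opens) := ⟨⟨_, hV'⟩⟩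
  have := functionField_isFractionRing_of_isAffineOpen Y V hV
  let _ : Algebra Y.functionField X.functionField := σ.toAlgebra
  let _ : Algebra Γ(Y, V) X.functionField :=
    (σ.comp (Y.presheaf.germ V _ hη).hom).toAlgebra
  have : IsScalarTower Γ(Y, V) Y.functionField X.functionField :=
    IsScalarTower.of_algebraMap_eq fun _ => rfl
  obtain ⟨⟨b, hb⟩, hbx⟩ := IsIntegral.exists_multiple_integral_of_isLocalization
    (nonZeroDivisors Γ(Y, V)) (Rₘ := Y.functionField) x hx
  let y0 : X.functionField := σ (Y.presheaf.germ V _ hη b) * x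
  have hy0 : ((X.presheaf.germ (f ⁻¹ᵁ V) _ hV').hom.comp (f.app V).hom).IsIntegralElem y0 := by
    have e : σ.comp (Y.presheaf.germ V _ hη).hom =
        (X.presheaf.germ (f ⁻¹ᵁ V) _ hV').hom.comp (f.app V).hom :=
      RingHom.ext fun r => stalkToFunctionField_germ f h V hη hV' r
    rw [← e]
    exact hbx
  have hU : ∀ U : {U : X.affineOpens // (U : X.Opens) ≤ f ⁻¹ᵁ V ∧ genericPoint X ∈ (U : X.Opens)},
      ∃ w : Γ(X, U.1.1), X.presheaf.germ U.1.1 _ U.2.2 w = y0 := by
    rintro ⟨⟨U, hU⟩, hle, hUη⟩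
    have : Nonempty U := ⟨⟨_, hUη⟩⟩
    have := functionField_isFractionRing_of_isAffineOpen X U hU
    have := NormalExtLib.isIntegrallyClosed_sections hX U hU
    obtain ⟨q, hq, hq0⟩ := hy0
    have hint : _root_.IsIntegral Γ(X, U) y0 := by
      refine ⟨q.map ((X.presheaf.map (homOfLE hle).op).hom.comp (f.app V).hom), hq.map _, ?_⟩
      rw [Polynomial.eval₂_map]
      refine Eq.trans ?_ hq0
      congr 1
      refine RingHom.ext fun r => ?_
      exact TopCat.Presheaf.germ_res_apply X.presheaf (homOfLE hle) _ hUη _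
    exact IsIntegrallyClosed.isIntegral_iff.mp hint
  choose w hw using hU
  have hcov : f ⁻¹ᵁ V ≤ ⨆ U : {U : X.affineOpens // (U : X.Opens) ≤ f ⁻¹ᵁ V ∧ genericPoint X ∈ (U : X.Opens)},
      (U.1.1 : X.Opens) := fun z hz => by
    obtain ⟨_, ⟨U, hU, rfl⟩, hzU, hUV⟩ :=
      X.isBasis_affineOpens.exists_subset_of_mem_open hz (f ⁻¹ᵁ V).isOpen
    exact Opens.mem_iSup.2 ⟨⟨⟨U, hU⟩, hUV, (genericPoint_specializes z).mem_open U.isOpen hzU⟩, hzU⟩
  obtain ⟨ρ, hρ, -⟩ := TopCat.Sheaf.existsUnique_gluing' X.sheaf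
    (fun U : {U : X.affineOpens // (U : X.Opens) ≤ f ⁻¹ᵁ V ∧ genericPoint X ∈ (U : X.Opens)} => U.1.1)
    (f ⁻¹ᵁ V) (fun U => homOfLE U.2.1) hcov w fun U U' => by
      have hm : genericPoint X ∈ U.1.1 ⊓ U'.1.1 := ⟨U.2.2, U'.2.2⟩
      have : Nonempty (U.1.1 ⊓ U'.1.1 : X.Opens) := ⟨⟨_, hm⟩⟩
      refine X.germToFunctionField_injective (U.1.1 ⊓ U'.1.1) ?_
      exact (TopCat.Presheaf.germ_res_apply X.presheaf _ _ hm _).trans ((hw U).trans
        ((hw U').symm.trans (TopCat.Presheaf.germ_res_apply X.presheaf _ _ hm _).symm))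
  have hρ0 : X.presheaf.germ (f ⁻¹ᵁ V) _ hV' ρ = y0 := by
    obtain ⟨U₀, hU₀⟩ := Opens.mem_iSup.1 (hcov hV')
    rw [← hw U₀, ← hρ U₀]
    exact (TopCat.Presheaf.germ_res_apply X.presheaf (homOfLE U₀.2.1) _ U₀.2.2 ρ).symm
  have := hf V
  obtain ⟨r, hr⟩ := (ConcreteCategory.bijective_of_isIso (f.app V)).2 ρ
  have hne : Y.presheaf.germ V _ hη b ≠ 0 := fun h0 =>
    nonZeroDivisors.ne_zero hb (Y.germToFunctionField_injective V (h0.trans (map_zero _).symm))
  refine ⟨Y.presheaf.germ V _ hη r / Y.presheaf.germ V _ hη b, ?_⟩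
  rw [map_div₀, stalkToFunctionField_germ f h V hη hV', hr, hρ0]
  exact mul_div_cancel_left₀ x fun h0 => hne (σ.injective (h0.trans (map_zero σ).symm))

end Groth.Agent.Coherent
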