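import Groth.Agent.AmpleLib.RestrictTensor

/-!
# Restriction to an open commutes with tensor products
-/

set_option autoImplicit false
set_option backward.isDefEq.respectTransparency false

universe u

open CategoryTheory CategoryTheory.Limits AlgebraicGeometry Opposite TopologicalSpace
open Groth.Agent.Coherent Groth.Agent.PicLib Groth.Agent.AmpleLib

namespace Groth.Agent.Coherent

variable {X Z : Scheme.{u}} (j : Z ⟶ X) [IsOpenImmersion j] (F M : X.Modules)

/-- The restriction of a section to the preimage of its open. -/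
noncomputable def upSec (P : X.Modules) (V : X.Opens) (a : Γ(P, V)) : Γ(P.restrict j, j ⁻¹ᵁ V) :=
  ((Scheme.Modules.restrictAdjunction j).unit.app P).app V a

theorem upSec_eq (P : X.Modules) (V : X.Opens) (a : Γ(P, V)) :
    upSec j P V a = resM P (j.image_preimage_le V) a := rfl

theorem upSec_add (P : X.Modules) (V : X.Opens) (a a' : Γ(P, V)) :
    upSec j P V (a + a') = upSec j P V a + upSec j P V a' := map_add _ a a'

theorem upSec_smul (P : X.Modules) (V : X.Opens) (r : Γ(X, V)) (a : Γ(P, V)) :
    upSec j P V (r • a) = j.app V r • upSec j P V a :=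
  Scheme.Modules.Hom.app_smul ((Scheme.Modules.restrictAdjunction j).unit.app P) r a

theorem upSec_res (P : X.Modules) {V V' : X.Opens} (h : V' ≤ V) (a : Γ(P, V)) :
    resM (P.restrict j) ((Opens.map j.base).map (homOfLE h)).le (upSec j P V a) =
      upSec j P V' (resM P h a) :=
  (app_resM ((Scheme.Modules.restrictAdjunction j).unit.app P) h a).symm

/-- The tensor of the restricted sections, as a bilinear map. -/
noncomputable def pushTensorBilin :
    Bilin F M ((Scheme.Modules.pushforward j).obj (CohB1.tensorMod (F.restrict j) (M.restrict j))) where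
  app V a b := (show Γ(CohB1.tensorMod (F.restrict j) (M.restrict j), j ⁻¹ᵁ V) from
    tmul (upSec j F V a) (upSec j M V b))
  add_left V a a' b := by
    show tmul (upSec j F V (a + a')) (upSec j M V b) =
      tmul (upSec j F V a) (upSec j M V b) + tmul (upSec j F V a') (upSec j M V b)
    rw [upSec_add, tmul_add_left]
  add_right V a b b' := by
    show tmul (upSec j F V a) (upSec j M V (b + b')) =
      tmul (upSec j F V a) (upSec j M V b) + tmul (upSec j F V a) (upSec j M V b')
    rw [upSec_add, tmul_add_right]
  smul_left V r a b := by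
    show tmul (upSec j F V (r • a)) (upSec j M V b) = j.app V r • tmul (upSec j F V a) (upSec j M V b)
    rw [upSec_smul, tmul_smul_left]
  smul_right V r a b := by
    show tmul (upSec j F V a) (upSec j M V (r • b)) = j.app V r • tmul (upSec j F V a) (upSec j M V b)
    rw [upSec_smul, tmul_smul_right]
  res V V' h a b := by
    show resM _ ((Opens.map j.base).map (homOfLE h)).le (tmul (upSec j F V a) (upSec j M V b)) =
      tmul (upSec j F V' (resM F h a)) (upSec j M V' (resM M h b))
    rw [resM_tmul, upSec_res j F h, upSec_res j M h]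

theorem restrictAdj_symm_app {P : X.Modules} {T : Z.Modules}
    (φ : P ⟶ (Scheme.Modules.pushforward j).obj T) (W : Z.Opens) (t : Γ(P, j ''ᵁ W)) :
    (((Scheme.Modules.restrictAdjunction j).homEquiv P T).symm φ).app W t =
      resM T (j.preimage_image_eq W).ge (φ.app (j ''ᵁ W) t) := by
  rw [Adjunction.homEquiv_counit]
  rfl

/-- The comparison `(F ⊗ M)|_Z → F|_Z ⊗ M|_Z`. -/
noncomputable def restrictTensorInv :
    (CohB1.tensorMod F M).restrict j ⟶ CohB1.tensorMod (F.restrict j) (M.restrict j) :=
  ((Scheme.Modules.restrictAdjunction j).homEquiv _ _).symm (pushTensorBilin j F M).desc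

theorem resM_upSec (P : X.Modules) (W : Z.Opens) (a : Γ(P.restrict j, W)) :
    resM (P.restrict j) (j.preimage_image_eq W).ge (upSec j P (j ''ᵁ W) ((P.restrictAppIso j W).hom a)) = a :=
  (resM_resM P (j.image_preimage_le (j ''ᵁ W)) (j.image_mono (j.preimage_image_eq W).ge) a).trans
    (PicLib.resM_self P _ a)

theorem restrictTensor_hom_inv :
    restrictTensorHom j F M ≫ restrictTensorInv j F M = 𝟙 _ := by
  refine AmpleLib.hom_ext fun W a b => ?_
  show (restrictTensorInv j F M).app W ((restrictTensorHom j F M).app W (tmul a b)) = tmul a b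
  refine (congrArg ((restrictTensorInv j F M).app W) (restrictTensorHom_tmul j F M W a b)).trans ?_
  refine (restrictAdj_symm_app j (pushTensorBilin j F M).desc W
    (tmul ((F.restrictAppIso j W).hom a) ((M.restrictAppIso j W).hom b))).trans ?_
  refine (congrArg (resM _ (j.preimage_image_eq W).ge) (Bilin.desc_tmul (pushTensorBilin j F M) (j ''ᵁ W)
    ((F.restrictAppIso j W).hom a) ((M.restrictAppIso j W).hom b))).trans ?_
  refine (resM_tmul (L := F.restrict j) (M := M.restrict j) (j.preimage_image_eq W).ge
    (upSec j F (j ''ᵁ W) ((F.restrictAppIso j W).hom a))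
    (upSec j M (j ''ᵁ W) ((M.restrictAppIso j W).hom b))).trans ?_
  rw [resM_upSec j F W a, resM_upSec j M W b]

theorem restrictTensor_inv_hom :
    restrictTensorInv j F M ≫ restrictTensorHom j F M = 𝟙 _ := by
  apply ((Scheme.Modules.restrictAdjunction j).homEquiv _ _).injective
  rw [Adjunction.homEquiv_naturality_right, restrictTensorInv, Equiv.apply_symm_apply,
    Adjunction.homEquiv_unit]
  refine AmpleLib.hom_ext fun V a b => ?_
  show (restrictTensorHom j F M).app (j ⁻¹ᵁ V) ((pushTensorBilin j F M).desc.app V (tmul a b)) =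
    upSec j (CohB1.tensorMod F M) V (tmul a b)
  refine (congrArg ((restrictTensorHom j F M).app (j ⁻¹ᵁ V)) (Bilin.desc_tmul _ V a b)).trans ?_
  refine (restrictTensorHom_tmul j F M (j ⁻¹ᵁ V) (upSec j F V a) (upSec j M V b)).trans ?_
  exact (resM_tmul (j.image_preimage_le V) a b).symm

/-- `F|_Z ⊗ M|_Z ≅ (F ⊗ M)|_Z`. -/
noncomputable def restrictTensorIso :
    CohB1.tensorMod (F.restrict j) (M.restrict j) ≅ (CohB1.tensorMod F M).restrict j :=
  ⟨restrictTensorHom j F M, restrictTensorInv j F M, restrictTensor_hom_inv j F M,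
    restrictTensor_inv_hom j F M⟩

end Groth.Agent.Coherent
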