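import Groth.Agent.Coherent.TensorTilde
import Groth.Agent.Coherent.RestrictTensorIso
import Groth.Agent.DCat.PullTensor
import Groth.Agent.Flatn12.PullbackSections

/-!
# Sections of a tensor product of quasi-coherent modules over an affine open
-/

set_option autoImplicit false
set_option backward.isDefEq.respectTransparency false

universe u

open CategoryTheory CategoryTheory.Limits AlgebraicGeometry Opposite TopologicalSpace TensorProduct
open Groth.Agent.Coherent Groth.Agent.PicLib Groth.Agent.AmpleLib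

namespace Groth.Agent.Coherent

section Tensor

variable {X : Scheme.{u}} {F F' G G' : X.Modules}

/-- Tensor product of two isomorphisms. -/
noncomputable def tensorIso (e : F ≅ F') (e' : G ≅ G') :
    CohB1.tensorMod F G ≅ CohB1.tensorMod F' G' :=
  ((DCoh.tensorBi (X := X)).mapIso e).app G ≪≫ ((DCoh.tensorBi (X := X)).obj F').mapIso e'

theorem tensorIso_tmul (e : F ≅ F') (e' : G ≅ G') (U : X.Opens) (a : Γ(F, U)) (b : Γ(G, U)) :
    (tensorIso e e').hom.app U (tmul a b) = tmul (e.hom.app U a) (e'.hom.app U b) :=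
  (congrArg ((((DCoh.tensorBi (X := X)).obj F').map e'.hom).app U)
    (DCat.PullTensor.tensorBi_map_tmul e.hom U a b)).trans
    (DCat.PullTensor.tensorBi_obj_map_tmul e'.hom U (e.hom.app U a) b)

/-- Tensor of sections, as a linear map out of the tensor product. -/
noncomputable def tmulMap (F G : X.Modules) (U : X.Opens) :
    Γ(F, U) ⊗[Γ(X, U)] Γ(G, U) →ₗ[Γ(X, U)] Γ(CohB1.tensorMod F G, U) :=
  TensorProduct.lift (LinearMap.mk₂ Γ(X, U) (fun a b => tmul a b) (fun a a' b => tmul_add_left a a' b)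
    (fun r a b => tmul_smul_left r a b) (fun a b b' => tmul_add_right a b b')
    (fun r a b => tmul_smul_right r a b))

theorem tmulMap_tmul (F G : X.Modules) (U : X.Opens) (a : Γ(F, U)) (b : Γ(G, U)) :
    tmulMap F G U (a ⊗ₜ b) = tmul a b := rfl

end Tensor

theorem app_hom_bijective {X : Scheme.{u}} {M N : X.Modules} (e : M ≅ N) (U : X.Opens) :
    Function.Bijective (e.hom.app U) :=
  Function.bijective_iff_has_inverse.2 ⟨e.inv.app U, fun a => congr($(e.hom_inv_id).app U a),
    fun b => congr($(e.inv_hom_id).app U b)⟩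

theorem fromTildeΓ_app_tsec {R : CommRingCat.{u}} (M : (Spec R).Modules) (m : Γ(M, ⊤)) :
    M.fromTildeΓ.app ⊤ (tsec ((modulesSpecToSheaf.obj M).presheaf.obj (op ⊤)) m) = m := by
  refine (congr($(Scheme.Modules.toOpen_fromTildeΓ_app M ⊤) m)).trans ?_
  exact congr($((modulesSpecToSheaf.obj M).1.map_id (op ⊤)) m)

variable {X : Scheme.{u}} {U : X.Opens} (hU : IsAffineOpen U) (F G : X.Modules)

include hU in
/-- Sections of a tensor product of quasi-coherent modules over an affine open. -/
theorem bijective_tmulMap [Coh.IsQCoh F] [Coh.IsQCoh G] : Function.Bijective (tmulMap F G U) := by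
  let j := hU.fromSpec
  have hF := Flatn12.isQCoh_restrict_fromSpec' F hU
  have hG := Flatn12.isQCoh_restrict_fromSpec' G hU
  let P := moduleSpecΓFunctor.obj (F.restrict j)
  let Q := moduleSpecΓFunctor.obj (G.restrict j)
  let eF : tilde P ≅ F.restrict j := asIso (F.restrict j).fromTildeΓ
  let eG : tilde Q ≅ G.restrict j := asIso (G.restrict j).fromTildeΓ
  let T := CohB1.tensorMod F G
  let e : tilde (ModuleCat.of Γ(X, U) (P ⊗[Γ(X, U)] Q)) ≅ T.restrict j :=
    tildeTensorIso P Q ≪≫ tensorIso eF eG ≪≫ restrictTensorIso j F G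
  let φ : P ⊗[Γ(X, U)] Q → Γ(T, U) := fun z =>
    Flatn12.secEquiv hU T (e.hom.app ⊤ (tsec (ModuleCat.of Γ(X, U) (P ⊗[Γ(X, U)] Q)) z))
  have hφ : Function.Bijective φ := (Flatn12.secEquiv hU T).bijective.comp
    ((app_hom_bijective e ⊤).comp
      (ConcreteCategory.bijective_of_isIso (tilde.toOpen (ModuleCat.of Γ(X, U) (P ⊗[Γ(X, U)] Q)) ⊤)))
  let c : Γ(F, U) ⊗[Γ(X, U)] Γ(G, U) ≃ₗ[Γ(X, U)] P ⊗[Γ(X, U)] Q :=
    TensorProduct.congr (Flatn12.secEquiv hU F).symm (Flatn12.secEquiv hU G).symm
  have key : ∀ (p : P) (q : Q), φ (p ⊗ₜ[Γ(X, U)] q) =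
      tmul (Flatn12.secEquiv hU F p) (Flatn12.secEquiv hU G q) := fun p q => by
    have h1 : e.hom.app ⊤ (tsec (ModuleCat.of Γ(X, U) (P ⊗[Γ(X, U)] Q)) (p ⊗ₜ[Γ(X, U)] q)) =
        (T.restrictAppIso j ⊤).inv
          (tmul ((F.restrictAppIso j ⊤).hom (show Γ(F.restrict j, ⊤) from p))
            ((G.restrictAppIso j ⊤).hom (show Γ(G.restrict j, ⊤) from q))) := by
      show (restrictTensorHom j F G).app ⊤ ((tensorIso eF eG).hom.app ⊤
        ((tildeTensorHom P Q).app ⊤ (tsec _ (p ⊗ₜ[Γ(X, U)] q)))) = _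
      rw [tildeTensorHom_tsec, tensorIso_tmul]
      refine (restrictTensorHom_tmul j F G ⊤ _ _).trans ?_
      rw [show eF.hom.app ⊤ (tsec P p) = (show Γ(F.restrict j, ⊤) from p) from
          fromTildeΓ_app_tsec (F.restrict j) p,
        show eG.hom.app ⊤ (tsec Q q) = (show Γ(G.restrict j, ⊤) from q) from
          fromTildeΓ_app_tsec (G.restrict j) q]
    refine (congrArg (Flatn12.secEquiv hU T) h1).trans ?_
    exact resM_tmul (fromSpec_image_top hU).ge _ _
  have : (fun z => tmulMap F G U z) = φ ∘ c := funext fun z => by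
    induction z using TensorProduct.induction_on with
    | zero =>
      rw [map_zero, Function.comp_apply, map_zero]
      show 0 = Flatn12.secEquiv hU T (e.hom.app ⊤ ((tilde.toOpen _ ⊤).hom 0))
      rw [map_zero, map_zero, map_zero]
    | add a b ha hb =>
      simp only [Function.comp_apply, map_add] at ha hb ⊢
      rw [ha, hb]
      show _ = Flatn12.secEquiv hU T (e.hom.app ⊤ ((tilde.toOpen _ ⊤).hom (c a + c b)))
      rw [map_add, map_add, map_add]
      rfl
    | tmul a b =>
      refine Eq.trans ?_ (key _ _).symm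
      show tmul a b = tmul (Flatn12.secEquiv hU F ((Flatn12.secEquiv hU F).symm a))
        (Flatn12.secEquiv hU G ((Flatn12.secEquiv hU G).symm b))
      rw [LinearEquiv.apply_symm_apply, LinearEquiv.apply_symm_apply]
  rw [show ⇑(tmulMap F G U) = φ ∘ c from this]
  exact hφ.comp c.bijective

end Groth.Agent.Coherent
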