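import Groth.Agent.Coherent.GradedCoh
import Groth.Agent.Coherent.ProjSpaceFinite
import Groth.Prelude.Def_Formal

/-!
# The submodules `I^n M` of a coherent module
-/

set_option autoImplicit false

universe u

open CategoryTheory CategoryTheory.Limits AlgebraicGeometry Opposite TopologicalSpace

namespace Groth.Agent.Coherent

attribute [local instance] hasFiniteBiproducts

variable {A : Type u} [CommRing A] {X : Scheme.{u}} [X.Over (Spec (CommRingCat.of A))]
  (I : Ideal A) (M : X.Modules)

theorem smulMod_app (a : A) (U : X.Opens) (m : Γ(M, U)) :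
    (Formal.smulMod A M a).app U m =
      (X.presheaf.map (homOfLE (le_top (a := U))).op (baseHom A X a) : Γ(X, U)) • m := rfl

theorem smulMod_add (a b : A) :
    Formal.smulMod A M (a + b) = Formal.smulMod A M a + Formal.smulMod A M b := by
  refine Scheme.Modules.hom_ext _ _ fun U => ?_
  ext m
  change _ = (Formal.smulMod A M a).app U m + (Formal.smulMod A M b).app U m
  rw [smulMod_app, smulMod_app, smulMod_app, map_add, map_add, add_smul]

theorem smulMod_mul (a b : A) :
    Formal.smulMod A M (a * b) = Formal.smulMod A M b ≫ Formal.smulMod A M a := by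
  refine Scheme.Modules.hom_ext _ _ fun U => ?_
  ext m
  change _ = (Formal.smulMod A M a).app U ((Formal.smulMod A M b).app U m)
  rw [smulMod_app, smulMod_app, smulMod_app, map_mul, map_mul, mul_smul]

theorem smulMod_zero : Formal.smulMod A M (0 : A) = 0 := by
  have h := smulMod_add M (0 : A) 0
  rw [add_zero] at h
  simpa using h

theorem smulMod_one : Formal.smulMod A M (1 : A) = 𝟙 M := by
  refine Scheme.Modules.hom_ext _ _ fun U => ?_
  ext m
  change _ = m
  rw [smulMod_app, map_one, map_one, one_smul]

/-- `I^n M`. -/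
noncomputable def powSub (n : ℕ) : X.Modules := Abelian.image (Formal.smulFamily (I ^ n) M)

/-- The inclusion of `I^n M`. -/
noncomputable def powInc (n : ℕ) : powSub I M n ⟶ M :=
  Abelian.image.ι (Formal.smulFamily (I ^ n) M)

instance (n : ℕ) : Mono (powInc I M n) := by unfold powInc powSub; infer_instance

theorem powInc_π (n : ℕ) : powInc I M n ≫ Formal.modPowπ I n M = 0 :=
  kernel.condition (cokernel.π (Formal.smulFamily (I ^ n) M))

/-- `0 → I^n M → M → M/I^n M → 0`. -/
noncomputable abbrev powSeq (n : ℕ) : ShortComplex X.Modules :=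
  ShortComplex.mk (powInc I M n) (Formal.modPowπ I n M) (powInc_π I M n)

theorem powSeq_shortExact (n : ℕ) : (powSeq I M n).ShortExact :=
  imSeq_shortExact (Formal.smulFamily (I ^ n) M)

theorem smulMod_modPowπ {n : ℕ} {c : A} (hc : c ∈ I ^ n) :
    Formal.smulMod A M c ≫ Formal.modPowπ I n M = 0 := by
  have e : Sigma.ι (fun _ : (I ^ n : Ideal A) => M) ⟨c, hc⟩ ≫ Formal.smulFamily (I ^ n) M =
      Formal.smulMod A M c := by simp [Formal.smulFamily]
  rw [← e, Category.assoc]
  exact (congrArg (fun z => _ ≫ z) (cokernel.condition (Formal.smulFamily (I ^ n) M))).trans comp_zero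

theorem powSub_lift_condition {n : ℕ} {N : X.Modules} (g : M ⟶ N)
    (h : ∀ c ∈ I ^ n, Formal.smulMod A M c ≫ g = 0) : powInc I M n ≫ g = 0 := by
  change Abelian.image.ι (Formal.smulFamily (I ^ n) M) ≫ g = (0 : Abelian.image _ ⟶ N)
  rw [← cancel_epi (Abelian.factorThruImage (Formal.smulFamily (I ^ n) M)), ← Category.assoc,
    Abelian.image.fac, comp_zero]
  refine Sigma.hom_ext _ _ fun c => ?_
  rw [comp_zero, ← Category.assoc]
  have e : Sigma.ι (fun _ : (I ^ n : Ideal A) => M) c ≫ Formal.smulFamily (I ^ n) M =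
      Formal.smulMod A M (c : A) := by simp [Formal.smulFamily]
  rw [e]
  exact h c c.2

/-- Multiplication by an element of `I^n`, into `I^n M`. -/
noncomputable def powElem {n : ℕ} {c : A} (hc : c ∈ I ^ n) : M ⟶ powSub I M n :=
  kernel.lift (cokernel.π (Formal.smulFamily (I ^ n) M)) (Formal.smulMod A M c)
    (smulMod_modPowπ I M hc)

@[simp]
theorem powElem_inc {n : ℕ} {c : A} (hc : c ∈ I ^ n) :
    powElem I M hc ≫ powInc I M n = Formal.smulMod A M c :=
  kernel.lift_ι _ _ _

/-- Multiplication `I^n M → I^(n+1) M` by an element of `I`. -/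
noncomputable def powMul {a : A} (ha : a ∈ I) (n : ℕ) : powSub I M n ⟶ powSub I M (n + 1) :=
  kernel.lift (cokernel.π (Formal.smulFamily (I ^ (n + 1)) M))
    (powInc I M n ≫ Formal.smulMod A M a) <| by
      rw [Category.assoc]
      refine powSub_lift_condition I M _ fun c hc => ?_
      rw [← Category.assoc, ← smulMod_mul]
      exact smulMod_modPowπ I M (pow_succ' I n ▸ Ideal.mul_mem_mul ha hc)

@[simp]
theorem powMul_inc {a : A} (ha : a ∈ I) (n : ℕ) :
    powMul I M ha n ≫ powInc I M (n + 1) = powInc I M n ≫ Formal.smulMod A M a :=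
  kernel.lift_ι _ _ _

/-- The inclusion `I^k M → I^m M` for `m ≤ k`. -/
noncomputable def powDown {m k : ℕ} (h : m ≤ k) : powSub I M k ⟶ powSub I M m :=
  kernel.lift (cokernel.π (Formal.smulFamily (I ^ m) M)) (powInc I M k) <|
    powSub_lift_condition I M _ fun _ hc => smulMod_modPowπ I M (Ideal.pow_le_pow_right h hc)

@[simp]
theorem powDown_inc {m k : ℕ} (h : m ≤ k) : powDown I M h ≫ powInc I M m = powInc I M k :=
  kernel.lift_ι _ _ _

theorem powMul_comm {a b : A} (ha : a ∈ I) (hb : b ∈ I) (n : ℕ) :
    powMul I M ha n ≫ powMul I M hb (n + 1) = powMul I M hb n ≫ powMul I M ha (n + 1) := by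
  rw [← cancel_mono (powInc I M (n + 1 + 1)), Category.assoc, Category.assoc, powMul_inc,
    powMul_inc, ← Category.assoc, ← Category.assoc, powMul_inc, powMul_inc, Category.assoc,
    Category.assoc, ← smulMod_mul, ← smulMod_mul, mul_comm]

theorem powMul_down {a : A} (ha : a ∈ I) {m k : ℕ} (h : m ≤ k) :
    powMul I M ha k ≫ powDown I M (Nat.succ_le_succ h) = powDown I M h ≫ powMul I M ha m := by
  rw [← cancel_mono (powInc I M (m + 1)), Category.assoc, powDown_inc, powMul_inc, Category.assoc,
    powMul_inc, ← Category.assoc, powDown_inc]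

variable [IsNoetherianRing A] [IsLocallyNoetherian X]

theorem exists_finite_smul_cokernel (J : Ideal A) : ∃ (r : ℕ) (g : Fin r → A),
    Nonempty (cokernel (biproduct.desc fun i : Fin r => Formal.smulMod A M (g i)) ≅
      cokernel (Formal.smulFamily J M)) := by
  obtain ⟨r, g, hg⟩ := Submodule.fg_iff_exists_fin_generating_family.1 (IsNoetherian.noetherian J)
  refine ⟨r, g, ⟨?_⟩⟩
  have h0 : ∀ c ∈ J, Formal.smulMod A M c ≫
      cokernel.π (biproduct.desc fun i : Fin r => Formal.smulMod A M (g i)) = 0 := fun c hc => by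
    have hc' : c ∈ Submodule.span A (Set.range g) := hg.ge hc
    induction hc' using Submodule.span_induction with
    | mem x hx =>
      obtain ⟨i, rfl⟩ := hx
      rw [← biproduct.ι_desc (fun i : Fin r => Formal.smulMod A M (g i)) i, Category.assoc,
        cokernel.condition, comp_zero]
    | zero => rw [smulMod_zero, zero_comp]
    | add a b ha hb iha ihb =>
      rw [smulMod_add, Preadditive.add_comp, iha (hg.le ha), ihb (hg.le hb), add_zero]
    | smul t a ha iha =>
      rw [smul_eq_mul, mul_comm, smulMod_mul, Category.assoc, iha (hg.le ha), comp_zero]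
  exact
    { hom := cokernel.desc _ (cokernel.π _) (biproduct.hom_ext' _ _ fun i => by
        rw [← Category.assoc, biproduct.ι_desc, comp_zero]
        have e : Sigma.ι (fun _ : J => M) ⟨g i, hg.le (Submodule.subset_span ⟨i, rfl⟩)⟩ ≫
            Formal.smulFamily J M = Formal.smulMod A M (g i) := by simp [Formal.smulFamily]
        rw [← e, Category.assoc, cokernel.condition, comp_zero])
      inv := cokernel.desc _ (cokernel.π _) (Sigma.hom_ext _ _ fun c => by
        rw [comp_zero, ← Category.assoc,
          show Sigma.ι (fun _ : J => M) c ≫ Formal.smulFamily J M = Formal.smulMod A M (c : A) by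
            simp [Formal.smulFamily]]
        exact h0 c c.2)
      hom_inv_id := by rw [← cancel_epi (cokernel.π _)]; simp
      inv_hom_id := by rw [← cancel_epi (cokernel.π _)]; simp }

variable {M}

theorem isCoh_modPow (hM : Coh.IsCoh M) (n : ℕ) : Coh.IsCoh (Formal.modPow I n M) := by
  obtain ⟨r, g, ⟨e⟩⟩ := exists_finite_smul_cokernel M (I ^ n)
  let Ψ := biproduct.desc fun i : Fin r => Formal.smulMod A M (g i)
  have h : Coh.IsCoh (cokernel Ψ) :=
    isCoh_cokernel Ψ (isCoh_biproduct (fun _ : Fin r => M) fun _ => hM).1 hM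
  have := h.1
  have hm : Mono e.inv := inferInstance
  exact @isCoh_of_mono _ _ _ _ e.inv hm h (isQCoh_of_iso e)

theorem isCoh_powSub (hM : Coh.IsCoh M) (n : ℕ) : Coh.IsCoh (powSub I M n) :=
  isCoh_kernel (Formal.modPowπ I n M) hM (isCoh_modPow I hM n).1

variable {I} in
theorem secEG_powSub (hM : Coh.IsCoh M) {r : ℕ} {a : Fin r → A} (ha : ∀ i, a i ∈ I)
    (hI : Submodule.span A (Set.range a) = I) :
    SecEG (powSub I M) fun i n => powMul I M (ha i) n := by
  intro U hU
  refine ⟨0, fun n _ x => ?_⟩
  let E : (⨁ fun _ : Fin r => powSub I M n) ⟶ powSub I M (n + 1) :=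
    biproduct.desc fun i => powMul I M (ha i) n
  have hfac : ∀ i, powMul I M (ha i) n ≫ cokernel.π E = 0 := fun i => by
    rw [← biproduct.ι_desc (fun i => powMul I M (ha i) n) i, Category.assoc, cokernel.condition,
      comp_zero]
  have hc : ∀ c (hc : c ∈ I ^ (n + 1)), powElem I M hc ≫ cokernel.π E = 0 := fun c hc => by
    have hc' : c ∈ I * I ^ n := pow_succ' I n ▸ hc
    refine (Submodule.mul_induction_on (C := fun c => ∃ hc : c ∈ I ^ (n + 1),
      powElem I M hc ≫ cokernel.π E = 0) hc' ?_ ?_).2
    · intro m hm b hb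
      have hmb : m * b ∈ I ^ (n + 1) := pow_succ' I n ▸ Ideal.mul_mem_mul hm hb
      refine ⟨hmb, ?_⟩
      obtain ⟨t, rfl⟩ := Submodule.mem_span_range_iff_exists_fun A |>.1 (hI.ge hm)
      have e : powElem I M hmb = ∑ i, powElem I M (Ideal.mul_mem_left _ (t i) hb) ≫
          powMul I M (ha i) n := by
        rw [← cancel_mono (powInc I M (n + 1)), powElem_inc, Preadditive.sum_comp]
        simp only [Category.assoc, powMul_inc, reassoc_of% powElem_inc, ← smulMod_mul]
        simp only [Finset.sum_mul, smul_eq_mul]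
        have hs : ∀ s : Finset (Fin r), Formal.smulMod A M (∑ i ∈ s, t i * a i * b) =
            ∑ i ∈ s, Formal.smulMod A M (a i * (t i * b)) := fun s => by
          induction s using Finset.induction with
          | empty => rw [Finset.sum_empty, Finset.sum_empty, smulMod_zero]
          | insert i s hi ih =>
            rw [Finset.sum_insert hi, Finset.sum_insert hi, smulMod_add, ih]
            congr 2
            ring
        exact hs _
      rw [e, Preadditive.sum_comp]
      exact Finset.sum_eq_zero fun i _ => by rw [Category.assoc, hfac, comp_zero]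
    · rintro c d ⟨hc1, ihc⟩ ⟨hd1, ihd⟩
      refine ⟨add_mem hc1 hd1, ?_⟩
      have e : powElem I M (add_mem hc1 hd1) = powElem I M hc1 + powElem I M hd1 := by
        rw [← cancel_mono (powInc I M (n + 1)), powElem_inc, Preadditive.add_comp, powElem_inc,
          powElem_inc, smulMod_add]
      rw [e, Preadditive.add_comp, ihc, ihd, add_zero]
  have : Epi E := by
    refine Preadditive.epi_of_isZero_cokernel E ((IsZero.iff_id_eq_zero _).2 ?_)
    rw [← cancel_epi (cokernel.π E), Category.comp_id, comp_zero]
    let fT : (∐ fun _ : (I ^ (n + 1) : Ideal A) => M) ⟶ powSub I M (n + 1) :=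
      Abelian.factorThruImage (Formal.smulFamily (I ^ (n + 1)) M)
    have : Epi fT := inferInstanceAs (Epi (Abelian.factorThruImage _))
    rw [← cancel_epi fT, comp_zero]
    refine Sigma.hom_ext _ _ fun c => ?_
    rw [comp_zero, ← Category.assoc]
    have e : Sigma.ι (fun _ : (I ^ (n + 1) : Ideal A) => M) c ≫ fT = powElem I M c.2 := by
      rw [← cancel_mono (powInc I M (n + 1)), powElem_inc, Category.assoc]
      exact (congrArg (fun z => _ ≫ z) (Abelian.image.fac _)).trans (by simp [Formal.smulFamily])
    rw [e]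
    exact hc c c.2
  have hbc := isCoh_biproduct (fun _ : Fin r => powSub I M n) fun _ => isCoh_powSub I hM n
  have := hbc.1
  have := (isCoh_powSub I hM (n + 1)).1
  let S : ShortComplex X.Modules := ShortComplex.mk (kernel.ι E) E (kernel.condition E)
  have hS : S.ShortExact :=
    { mono_f := inferInstanceAs (Mono (kernel.ι E))
      epi_g := ‹Epi E›
      exact := ShortComplex.exact_of_f_is_kernel _ (kernelIsKernel E) }
  have : Coh.IsQCoh S.X₁ := isQCoh_kernel E
  obtain ⟨y, rfl⟩ := sections_surjective hS hU x
  refine ⟨fun i => (biproduct.π (fun _ : Fin r => powSub I M n) i).app U y, ?_⟩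
  have e : E = ∑ i, biproduct.π (fun _ : Fin r => powSub I M n) i ≫ powMul I M (ha i) n := by
    apply biproduct.hom_ext'
    intro j
    rw [biproduct.ι_desc, Preadditive.comp_sum]
    rw [Finset.sum_eq_single j (fun i _ hi => by rw [biproduct.ι_π_ne_assoc _ (Ne.symm hi), zero_comp])
      (fun h => absurd (Finset.mem_univ j) h), biproduct.ι_π_self_assoc]
  have key : ∀ (s : Finset (Fin r)),
      (∑ i ∈ s, biproduct.π (fun _ : Fin r => powSub I M n) i ≫ powMul I M (ha i) n).app U y =
        ∑ i ∈ s, (powMul I M (ha i) n).app U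
          ((biproduct.π (fun _ : Fin r => powSub I M n) i).app U y) := fun s => by
    induction s using Finset.induction with
    | empty => rw [Finset.sum_empty, Finset.sum_empty]; rfl
    | insert i s hi ih => rw [Finset.sum_insert hi, Finset.sum_insert hi, ← ih]; rfl
  exact (congrArg (fun z : (⨁ fun _ : Fin r => powSub I M n) ⟶ powSub I M (n + 1) => z.app U y)
    e).trans (key _)

end Groth.Agent.Coherent
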