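import Groth.Agent.SpecSeq.Consequences
import Groth.Agent.SpecSeq.SheafSS
import Groth.Agent.Coherent.RpushSupport

/-!
# The Leray spectral sequence of direct images: coherence and the affine case
-/

set_option autoImplicit false

universe u

open CategoryTheory CategoryTheory.Limits AlgebraicGeometry Opposite
open scoped ZeroObject

namespace Groth.Agent.Coherent

variable {X Y S : Scheme.{u}}

/-- `R^p (f ≫ g)_* M ≅ g_* (R^p f_* M)` for `g` affine. -/
theorem nonempty_rpushAb_comp_affine_base (f : X ⟶ Y) (g : Y ⟶ S) [QuasiCompact f]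
    [QuasiSeparated f] [IsAffineHom g] (M : X.Modules) [Coh.IsQCoh M] (p : ℕ) :
    Nonempty ((Coh.RpushAb (f ≫ g) p).obj (Coh.toAb M) ≅
      (Coh.pushAb g).obj ((Coh.RpushAb f p).obj (Coh.toAb M))) := by
  have := hasInjectiveResolutions_modules X
  have hT : ∀ Q, Injective Q → ∀ q : ℕ, 0 < q →
      IsZero (((Coh.pushAb g).rightDerived q).obj ((Coh.pushAb f).obj Q)) := fun Q hQ q hq => by
    have : Injective ((Coh.pushAb f).obj Q) :=
      SiteCoh.injective_push (X := X.toTopCat) (Y := Y.toTopCat) f.base Q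
    exact SpecSeq.isZero_rightDerived_injective _ _ hq
  have : PreservesFiniteLimits (Coh.pushAb g) :=
    SiteCoh.pushTop_preservesFiniteLimits (X := Y.toTopCat) (Y := S.toTopCat) g.base
  obtain ⟨E, a, hfin, -, hE⟩ := SpecSeq.exists_composite (Coh.pushAb f) (Coh.pushAb g) hT
    (Coh.toAb M)
    (H := fun n : ℤ =>
      if 0 ≤ n then ((Coh.pushAb f ⋙ Coh.pushAb g).rightDerived n.toNat).obj (Coh.toAb M) else 0)
    (X := fun i j : ℤ => if 0 ≤ i ∧ 0 ≤ j then
      (Coh.RpushAb g i.toNat).obj ((Coh.RpushAb f j.toNat).obj (Coh.toAb M)) else 0)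
    (fun n => ⟨eqToIso (by simp)⟩) (fun n hn => by rw [if_neg (by omega)]; exact isZero_zero _)
    (fun i j => ⟨eqToIso (by simp)⟩) (fun i j h => by rw [if_neg h]; exact isZero_zero _)
  obtain ⟨e⟩ := SpecSeq.nonempty_iso_of_column E a (p : ℤ) (hfin _) fun i j hi => by
    obtain ⟨e⟩ := hE i j
    refine IsZero.of_iso ?_ e
    split_ifs with h
    · have := isQCoh_rpush f M j.toNat
      exact (isZero_rpushAb_of_isAffineHom g ((Coh.Rpush f j.toNat).obj M) i.toNat (by omega)).of_iso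
        ((Coh.RpushAb g i.toNat).mapIso ((toAbRpushNatIso f j.toNat).app M).symm)
    · exact isZero_zero _
  obtain ⟨e₀⟩ := hE 0 p
  exact ⟨(SiteCoh.rightDerivedCongr (G := Coh.pushAb (f ≫ g)) (G' := Coh.pushAb f ⋙ Coh.pushAb g)
      (NatIso.ofComponents fun _ => Iso.refl _) p).app (Coh.toAb M) ≪≫ eqToIso (by simp) ≪≫
    e.symm ≪≫ e₀ ≪≫ eqToIso (by simp) ≪≫
    (Coh.pushAb g).rightDerivedZeroIsoSelf.app _⟩

theorem classPair_coh (S : Scheme.{u}) [IsLocallyNoetherian S] :
    SpecSeq.ClassPair (C := S.Modules) Coh.IsCoh Coh.IsQCoh where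
  le _ h := h.1
  isoP e h := isCoh_of_iso e h
  isoQ e h := have := h; isQCoh_of_iso e
  zeroP M h := (isCoh_iff_finite_sections M).2 ⟨isQCoh_of_isZero h, fun V _ => by
    have : Subsingleton Γ(M, V) := subsingleton_of_forall_eq 0 fun x =>
      congrArg (fun φ : M ⟶ M => φ.app V x) (h.eq_of_src (𝟙 M) 0)
    infer_instance⟩
  kerP φ hM hN := isCoh_kernel φ hM hN
  cokerP φ hM hN := isCoh_cokernel φ hM hN
  kerQ φ hM hN := have := hM; have := hN; isQCoh_kernel φ
  cokerQ φ hM hN := have := hM; have := hN; isQCoh_cokernel φ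
  extP _ hS h₁ h₃ := isCoh_X₂ hS h₁ h₃

/-- Higher direct images along an open subscheme of a proper scheme. -/
theorem isCoh_rpush_open_of_proper (f : X ⟶ S) [IsProper f] [IsLocallyNoetherian S] (U : X.Opens)
    [HasInjectiveResolutions (U : Scheme.{u}).Modules] [HasInjectiveResolutions X.Modules]
    (F : (U : Scheme.{u}).Modules) (n : ℕ)
    (hg : ∀ i : ℕ, i ≤ n → Coh.IsCoh ((Coh.Rpush U.ι i).obj F)) (i : ℕ) (hi : i ≤ n) :
    Coh.IsCoh ((Coh.Rpush (U.ι ≫ f) i).obj F) := by
  have : IsLocallyNoetherian X := LocallyOfFiniteType.isLocallyNoetherian f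
  have : PreservesFiniteLimits (Coh.push f) :=
    have : (Coh.push f).IsRightAdjoint :=
      (Scheme.Modules.pullbackPushforwardAdjunction f).isRightAdjoint
    ⟨fun _ _ _ => inferInstance⟩
  have : PreservesFiniteLimits (Coh.push U.ι) :=
    have : (Coh.push U.ι).IsRightAdjoint :=
      (Scheme.Modules.pullbackPushforwardAdjunction U.ι).isRightAdjoint
    ⟨fun _ _ _ => inferInstance⟩
  have hF : Coh.IsQCoh F := by
    have h0 := isCoh_of_iso ((Coh.push U.ι).rightDerivedZeroIsoSelf.app F) (hg 0 n.zero_le)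
    have := (isCoh_restrict U h0).1
    have h1 : Coh.IsQCoh ((Scheme.Modules.pushforward U.ι ⋙ Scheme.Modules.restrictFunctor U.ι).obj F) :=
      (isCoh_restrict U h0).1
    exact isQCoh_of_iso (asIso ((Scheme.Modules.restrictAdjunction U.ι).counit.app F))
  obtain ⟨E, a, hfin, -, hE⟩ := SpecSeq.exists_composite (Coh.push U.ι) (Coh.push f)
    (fun Q _ q hq => by
      obtain ⟨k, rfl⟩ : ∃ k, q = k + 1 := ⟨q - 1, by omega⟩
      exact isZero_rpush_push_injective U.ι f Q k) F
    (H := fun m : ℤ =>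
      if 0 ≤ m then ((Coh.push U.ι ⋙ Coh.push f).rightDerived m.toNat).obj F else 0)
    (X := fun p q : ℤ => if 0 ≤ p ∧ 0 ≤ q then
      (Coh.Rpush f p.toNat).obj ((Coh.Rpush U.ι q.toNat).obj F) else 0)
    (fun m => ⟨eqToIso (by simp)⟩) (fun m hm => by rw [if_neg (by omega)]; exact isZero_zero _)
    (fun p q => ⟨eqToIso (by simp)⟩) (fun p q h => by rw [if_neg h]; exact isZero_zero _)
  have h := classPair_coh S
  have hH := SpecSeq.mem_of_abutment h E a (i : ℤ) (hfin _) (fun pq => ?_) fun p => ?_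
  · rw [if_pos (by omega)] at hH
    exact isCoh_of_iso ((SiteCoh.rightDerivedCongr (G := Coh.push U.ι ⋙ Coh.push f)
      (G' := Coh.push (U.ι ≫ f)) (Scheme.Modules.pushforwardComp U.ι f) i).app F) hH
  · obtain ⟨e⟩ := hE pq.1 pq.2
    refine h.isoQ e.symm ?_
    split_ifs
    · have := isQCoh_rpush U.ι F pq.2.toNat
      exact isQCoh_rpush f _ _
    · exact h.le _ (h.zeroP _ (isZero_zero _))
  · obtain ⟨e⟩ := hE p ((i : ℤ) - p)
    refine h.isoP e.symm ?_
    split_ifs with hp
    · exact isCoh_rpush f (hg _ (by omega)) _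
    · exact h.zeroP _ (isZero_zero _)

end Groth.Agent.Coherent
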