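import Groth.Prelude.Def_Twist2
import Groth.Prelude.Def_Coh
import Groth.Agent.Coherent.FiniteType
import Groth.Agent.Coherent.QcohLocal
import Mathlib.AlgebraicGeometry.ProjectiveSpectrum.Basic

/-!
# Sections of `O(d)` over basic opens inside a degree one chart
-/

set_option autoImplicit false
set_option linter.unusedSectionVars false

universe u

open CategoryTheory CategoryTheory.Limits AlgebraicGeometry Opposite TopologicalSpace
  HomogeneousLocalization

namespace Groth.Agent.Coherent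

variable {R A : Type u} [CommRing R] [CommRing A] [Algebra R A] {𝒜 : ℕ → Submodule R A}
  [GradedAlgebra 𝒜]

instance isPrime_top (x : ProjectiveSpectrum.top 𝒜) : x.asHomogeneousIdeal.toIdeal.IsPrime :=
  x.isPrime

theorem val_awayToSection_mk {c : ℕ} {f : A} (hf : f ∈ 𝒜 c) (k : ℕ) (P : A) (hP : P ∈ 𝒜 (k • c))
    (p : ProjectiveSpectrum.basicOpen 𝒜 f) :
    HomogeneousLocalization.val ((((ProjectiveSpectrum.Proj.awayToSection 𝒜 f).hom
      (Away.mk 𝒜 hf k P hP)) : Twist.O (op (ProjectiveSpectrum.basicOpen 𝒜 f))).1 p) =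
      Localization.mk P ⟨f ^ k, Submonoid.pow_mem _ p.2 k⟩ := by
  refine (ProjectiveSpectrum.Proj.awayToSection_apply 𝒜 f _ p).trans ?_
  rw [Away.val_mk, Localization.mk_eq_mk', IsLocalization.map_mk', Localization.mk_eq_mk']
  rfl

theorem val_fromZero (f : A) (a : 𝒜 0) (p : ProjectiveSpectrum.basicOpen 𝒜 f) :
    HomogeneousLocalization.val ((((ProjectiveSpectrum.Proj.awayToSection 𝒜 f).hom
      (HomogeneousLocalization.fromZeroRingHom 𝒜 (Submonoid.powers f) a)) :
        Twist.O (op (ProjectiveSpectrum.basicOpen 𝒜 f))).1 p) = Localization.mk a.1 1 := by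
  refine (ProjectiveSpectrum.Proj.awayToSection_apply 𝒜 f _ p).trans ?_
  have h : HomogeneousLocalization.val (HomogeneousLocalization.fromZeroRingHom 𝒜 (Submonoid.powers f) a)
      = algebraMap A (Localization (Submonoid.powers f)) a.1 := by
    rw [← Localization.mk_one_eq_algebraMap]
    rfl
  rw [h, IsLocalization.map_eq, RingHom.id_apply, Localization.mk_one_eq_algebraMap]

/-- A section of `O(d)` given by one fraction. -/
def fracSec (d : ℤ) (V : Opens (ProjectiveSpectrum.top 𝒜)) {i j : ℕ} (a : 𝒜 i) (s : 𝒜 j)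
    (nin : ∀ x : V, s.1 ∉ x.1.asHomogeneousIdeal) (h : (i : ℤ) = j + d) :
    Twist.sectN (𝒜 := 𝒜) d (op V) :=
  ⟨fun x => ⟨Localization.mk a.1 ⟨s.1, nin x⟩,
    Submodule.subset_span ⟨i, j, a, s, nin x, h, rfl⟩⟩,
   fun x => ⟨V, x.2, 𝟙 _, i, j, a, s, nin, Or.inl h, fun _ => rfl⟩⟩

theorem fracSec_val (d : ℤ) (V : Opens (ProjectiveSpectrum.top 𝒜)) {i j : ℕ} (a : 𝒜 i) (s : 𝒜 j)
    (nin : ∀ x : V, s.1 ∉ x.1.asHomogeneousIdeal) (h : (i : ℤ) = j + d) (x : V) :
    ((fracSec d V a s nin h).1 x).1 = Localization.mk a.1 ⟨s.1, nin x⟩ := rfl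

theorem sectN_ext {d : ℤ} {U : (Opens (ProjectiveSpectrum.top 𝒜))ᵒᵖ}
    {f g : Twist.sectN (𝒜 := 𝒜) d U} (h : ∀ x : U.unop, (f.1 x).1 = (g.1 x).1) : f = g :=
  Subtype.ext (funext fun x => Subtype.ext (h x))

/-- Scalar multiplication on sections of `O(d)`. -/
def oSmul {d : ℤ} {V : Opens (ProjectiveSpectrum.top 𝒜)} (g : Twist.O (𝒜 := 𝒜) (op V))
    (s : Twist.sectN (𝒜 := 𝒜) d (op V)) : Twist.sectN (𝒜 := 𝒜) d (op V) :=
  ⟨fun x => g.1 x • s.1 x, Twist.smul_memN d (op V) g s.1 s.2⟩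

theorem oSmul_val {d : ℤ} {V : Opens (ProjectiveSpectrum.top 𝒜)} (g : Twist.O (𝒜 := 𝒜) (op V))
    (s : Twist.sectN (𝒜 := 𝒜) d (op V)) (x : V) :
    ((oSmul g s).1 x).1 = (g.1 x).val * (s.1 x).1 := Twist.coe_smul_val d x.1 _ _

section DegreeOne

variable {t : A} (ht : t ∈ 𝒜 1) (d : ℤ)

include ht in
theorem pow_mem_deg (a : ℕ) : t ^ a ∈ 𝒜 a := by simpa using SetLike.pow_mem_graded a ht

/-- `t^d`, a section of `O(d)` on `D_+(t)`. -/
def tauSec (V : Opens (ProjectiveSpectrum.top 𝒜)) (hV : V ≤ ProjectiveSpectrum.basicOpen 𝒜 t) :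
    Twist.sectN (𝒜 := 𝒜) d (op V) :=
  fracSec d V ⟨t ^ d.toNat, pow_mem_deg ht _⟩ ⟨t ^ (-d).toNat, pow_mem_deg ht _⟩
    (fun x => Submonoid.pow_mem x.1.asHomogeneousIdeal.toIdeal.primeCompl (hV x.2) _) (by omega)

theorem tauSec_val (V : Opens (ProjectiveSpectrum.top 𝒜))
    (hV : V ≤ ProjectiveSpectrum.basicOpen 𝒜 t) (x : V) :
    ((tauSec ht d V hV).1 x).1 = Localization.mk (t ^ d.toNat)
      ⟨t ^ (-d).toNat, Submonoid.pow_mem x.1.asHomogeneousIdeal.toIdeal.primeCompl (hV x.2) _⟩ := rfl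

theorem smul_tauSec_bijective (V : Opens (ProjectiveSpectrum.top 𝒜))
    (hV : V ≤ ProjectiveSpectrum.basicOpen 𝒜 t) :
    Function.Bijective fun g : Twist.O (𝒜 := 𝒜) (op V) => oSmul g (tauSec ht d V hV) := by
  have hval : ∀ (g : Twist.O (𝒜 := 𝒜) (op V)) (x : V), ((oSmul g (tauSec ht d V hV)).1 x).1 =
      (g.1 x).val * ((tauSec ht d V hV).1 x).1 := fun g x => oSmul_val g _ x
  refine ⟨fun g g' hgg => Subtype.ext (funext fun x => HomogeneousLocalization.val_injective _ ?_),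
    fun f => ?_⟩
  · have h := (hval g x).symm.trans ((congrArg (fun z => (Subtype.val z x).1) hgg).trans (hval g' x))
    refine IsUnit.mul_right_cancel ?_ h
    refine IsUnit.of_mul_eq_one (Localization.mk (t ^ (-d).toNat) ⟨t ^ d.toNat,
      Submonoid.pow_mem x.1.asHomogeneousIdeal.toIdeal.primeCompl (hV x.2) _⟩) ?_
    rw [tauSec_val, Localization.mk_mul]
    exact (Localization.mk_eq_mk_iff.2 (Localization.r_iff_exists.2 ⟨1, by
      simp only [Submonoid.coe_mul, Submonoid.coe_one]; ring⟩)).trans Localization.mk_one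
  · have key : ∀ x : V, ∃ (W : Opens (ProjectiveSpectrum.top 𝒜)) (_ : x.1 ∈ W) (hW : W ≤ V),
        ∃ (k : ℕ) (a b : 𝒜 k) (nin : ∀ y : W, b.1 ∉ y.1.asHomogeneousIdeal), ∀ y : W,
          Localization.mk a.1 ⟨b.1, nin y⟩ * ((tauSec ht d V hV).1 ⟨y.1, hW y.2⟩).1 =
            (f.1 ⟨y.1, hW y.2⟩).1 := by
      intro x
      obtain ⟨W, hxW, iW, i, j, a, s, nin, hdeg, hw⟩ := f.2 x
      rcases hdeg with h | h
      · refine ⟨W, hxW, leOfHom iW, j + d.toNat, ⟨a.1 * t ^ (-d).toNat, ?_⟩,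
          ⟨s.1 * t ^ d.toNat, SetLike.mul_mem_graded s.2 (pow_mem_deg ht _)⟩,
          fun y => Submonoid.mul_mem y.1.asHomogeneousIdeal.toIdeal.primeCompl (nin y)
            (Submonoid.pow_mem _ (hV (leOfHom iW y.2)) _), fun y => ?_⟩
        · rw [show j + d.toNat = i + (-d).toNat by omega]
          exact SetLike.mul_mem_graded a.2 (pow_mem_deg ht _)
        · refine Eq.trans ?_ (hw y).symm
          rw [tauSec_val, Localization.mk_mul]
          exact Localization.mk_eq_mk_iff.2 (Localization.r_iff_exists.2 ⟨1, by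
            simp only [Submonoid.coe_mul, Submonoid.coe_one]; ring⟩)
      · refine ⟨W, hxW, leOfHom iW, 0, 0, ⟨1, SetLike.GradedOne.one_mem⟩,
          fun y hy => y.1.isPrime.ne_top ((Ideal.eq_top_iff_one _).mpr hy), fun y => ?_⟩
        refine Eq.trans ?_ (hw y).symm
        rw [h, Localization.mk_zero, ZeroMemClass.coe_zero, Localization.mk_zero, zero_mul]
    choose W hxW hW k a b nin hg using key
    let g₀ : ∀ x : V, Twist.A0 𝒜 x.1 := fun x =>
      HomogeneousLocalization.mk ⟨k x, a x, b x, nin x ⟨x.1, hxW x⟩⟩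
    have hg₀ : ∀ x : V, (g₀ x).val * ((tauSec ht d V hV).1 x).1 = (f.1 x).1 := fun x => by
      rw [HomogeneousLocalization.val_mk]
      exact hg x ⟨x.1, hxW x⟩
    have hu : ∀ x : V, IsUnit ((tauSec ht d V hV).1 x).1 := fun x => by
      refine IsUnit.of_mul_eq_one (Localization.mk (t ^ (-d).toNat) ⟨t ^ d.toNat,
        Submonoid.pow_mem x.1.asHomogeneousIdeal.toIdeal.primeCompl (hV x.2) _⟩) ?_
      rw [tauSec_val, Localization.mk_mul]
      exact (Localization.mk_eq_mk_iff.2 (Localization.r_iff_exists.2 ⟨1, by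
        simp only [Submonoid.coe_mul, Submonoid.coe_one]; ring⟩)).trans Localization.mk_one
    refine ⟨⟨g₀, fun x => ⟨W x, hxW x, homOfLE (hW x), k x, a x, b x, fun y => nin x y,
      fun y => HomogeneousLocalization.val_injective _ ?_⟩⟩, sectN_ext fun x => ?_⟩
    · rw [HomogeneousLocalization.val_mk]
      exact (hu ⟨y.1, hW x y.2⟩).mul_right_cancel ((hg₀ ⟨y.1, hW x y.2⟩).trans (hg x y).symm)
    · exact (hval _ x).trans (hg₀ x)

variable {f f' : A} {c' : ℕ} (hf' : f' ∈ 𝒜 c') (hf : f = t * f')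

include ht hf hf'

theorem deg_of_factor : f ∈ 𝒜 (c' + 1) := by
  rw [hf, add_comm]; exact SetLike.mul_mem_graded ht hf'

/-- Sections of `O(d)` over `D_+(f)`, `t ∣ f`, are fractions `P / f^k`. -/
theorem exists_frac_basicOpen
    (s : Twist.sectN (𝒜 := 𝒜) d (op (ProjectiveSpectrum.basicOpen 𝒜 f))) :
    ∃ (k i : ℕ) (P : 𝒜 i), (i : ℤ) = k * (c' + 1) + d ∧
      ∀ x : ProjectiveSpectrum.basicOpen 𝒜 f, (s.1 x).1 =
        Localization.mk P.1 ⟨f ^ k, Submonoid.pow_mem _ x.2 k⟩ := by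
  have hV : ProjectiveSpectrum.basicOpen 𝒜 f ≤ ProjectiveSpectrum.basicOpen 𝒜 t :=
    Proj.basicOpen_mono 𝒜 t f ⟨f', hf⟩
  obtain ⟨g, rfl⟩ := (smul_tauSec_bijective ht d _ hV).2 s
  have hfc := deg_of_factor ht hf' hf
  obtain ⟨q, rfl⟩ := (ConcreteCategory.bijective_of_isIso
    (Proj.basicOpenIsoAway 𝒜 f hfc c'.succ_pos).hom).2 g
  obtain ⟨k, P, hP, rfl⟩ := Away.mk_surjective 𝒜 hfc q
  refine ⟨k + (-d).toNat, k * (c' + 1) + d.toNat + (-d).toNat * c',
    ⟨P * t ^ d.toNat * f' ^ (-d).toNat, SetLike.mul_mem_graded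
      (SetLike.mul_mem_graded (by simpa using hP) (pow_mem_deg ht _))
      (by simpa using SetLike.pow_mem_graded (-d).toNat hf')⟩, ?_, fun x => ?_⟩
  · push_cast
    have : (d.toNat : ℤ) = d + (-d).toNat := by omega
    linear_combination this
  · refine (oSmul_val _ _ x).trans ?_
    refine (congrArg (· * _) (val_awayToSection_mk hfc k P hP x)).trans ?_
    refine (congrArg (_ * ·) (tauSec_val ht d _ hV x)).trans ?_
    rw [Localization.mk_mul]
    exact Localization.mk_eq_mk_iff.2 (Localization.r_iff_exists.2 ⟨1, by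
      simp only [Submonoid.coe_mul, Submonoid.coe_one, hf]; ring⟩)

/-- A fraction `P / f^k` vanishing on all of `D_+(f)` is killed by a power of `f`. -/
theorem exists_pow_mul_eq_zero_of_frac {k i : ℕ} (P : 𝒜 i) (hi : (i : ℤ) = k * (c' + 1) + d)
    (h : ∀ x : ProjectiveSpectrum.basicOpen 𝒜 f,
      Localization.mk P.1 (⟨f ^ k, Submonoid.pow_mem _ x.2 k⟩ :
        x.1.asHomogeneousIdeal.toIdeal.primeCompl) = 0) :
    ∃ l : ℕ, f ^ l * P.1 = 0 := by
  have hfc := deg_of_factor ht hf' hf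
  have hdeg : P.1 * t ^ (-d).toNat * f' ^ d.toNat ∈ 𝒜 ((k + d.toNat) • (c' + 1)) := by
    have e : (k + d.toNat) • (c' + 1) = i + (-d).toNat + d.toNat * c' := by
      have : (d.toNat : ℤ) = d + (-d).toNat := by omega
      zify
      simp only [smul_eq_mul]
      push_cast
      linear_combination this - hi
    rw [e]
    exact SetLike.mul_mem_graded (SetLike.mul_mem_graded P.2 (pow_mem_deg ht _))
      (by simpa using SetLike.pow_mem_graded d.toNat hf')
  let q := Away.mk 𝒜 hfc (k + d.toNat) _ hdeg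
  have hq : q = 0 := by
    refine (ConcreteCategory.bijective_of_isIso
      (Proj.basicOpenIsoAway 𝒜 f hfc c'.succ_pos).hom).1 ?_
    refine Eq.trans ?_ (map_zero _).symm
    apply Subtype.ext
    funext x
    refine HomogeneousLocalization.val_injective _ ((val_awayToSection_mk hfc _ _ hdeg x).trans ?_)
    refine Eq.trans ?_ HomogeneousLocalization.val_zero.symm
    have h' := h x
    rw [← Localization.mk_zero 1, Localization.mk_eq_mk_iff, Localization.r_iff_exists] at h' ⊢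
    obtain ⟨c, hc⟩ := h'
    refine ⟨c, ?_⟩
    simp only [Submonoid.coe_one, one_mul, mul_zero, ← mul_assoc] at hc ⊢
    rw [hc, zero_mul, zero_mul]
  have h0 : Localization.mk (P.1 * t ^ (-d).toNat * f' ^ d.toNat)
      (⟨f ^ (k + d.toNat), Submonoid.pow_mem _ (Submonoid.mem_powers f) _⟩ : Submonoid.powers f) =
      0 := by
    rw [← Away.val_mk (𝒜 := 𝒜) _ hfc _ hdeg]
    exact (congrArg HomogeneousLocalization.val hq).trans HomogeneousLocalization.val_zero
  rw [← Localization.mk_zero 1, Localization.mk_eq_mk_iff, Localization.r_iff_exists] at h0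
  obtain ⟨⟨_, l, rfl⟩, hl⟩ := h0
  refine ⟨l + d.toNat + (-d).toNat, ?_⟩
  simp only [Submonoid.coe_one, one_mul, mul_zero] at hl
  rw [hf] at hl ⊢
  calc (t * f') ^ (l + d.toNat + (-d).toNat) * P.1
      = ((t * f') ^ l * (P.1 * t ^ (-d).toNat * f' ^ d.toNat)) *
          (t ^ d.toNat * f' ^ (-d).toNat) := by ring
    _ = 0 := by rw [hl, zero_mul]

end DegreeOne

/-- `O(d)` is quasi-coherent when degree one elements cover. -/
theorem isQCoh_twist {κ : Type u} (T : κ → A) (hT : ∀ i, T i ∈ 𝒜 1)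
    (hcov : ⨆ i, Proj.basicOpen 𝒜 (T i) = ⊤) (d : ℤ) : Coh.IsQCoh (Twist.twist 𝒜 d) := by
  refine isQCoh_of_openImmersion_cover (Twist.twist 𝒜 d)
    (fun i => (Proj.basicOpen 𝒜 (T i)).ι) (fun x => ?_) fun i => ?_
  · obtain ⟨i, hi⟩ := TopologicalSpace.Opens.mem_iSup.1 (hcov.ge (Set.mem_univ x))
    exact ⟨i, ⟨x, hi⟩, rfl⟩
  · let U := Proj.basicOpen 𝒜 (T i)
    let M := (Twist.twist 𝒜 d).restrict U.ι
    let τ : Γ(M, ⊤) := tauSec (hT i) d (U.ι ''ᵁ ⊤) U.ι_image_top.le
    let φ : Coh.structureModule (U : Scheme.{u}) ⟶ M := unitDesc M τ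
    have : IsIso φ := by
      refine Scheme.Modules.Hom.isIso_iff_isIso_app.mpr fun W => ?_
      refine (ConcreteCategory.isIso_iff_bijective _).mpr ?_
      have e : ∀ s : Γ((U : Scheme.{u}), W), φ.app W s =
          oSmul ((U.ι.appIso W).inv s) (tauSec (hT i) d (U.ι ''ᵁ W)
            (le_trans (U.ι.image_le_opensRange W) U.opensRange_ι.le)) := fun s =>
        ((app_unit φ s).trans (congrArg (s • ·) (unitVal_unitDesc M τ W))).trans rfl
      have hb' : Function.Bijective (U.ι.appIso W).inv := ConcreteCategory.bijective_of_isIso _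
      have hb := smul_tauSec_bijective (hT i) d (U.ι ''ᵁ W) (le_trans (U.ι.image_le_opensRange W)
        U.opensRange_ι.le)
      constructor
      · exact fun s s' h => hb'.1 (hb.1 ((e s).symm.trans (h.trans (e s'))))
      · intro y
        obtain ⟨g, hg⟩ := hb.2 y
        obtain ⟨g', rfl⟩ := hb'.2 g
        exact ⟨g', (e g').trans hg⟩
    have := isQCoh_structureModule (X := (U : Scheme.{u}))
    exact isQCoh_of_iso (asIso φ)

end Groth.Agent.Coherent
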