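import Groth.Agent.Coherent.CechCompare
import Mathlib.LinearAlgebra.TensorProduct.Pi

/-!
# The Čech complex of `F ⊗_A M`
-/

set_option autoImplicit false
set_option backward.isDefEq.respectTransparency false

universe u

open CategoryTheory CategoryTheory.Limits AlgebraicGeometry Opposite TopologicalSpace TensorProduct
open Groth.Agent.Coherent Groth.Agent.PicLib Groth.Agent.AmpleLib

namespace Groth.Agent.Coherent.CohBC

variable {A : Type u} [CommRing A] {X : Scheme.{u}} [X.Over (Spec (CommRingCat.of A))]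
variable {ι : Type u} (W : ι → X.Opens) (F : X.Modules)

theorem tensorASec_res {M : ModuleCat.{u} A} {U V : X.Opens} (h : V ≤ U) (x : Γ(F, U)) (m : M) :
    resM (CohB1.tensorMod F (pullTilde A M)) h (tensorASec A F M U (x ⊗ₜ m)) =
      tensorASec A F M V (resM F h x ⊗ₜ m) := by
  rw [tensorASec_tmul, tensorASec_tmul, resM_tmul, pullTildeSec_res]

variable (A) in
/-- `F ⊗_A -` on a map of modules. -/
noncomputable def tensorAMap {M N : ModuleCat.{u} A} (g : M ⟶ N) :
    CohB1.tensorMod F (pullTilde A M) ⟶ CohB1.tensorMod F (pullTilde A N) :=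
  ((DCoh.tensorBi (X := X)).obj F).map
    ((Scheme.Modules.pullback (X ↘ Spec (CommRingCat.of A))).map (tilde.map (R := CommRingCat.of A) g))

theorem tensorASec_map {M N : ModuleCat.{u} A} (g : M ⟶ N) (U : X.Opens) (x : Γ(F, U)) (m : M) :
    (tensorAMap A F g).app U (tensorASec A F M U (x ⊗ₜ m)) = tensorASec A F N U (x ⊗ₜ g m) := by
  rw [tensorASec_tmul, tensorASec_tmul]
  refine (DCat.PullTensor.tensorBi_obj_map_tmul _ U x _).trans (congrArg (tmul x) ?_)
  exact pullTildeSec_map g U m

variable [Finite ι]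

/-- Cochains of `F` tensored with `M`, as cochains of `F ⊗_A M`. -/
noncomputable def cochainTensor (M : ModuleCat.{u} A) (p : ℕ) :
    (∀ a : Fin (p + 1) → ι, Γ(F, cinter W a)) ⊗[A] M →ₗ[A]
      (∀ a : Fin (p + 1) → ι, Γ(CohB1.tensorMod F (pullTilde A M), cinter W a)) :=
  LinearMap.pi fun a => tensorASec A F M (cinter W a) ∘ₗ LinearMap.rTensor M (LinearMap.proj a)

omit [Finite ι] in
theorem cochainTensor_tmul (M : ModuleCat.{u} A) (p : ℕ) (x : ∀ a : Fin (p + 1) → ι, Γ(F, cinter W a))
    (m : M) (a : Fin (p + 1) → ι) :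
    cochainTensor W F M p (x ⊗ₜ m) a = tensorASec A F M (cinter W a) (x a ⊗ₜ m) := rfl

variable (hW : ∀ (p : ℕ) (a : Fin (p + 1) → ι), IsAffineOpen (cinter W a)) [Coh.IsQCoh F]

include hW in
theorem bijective_cochainTensor (M : ModuleCat.{u} A) (p : ℕ) :
    Function.Bijective (cochainTensor W F M p) := by
  classical
  have := Fintype.ofFinite ι
  let e := (TensorProduct.piLeft A M (fun a : Fin (p + 1) → ι => Γ(F, cinter W a))).trans
    (LinearEquiv.piCongrRight fun a =>
      LinearEquiv.ofBijective (tensorASec A F M (cinter W a)) (bijective_tensorASec F M (hW p a)))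
  have : cochainTensor W F M p = e.toLinearMap := TensorProduct.ext' fun x m => funext fun a => by
    rw [cochainTensor_tmul]
    simp [e, TensorProduct.piLeft]
  rw [this]
  exact e.bijective

include hW in
/-- The Čech complex of `F ⊗_A M` is the Čech complex of `F` tensored with `M`. -/
noncomputable def cxTensorIso (M : ModuleCat.{u} A) :
    CohIII.tensorObj (cxA A W F) M ≅ cxA A W (CohB1.tensorMod F (pullTilde A M)) :=
  HomologicalComplex.Hom.isoOfComponents
    (fun p => (LinearEquiv.ofBijective (cochainTensor W F M p)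
      (bijective_cochainTensor W F hW M p)).toModuleIso)
    fun i j hij => by
      obtain rfl : i + 1 = j := hij
      refine ModuleCat.hom_ext (TensorProduct.ext' fun x m => funext fun a => ?_)
      show ((cxA A W (CohB1.tensorMod F (pullTilde A M))).d i (i + 1)).hom
          (cochainTensor W F M i (x ⊗ₜ m)) a =
        cochainTensor W F M (i + 1) (((cxA A W F).d i (i + 1)).hom x ⊗ₜ m) a
      rw [cxA_d, cxA_d, cochainTensor_tmul]
      show ∑ j : Fin (i + 2), (-1 : ℤ) ^ (j : ℕ) • resM (CohB1.tensorMod F (pullTilde A M))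
          (cinter_face W a j) (cochainTensor W F M i (x ⊗ₜ m) (a ∘ j.succAbove)) =
        tensorASec A F M (cinter W a) ((∑ j : Fin (i + 2), (-1 : ℤ) ^ (j : ℕ) •
          resM F (cinter_face W a j) (x (a ∘ j.succAbove))) ⊗ₜ m)
      rw [TensorProduct.sum_tmul, map_sum]
      refine Finset.sum_congr rfl fun j _ => ?_
      rw [cochainTensor_tmul, tensorASec_res]
      exact (map_zsmul (tensorASec A F M (cinter W a)) _ _).symm.trans
        (congrArg _ (TensorProduct.smul_tmul' _ _ _))

theorem cxTensorIso_naturality {M N : ModuleCat.{u} A} (g : M ⟶ N) :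
    CohIII.tensorMap (cxA A W F) g ≫ (cxTensorIso W F hW N).hom =
      (cxTensorIso W F hW M).hom ≫ cxMapA A W (tensorAMap A F g) := by
  refine HomologicalComplex.hom_ext _ _ fun p => ModuleCat.hom_ext
    (TensorProduct.ext' fun x m => funext fun a => ?_)
  show cochainTensor W F N p (x ⊗ₜ g m) a =
    (tensorAMap A F g).app (cinter W a) (cochainTensor W F M p (x ⊗ₜ m) a)
  rw [cochainTensor_tmul, cochainTensor_tmul, tensorASec_map]

variable (hcov : ⨆ i, W i = ⊤)

instance isQCoh_tensorPullTilde (M : ModuleCat.{u} A) :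
    Coh.IsQCoh (CohB1.tensorMod F (pullTilde A M)) := isQCoh_tensorMod _ _

include hW hcov in
/-- `H^n(X, F ⊗_A M) = H^n(C(F) ⊗_A M)`. -/
noncomputable def hhTensorEquiv (M : ModuleCat.{u} A) (n : ℕ) :
    Coh.HH X (CohB1.tensorMod F (pullTilde A M)) n ≃ₗ[A] CohIII.T (cxA A W F) n M :=
  (hhCech A W hcov hW _ n).trans
    (HomologicalComplex.homologyMapIso (cxTensorIso W F hW M) n).toLinearEquiv.symm

theorem hhTensorEquiv_naturality {M N : ModuleCat.{u} A} (g : M ⟶ N) (n : ℕ)
    (x : Coh.HH X (CohB1.tensorMod F (pullTilde A M)) n) :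
    hhTensorEquiv W F hW hcov N n (Sheaf.H.map ((toAbFunctor X).map (tensorAMap A F g)) n x) =
      (CohIII.TFun (cxA A W F) n).map g (hhTensorEquiv W F hW hcov M n x) := by
  have hsq : HomologicalComplex.homologyMap (cxMapA A W (tensorAMap A F g)) n ≫
      (HomologicalComplex.homologyMapIso (cxTensorIso W F hW N) n).inv =
    (HomologicalComplex.homologyMapIso (cxTensorIso W F hW M) n).inv ≫
      HomologicalComplex.homologyMap (CohIII.tensorMap (cxA A W F) g) n := by
    rw [HomologicalComplex.homologyMapIso_inv, HomologicalComplex.homologyMapIso_inv,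
      ← HomologicalComplex.homologyMap_comp, ← HomologicalComplex.homologyMap_comp]
    refine congrArg (HomologicalComplex.homologyMap · n) ?_
    rw [Iso.comp_inv_eq, Category.assoc, cxTensorIso_naturality, Iso.inv_hom_id_assoc]
  refine (congrArg (HomologicalComplex.homologyMapIso (cxTensorIso W F hW N) n).inv
    (hhCech_naturality A W hcov hW (tensorAMap A F g) n x)).trans ?_
  exact ConcreteCategory.congr_hom hsq _

end Groth.Agent.Coherent.CohBC
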