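import Groth.Agent.Coherent.ConnectedFibre
import Groth.Agent.Coherent.NormalPush

/-!
# Proper birational morphisms to normal schemes
-/

set_option autoImplicit false
set_option backward.isDefEq.respectTransparency false

universe u

open CategoryTheory CategoryTheory.Limits AlgebraicGeometry Opposite TopologicalSpace

namespace Groth.Agent.Coherent

variable {X Y : Scheme.{u}} [IsIntegral X] [IsIntegral Y]

theorem surjective_stalkToFunctionField_of_birational (f : X ⟶ Y)
    (hgen : f (genericPoint X) = genericPoint Y) (hbir : IsIso (f.stalkMap (genericPoint X)))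
    (h : f.base (genericPoint X) ⤳ genericPoint Y) :
    Function.Surjective (CohIII.stalkToFunctionField f (genericPoint Y) h) := by
  intro x
  obtain ⟨a, rfl⟩ := (ConcreteCategory.bijective_of_isIso (f.stalkMap (genericPoint X))).2 x
  have h' : genericPoint Y ⤳ f.base (genericPoint X) := by
    have e : f.base (genericPoint X) = genericPoint Y := hgen
    rw [e]
  refine ⟨Y.presheaf.stalkSpecializes h' a, congrArg (f.stalkMap (genericPoint X)) ?_⟩
  rw [← ConcreteCategory.comp_apply, TopCat.Presheaf.stalkSpecializes_comp]
  simp

theorem isIso_app_of_birational (f : X ⟶ Y) [IsProper f] [IsLocallyNoetherian Y]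
    (hY : Pi1.IsNormalScheme Y) (hgen : f (genericPoint X) = genericPoint Y)
    (hbir : IsIso (f.stalkMap (genericPoint X))) (V : Y.Opens) : IsIso (f.app V) := by
  have h : f.base (genericPoint X) ⤳ genericPoint Y := by
    have e : f.base (genericPoint X) = genericPoint Y := hgen
    rw [e]
  exact isIso_app_of_algClosed f hY h
    (fun x _ => surjective_stalkToFunctionField_of_birational f hgen hbir h x) V

theorem connectedSpace_fiber_of_birational (f : X ⟶ Y) [IsProper f] [IsLocallyNoetherian Y]
    (hY : Pi1.IsNormalScheme Y) (hgen : f (genericPoint X) = genericPoint Y)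
    (hbir : IsIso (f.stalkMap (genericPoint X))) (y : Y) : ConnectedSpace (f.fiber y) :=
  connectedSpace_fiber_of_isIso_app f (isIso_app_of_birational f hY hgen hbir) y

end Groth.Agent.Coherent
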