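import Groth.Agent.Coherent.RpushStalk
import Groth.Agent.Coherent.FormalFunctions
import Groth.Agent.Coherent.Devissage
import Groth.Agent.Coherent.SupportPullback
import Mathlib.AlgebraicGeometry.Morphisms.Proper
import Mathlib.AlgebraicGeometry.Fiber
import Mathlib.Topology.JacobsonSpace

/-!
# Consequences of formal functions for stalks of higher direct images
-/

set_option autoImplicit false
set_option backward.isDefEq.respectTransparency false

universe u

open CategoryTheory CategoryTheory.Limits AlgebraicGeometry Opposite TopologicalSpace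

namespace Groth.Agent.Coherent

section Flasque

/-- Modules supported on finitely many closed points are flasque. -/
theorem isFlasque_of_support_finite {X : Scheme.{u}} (M : X.Modules) (Z : Set X) (hZ : Z.Finite)
    (hc : ∀ z ∈ Z, IsClosed ({z} : Set X)) (hsupp : CohB1.support M ⊆ Z) :
    TopCat.Sheaf.IsFlasque (X := X.toTopCat) (Coh.toAb M) := by
  refine ⟨fun {W V} i => (AddCommGrpCat.epi_iff_surjective _).2 fun s => ?_⟩
  let V₀ : X.Opens := V.unop
  let W₀ : X.Opens := W.unop
  have hVW : V₀ ≤ W₀ := i.unop.le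
  have hC : IsClosed (Z ∩ (V₀ : Set X)) := by
    rw [← Set.biUnion_of_singleton (Z ∩ (V₀ : Set X))]
    exact (hZ.inter_of_left _).isClosed_biUnion fun z hz => hc z hz.1
  -- the part of `W` away from the points of `Z` in `V`
  let T : X.Opens := W₀ ⊓ ⟨(Z ∩ (V₀ : Set X))ᶜ, hC.isOpen_compl⟩
  have hcov : W₀ ≤ V₀ ⊔ T := fun x hx => by
    by_cases hxV : x ∈ V₀
    · exact Or.inl hxV
    · exact Or.inr ⟨hx, fun h => hxV h.2⟩
  have hdisj : Disjoint ((V₀ ⊓ T : X.Opens) : Set X) (CohB1.support M) :=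
    Set.disjoint_left.2 fun x hx hxs => hx.2.2 ⟨hsupp hxs, hx.1⟩
  have := subsingleton_sections_of_disjoint M (V₀ ⊓ T) hdisj
  obtain ⟨t, ht₁, -⟩ := exists_resH_sup (X := X.toTopCat) (F := Coh.toAb M) (n := 0)
    (U := V₀) (V := T) (a := (secH (X := X.toTopCat) (Coh.toAb M) V₀).symm s)
    (b := 0) ((secH (X := X.toTopCat) (Coh.toAb M) (V₀ ⊓ T)).injective
      (Subsingleton.elim (α := Γ(M, V₀ ⊓ T)) _ _))
  refine ⟨secH (X := X.toTopCat) (Coh.toAb M) W₀
    (resH (X := X.toTopCat) (Coh.toAb M) 0 hcov t), ?_⟩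
  refine (secH_resH (X := X.toTopCat) (F := Coh.toAb M) hVW _).symm.trans ?_
  rw [resH_resH, show resH (X := X.toTopCat) (Coh.toAb M) 0 (hVW.trans hcov) t =
    resH (X := X.toTopCat) (Coh.toAb M) 0 le_sup_left t from rfl, ht₁, AddEquiv.apply_symm_apply]

theorem subsingleton_HH_of_support_finite {X : Scheme.{u}} (M : X.Modules) (Z : Set X)
    (hZ : Z.Finite) (hc : ∀ z ∈ Z, IsClosed ({z} : Set X)) (hsupp : CohB1.support M ⊆ Z)
    (p : ℕ) (hp : 0 < p) : Subsingleton (Coh.HH X M p) := by
  obtain ⟨q, rfl⟩ := Nat.exists_eq_succ_of_ne_zero hp.ne'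
  have := isFlasque_of_support_finite M Z hZ hc hsupp
  exact subsingleton_H_of_isFlasque (X := X.toTopCat) (Coh.toAb M) q

end Flasque

section Support

variable {A : Type u} [CommRing A] {X : Scheme.{u}} [X.Over (Spec (CommRingCat.of A))]

/-- `M / I^n M` lives over `V(I)`. -/
theorem support_modPow_subset (I : Ideal A) (M : X.Modules) (n : ℕ) :
    CohB1.support (Formal.modPow I n M) ⊆
      (X ↘ Spec (CommRingCat.of A)) ⁻¹' PrimeSpectrum.zeroLocus (I : Set A) := by
  intro x hx a ha
  by_contra hax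
  apply hx
  let r : Γ(X, ⊤) := Coh.toGlobal (X ↘ Spec (CommRingCat.of A)) a
  let W : X.Opens := X.basicOpen r
  have hxW : x ∈ W := by
    change x ∈ X.basicOpen ((X ↘ Spec (CommRingCat.of A)).appTop
      ((Scheme.ΓSpecIso (CommRingCat.of A)).inv a))
    erw [← Scheme.preimage_basicOpen]
    change (X ↘ Spec (CommRingCat.of A)) x ∈
      (Spec (CommRingCat.of A)).basicOpen ((Scheme.ΓSpecIso (CommRingCat.of A)).inv a)
    rw [basicOpen_eq_of_affine]
    exact hax
  have h0 : Formal.smulMod A (Formal.modPow I n M) (a ^ n) = 0 := by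
    have h1 := smulMod_modPowπ I M (Ideal.pow_mem_pow ha n)
    rw [← cancel_epi (cokernel.π (Formal.smulFamily (I ^ n) M))]
    refine Eq.trans ?_ (h1.trans (comp_zero (f := cokernel.π (Formal.smulFamily (I ^ n) M))).symm)
    refine Scheme.Modules.hom_ext _ _ fun U => ?_
    ext m
    exact (Scheme.Modules.Hom.app_smul (Formal.modPowπ I n M) _ m).symm
  refine subsingleton_of_forall_eq 0 fun t => ?_
  obtain ⟨U, hxU, s, rfl⟩ := (Formal.modPow I n M).presheaf.exists_germ_eq t
  rw [← TopCat.Presheaf.germ_res_apply (Formal.modPow I n M).presheaf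
    (homOfLE (inf_le_left : U ⊓ W ≤ U)) x ⟨hxU, hxW⟩ s]
  refine Eq.trans (congrArg _ ?_) (map_zero _)
  have hu : IsUnit (X.presheaf.map (homOfLE (le_top (a := U ⊓ W))).op
      (Coh.toGlobal (X ↘ Spec (CommRingCat.of A)) (a ^ n))) := by
    rw [map_pow]
    exact isUnit_res_pow r le_top inf_le_right n
  let s' : Γ(Formal.modPow I n M, U ⊓ W) :=
    (Formal.modPow I n M).presheaf.map (homOfLE (inf_le_left : U ⊓ W ≤ U)).op s
  have h2 : (X.presheaf.map (homOfLE (le_top (a := U ⊓ W))).op
      (Coh.toGlobal (X ↘ Spec (CommRingCat.of A)) (a ^ n))) • s' = 0 := by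
    refine (smulMod_app (A := A) (Formal.modPow I n M) (a ^ n) (U ⊓ W) s').symm.trans ?_
    rw [h0]
    rfl
  exact (IsUnit.smul_eq_zero hu).1 h2

end Support

section Stalk

variable {X S : Scheme.{u}} (f : X ⟶ S) [IsProper f] [IsLocallyNoetherian S]
  [HasInjectiveResolutions X.Modules] {M : X.Modules} (hM : Coh.IsCoh M) (p : ℕ) (y : S)
  {X₁ : Scheme.{u}} [X₁.Over (Spec (CommRingCat.of (S.presheaf.stalk y)))] (g : X₁ ⟶ X)
  (hsq : IsPullback g (X₁ ↘ Spec (CommRingCat.of (S.presheaf.stalk y))) f (S.fromSpecStalk y))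

omit [IsLocallyNoetherian S] [HasInjectiveResolutions X.Modules] in
include hsq in
theorem isProper_of_stalk :
    IsProper (X₁ ↘ Spec (CommRingCat.of (S.presheaf.stalk y))) :=
  MorphismProperty.of_isPullback (P := @IsProper) hsq ‹_›

include hM hsq in
theorem finite_and_completion_stalk_rpush :
    Module.Finite (S.presheaf.stalk y) (((Coh.Rpush f p).obj M).presheaf.stalk y) ∧
    Nonempty (AdicCompletion (IsLocalRing.maximalIdeal (S.presheaf.stalk y))
        (((Coh.Rpush f p).obj M).presheaf.stalk y) ≃+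
      Formal.HHlim (IsLocalRing.maximalIdeal (S.presheaf.stalk y))
        ((Scheme.Modules.pullback g).obj M) p) := by
  have := hM.1
  have := isProper_of_stalk f y g hsq
  obtain ⟨e⟩ := nonempty_stalk_rpush_equiv f M p y X₁ g hsq
  have hM₁ : Coh.IsCoh ((Scheme.Modules.pullback g).obj M) :=
    ⟨EGA43.InjFibre.isQCoh_pullback g M, isFT_pullback_qcoh g hM.1 hM.2⟩
  have := finite_HH (A := S.presheaf.stalk y) hM₁ p
  exact ⟨Module.Finite.equiv e.symm,
    ⟨(AdicCompletion.congr _ e).toAddEquiv.trans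
      (AddEquiv.ofBijective _ (complToLim_bijective (IsLocalRing.maximalIdeal _) hM₁ p))⟩⟩

include hM hsq in
theorem subsingleton_stalk_rpush_of_HHlim_eq_bot
    (hlim : Formal.HHlim (IsLocalRing.maximalIdeal (S.presheaf.stalk y))
      ((Scheme.Modules.pullback g).obj M) p = ⊥) :
    Subsingleton (((Coh.Rpush f p).obj M).presheaf.stalk y) := by
  obtain ⟨hfin, ⟨E⟩⟩ := finite_and_completion_stalk_rpush f hM p y g hsq
  have hs : Subsingleton (AdicCompletion (IsLocalRing.maximalIdeal (S.presheaf.stalk y))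
      (((Coh.Rpush f p).obj M).presheaf.stalk y)) := by
    have : Subsingleton (Formal.HHlim (IsLocalRing.maximalIdeal (S.presheaf.stalk y))
        ((Scheme.Modules.pullback g).obj M) p) := by rw [hlim]; infer_instance
    exact E.toEquiv.subsingleton
  have : IsHausdorff (IsLocalRing.maximalIdeal (S.presheaf.stalk y))
      (((Coh.Rpush f p).obj M).presheaf.stalk y) :=
    IsHausdorff.of_le_jacobson _ _ (by rw [IsLocalRing.jacobson_eq_maximalIdeal (h := bot_ne_top)])
  exact (AdicCompletion.of_injective_iff.2 this).subsingleton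

include hM in
/-- Vanishing on all infinitesimal neighbourhoods of the fibre gives vanishing of the stalk. -/
theorem isZero_stalk_rpushAb_of_thickenings
    (h : ∀ (X₁ : Scheme.{u}) [X₁.Over (Spec (CommRingCat.of (S.presheaf.stalk y)))] (g : X₁ ⟶ X),
      IsPullback g (X₁ ↘ Spec (CommRingCat.of (S.presheaf.stalk y))) f (S.fromSpecStalk y) →
      ∀ n : ℕ, Subsingleton (Formal.HHmodPow (IsLocalRing.maximalIdeal (S.presheaf.stalk y))
        ((Scheme.Modules.pullback g).obj M) p n)) :
    IsZero (TopCat.Presheaf.stalk ((Coh.RpushAb f p).obj (Coh.toAb M)).obj y) := by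
  let _ : (pullback f (S.fromSpecStalk y)).Over (Spec (CommRingCat.of (S.presheaf.stalk y))) :=
    ⟨pullback.snd f (S.fromSpecStalk y)⟩
  have hP := IsPullback.of_hasPullback f (S.fromSpecStalk y)
  have hlim : Formal.HHlim (IsLocalRing.maximalIdeal (S.presheaf.stalk y))
      ((Scheme.Modules.pullback (pullback.fst f (S.fromSpecStalk y))).obj M) p = ⊥ :=
    eq_bot_iff.2 fun x _ => AddSubgroup.mem_bot.2 (funext fun n => (h _ _ hP n).elim _ _)
  have hs := subsingleton_stalk_rpush_of_HHlim_eq_bot f hM p y _ hP hlim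
  have h0 : IsZero (TopCat.Presheaf.stalk (Coh.toAb ((Coh.Rpush f p).obj M)).obj y) :=
    @AddCommGrpCat.isZero_of_subsingleton _ hs
  exact h0.of_iso ((TopCat.Presheaf.stalkFunctor AddCommGrpCat.{u} y).mapIso
    ((sheafToPresheaf _ _).mapIso ((toAbRpushNatIso f p).app M))).symm

omit [IsLocallyNoetherian S] [HasInjectiveResolutions X.Modules] [IsProper f] in
include hsq in
theorem preimage_closedPoint_subset :
    (X₁ ↘ Spec (CommRingCat.of (S.presheaf.stalk y))) ⁻¹'
        PrimeSpectrum.zeroLocus (IsLocalRing.maximalIdeal (S.presheaf.stalk y) : Set _) ⊆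
      g ⁻¹' (f ⁻¹' {y}) := by
  intro x hx
  have hc : (X₁ ↘ Spec (CommRingCat.of (S.presheaf.stalk y))) x =
      IsLocalRing.closedPoint (S.presheaf.stalk y) :=
    PrimeSpectrum.ext (le_antisymm
      (IsLocalRing.le_maximalIdeal (PrimeSpectrum.isPrime _).ne_top) hx)
  show f (g x) = y
  rw [← Scheme.Hom.comp_apply, hsq.w, Scheme.Hom.comp_apply, hc]
  exact Scheme.fromSpecStalk_closedPoint

include hM in
theorem isZero_stalk_rpushAb_of_finite_fibre (hy : (f ⁻¹' {y} : Set X).Finite) (hp : 0 < p) :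
    IsZero (TopCat.Presheaf.stalk ((Coh.RpushAb f p).obj (Coh.toAb M)).obj y) := by
  refine isZero_stalk_rpushAb_of_thickenings f hM p y fun X₁ _ g hsq n => ?_
  have := isProper_of_stalk f y g hsq
  let π := X₁ ↘ Spec (CommRingCat.of (S.presheaf.stalk y))
  let Z : Set X₁ := π ⁻¹' PrimeSpectrum.zeroLocus
    (IsLocalRing.maximalIdeal (S.presheaf.stalk y) : Set _)
  have : IsPreimmersion g :=
    MorphismProperty.of_isPullback (P := @IsPreimmersion) hsq.flip inferInstance
  have hZ : Z.Finite :=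
    (hy.preimage g.isEmbedding.injective.injOn).subset (preimage_closedPoint_subset f y g hsq)
  have hclosed : IsClosed Z := (PrimeSpectrum.isClosed_zeroLocus _).preimage π.continuous
  have hfib : Z = π ⁻¹' {IsLocalRing.closedPoint (S.presheaf.stalk y)} := by
    ext x
    constructor
    · exact fun hx => PrimeSpectrum.ext
        (le_antisymm (IsLocalRing.le_maximalIdeal (PrimeSpectrum.isPrime _).ne_top) hx)
    · rintro (hx : π x = _)
      intro a ha
      show a ∈ (π x).asIdeal
      rw [hx]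
      exact ha
  let e := π.fiberHomeo (IsLocalRing.closedPoint (S.presheaf.stalk y))
  have : Finite (π ⁻¹' {IsLocalRing.closedPoint (S.presheaf.stalk y)}) :=
    (hfib ▸ hZ).to_subtype
  have : Finite (π.fiber (IsLocalRing.closedPoint (S.presheaf.stalk y))) :=
    Finite.of_equiv _ e.toEquiv.symm
  refine subsingleton_HH_of_support_finite _ Z hZ (fun z hz => ?_) (support_modPow_subset _ _ _) p hp
  have hz' : z ∈ π ⁻¹' {IsLocalRing.closedPoint (S.presheaf.stalk y)} := hfib ▸ hz
  have h1 : IsClosed (Subtype.val '' (e '' {e.symm ⟨z, hz'⟩})) :=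
    (hfib ▸ hclosed).isClosedEmbedding_subtypeVal.isClosedMap _
      (e.isClosedMap _ (isClosed_discrete _))
  simpa using h1

include hM hsq in
theorem exists_restrict_isZero_of_HHlim_eq_bot
    (hlim : Formal.HHlim (IsLocalRing.maximalIdeal (S.presheaf.stalk y))
      ((Scheme.Modules.pullback g).obj M) p = ⊥) :
    ∃ V : S.Opens, y ∈ V ∧ IsZero (((Coh.Rpush f p).obj M).restrict V.ι) := by
  have hs := subsingleton_stalk_rpush_of_HHlim_eq_bot f hM p y g hsq hlim
  have hR : Coh.IsCoh ((Coh.Rpush f p).obj M) := isCoh_rpush f hM p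
  let V : S.Opens := ⟨(CohB1.support ((Coh.Rpush f p).obj M))ᶜ,
    (isClosed_support _ (locallyFinGen_of_isFT _ hR.2)).isOpen_compl⟩
  refine ⟨V, fun h => h hs, ?_⟩
  rw [IsZero.iff_id_eq_zero]
  refine Scheme.Modules.hom_ext _ _ fun W => ?_
  ext m
  exact (subsingleton_sections_of_disjoint ((Coh.Rpush f p).obj M) (V.ι ''ᵁ W)
    (Set.disjoint_left.2 fun x hx => V.ι_image_le W hx)).elim _ _

end Stalk

end Groth.Agent.Coherent
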