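import Groth.Agent.DimLib.Formula
import Mathlib

/-! Birational morphisms of finite type: fibres over points of codimension at most one have isolated points. -/

set_option autoImplicit false
universe u
open CategoryTheory AlgebraicGeometry TopologicalSpace

namespace Groth.Agent.Coherent

/-- A nonempty quasi-sober Noetherian space without proper specializations has an isolated point. -/
theorem exists_isOpen_singleton {α : Type*} [TopologicalSpace α] [NoetherianSpace α] [QuasiSober α]
    [T0Space α] [Nonempty α] (h : ∀ a b : α, a ⤳ b → a = b) : ∃ a : α, IsOpen ({a} : Set α) := by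
  have hT1 : T1Space α := by
    refine ⟨fun a => isClosed_of_closure_subset fun b hb => ?_⟩
    exact (h a b (specializes_iff_mem_closure.mpr hb)).symm
  have hfin : Finite α := by
    have hs : ∀ Z ∈ irreducibleComponents α, Z.Finite := by
      intro Z hZ
      obtain ⟨g, hg⟩ := QuasiSober.sober hZ.1 (isClosed_of_mem_irreducibleComponents Z hZ)
      rw [← hg.def, closure_singleton]
      exact Set.finite_singleton g
    have hu := NoetherianSpace.finite_irreducibleComponents.sUnion hs
    rw [sUnion_irreducibleComponents] at hu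
    exact Set.finite_univ_iff.mp hu
  exact ⟨Classical.arbitrary α, isOpen_discrete _⟩

variable {X Y : Scheme.{u}} [IsIntegral X] [IsIntegral Y] (f : X ⟶ Y)

/-- For a birational morphism every local section upstairs is a quotient of sections downstairs. -/
theorem isAlgebraic_appLE (hξ : f (genericPoint X) = genericPoint Y)
    (hbir : Function.Bijective (f.stalkMap (genericPoint X))) {U : Y.Opens} (hU : IsAffineOpen U)
    {W : X.Opens} (hWU : W ≤ f ⁻¹ᵁ U) [Nonempty W] (s : Γ(X, W)) :
    ∃ a b : Γ(Y, U), b ≠ 0 ∧ s * f.appLE U W hWU b = f.appLE U W hWU a := by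
  have hgW : genericPoint X ∈ W :=
    (genericPoint_spec X).mem_open_set_iff W.2 |>.mpr (by simpa using Set.nonempty_coe_sort.mp ‹Nonempty W›)
  have hgU : genericPoint Y ∈ U := hξ ▸ hWU hgW
  have : Nonempty U := ⟨⟨_, hgU⟩⟩
  have := functionField_isFractionRing_of_isAffineOpen Y U hU
  obtain ⟨t, ht⟩ := hbir.2 (X.presheaf.germ W _ hgW s)
  obtain ⟨⟨a, b⟩, hab⟩ := IsLocalization.surj (nonZeroDivisors Γ(Y, U))
    ((Y.presheaf.stalkSpecializes (specializes_of_eq hξ.symm)).hom t : Y.functionField)
  refine ⟨a, b, nonZeroDivisors.ne_zero b.2, germ_injective_of_isIntegral X _ hgW ?_⟩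
  have key : ∀ c : Γ(Y, U), X.presheaf.germ W _ hgW (f.appLE U W hWU c) =
      f.stalkMap (genericPoint X) (Y.presheaf.germ U _ (hWU hgW) c) := fun c => by
    refine Eq.trans ?_ (f.germ_stalkMap_apply U (genericPoint X) (hWU hgW) c).symm
    exact TopCat.Presheaf.germ_res_apply X.presheaf (homOfLE hWU) (genericPoint X) hgW (f.app U c)
  rw [map_mul, key, key, ← ht, ← map_mul]
  congr 1
  have inj : Function.Injective
      (Y.presheaf.stalkSpecializes (specializes_of_eq hξ.symm)).hom := by
    intro p q hpq
    have := congrArg (Y.presheaf.stalkSpecializes (specializes_of_eq hξ)).hom hpq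
    simpa [← CommRingCat.comp_apply, TopCat.Presheaf.stalkSpecializes_comp] using this
  apply inj
  rw [map_mul]
  have g : ∀ c : Γ(Y, U), (Y.presheaf.stalkSpecializes (specializes_of_eq hξ.symm)).hom
      (Y.presheaf.germ U (f (genericPoint X)) (hWU hgW) c) =
      algebraMap Γ(Y, U) Y.functionField c := fun c =>
    TopCat.Presheaf.germ_stalkSpecializes_apply Y.presheaf (U := U) (hWU hgW)
      (specializes_of_eq hξ.symm) c
  exact (congrArg₂ HMul.hMul rfl (g b)).trans (hab.trans (g a).symm)

set_option backward.isDefEq.respectTransparency false in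
/-- Over a point of codimension at most one, other than the generic one, a birational morphism of
finite type has no specializations inside the fibre. -/
theorem eq_of_specializes_of_dim_le_one [IsLocallyNoetherian Y] [LocallyOfFiniteType f]
    (hξ : f (genericPoint X) = genericPoint Y)
    (hbir : Function.Bijective (f.stalkMap (genericPoint X))) (y : Y) (hy : y ≠ genericPoint Y)
    (hdim : ringKrullDim (Y.presheaf.stalk y) ≤ 1) (x' x : X) (hx' : f x' = y) (hx : f x = y)
    (hs : x' ⤳ x) : x' = x := by
  obtain ⟨_, ⟨U, hU, rfl⟩, hyU, -⟩ :=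
    Y.isBasis_affineOpens.exists_subset_of_mem_open (Set.mem_univ y) isOpen_univ
  let U' : Y.Opens := U
  obtain ⟨_, ⟨W, hW, rfl⟩, hxW, hWU⟩ :=
    X.isBasis_affineOpens.exists_subset_of_mem_open (show x ∈ f ⁻¹ᵁ U' from by simpa [hx] using hyU)
      (f ⁻¹ᵁ U').2
  have hx'W : x' ∈ W := hs.mem_open W.2 hxW
  have : Nonempty W := ⟨⟨x, hxW⟩⟩
  have : Nonempty U' := ⟨⟨y, hyU⟩⟩
  let φ := f.appLE U' W hWU
  algebraize [φ.hom]
  have : Algebra.FiniteType Γ(Y, U') Γ(X, W) := f.finiteType_appLE hU hW hWU
  have : IsNoetherianRing Γ(Y, U') := IsLocallyNoetherian.component_noetherian ⟨U', hU⟩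
  have hinj : Function.Injective φ := by
    intro c d h
    have hgW : genericPoint X ∈ W :=
      (genericPoint_spec X).mem_open_set_iff W.2 |>.mpr (by simpa using ⟨x, hxW⟩)
    apply germ_injective_of_isIntegral Y (f (genericPoint X)) (hWU hgW)
    apply hbir.1
    rw [f.germ_stalkMap_apply, f.germ_stalkMap_apply]
    have := congrArg (X.presheaf.germ W _ hgW) h
    simp only [φ, Scheme.Hom.appLE, CommRingCat.comp_apply] at this
    rwa [TopCat.Presheaf.germ_res_apply, TopCat.Presheaf.germ_res_apply] at this
  have : FaithfulSMul Γ(Y, U') Γ(X, W) := (faithfulSMul_iff_algebraMap_injective _ _).mpr hinj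
  have : Algebra.IsAlgebraic Γ(Y, U') Γ(X, W) := by
    refine ⟨fun s => ?_⟩
    obtain ⟨a, b, hb, hab⟩ : ∃ a b : Γ(Y, U'), b ≠ 0 ∧
        s * algebraMap Γ(Y, U') Γ(X, W) b = algebraMap Γ(Y, U') Γ(X, W) a :=
      isAlgebraic_appLE f hξ hbir (U := U') hU hWU s
    refine ⟨Polynomial.C b * Polynomial.X - Polynomial.C a, fun h => hb ?_, ?_⟩
    · simpa [Polynomial.coeff_C, Polynomial.coeff_C_mul] using congrArg (Polynomial.coeff · 1) h
    · simp only [map_sub, map_mul, Polynomial.aeval_C, Polynomial.aeval_X]
      rw [sub_eq_zero, mul_comm]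
      exact hab
  let p := (hU.primeIdealOf ⟨y, hyU⟩).asIdeal
  let q := hW.primeIdealOf ⟨x, hxW⟩
  let q' := hW.primeIdealOf ⟨x', hx'W⟩
  have hover : ∀ (z : X) (hz : z ∈ W), f z = y →
      ((hW.primeIdealOf ⟨z, hz⟩).asIdeal.comap φ.hom) = p := by
    intro z hz hzy
    have h1 := IsAffineOpen.comap_primeIdealOf_appLE (f := f) (x := z) U' hU W hW hWU hz
    have h2 : (⟨f z, hWU hz⟩ : U') = ⟨y, hyU⟩ := Subtype.ext hzy
    simp only [φ, p, ← h2, ← h1]
    rfl
  have hq : q.asIdeal.LiesOver p := ⟨(hover x hxW hx).symm⟩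
  have hp : p.height ≤ 1 := by
    have := hU.isLocalization_stalk ⟨y, hyU⟩
    let := Y.presheaf.algebra_section_stalk (⟨y, hyU⟩ : U')
    have h := IsLocalization.AtPrime.ringKrullDim_eq_height p (Y.presheaf.stalk (⟨y, hyU⟩ : U').1)
    rw [h] at hdim
    exact WithBot.coe_le_coe.mp hdim
  have hle : q' ≤ q := by
    rw [PrimeSpectrum.le_iff_specializes, ← hW.fromSpec.isOpenEmbedding.isInducing.specializes_iff]
    rw [hW.fromSpec_primeIdealOf, hW.fromSpec_primeIdealOf]; exact hs
  rcases hle.eq_or_lt with h | h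
  · have := congrArg (fun z => hW.fromSpec z) h
    simp only [q, q', hW.fromSpec_primeIdealOf] at this
    exact this
  exfalso
  have hpbot : p ≠ ⊥ := by
    intro hp0
    apply hy
    have hgU : genericPoint Y ∈ U' :=
      ((genericPoint_spec Y).mem_open_set_iff U'.2).mpr (by simpa using ⟨y, hyU⟩)
    have hle' : hU.primeIdealOf ⟨y, hyU⟩ ≤ hU.primeIdealOf ⟨genericPoint Y, hgU⟩ := by
      show p ≤ _
      rw [hp0]; exact bot_le
    rw [PrimeSpectrum.le_iff_specializes,
      ← hU.fromSpec.isOpenEmbedding.isInducing.specializes_iff,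
      hU.fromSpec_primeIdealOf, hU.fromSpec_primeIdealOf] at hle'
    exact (hle'.antisymm (genericPoint_specializes y)).eq
  have hq'bot : q'.asIdeal ≠ ⊥ := by
    intro h0
    apply hpbot
    rw [← hover x' hx'W hx', h0, ← RingHom.ker_eq_comap_bot, (RingHom.injective_iff_ker_eq_bot _).mp hinj]
  have h1 : q'.asIdeal.height + 1 ≤ q.asIdeal.height :=
    Ideal.height_add_one_le_of_lt_of_isPrime h
  have h2 : q.asIdeal.height ≤ p.height := DimLib.height_le_of_isAlgebraic p q.asIdeal
  have h3 : 1 ≤ q'.asIdeal.height := by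
    rw [Order.one_le_iff_ne_zero, Ne, Ideal.height_eq_zero_iff_eq_bot]
    exact hq'bot
  have := (add_le_add_left h3 1).trans (h1.trans (h2.trans hp))
  norm_num at this

/-- Outside the generic point, a point of a nonempty fibre without isolated points has
codimension at least two. -/
theorem two_le_ringKrullDim_stalk [IsLocallyNoetherian Y] [LocallyOfFiniteType f] [QuasiCompact f]
    (hξ : f (genericPoint X) = genericPoint Y)
    (hbir : Function.Bijective (f.stalkMap (genericPoint X))) (y : Y) (hy : y ≠ genericPoint Y)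
    (hne : y ∈ Set.range f) (hiso : ∀ x : f.fiber y, ¬ IsOpen ({x} : Set (f.fiber y))) :
    2 ≤ ringKrullDim (Y.presheaf.stalk y) := by
  by_contra hlt
  rw [not_le] at hlt
  have hdim : ringKrullDim (Y.presheaf.stalk y) ≤ 1 := by
    revert hlt
    rcases ringKrullDim (Y.presheaf.stalk y) with _ | n
    · intro; exact bot_le
    · intro h
      have : n < (2 : ℕ∞) := WithBot.coe_lt_coe.mp h
      exact WithBot.coe_le_coe.mpr (Order.le_of_lt_succ (by simpa [one_add_one_eq_two] using this))
  have : LocallyOfFiniteType (f.fiberToSpecResidueField y) :=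
    (inferInstance : LocallyOfFiniteType (Limits.pullback.snd f (Y.fromSpecResidueField y)))
  have : IsLocallyNoetherian (f.fiber y) :=
    LocallyOfFiniteType.isLocallyNoetherian (f.fiberToSpecResidueField y)
  have : IsNoetherian (f.fiber y) := { }
  have hrange := f.range_fiberι y
  obtain ⟨x₀, hx₀⟩ := hne
  have : Nonempty (f.fiber y) := by
    have : x₀ ∈ Set.range (f.fiberι y) := by rw [hrange]; exact hx₀
    obtain ⟨z, -⟩ := this
    exact ⟨z⟩
  have hmem : ∀ z : f.fiber y, f (f.fiberι y z) = y := fun z => by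
    have := Set.mem_range_self (f := f.fiberι y) z
    rw [hrange] at this
    exact this
  obtain ⟨a, ha⟩ := exists_isOpen_singleton (α := f.fiber y) fun a b hab =>
    (f.fiberι y).isEmbedding.injective
      (eq_of_specializes_of_dim_le_one f hξ hbir y hy hdim _ _ (hmem a) (hmem b)
        (hab.map (f.fiberι y).continuous))
  exact hiso a ha

end Groth.Agent.Coherent

namespace Groth.Agent.Coherent

variable {X Y : Scheme.{u}} [IsIntegral X] [IsIntegral Y] (f : X ⟶ Y)

/-- The open set over which a proper birational morphism with `O_Y = f_* O_X` is an isomorphism has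
complement of codimension at least two, once no fibre over the complement has an isolated point. -/
theorem two_le_ringKrullDim_stalk_compl [IsLocallyNoetherian Y] [IsProper f]
    (hξ : f (genericPoint X) = genericPoint Y)
    (hbir : Function.Bijective (f.stalkMap (genericPoint X))) (V : Y.Opens)
    (hne : (V : Set Y).Nonempty)
    (hiso : ∀ y : Y, y ∉ (V : Set Y) → ∀ x : f.fiber y, ¬ IsOpen ({x} : Set (f.fiber y)))
    (y : Y) (hy : y ∉ (V : Set Y)) : 2 ≤ ringKrullDim (Y.presheaf.stalk y) := by
  have hgV : genericPoint Y ∈ (V : Set Y) :=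
    ((genericPoint_spec Y).mem_open_set_iff V.2).mpr (by simpa using hne)
  refine two_le_ringKrullDim_stalk f hξ hbir y (fun h => hy (h ▸ hgV)) ?_ (hiso y hy)
  have hc : IsClosed (Set.range f) := f.isClosedMap.isClosed_range
  have : closure {genericPoint Y} ⊆ Set.range f :=
    closure_minimal (by simpa using ⟨_, hξ⟩) hc
  exact this (by simp [genericPoint_spec Y |>.def])

end Groth.Agent.Coherent

namespace Groth.Agent.Coherent

variable {X Y : Scheme.{u}} [IsIntegral X] [IsIntegral Y] (f : X ⟶ Y)

/-- If no fibre over the complement of `V` has an isolated point, `V` is nonempty. -/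
theorem genericPoint_mem_of_birational [LocallyOfFiniteType f]
    (hξ : f (genericPoint X) = genericPoint Y)
    (hbir : Function.Bijective (f.stalkMap (genericPoint X))) (V : Y.Opens)
    (hiso : ∀ y : Y, y ∉ (V : Set Y) → ∀ x : f.fiber y, ¬ IsOpen ({x} : Set (f.fiber y))) :
    genericPoint Y ∈ (V : Set Y) := by
  by_contra h
  have hq : f.QuasiFiniteAt (genericPoint X) :=
    RingHom.QuasiFinite.of_finite (RingHom.Finite.of_surjective _ hbir.2)
  have h' : f (genericPoint X) ∉ (V : Set Y) := by rw [hξ]; exact h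
  exact hiso _ h' _ (Scheme.Hom.quasiFiniteAt_iff_isOpen_singleton_asFiber.mp hq)

/-- A morphism which is an isomorphism over a nonempty open is birational. -/
theorem birational_of_isIso_morphismRestrict (U : Y.Opens) (hU : (U : Set Y).Nonempty)
    [IsIso (f ∣_ U)] :
    f (genericPoint X) = genericPoint Y ∧ Function.Bijective (f.stalkMap (genericPoint X)) := by
  have hsurj : ∀ y ∈ U, ∃ x, f x = y := fun y hy => by
    obtain ⟨x, hx⟩ := (f ∣_ U).surjective ⟨y, hy⟩
    refine ⟨x.1, ?_⟩
    have := congrArg Subtype.val hx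
    exact (morphismRestrict_base_coe f U x).symm.trans this
  have hgen : genericPoint Y ∈ U :=
    ((genericPoint_spec Y).mem_open_set_iff U.2).mpr (by simpa using hU)
  obtain ⟨x₀, hx₀⟩ := hsurj _ hgen
  have hξ : f (genericPoint X) = genericPoint Y := by
    have h1 : f (genericPoint X) ⤳ genericPoint Y := by
      rw [← hx₀]
      exact (genericPoint_specializes x₀).map f.continuous
    exact (h1.antisymm (genericPoint_specializes _)).eq
  refine ⟨hξ, ?_⟩
  have hgX : genericPoint X ∈ f ⁻¹ᵁ U := by show f (genericPoint X) ∈ U; rw [hξ]; exact hgen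
  have e := morphismRestrictStalkMap f U ⟨genericPoint X, hgX⟩
  have : IsIso ((f ∣_ U).stalkMap ⟨genericPoint X, hgX⟩) := by
    exact ((isIso_iff_isIso_stalkMap (f ∣_ U)).mp ‹IsIso (f ∣_ U)›).2 ⟨genericPoint X, hgX⟩
  have : IsIso (f.stalkMap (genericPoint X)) :=
    (MorphismProperty.isomorphisms CommRingCat.{u}).arrow_mk_iso_iff e |>.mp this
  exact ConcreteCategory.bijective_of_isIso _

end Groth.Agent.Coherent
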