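import Groth.Agent.Coherent.DimShift
import Groth.Prelude.Def_Coh
import Mathlib.Topology.Sheaves.Flasque
import Mathlib.CategoryTheory.Sites.SheafCohomology.MayerVietoris
import Mathlib.CategoryTheory.Adjunction.Whiskering

/-!
# Cohomology of abelian sheaves on topological spaces

* `injective_isFlasque`, `subsingleton_H'_of_isFlasque`, `subsingleton_H_of_isFlasque`;
* `H'TopEquiv : H' F n ⊤ ≃+ H F n`, natural in `F`;
* `H'RestrictEquiv : H' F n (image of V) ≃+ H' (F|_U) n V` for an open embedding, natural;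
* `H'PushEquiv : H' (f_* G) n V ≃+ H' G n (f⁻¹ V)` for `G` acyclic on preimages of a basis, natural.
-/

set_option autoImplicit false

universe u

open CategoryTheory CategoryTheory.Abelian CategoryTheory.Limits Opposite TopologicalSpace

namespace Groth.Agent.Coherent

/- Abelian sheaves on `X` are written out as `Sheaf (Opens.grothendieckTopology X) AddCommGrpCat`:
an abbreviation makes the kernel check of the `HasExt` instance slow. -/

variable {X : TopCat.{u}}

/-- Recorded as a constant so that the kernel does not re-check the instance in every declaration. -/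
instance (priority := 10000) hasSheafifyAb (X : TopCat.{u}) :
    HasSheafify (Opens.grothendieckTopology X) AddCommGrpCat.{u} :=
  inferInstance

instance isGrothendieckAbelianAb (X : TopCat.{u}) :
    IsGrothendieckAbelian.{u} (Sheaf (Opens.grothendieckTopology X) AddCommGrpCat.{u}) :=
  Sheaf.isGrothendieckAbelian_of_essentiallySmall _ _

/-- Recorded as a constant so that the kernel does not re-check the instance in every declaration. -/
instance (priority := 10000) hasExtAb (X : TopCat.{u}) :
    HasExt.{u} (Sheaf (Opens.grothendieckTopology X) AddCommGrpCat.{u}) :=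
  inferInstance

/-- The sheaf `ℤ_U` corepresenting sections on `U`. -/
noncomputable abbrev freeSh (U : Opens X) : Sheaf (Opens.grothendieckTopology X) AddCommGrpCat.{u} :=
  (yoneda ⋙ (Functor.whiskeringRight _ _ _).obj AddCommGrpCat.free ⋙
    presheafToSheaf (Opens.grothendieckTopology X) _).obj U

/-- The canonical section of `ℤ_U` over `U`. -/
noncomputable def freeShSection (U : Opens X) : (freeSh U).obj.obj (op U) :=
  (toSheafify (Opens.grothendieckTopology X) (yoneda.obj U ⋙ AddCommGrpCat.free)).app (op U)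
    (FreeAbelianGroup.of (𝟙 U))

/-- Evaluation at the canonical section. -/
noncomputable def freeShEval (U : Opens X) (F : Sheaf (Opens.grothendieckTopology X) AddCommGrpCat.{u}) :
    (freeSh U ⟶ F) →+ F.obj.obj (op U) where
  toFun φ := φ.hom.app (op U) (freeShSection U)
  map_zero' := rfl
  map_add' _ _ := rfl

theorem freeShEval_bijective (U : Opens X) (F : Sheaf (Opens.grothendieckTopology X) AddCommGrpCat.{u}) :
    Function.Bijective (freeShEval U F) := by
  have h : (freeShEval U F : (freeSh U ⟶ F) → F.obj.obj (op U)) =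
      (((sheafificationAdjunction (Opens.grothendieckTopology X) AddCommGrpCat.{u}).homEquiv
        (yoneda.obj U ⋙ AddCommGrpCat.free) F).trans
        (((AddCommGrpCat.adj.{u}.whiskerRight (Opens X)ᵒᵖ).homEquiv (yoneda.obj U) F.obj).trans
          yonedaEquiv) : (freeSh U ⟶ F) → F.obj.obj (op U)) := by
    funext φ
    rfl
  rw [h]
  exact Equiv.bijective _

/-- `Hom(ℤ_U, F) ≃+ F(U)`. -/
noncomputable def freeShEquiv (U : Opens X) (F : Sheaf (Opens.grothendieckTopology X) AddCommGrpCat.{u}) :
    (freeSh U ⟶ F) ≃+ F.obj.obj (op U) :=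
  AddEquiv.ofBijective (freeShEval U F) (freeShEval_bijective U F)

theorem freeShEquiv_apply (U : Opens X) (F : Sheaf (Opens.grothendieckTopology X) AddCommGrpCat.{u}) (φ : freeSh U ⟶ F) :
    freeShEquiv U F φ = φ.hom.app (op U) (freeShSection U) := rfl

theorem freeShEquiv_comp (U : Opens X) {F G : Sheaf (Opens.grothendieckTopology X) AddCommGrpCat.{u}} (f : F ⟶ G) (φ : freeSh U ⟶ F) :
    freeShEquiv U G (φ ≫ f) = f.hom.app (op U) (freeShEquiv U F φ) := rfl

/-- The map `ℤ_V ⟶ ℤ_U` for `V ≤ U`. -/
noncomputable abbrev freeShMap {U V : Opens X} (h : V ≤ U) : freeSh V ⟶ freeSh U :=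
  (yoneda ⋙ (Functor.whiskeringRight _ _ _).obj AddCommGrpCat.free ⋙
    presheafToSheaf (Opens.grothendieckTopology X) _).map (homOfLE h)

theorem freeShMap_section {U V : Opens X} (h : V ≤ U) :
    (freeShMap h).hom.app (op V) (freeShSection V) =
      (freeSh U).obj.map (homOfLE h).op (freeShSection U) := by
  have h₁ := congr_app (toSheafify_naturality (Opens.grothendieckTopology X)
    (Functor.whiskerRight (yoneda.map (homOfLE h)) AddCommGrpCat.free)) (op V)
  have h₂ := (toSheafify (Opens.grothendieckTopology X)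
    (yoneda.obj U ⋙ AddCommGrpCat.free)).naturality (homOfLE h).op
  refine (ConcreteCategory.congr_hom h₁ (FreeAbelianGroup.of (𝟙 V))).symm.trans ?_
  refine Eq.trans ?_ (ConcreteCategory.congr_hom h₂ (FreeAbelianGroup.of (𝟙 U)))
  rfl

theorem freeShEquiv_map {U V : Opens X} (h : V ≤ U) (F : Sheaf (Opens.grothendieckTopology X) AddCommGrpCat.{u}) (φ : freeSh U ⟶ F) :
    freeShEquiv V F (freeShMap h ≫ φ) = F.obj.map (homOfLE h).op (freeShEquiv U F φ) := by
  refine (congrArg (fun z => φ.hom.app (op V) z) (freeShMap_section h)).trans ?_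
  exact ConcreteCategory.congr_hom (φ.hom.naturality (homOfLE h).op) (freeShSection U)

instance freeShMap_mono {U V : Opens X} (h : V ≤ U) : Mono (freeShMap h) := by
  have : ∀ W, Mono ((Functor.whiskerRight (yoneda.map (homOfLE h))
      AddCommGrpCat.free.{u}).app W) := fun W => by
    have : Mono ((yoneda.map (homOfLE h)).app W) :=
      (mono_iff_injective _).2 fun a b _ => Subsingleton.elim (α := (W.unop ⟶ V)) a b
    exact AddCommGrpCat.free.map_mono _
  have := NatTrans.mono_of_mono_app
    (Functor.whiskerRight (yoneda.map (homOfLE h)) AddCommGrpCat.free.{u})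
  exact (presheafToSheaf (Opens.grothendieckTopology X) AddCommGrpCat.{u}).map_mono
    (Functor.whiskerRight (yoneda.map (homOfLE h)) AddCommGrpCat.free.{u})

theorem injective_isFlasque (I : Sheaf (Opens.grothendieckTopology X) AddCommGrpCat.{u}) [Injective I] : TopCat.Sheaf.IsFlasque I where
  epi {U V} i := (AddCommGrpCat.epi_iff_surjective _).2 fun s => by
    obtain ⟨φ, rfl⟩ := (freeShEquiv V.unop I).surjective s
    refine ⟨freeShEquiv U.unop I (Injective.factorThru φ (freeShMap (leOfHom i.unop))), ?_⟩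
    have := freeShEquiv_map (leOfHom i.unop) I (Injective.factorThru φ (freeShMap (leOfHom i.unop)))
    rw [Injective.comp_factorThru] at this
    exact this.symm

/-- Flasque sheaves are acyclic: on every open. -/
theorem subsingleton_H'_of_isFlasque (F : Sheaf (Opens.grothendieckTopology X) AddCommGrpCat.{u}) [h : TopCat.Sheaf.IsFlasque F]
    (U : Opens X) (n : ℕ) : Subsingleton (Sheaf.H' F (n + 1) U) := by
  refine subsingleton_ext_of_class (freeSh U) (fun G => TopCat.Sheaf.IsFlasque G)
    (fun S hS h₁ h₂ => ?_) (fun S hS h₁ h₂ φ => ?_) n F h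
  · have := injective_isFlasque S.X₂
    exact TopCat.Sheaf.IsFlasque.of_shortExact_of_isFlasque₁₂ hS
  · have := TopCat.Sheaf.IsFlasque.epi_of_shortExact (U := U) hS
    obtain ⟨t, ht⟩ := (AddCommGrpCat.epi_iff_surjective _).1 this (freeShEquiv U S.X₃ φ)
    refine ⟨(freeShEquiv U S.X₂).symm t, (freeShEquiv U S.X₃).injective ?_⟩
    rw [freeShEquiv_comp, AddEquiv.apply_symm_apply]
    exact ht

/-- `⊤` is terminal among the opens. -/
noncomputable def topIsTerminal (X : TopCat.{u}) : IsTerminal (⊤ : Opens X) := isTerminalTop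

/-- The constant sheaf `ℤ`. -/
noncomputable abbrev constZ (X : TopCat.{u}) : Sheaf (Opens.grothendieckTopology X) AddCommGrpCat.{u} :=
  (constantSheaf (Opens.grothendieckTopology X) AddCommGrpCat.{u}).obj
    (AddCommGrpCat.of (ULift ℤ))

/-- `Hom(ℤ, F) ≃+ Γ(F)`. -/
noncomputable def constZEquiv (F : Sheaf (Opens.grothendieckTopology X) AddCommGrpCat.{u}) : (constZ X ⟶ F) ≃+ F.obj.obj (op ⊤) :=
  Ext.addEquiv₀.symm.trans (Sheaf.H.equiv₀ F (topIsTerminal X))

theorem constZEquiv_comp {F G : Sheaf (Opens.grothendieckTopology X) AddCommGrpCat.{u}} (f : F ⟶ G) (φ : constZ X ⟶ F) :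
    constZEquiv G (φ ≫ f) = f.hom.app (op ⊤) (constZEquiv F φ) := by
  refine Eq.trans (congrArg (Sheaf.H.equiv₀ G (topIsTerminal X)) ?_)
    (Sheaf.H.equiv₀_naturality (topIsTerminal X) f (Ext.addEquiv₀.symm φ)).symm
  rw [Sheaf.H.map_apply]
  exact (Ext.mk₀_comp_mk₀ φ f).symm

/-- Data comparing `H'(-, ⊤)` with `H`. -/
noncomputable def topShiftData (X : TopCat.{u}) :
    ShiftData (𝟭 (Sheaf (Opens.grothendieckTopology X) AddCommGrpCat.{u})) (freeSh (⊤ : Opens X)) (constZ X) where
  mem _ := True
  injective_mem _ _ := trivial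
  quot_mem _ _ _ _ := trivial
  map_shortExact S hS _ _ := hS
  acyclic I _ n := Ext.subsingleton_of_injective _ I n
  e₀ G := (freeShEquiv ⊤ G).trans (constZEquiv G).symm
  e₀_naturality {G G'} f φ := by
    apply (constZEquiv G').injective
    change constZEquiv G' ((constZEquiv G').symm (freeShEquiv ⊤ G' (φ ≫ f))) =
      constZEquiv G' ((constZEquiv G).symm (freeShEquiv ⊤ G φ) ≫ f)
    rw [AddEquiv.apply_symm_apply, constZEquiv_comp, AddEquiv.apply_symm_apply, freeShEquiv_comp]

/-- `H'(F, ⊤) ≃+ H(F)`. -/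
noncomputable def H'TopEquiv (F : Sheaf (Opens.grothendieckTopology X) AddCommGrpCat.{u}) (n : ℕ) : Sheaf.H' F n (⊤ : Opens X) ≃+ Sheaf.H F n :=
  (topShiftData X).equiv F trivial n

theorem H'TopEquiv_naturality {F G : Sheaf (Opens.grothendieckTopology X) AddCommGrpCat.{u}} (f : F ⟶ G) (n : ℕ)
    (x : Sheaf.H' F n (⊤ : Opens X)) :
    H'TopEquiv G n ((Ext.mk₀ f).postcomp (freeSh (⊤ : Opens X)) (add_zero n) x) =
      Sheaf.H.map f n (H'TopEquiv F n x) :=
  (topShiftData X).equiv_naturality (G := F) (G' := G) trivial trivial f n x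

theorem subsingleton_H_of_isFlasque (F : Sheaf (Opens.grothendieckTopology X) AddCommGrpCat.{u}) [TopCat.Sheaf.IsFlasque F] (n : ℕ) :
    Subsingleton (Sheaf.H F (n + 1)) :=
  have := subsingleton_H'_of_isFlasque F ⊤ n
  (H'TopEquiv F (n + 1)).symm.subsingleton

section Restrict

variable {U : TopCat.{u}} {j : U ⟶ X} (hj : Topology.IsOpenEmbedding j)

/-- Restriction of sheaves along an open embedding. -/
noncomputable abbrev restrictSh : Sheaf (Opens.grothendieckTopology X) AddCommGrpCat.{u} ⥤ Sheaf (Opens.grothendieckTopology U) AddCommGrpCat.{u} := hj.sheafPullback AddCommGrpCat.{u}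

instance : (restrictSh hj).IsLeftAdjoint :=
  ⟨_, ⟨(TopCat.Sheaf.pullbackPushforwardAdjunction AddCommGrpCat.{u} j).ofNatIsoLeft
    (hj.sheafPullbackIso AddCommGrpCat.{u})⟩⟩

instance : (restrictSh hj).Additive where

instance : PreservesFiniteLimits (restrictSh hj) := by
  have : PreservesFiniteLimits (restrictSh hj ⋙
      sheafToPresheaf (Opens.grothendieckTopology U) AddCommGrpCat.{u}) :=
    inferInstanceAs (PreservesFiniteLimits
      (sheafToPresheaf (Opens.grothendieckTopology X) AddCommGrpCat.{u} ⋙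
        (Functor.whiskeringLeft _ _ _).obj hj.functor.op))
  exact preservesFiniteLimits_of_reflects_of_preserves (restrictSh hj)
    (sheafToPresheaf (Opens.grothendieckTopology U) AddCommGrpCat.{u})

theorem restrictSh_isFlasque (F : Sheaf (Opens.grothendieckTopology X) AddCommGrpCat.{u}) [TopCat.Sheaf.IsFlasque F] :
    TopCat.Sheaf.IsFlasque ((restrictSh hj).obj F) where
  epi {_ _} i :=
    inferInstanceAs (Epi (F.obj.map (hj.functor.op.map i)))

/-- Data comparing `H'(F, image V)` with `H'(F|_U, V)`. -/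
noncomputable def restrictShiftData (V : Opens U) :
    ShiftData (restrictSh hj) (freeSh (hj.functor.obj V)) (freeSh V) where
  mem _ := True
  injective_mem _ _ := trivial
  quot_mem _ _ _ _ := trivial
  map_shortExact S hS _ _ := hS.map_of_exact _
  acyclic I hI n := by
    have := injective_isFlasque I
    have := restrictSh_isFlasque hj I
    exact subsingleton_H'_of_isFlasque ((restrictSh hj).obj I) V n
  e₀ G := (freeShEquiv (hj.functor.obj V) G).trans (freeShEquiv V ((restrictSh hj).obj G)).symm
  e₀_naturality {G G'} f φ := by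
    apply (freeShEquiv V ((restrictSh hj).obj G')).injective
    refine ((freeShEquiv V ((restrictSh hj).obj G')).apply_symm_apply _).trans ?_
    refine Eq.trans ?_ (freeShEquiv_comp V ((restrictSh hj).map f) _).symm
    exact (congrArg (((restrictSh hj).map f).hom.app (op V))
      ((freeShEquiv V ((restrictSh hj).obj G)).apply_symm_apply
        (freeShEquiv (hj.functor.obj V) G φ))).symm

/-- `H'(F, image V) ≃+ H'(F|_U, V)`. -/
noncomputable def H'RestrictEquiv (F : Sheaf (Opens.grothendieckTopology X) AddCommGrpCat.{u}) (V : Opens U) (n : ℕ) :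
    Sheaf.H' F n (hj.functor.obj V) ≃+ Sheaf.H' ((restrictSh hj).obj F) n V :=
  (restrictShiftData hj V).equiv F trivial n

theorem H'RestrictEquiv_naturality {F G : Sheaf (Opens.grothendieckTopology X) AddCommGrpCat.{u}} (f : F ⟶ G) (V : Opens U) (n : ℕ)
    (x : Sheaf.H' F n (hj.functor.obj V)) :
    H'RestrictEquiv hj G V n ((Ext.mk₀ f).postcomp (freeSh (hj.functor.obj V)) (add_zero n) x) =
      (Ext.mk₀ ((restrictSh hj).map f)).postcomp (freeSh V) (add_zero n)
        (H'RestrictEquiv hj F V n x) :=
  (restrictShiftData hj V).equiv_naturality (G := F) (G' := G) trivial trivial f n x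

end Restrict

section Push

variable {Y : TopCat.{u}} (f : X ⟶ Y)

/-- Direct image of abelian sheaves. -/
noncomputable abbrev pushSh : Sheaf (Opens.grothendieckTopology X) AddCommGrpCat.{u} ⥤ Sheaf (Opens.grothendieckTopology Y) AddCommGrpCat.{u} :=
  TopCat.Sheaf.pushforward AddCommGrpCat.{u} f

instance : (pushSh f).Additive where

/-- `G` has no higher cohomology on preimages of members of `B`. -/
def AcyclicOverBasis (B : Set (Opens Y)) (G : Sheaf (Opens.grothendieckTopology X) AddCommGrpCat.{u}) : Prop :=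
  ∀ V ∈ B, ∀ n : ℕ, Subsingleton (Sheaf.H' G (n + 1) ((Opens.map f).obj V))

variable {f}

theorem pushSh_shortExact {B : Set (Opens Y)} (hB : Opens.IsBasis B)
    {S : ShortComplex (Sheaf (Opens.grothendieckTopology X) AddCommGrpCat.{u})} (hS : S.ShortExact) (hG : AcyclicOverBasis f B S.X₁) :
    (S.map (pushSh f)).ShortExact := by
  have hmono : Mono S.f := hS.mono_f
  have : PreservesFiniteLimits (pushSh f) :=
    have : (pushSh f).IsRightAdjoint :=
      (TopCat.Sheaf.pullbackPushforwardAdjunction AddCommGrpCat.{u} f).isRightAdjoint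
    inferInstance
  have : Mono (S.map (pushSh f)).f := (pushSh f).map_mono S.f
  have : Epi (S.map (pushSh f)).g := by
    refine (TopCat.Sheaf.isLocallySurjective_iff_epi (X := Y) (S.map (pushSh f)).g).1 ?_
    refine (TopCat.Presheaf.isLocallySurjective_iff _).2 fun V s y hy => ?_
    obtain ⟨W, hW, hyW, hWV⟩ := Opens.isBasis_iff_nbhd.mp hB hy
    have hWV' : W ≤ V := hWV
    let s' : S.X₃.obj.obj (op ((Opens.map f).obj W)) :=
      ((pushSh f).obj S.X₃).obj.map (homOfLE hWV').op s
    let x := Ext.mk₀ ((freeShEquiv ((Opens.map f).obj W) S.X₃).symm s')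
    have : Subsingleton (Ext (freeSh ((Opens.map f).obj W)) S.X₁ (0 + 1)) := hG W hW 0
    have hx : x.comp hS.extClass (rfl : 0 + 1 = 0 + 1) = 0 := Subsingleton.elim _ _
    obtain ⟨y', hy'⟩ := (comp_extClass_eq_zero_iff hS x).1 hx
    obtain ⟨ψ, rfl⟩ := Ext.addEquiv₀.symm.surjective y'
    refine ⟨W, hWV', ⟨freeShEquiv _ S.X₂ ψ, ?_⟩, hyW⟩
    change S.g.hom.app _ (freeShEquiv _ S.X₂ ψ) = _
    rw [← freeShEquiv_comp]
    rw [Ext.addEquiv₀_symm_apply, Ext.mk₀_comp_mk₀] at hy'
    rw [(Ext.mk₀_bijective _ _).injective hy', AddEquiv.apply_symm_apply]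
    rfl
  refine { exact := ?_ }
  exact (hS.exact.map_of_mono_of_preservesKernel (pushSh f) hmono inferInstance)

theorem acyclicOverBasis_of_isFlasque (B : Set (Opens Y)) (G : Sheaf (Opens.grothendieckTopology X) AddCommGrpCat.{u})
    [TopCat.Sheaf.IsFlasque G] : AcyclicOverBasis f B G :=
  fun _ _ n => subsingleton_H'_of_isFlasque G _ n

/-- Data comparing cohomology of `G` and `f_* G`. -/
noncomputable def pushShiftData {B : Set (Opens Y)} (hB : Opens.IsBasis B) (V : Opens Y) :
    ShiftData (pushSh f) (freeSh ((Opens.map f).obj V)) (freeSh V) where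
  mem := AcyclicOverBasis f B
  injective_mem I _ :=
    have := injective_isFlasque I
    acyclicOverBasis_of_isFlasque B I
  quot_mem S hS h₁ h₂ W hW n := subsingleton_of_forall_eq 0 fun x => by
    have h : Subsingleton (Ext (freeSh ((Opens.map f).obj W)) S.X₁ (n + 1 + 1)) := h₁ W hW (n + 1)
    obtain ⟨y, hy⟩ := (comp_extClass_eq_zero_iff hS x).1 (@Subsingleton.elim _ h _ _)
    have : Subsingleton (Ext (freeSh ((Opens.map f).obj W)) S.X₂ (n + 1)) :=
      Ext.subsingleton_of_injective _ _ n
    rw [← hy, @Subsingleton.elim _ this y 0, Ext.zero_comp]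
    rfl
  map_shortExact _ hS h₁ _ := pushSh_shortExact hB hS h₁
  acyclic I _ n := by
    have := injective_isFlasque I
    have : TopCat.Sheaf.IsFlasque ((pushSh f).obj I) :=
      TopCat.Sheaf.IsFlasque.pushforward_isFlasque I f
    exact subsingleton_H'_of_isFlasque ((pushSh f).obj I) V n
  e₀ G := (freeShEquiv ((Opens.map f).obj V) G).trans (freeShEquiv V ((pushSh f).obj G)).symm
  e₀_naturality {G G'} g φ := by
    apply (freeShEquiv V ((pushSh f).obj G')).injective
    refine ((freeShEquiv V ((pushSh f).obj G')).apply_symm_apply _).trans ?_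
    refine Eq.trans ?_ (freeShEquiv_comp V ((pushSh f).map g) _).symm
    exact (congrArg (((pushSh f).map g).hom.app (op V))
      ((freeShEquiv V ((pushSh f).obj G)).apply_symm_apply
        (freeShEquiv ((Opens.map f).obj V) G φ))).symm

/-- `H'(G, f⁻¹ V) ≃+ H'(f_* G, V)` for `G` acyclic on preimages of a basis. -/
noncomputable def H'PushEquiv {B : Set (Opens Y)} (hB : Opens.IsBasis B) (G : Sheaf (Opens.grothendieckTopology X) AddCommGrpCat.{u})
    (hG : AcyclicOverBasis f B G) (V : Opens Y) (n : ℕ) :
    Sheaf.H' G n ((Opens.map f).obj V) ≃+ Sheaf.H' ((pushSh f).obj G) n V :=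
  (pushShiftData hB V).equiv G hG n

theorem H'PushEquiv_naturality {B : Set (Opens Y)} (hB : Opens.IsBasis B) {G G' : Sheaf (Opens.grothendieckTopology X) AddCommGrpCat.{u}}
    (hG : AcyclicOverBasis f B G) (hG' : AcyclicOverBasis f B G') (g : G ⟶ G') (V : Opens Y)
    (n : ℕ) (x : Sheaf.H' G n ((Opens.map f).obj V)) :
    H'PushEquiv hB G' hG' V n
        ((Ext.mk₀ g).postcomp (freeSh ((Opens.map f).obj V)) (add_zero n) x) =
      (Ext.mk₀ ((pushSh f).map g)).postcomp (freeSh V) (add_zero n)
        (H'PushEquiv hB G hG V n x) :=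
  (pushShiftData hB V).equiv_naturality (G := G) (G' := G') hG hG' g n x

end Push

end Groth.Agent.Coherent
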