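import Groth.Agent.Coherent.Stein
import Groth.Agent.Coherent.ConnectedFibre
import Groth.Prelude.Def_ega3

/-! Fibres of the Stein factorisation. -/

set_option autoImplicit false
universe u

open CategoryTheory CategoryTheory.Limits AlgebraicGeometry TopologicalSpace

namespace Groth.Agent.Coherent

variable {X Y : Scheme.{u}} (f : X ⟶ Y) [IsProper f] [IsLocallyNoetherian Y]

/-- The fibres of the first map of the Stein factorisation are preconnected. -/
theorem isPreconnected_preimage_toNormalization (w : f.normalization) :
    _root_.IsPreconnected (f.toNormalization ⁻¹' {w} : Set X) := by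
  have := isLocallyNoetherian_normalization f
  have := isProper_toNormalization f
  exact isPreconnected_preimage_singleton f.toNormalization (isIso_toNormalization_app f) w

/-- The fibres of the first map of the Stein factorisation are nonempty. -/
theorem surjective_toNormalization : Function.Surjective f.toNormalization := by
  intro w
  have := isLocallyNoetherian_normalization f
  have := isProper_toNormalization f
  obtain ⟨z⟩ := (connectedSpace_fiber_of_isIso_app f.toNormalization
    (isIso_toNormalization_app f) w).toNonempty
  refine ⟨f.toNormalization.fiberι w z, ?_⟩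
  have := Set.mem_range_self (f := f.toNormalization.fiberι w) z
  rw [f.toNormalization.range_fiberι] at this
  exact this

omit [IsProper f] [IsLocallyNoetherian Y] in
theorem fiberι_fiberMapOver {Z : Scheme.{u}} (g : Y ⟶ Z) (h : X ⟶ Z) (w : f ≫ g = h) (z : Z)
    (x : h.fiber z) :
    g.fiberι z ((CohIII.fiberMapOver f h g w z).base x) = f (h.fiberι z x) := by
  rw [← Scheme.Hom.comp_apply, ← Scheme.Hom.comp_apply]
  exact congrArg (fun k : h.fiber z ⟶ Y => k x)
    (pullback.lift_fst _ _ _ : CohIII.fiberMapOver f h g w z ≫ g.fiberι z = h.fiberι z ≫ f)

theorem stein_fibre (y : Y) :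
    Finite ↥(f.fromNormalization.fiber y) ∧
    Function.Surjective (CohIII.fiberMapOver f.toNormalization f f.fromNormalization
        f.toNormalization_fromNormalization y).base ∧
    ∀ x x' : ↥(f.fiber y),
      (CohIII.fiberMapOver f.toNormalization f f.fromNormalization f.toNormalization_fromNormalization y).base x =
        (CohIII.fiberMapOver f.toNormalization f f.fromNormalization f.toNormalization_fromNormalization y).base x' ↔
      connectedComponent x = connectedComponent x' := by
  have := isFinite_fromNormalization_of_isProper f
  let φ := CohIII.fiberMapOver f.toNormalization f f.fromNormalization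
    f.toNormalization_fromNormalization y
  have hι : ∀ x, f.fromNormalization.fiberι y (φ.base x) = f.toNormalization (f.fiberι y x) :=
    fiberι_fiberMapOver f.toNormalization f.fromNormalization f
      f.toNormalization_fromNormalization y
  have hlift : ∀ (a : X) (w : f.fromNormalization.fiber y),
      f.toNormalization a = f.fromNormalization.fiberι y w →
      ∃ x, f.fiberι y x = a ∧ φ.base x = w := by
    intro a w ha
    have hw : f.fromNormalization (f.fromNormalization.fiberι y w) = y := by
      have := Set.mem_range_self (f := f.fromNormalization.fiberι y) w
      rw [f.fromNormalization.range_fiberι] at this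
      exact this
    have : a ∈ Set.range (f.fiberι y) := by
      rw [f.range_fiberι]
      show f a = y
      rw [← hw, ← ha, ← Scheme.Hom.comp_apply, f.toNormalization_fromNormalization]
    obtain ⟨x, rfl⟩ := this
    exact ⟨x, rfl, (f.fromNormalization.fiberι y).isEmbedding.injective ((hι x).trans ha)⟩
  refine ⟨inferInstance, fun w => ?_, fun x x' => ⟨fun h => ?_, fun h => ?_⟩⟩
  · obtain ⟨a, ha⟩ := surjective_toNormalization f (f.fromNormalization.fiberι y w)
    obtain ⟨x, -, hx⟩ := hlift a w ha
    exact ⟨x, hx⟩
  · have himg : f.fiberι y '' (φ.base ⁻¹' {φ.base x}) =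
        f.toNormalization ⁻¹' {f.fromNormalization.fiberι y (φ.base x)} := by
      ext a
      constructor
      · rintro ⟨b, hb, rfl⟩
        exact (hι b).symm.trans (congrArg (f.fromNormalization.fiberι y) hb)
      · intro ha
        obtain ⟨b, hb, hb'⟩ := hlift a _ ha
        exact ⟨b, hb', hb⟩
    have hpre : _root_.IsPreconnected (φ.base ⁻¹' {φ.base x}) := by
      rw [← (f.fiberι y).isEmbedding.isInducing.isPreconnected_image, himg]
      exact isPreconnected_preimage_toNormalization f _
    refine connectedComponent_eq ?_
    exact hpre.subset_connectedComponent (x := x) rfl h.symm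
  · have hd : DiscreteTopology (f.fromNormalization.fiber y) := inferInstance
    have h1 := (φ.continuous).image_connectedComponent_eq_singleton x
    have hx' : φ.base x' ∈ φ.base '' connectedComponent x :=
      ⟨x', h ▸ mem_connectedComponent, rfl⟩
    rw [h1] at hx'
    exact (Set.mem_singleton_iff.mp hx').symm

end Groth.Agent.Coherent
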