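import Groth.Agent.Coherent.Vanishing
import Groth.Agent.Coherent.QcohOps
import Groth.Agent.S0013
import Groth.Agent.SiteCoh.CechMore
import Groth.Prelude.Def_CohB1

/-!
# Čech cohomology of quasi-coherent modules for basic opens
-/

set_option autoImplicit false

universe u

open CategoryTheory CategoryTheory.Limits AlgebraicGeometry Opposite TopologicalSpace
open Groth.Agent.SiteCoh

namespace Groth.Agent.Coherent

theorem mem_iInf_opens {T : TopCat.{u}} {κ : Type*} [Finite κ] (V : κ → Opens T) (z : T) :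
    z ∈ (⨅ k, V k) ↔ ∀ k, z ∈ V k := by
  have := Fintype.ofFinite κ
  rw [← Finset.inf_univ_eq_iInf, ← SetLike.mem_coe, Opens.coe_finset_inf,
    Finset.inf_eq_iInf]
  simp

/-- Čech vanishing transfers along the image of an intersection-preserving map of opens. -/
theorem isZero_cech_image {Y T : TopCat.{u}} (H : Opens Y ⥤ Opens T)
    (P : (Opens T)ᵒᵖ ⥤ AddCommGrpCat.{u}) {ι : Type u} (W : ι → Opens Y)
    (hH : ∀ (q : ℕ) (a : Fin (q + 1) → ι),
      H.obj (Cech.inter W a) = Cech.inter (fun i => H.obj (W i)) a)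
    (p : ℕ) (h : IsZero ((Cech.cx (H.op ⋙ P) W).homology (p + 1))) :
    IsZero ((Cech.cx P (fun i => H.obj (W i))).homology (p + 1)) := by
  let T' : ∀ q, (Cech.cx (H.op ⋙ P) W).X q → (Cech.cx P (fun i => H.obj (W i))).X q := fun q x =>
    Cech.mk P _ fun a => P.map (eqToHom (hH q a).symm).op (Cech.ev (H.op ⋙ P) W a x)
  have hT : ∀ q x, T' (q + 1) ((Cech.cx (H.op ⋙ P) W).d q (q + 1) x) =
      (Cech.cx P (fun i => H.obj (W i))).d q (q + 1) (T' q x) := by
    intro q x
    refine Cech.ext _ _ fun a => ?_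
    rw [Cech.ev_mk, Cech.ev_d, Cech.ev_d, map_sum]
    refine Finset.sum_congr rfl fun j _ => ?_
    rw [map_zsmul, Cech.ev_mk]
    refine congrArg (fun z => (-1 : ℤ) ^ (j : ℕ) • z) ?_
    change P.map _ (P.map (H.map (Cech.face W a j)).op _) = P.map _ (P.map _ _)
    rw [← ConcreteCategory.comp_apply, ← P.map_comp, ← op_comp, ← ConcreteCategory.comp_apply,
      ← P.map_comp, ← op_comp]
    exact congrArg (fun m => P.map (Quiver.Hom.op m) _) (Subsingleton.elim _ _)
  have hinj : ∀ q x y, T' q x = T' q y → x = y := fun q x y hxy => by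
    refine Cech.ext _ _ fun a => ?_
    have := congrArg (Cech.ev P _ a) hxy
    rw [Cech.ev_mk, Cech.ev_mk] at this
    exact (AddCommGrpCat.mono_iff_injective (P.map (eqToHom (hH q a).symm).op)).1 inferInstance this
  have hsurj : ∀ q y, ∃ x, T' q x = y := fun q y =>
    ⟨Cech.mk _ W fun a => P.map (eqToHom (hH q a)).op (Cech.ev P _ a y), Cech.ext _ _ fun a => by
      rw [Cech.ev_mk, Cech.ev_mk]
      rw [← ConcreteCategory.comp_apply, ← P.map_comp, ← op_comp, eqToHom_trans, eqToHom_refl,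
        op_id, P.map_id, ConcreteCategory.id_apply]⟩
  have hT0 : ∀ q, T' q 0 = 0 := fun q => Cech.ext _ _ fun a => by
    rw [Cech.ev_mk, map_zero, map_zero, map_zero]
  rw [Cech.isZero_homology_succ_iff] at h ⊢
  intro x hx
  obtain ⟨x', rfl⟩ := hsurj (p + 1) x
  obtain ⟨z, hz⟩ := h x' (hinj _ _ _ (by rw [hT, hx, hT0]))
  exact ⟨T' p z, by rw [← hT, hz]⟩

variable {Y : Scheme.{u}}

/-- On an affine scheme, the Čech cohomology of a quasi-coherent module for basic opens of functions
generating the unit ideal vanishes in positive degrees. -/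
theorem isZero_cechH_basicOpen_of_isAffine [IsAffine Y] {ι : Type u} (f : ι → Γ(Y, ⊤))
    (hf : Ideal.span (Set.range f) = ⊤) (M : Y.Modules) [Coh.IsQCoh M] (p : ℕ) (hp : 0 < p) :
    IsZero (CohB1.cechH (fun i => Y.basicOpen (f i)) M p) := by
  classical
  have hcov : ⨆ i, Y.basicOpen (f i) = ⊤ := by
    have := (isAffineOpen_top Y).iSup_basicOpen_eq_self_iff (s := Set.range f)
    rw [← this] at hf
    refine eq_top_iff.2 (hf.ge.trans ?_)
    exact iSup_le fun r => by
      obtain ⟨_, i, rfl⟩ := r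
      exact le_iSup (fun i => Y.basicOpen (f i)) i
  have hU : ∀ s : Finset ι, s.Nonempty → IsAffineOpen (⨅ i ∈ s, Y.basicOpen (f i)) := by
    intro s hs
    induction hs using Finset.Nonempty.cons_induction with
    | singleton a => simpa using (isAffineOpen_top Y).basicOpen (f a)
    | cons a s ha hs ih =>
      rw [Finset.cons_eq_insert, Finset.iInf_insert,
        ← inf_eq_right.2 (le_top (a := ⨅ i ∈ s, Y.basicOpen (f i))), inf_comm (⊤ : Y.Opens),
        inf_top_eq, inf_comm, ← Y.basicOpen_res (f a) (homOfLE le_top).op]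
      exact ih.basicOpen _
  obtain ⟨e⟩ := Groth.Agent.S0013.result Y (fun i => Y.basicOpen (f i)) hcov hU M p
  have : Subsingleton (Coh.HH Y M p) := subsingleton_HH_of_isAffine M p (by omega)
  have := e.toEquiv.subsingleton
  exact AddCommGrpCat.isZero_of_subsingleton _

variable {X : Scheme.{u}}

/-- Čech acyclicity for quasi-compact basic opens with a partition of unity on their union. -/
theorem isZero_cechH_of_span [X.IsSeparated] {ι : Type u} (f : ι → Γ(X, ⊤))
    (U : X.Opens) (hU : ∀ i, X.basicOpen (f i) ≤ U) (hUc : IsCompact (U : Set X))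
    (hspan : Ideal.span (Set.range fun i => U.ι.appTop (f i)) = ⊤)
    (G : X.Modules) [Coh.IsQCoh G] (p : ℕ) (hp : 0 < p) :
    IsZero (CohB1.cechH (fun i => X.basicOpen (f i)) G p) := by
  obtain ⟨q, rfl⟩ : ∃ q, p = q + 1 := ⟨p - 1, by omega⟩
  have : CompactSpace (U : Scheme.{u}) := isCompact_iff_compactSpace.mp hUc
  let π := (U : Scheme.{u}).toSpecΓ
  let R := Γ((U : Scheme.{u}), ⊤)
  have : QuasiSeparatedSpace (U : Scheme.{u}) := U.ι.isOpenEmbedding.quasiSeparatedSpace
  have : Coh.IsQCoh (G.restrict U.ι) :=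
    inferInstanceAs (Coh.IsQCoh ((Scheme.Modules.restrictFunctor U.ι).obj G))
  have hM : Coh.IsQCoh ((Coh.push π).obj (G.restrict U.ι)) := isQCoh_push π _
  let g : ι → Γ(Spec R, ⊤) := fun i => (Scheme.ΓSpecIso R).inv (U.ι.appTop (f i))
  have hg : Ideal.span (Set.range g) = ⊤ := by
    have h := congrArg (Ideal.map (Scheme.ΓSpecIso R).inv.hom) hspan
    rw [Ideal.map_span, Ideal.map_top, ← Set.range_comp] at h
    exact h
  let H : (Spec R).Opens ⥤ X.Opens := Monotone.functor
    (f := fun V => U.ι ''ᵁ (π ⁻¹ᵁ V))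
    (fun V V' h => U.ι.image_mono (π.preimage_mono h))
  have hW : (fun i => H.obj ((Spec R).basicOpen (g i))) = fun i => X.basicOpen (f i) := by
    funext i
    change U.ι ''ᵁ (π ⁻¹ᵁ (Spec R).basicOpen (g i)) = _
    rw [basicOpen_eq_of_affine, Scheme.toSpecΓ_preimage_basicOpen, show (U : Scheme.{u}).basicOpen (U.ι.appTop (f i)) = U.ι ⁻¹ᵁ X.basicOpen (f i) from (Scheme.preimage_basicOpen U.ι (f i)).symm,
      Scheme.Hom.image_preimage_eq_opensRange_inf, Scheme.Opens.opensRange_ι, inf_eq_right.2 (hU i)]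
  rw [← hW]
  refine isZero_cech_image H G.presheaf _ (fun r a => ?_) q
    (isZero_cechH_basicOpen_of_isAffine g hg ((Coh.push π).obj (G.restrict U.ι)) (q + 1) hp)
  rw [inter_eq_iInf, inter_eq_iInf]
  refine le_antisymm (le_iInf fun k => leOfHom (H.map (homOfLE (iInf_le _ k)))) fun z hz => ?_
  rw [mem_iInf_opens] at hz
  obtain ⟨y, hy, rfl⟩ := hz 0
  refine ⟨y, (mem_iInf_opens _ (π.base y)).2 fun k => ?_, rfl⟩
  obtain ⟨y', hy', he⟩ := hz k
  exact U.ι.isOpenEmbedding.injective he ▸ hy'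

end Groth.Agent.Coherent
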