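import Groth.Agent.Coherent.SubFT
import Groth.Agent.Coherent.CohOps
import Mathlib.CategoryTheory.Subfunctor.Sieves
import Mathlib.CategoryTheory.Sites.Subsheaf

/-!
# The submodule sheaf attached to a family of sections
-/

set_option autoImplicit false
set_option backward.isDefEq.respectTransparency false

universe u v

open CategoryTheory CategoryTheory.Limits AlgebraicGeometry Opposite TopologicalSpace
  Groth.Agent.AssSch12

namespace Groth.Agent.Coherent

variable {X : Scheme.{u}} {F : X.Modules}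

theorem modMap_eq_resM {W W' : (X.Opens)ᵒᵖ} (f : W ⟶ W') (a : Γ(F, W.unop)) :
    F.val.map f a = resM F (leOfHom f.unop) a := by
  rw [Subsingleton.elim f (homOfLE (leOfHom f.unop)).op]
  rfl

/-- The presheaf of modules of a `SubM`. -/
noncomputable def SubM.toSub (P : SubM F) : F.val.Submodule where
  obj W := P.carrier W.unop
  map {W W'} f a ha := by
    have := P.res (leOfHom f.unop) ha
    rwa [← modMap_eq_resM f a] at this

theorem SubM.isSheaf_toSub (P : SubM F) :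
    Presheaf.IsSheaf (Opens.grothendieckTopology X) P.toSub.toPresheafOfModules.presheaf := by
  let S : Subfunctor (F.val.presheaf ⋙ forget Ab.{u}) :=
    { obj := fun W => {a | a ∈ P.carrier W.unop}
      map := fun {W W'} f a ha => by
        have := P.res (leOfHom f.unop) ha
        rw [← modMap_eq_resM f a] at this
        exact this }
  have hF : Presieve.IsSheaf (Opens.grothendieckTopology X) (F.val.presheaf ⋙ forget Ab.{u}) :=
    (isSheaf_iff_isSheaf_of_type _ _).1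
      ((Presheaf.isSheaf_iff_isSheaf_forget _ F.val.presheaf (forget Ab.{u})).1 F.isSheaf)
  rw [Presheaf.isSheaf_iff_isSheaf_forget _ _ (forget Ab.{u}), isSheaf_iff_isSheaf_of_type]
  let e : P.toSub.toPresheafOfModules.presheaf ⋙ forget Ab.{u} ≅ S.toFunctor :=
    NatIso.ofComponents (fun W => Equiv.toIso
      { toFun := fun s => ⟨s.1, s.2⟩
        invFun := fun s => ⟨s.1, s.2⟩
        left_inv := fun _ => rfl
        right_inv := fun _ => rfl }) (fun _ => rfl)
  refine Presieve.isSheaf_iso _ e.symm ((S.isSheaf_iff hF).2 fun W s hs => ?_)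
  refine P.of_local s fun y hy => ?_
  obtain ⟨W', g, hg, hyW'⟩ := hs y hy
  refine ⟨W', leOfHom g, hyW', ?_⟩
  have hg' : F.val.map g.op s ∈ P.carrier W' := hg
  rwa [modMap_eq_resM] at hg'

/-- The sheaf of modules of a `SubM`. -/
noncomputable def SubM.toMod (P : SubM F) : X.Modules :=
  ⟨P.toSub.toPresheafOfModules, P.isSheaf_toSub⟩

/-- The inclusion. -/
noncomputable def SubM.toι (P : SubM F) : P.toMod ⟶ F :=
  ⟨P.toSub.ι⟩

theorem SubM.toι_injective (P : SubM F) (W : X.Opens) :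
    Function.Injective (P.toι.app W) := fun _ _ h => Subtype.ext h

instance (P : SubM F) : Mono P.toι :=
  ⟨fun g h e => Scheme.Modules.hom_ext _ _ fun W => by
    ext a
    exact P.toι_injective W (congr($e |>.app W a))⟩

theorem SubM.mem_range_toι (P : SubM F) {W : X.Opens} {a : Γ(F, W)} :
    a ∈ Set.range (P.toι.app W) ↔ a ∈ P.carrier W :=
  ⟨by rintro ⟨b, rfl⟩; exact b.2, fun h => ⟨⟨a, h⟩, rfl⟩⟩

theorem SubM.toι_smul (P : SubM F) (W : X.Opens) (c : Γ(X, W)) (a : Γ(P.toMod, W)) :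
    P.toι.app W (c • a) = c • P.toι.app W a := rfl

theorem SubM.genOn {P : SubM F} {V : X.Opens} {I : Type u} [Fintype I] {s : I → Γ(F, V)}
    (h : P.GenBy V s) : GenOn P.toMod V fun i => (⟨s i, h.1 i⟩ : Γ(P.toMod, V)) := by
  intro W hW a y hy
  obtain ⟨W', h₁, h₂, hy', hm⟩ := h.2 W hW (P.toι.app W a) a.2 y hy (hW hy)
  obtain ⟨c, hc⟩ := (Submodule.mem_span_range_iff_exists_fun _).1 hm
  refine ⟨W', h₁, hy', c, P.toι_injective W' ?_⟩
  rw [app_resM, map_sum, ← hc]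
  refine Finset.sum_congr rfl fun i _ => ?_
  rw [P.toι_smul, app_resM]
  rfl

theorem SubM.isFT {P : SubM F} (hP : P.Good ⊤) : CohB1.IsFT P.toMod := by
  refine isFT_of_locallyFinGen fun x => ?_
  obtain ⟨V, -, hxV, I, hI, s, hs⟩ := hP x trivial
  have := Fintype.ofFinite I
  exact ⟨V, I, this, _, hxV, SubM.genOn hs⟩

theorem SubM.isQCoh [Coh.IsQCoh F] {P : SubM F} (hP : P.Good ⊤) : Coh.IsQCoh P.toMod := by
  have H : ∀ x : X, ∃ V : X.Opens, IsAffineOpen V ∧ x ∈ V ∧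
      ∃ (I : Type u) (s : I → Γ(F, V)), P.GenBy V s := fun x => by
    obtain ⟨N, -, hxN, I, hI, s, hs⟩ := hP x trivial
    obtain ⟨V, hV, hxV, hVN⟩ := Opens.isBasis_iff_nbhd.mp X.isBasis_affineOpens hxN
    exact ⟨V, hV, hxV, I, _, hs.restrict hVN⟩
  choose V hV hxV I s hs using H
  refine isQCoh_of_localizesOn P.toMod V hV (fun x => ⟨x, hxV x⟩) fun x => ⟨fun f a => ?_, fun f a ha => ?_⟩
  · obtain ⟨n, t, ht⟩ := qcoh_exists_pow_smul (hV x) F f (P.toι.app _ a)
    obtain ⟨m, hm⟩ := exists_pow_smul_mem_span (hV x) (s x) t f ((hs x).2 _ (X.basicOpen_le f) _ (by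
      rw [ht]; exact Submodule.smul_mem _ _ a.2))
    refine ⟨m + n, ⟨f ^ m • t, Submodule.span_le.2 (Set.range_subset_iff.2 (hs x).1) hm⟩,
      P.toι_injective _ ?_⟩
    rw [app_resM, P.toι_smul]
    show resM F (X.basicOpen_le f) (f ^ m • t) = _
    rw [resM_smul, ht, smul_smul, ← map_mul, ← pow_add]
  · obtain ⟨n, hn⟩ := qcoh_exists_pow_smul_eq_zero (hV x) F f (P.toι.app _ a) (by
      rw [← app_resM, ha, map_zero])
    exact ⟨n, P.toι_injective _ (by rw [P.toι_smul, hn, map_zero])⟩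

section OfHom

variable (U : X.Opens) {G : (U : Scheme.{u}).Modules} (i : G ⟶ F.restrict U.ι) [Mono i]

/-- The range of `i` over an open inside `U`. -/
noncomputable def rangeAt (W' : (U : Scheme.{u}).Opens) : Submodule Γ(X, U.ι ''ᵁ W') Γ(F, U.ι ''ᵁ W') where
  carrier := Set.range (fun g : Γ(G, W') => (F.restrictAppIso U.ι W').hom (i.app W' g))
  zero_mem' := ⟨0, by simp⟩
  add_mem' := by
    rintro _ _ ⟨a, rfl⟩ ⟨b, rfl⟩
    exact ⟨a + b, by simp⟩
  smul_mem' := by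
    rintro c _ ⟨a, rfl⟩
    refine ⟨(U.ι.appIso W').hom c • a, ?_⟩
    show (F.restrictAppIso U.ι W').hom _ = _
    rw [Scheme.Modules.Hom.app_smul, Scheme.Modules.smul_restrictAppIso_hom_apply,
      ← ConcreteCategory.comp_apply (U.ι.appIso W').hom, Iso.hom_inv_id]
    rfl

omit [Mono i] in
theorem rangeAt_res {W₁ W₂ : (U : Scheme.{u}).Opens} (h : W₂ ≤ W₁) {a : Γ(F, U.ι ''ᵁ W₁)}
    (ha : a ∈ rangeAt U i W₁) : resM F (U.ι.image_mono h) a ∈ rangeAt U i W₂ := by
  obtain ⟨g, rfl⟩ := ha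
  exact ⟨resM G h g, congrArg (F.restrictAppIso U.ι W₂).hom (app_resM i h g)⟩

theorem rangeAt_of_local {W₁ : (U : Scheme.{u}).Opens} (a : Γ(F, U.ι ''ᵁ W₁))
    (h : ∀ y ∈ W₁, ∃ (W₂ : (U : Scheme.{u}).Opens) (h : W₂ ≤ W₁), y ∈ W₂ ∧
      resM F (U.ι.image_mono h) a ∈ rangeAt U i W₂) : a ∈ rangeAt U i W₁ := by
  let a' : Γ(F.restrict U.ι, W₁) := (F.restrictAppIso U.ι W₁).inv a
  have hc : (cokernel.π i).app W₁ a' = 0 := by
    choose W₂ h₂ hy' g hg using h
    refine TopCat.Sheaf.eq_of_locally_eq' (X := (U : Scheme.{u}).toTopCat) (Coh.toAb (cokernel i))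
      (fun p : W₁ => W₂ p.1 p.2) W₁ (fun p => homOfLE (h₂ p.1 p.2))
      (fun y hy => Opens.mem_iSup.2 ⟨⟨y, hy⟩, hy' y hy⟩) _ _ fun p => ?_
    show resM (cokernel i) (h₂ p.1 p.2) ((cokernel.π i).app W₁ a') = resM (cokernel i) (h₂ p.1 p.2) 0
    rw [map_zero, ← app_resM, show resM (F.restrict U.ι) (h₂ p.1 p.2) a' = i.app _ (g p.1 p.2) from (hg p.1 p.2).symm]
    exact congr($(cokernel.condition i).app _ (g p.1 p.2))
  obtain ⟨k, hk⟩ := kernel_sections_exact (cokernel.π i) a' hc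
  refine ⟨(Abelian.monoLift i (kernel.ι _) (kernel.condition _)).app W₁ k, ?_⟩
  show (F.restrictAppIso U.ι W₁).hom (i.app W₁ ((Abelian.monoLift i (kernel.ι _) (kernel.condition _)).app W₁ k)) = a
  have hk' : i.app W₁ ((Abelian.monoLift i (kernel.ι _) (kernel.condition _)).app W₁ k) = a' :=
    (congr($(Abelian.monoLift_comp i (kernel.ι _) (kernel.condition _)).app W₁ k)).trans hk
  rw [hk']
  rfl

/-- The submodule attached to a subobject of `F|_U`, saturated outside `U`. -/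
noncomputable def SubM.ofHom : SubM F where
  carrier W :=
    { carrier := {a : Γ(F, W) | ∀ (W' : (U : Scheme.{u}).Opens) (h : U.ι ''ᵁ W' ≤ W),
        resM F h a ∈ rangeAt U i W'}
      zero_mem' := fun W' h => by rw [map_zero]; exact zero_mem _
      add_mem' := fun {a b} ha hb W' h => by rw [map_add]; exact add_mem (ha W' h) (hb W' h)
      smul_mem' := fun c a ha W' h => by
        rw [resM_smul]; exact Submodule.smul_mem _ _ (ha W' h) }
  res {W W₁} h {a} ha W' h' := by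
    rw [resM_resM]; exact ha W' (h'.trans h)
  of_local {W} a ha W' h := by
    refine rangeAt_of_local U i _ fun y hy => ?_
    obtain ⟨W₁, h₁, hy₁, hm⟩ := ha (U.ι y) (h ⟨y, hy, rfl⟩)
    refine ⟨W' ⊓ U.ι ⁻¹ᵁ W₁, inf_le_left, ⟨hy, hy₁⟩, ?_⟩
    have hle : U.ι ''ᵁ (W' ⊓ U.ι ⁻¹ᵁ W₁) ≤ W₁ := by
      rintro _ ⟨z, hz, rfl⟩; exact hz.2
    have := hm _ hle
    rw [resM_resM] at this
    rwa [resM_resM]

theorem SubM.ofHom_image (W' : (U : Scheme.{u}).Opens) :
    (SubM.ofHom U i).carrier (U.ι ''ᵁ W') = rangeAt U i W' := by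
  refine le_antisymm (fun a ha => ?_) fun a ha W'' h => ?_
  · have := ha W' le_rfl
    rwa [show resM F (le_refl (U.ι ''ᵁ W')) a = a from
      ConcreteCategory.congr_hom (F.presheaf.map_id _) a] at this
  · have hle : W'' ≤ W' := (U.ι.image_le_image_iff W'' W').1 h
    exact rangeAt_res U i hle ha

theorem SubM.good_ofHom (hG : CohB1.IsFT G) : (SubM.ofHom U i).Good U := by
  intro x hx
  obtain ⟨V', I, hI, t, hxV, hgen⟩ := locallyFinGen_of_isFT G hG ⟨x, hx⟩
  refine ⟨U.ι ''ᵁ V', ?_, ⟨⟨x, hx⟩, hxV, rfl⟩, I, inferInstance,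
    fun k => (F.restrictAppIso U.ι V').hom (i.app V' (t k)), fun k => ?_, fun W hW a ha y hy hyV => ?_⟩
  · rintro _ ⟨z, -, rfl⟩; exact z.2
  · rw [SubM.ofHom_image]; exact ⟨t k, rfl⟩
  · have hWU : U.ι ''ᵁ (U.ι ⁻¹ᵁ W) ≤ W := by rintro _ ⟨z, hz, rfl⟩; exact hz
    obtain ⟨g, hg⟩ := ha _ hWU
    obtain ⟨y', hy', rfl⟩ := hyV
    have hle : U.ι ⁻¹ᵁ W ≤ V' := fun z hz => by
      obtain ⟨z', hz', e⟩ := hW hz
      rwa [← U.ι.isOpenEmbedding.injective e]
    obtain ⟨W₂, hW₂, hy₂, c, hc⟩ := hgen _ hle g y' hy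
    refine ⟨U.ι ''ᵁ W₂, (U.ι.image_mono hW₂).trans hWU, U.ι.image_mono (hW₂.trans hle),
      ⟨y', hy₂, rfl⟩, ?_⟩
    have e₁ : resM F ((U.ι.image_mono hW₂).trans hWU) a =
        (F.restrictAppIso U.ι W₂).hom (i.app W₂ (resM G hW₂ g)) := by
      rw [← resM_resM (M := F) hWU (U.ι.image_mono hW₂) a, ← hg, app_resM]
      rfl
    rw [e₁, hc, map_sum, map_sum]
    refine Submodule.sum_mem _ fun k _ => ?_
    rw [Scheme.Modules.Hom.app_smul, Scheme.Modules.smul_restrictAppIso_hom_apply, app_resM]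
    exact Submodule.smul_mem _ _ (Submodule.subset_span ⟨k, rfl⟩)

/-- Extension of a finite type quasi-coherent submodule along an affine cover. -/
theorem exists_finiteType_extension [Coh.IsQCoh F] (hG : CohB1.IsFT G) {ι : Type v}
    (V : ι → X.Opens) (hV : ∀ j, IsAffineOpen (V j)) (hcov : ⨆ j, V j = ⊤)
    (A : Set ι → Prop) (h0 : A ∅)
    (hchain : ∀ c : Set (Set ι), IsChain (· ⊆ ·) c → (∀ S ∈ c, A S) → c.Nonempty → A (⋃₀ c))
    (hstep : ∀ S, A S → S ≠ Set.univ →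
      ∃ l, l ∉ S ∧ A (insert l S) ∧ IsCompact (↑((U ⊔ ⨆ j : S, V j) ⊓ V l) : Set X)) :
    ∃ (G' : X.Modules) (i' : G' ⟶ F) (e : G'.restrict U.ι ≅ G), Mono i' ∧ Coh.IsQCoh G' ∧
      CohB1.IsFT G' ∧ e.hom ≫ i = (Scheme.Modules.restrictFunctor U.ι).map i' := by
  obtain ⟨Q, hQ, hagree⟩ := exists_good_extension V hV hcov U _ (SubM.good_ofHom U i hG) A h0 hchain hstep
  let k := (Scheme.Modules.restrictFunctor U.ι).map Q.toι
  have : Mono k := ⟨fun g h e => Scheme.Modules.hom_ext _ _ fun W' => by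
    ext a
    exact Q.toι_injective (U.ι ''ᵁ W') (congr($e |>.app W' a))⟩
  have hQU : ∀ W' : (U : Scheme.{u}).Opens, Q.carrier (U.ι ''ᵁ W') = rangeAt U i W' := fun W' => by
    rw [hagree _ (by rintro _ ⟨z, -, rfl⟩; exact z.2), SubM.ofHom_image]
  have h₁ : k ≫ cokernel.π i = 0 := Scheme.Modules.hom_ext _ _ fun W' => by
    ext a
    obtain ⟨g, hg⟩ := (hQU W').le (show (F.restrictAppIso U.ι W').hom (k.app W' a) ∈ Q.carrier (U.ι ''ᵁ W') from a.2)
    show (cokernel.π i).app W' (k.app W' a) = 0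
    rw [show k.app W' a = i.app W' g from hg.symm]
    exact congr($(cokernel.condition i).app W' g)
  have h₂ : i ≫ cokernel.π k = 0 := Scheme.Modules.hom_ext _ _ fun W' => by
    ext g
    have hmem : (F.restrictAppIso U.ι W').hom (i.app W' g) ∈ Q.carrier (U.ι ''ᵁ W') :=
      (hQU W').ge ⟨g, rfl⟩
    show (cokernel.π k).app W' (i.app W' g) = 0
    let a : Γ(Q.toMod.restrict U.ι, W') := ⟨_, hmem⟩
    rw [show i.app W' g = k.app W' a from rfl]
    exact congr($(cokernel.condition k).app W' a)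
  refine ⟨Q.toMod, Q.toι,
    ⟨Abelian.monoLift i k h₁, Abelian.monoLift k i h₂, ?_, ?_⟩,
    inferInstance, SubM.isQCoh hQ, SubM.isFT hQ, Abelian.monoLift_comp i k h₁⟩
  · rw [← cancel_mono k, Category.assoc, Abelian.monoLift_comp, Abelian.monoLift_comp, Category.id_comp]
  · rw [← cancel_mono i, Category.assoc, Abelian.monoLift_comp, Abelian.monoLift_comp, Category.id_comp]

end OfHom

end Groth.Agent.Coherent
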