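import Groth.Agent.Coherent.QcohOps
import Mathlib.Algebra.Category.ModuleCat.Sheaf.Free

/-!
# Sections of finite free modules
-/

set_option autoImplicit false

universe u

open CategoryTheory CategoryTheory.Limits AlgebraicGeometry Opposite TopologicalSpace

namespace Groth.Agent.Coherent

variable {X : Scheme.{u}} {I : Type u}

/-- The finite free module. -/
noncomputable abbrev freeMod (X : Scheme.{u}) (I : Type u) : X.Modules :=
  SheafOfModules.free (R := X.ringCatSheaf) I

/-- Inclusion of a summand. -/
noncomputable abbrev freeInj (i : I) : Coh.structureModule X ⟶ freeMod X I :=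
  SheafOfModules.ιFree (R := X.ringCatSheaf) i

theorem freeMod_hom_ext {M : X.Modules} {φ ψ : freeMod X I ⟶ M}
    (h : ∀ i, freeInj i ≫ φ = freeInj i ≫ ψ) : φ = ψ :=
  Cofan.IsColimit.hom_ext (SheafOfModules.isColimitFreeCofan I) _ _
    (fun i => h i)

/-- Map out of a free module. -/
noncomputable def freeDesc {M : X.Modules} (φ : I → (Coh.structureModule X ⟶ M)) :
    freeMod X I ⟶ M :=
  Cofan.IsColimit.desc (SheafOfModules.isColimitFreeCofan I) φ

@[reassoc (attr := simp)]
theorem freeInj_freeDesc {M : X.Modules} (φ : I → (Coh.structureModule X ⟶ M)) (i : I) :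
    freeInj i ≫ freeDesc φ = φ i :=
  Cofan.IsColimit.fac (SheafOfModules.isColimitFreeCofan I) φ i

/-- Projection to a summand. -/
noncomputable def freeProj [DecidableEq I] (i : I) : freeMod X I ⟶ Coh.structureModule X :=
  freeDesc fun j => if j = i then 𝟙 _ else 0

theorem freeInj_freeProj [DecidableEq I] (i j : I) :
    freeInj (X := X) j ≫ freeProj i = if j = i then 𝟙 _ else 0 :=
  freeInj_freeDesc _ _

/-- The value at `V` of the section attached to a map from the structure sheaf. -/
noncomputable def unitVal {M : X.Modules} (φ : Coh.structureModule X ⟶ M) (V : X.Opens) :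
    Γ(M, V) :=
  φ.app V (1 : Γ(X, V))

theorem app_unit {M : X.Modules} (φ : Coh.structureModule X ⟶ M) {V : X.Opens} (r : Γ(X, V)) :
    φ.app V r = r • unitVal φ V := by
  refine (congrArg (φ.app V) (mul_one r).symm).trans ?_
  exact Scheme.Modules.Hom.app_smul (M := Coh.structureModule X) φ r (1 : Γ(X, V))

theorem resM_unitVal {M : X.Modules} (φ : Coh.structureModule X ⟶ M) {V W : X.Opens}
    (h : W ≤ V) : resM M h (unitVal φ V) = unitVal φ W := by
  refine (app_resM φ h (1 : Γ(X, V))).symm.trans (congrArg (φ.app W) ?_)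
  exact map_one (X.presheaf.map (homOfLE h).op).hom

/-- Coordinates of a section of a free module. -/
noncomputable def freeCoord [DecidableEq I] (V : X.Opens) (i : I) (a : Γ(freeMod X I, V)) :
    Γ(X, V) :=
  (freeProj i).app V a

/-- The standard basis. -/
noncomputable def freeBasisVec (i : I) (V : X.Opens) : Γ(freeMod X I, V) :=
  unitVal (freeInj i) V

theorem app_sum {M N : X.Modules} {κ : Type*} (s : Finset κ) (φ : κ → (M ⟶ N)) (V : X.Opens)
    (a : Γ(M, V)) : (∑ k ∈ s, φ k).app V a = ∑ k ∈ s, (φ k).app V a := by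
  classical
  induction s using Finset.induction with
  | empty => simp
  | insert k s hk ih => rw [Finset.sum_insert hk, Finset.sum_insert hk, ← ih]; rfl

theorem freeMod_decomp [Fintype I] [DecidableEq I] {V : X.Opens} (a : Γ(freeMod X I, V)) :
    a = ∑ i, freeCoord V i a • freeBasisVec i V := by
  have h : (∑ i, freeProj i ≫ freeInj i) = 𝟙 (freeMod X I) := by
    refine freeMod_hom_ext fun j => ?_
    rw [Preadditive.comp_sum, Category.comp_id, Finset.sum_eq_single j]
    · rw [← Category.assoc, freeInj_freeProj, if_pos rfl, Category.id_comp]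
    · intro i _ hi
      rw [← Category.assoc, freeInj_freeProj, if_neg (Ne.symm hi), zero_comp]
    · exact fun h => absurd (Finset.mem_univ j) h
  refine (congrArg (fun ψ : freeMod X I ⟶ freeMod X I => ψ.app V a) h).symm.trans ?_
  rw [app_sum]
  exact Finset.sum_congr rfl fun i _ => app_unit (freeInj i) (freeCoord V i a)

theorem freeMod_app [Fintype I] [DecidableEq I] {M : X.Modules} (φ : freeMod X I ⟶ M)
    {V : X.Opens} (a : Γ(freeMod X I, V)) :
    φ.app V a = ∑ i, freeCoord V i a • unitVal (freeInj i ≫ φ) V := by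
  conv_lhs => rw [freeMod_decomp a]
  rw [map_sum]
  exact Finset.sum_congr rfl fun i _ => Scheme.Modules.Hom.app_smul φ _ _

theorem freeCoord_basisVec [DecidableEq I] (V : X.Opens) (i j : I) :
    freeCoord V i (freeBasisVec j V) = if j = i then 1 else 0 := by
  refine (congrArg (fun ψ : Coh.structureModule X ⟶ Coh.structureModule X => ψ.app V (1 : Γ(X, V)))
    (freeInj_freeProj (X := X) i j)).trans ?_
  split_ifs <;> rfl

/-- `Γ(V, free I) ≃ (I → Γ(X, V))`. -/
noncomputable def freeSectionsEquiv [Fintype I] [DecidableEq I] (V : X.Opens) :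
    Γ(freeMod X I, V) ≃ₗ[Γ(X, V)] (I → Γ(X, V)) where
  toFun a i := freeCoord V i a
  map_add' a b := funext fun i => map_add ((freeProj i).app V).hom a b
  map_smul' r a := funext fun i => Scheme.Modules.Hom.app_smul (freeProj i) r a
  invFun c := ∑ i, c i • freeBasisVec i V
  left_inv a := (freeMod_decomp a).symm
  right_inv c := funext fun i => by
    refine (map_sum ((freeProj i).app V).hom _ _).trans ?_
    rw [Finset.sum_eq_single i]
    · refine (Scheme.Modules.Hom.app_smul (freeProj i) _ _).trans ?_
      change c i * freeCoord V i (freeBasisVec i V) = c i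
      rw [freeCoord_basisVec, if_pos rfl, mul_one]
    · intro j _ hj
      refine (Scheme.Modules.Hom.app_smul (freeProj i) _ _).trans ?_
      change c j * freeCoord V i (freeBasisVec j V) = 0
      rw [freeCoord_basisVec, if_neg hj, mul_zero]
    · exact fun h => absurd (Finset.mem_univ i) h

theorem freeMod_sections_finite [Finite I] (V : X.Opens) :
    Module.Finite Γ(X, V) Γ(freeMod X I, V) := by
  classical
  have := Fintype.ofFinite I
  exact Module.Finite.equiv (freeSectionsEquiv (I := I) V).symm

theorem isQCoh_structureModule : Coh.IsQCoh (Coh.structureModule X) := by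
  refine (isQCoh_iff_localizesOn _).2 fun U hU => ⟨fun f s => ?_, fun f t ht => ?_⟩
  · have := hU.isLocalization_basicOpen f
    obtain ⟨⟨t, ⟨_, n, rfl⟩⟩, ht⟩ := IsLocalization.surj (M := Submonoid.powers f) (R := Γ(X, U))
      (S := Γ(X, X.basicOpen f)) s
    refine ⟨n, t, ?_⟩
    exact ht.symm.trans (mul_comm _ _)
  · have := hU.isLocalization_basicOpen f
    obtain ⟨⟨_, n, rfl⟩, hn⟩ := (IsLocalization.map_eq_zero_iff (Submonoid.powers f)
      Γ(X, X.basicOpen f) (r := t)).1 ht
    exact ⟨n, hn⟩

theorem isQCoh_freeMod [Finite I] : Coh.IsQCoh (freeMod X I) := by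
  classical
  have := Fintype.ofFinite I
  have := isQCoh_structureModule (X := X)
  have hext : ∀ {V : X.Opens} (a b : Γ(freeMod X I, V)),
      (∀ i, freeCoord V i a = freeCoord V i b) → a = b := fun a b h =>
    (freeSectionsEquiv _).injective (funext h)
  refine (isQCoh_iff_localizesOn _).2 fun U hU => ⟨fun f s => ?_, fun f t ht => ?_⟩
  · choose n t ht using fun i =>
      qcoh_exists_pow_smul hU (Coh.structureModule X) f (freeCoord _ i s)
    let t : I → Γ(X, U) := t
    refine ⟨Finset.univ.sup n,
      (freeSectionsEquiv U).symm fun i => f ^ (Finset.univ.sup n - n i) * t i,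
      hext _ _ fun i => ?_⟩
    have e : freeCoord U i ((freeSectionsEquiv U).symm fun i =>
        f ^ (Finset.univ.sup n - n i) * t i) = f ^ (Finset.univ.sup n - n i) * t i :=
      congrFun ((freeSectionsEquiv (I := I) U).apply_symm_apply _) i
    refine (app_resM (freeProj i) (X.basicOpen_le f) _).trans ?_
    refine Eq.trans ?_ (Scheme.Modules.Hom.app_smul (freeProj i) _ s).symm
    change resM (Coh.structureModule X) (X.basicOpen_le f) (freeCoord U i _) =
      X.presheaf.map (homOfLE (X.basicOpen_le f)).op (f ^ Finset.univ.sup n) * freeCoord _ i s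
    rw [e]
    refine (map_mul (X.presheaf.map (homOfLE (X.basicOpen_le f)).op).hom _ _).trans ?_
    refine (congrArg (X.presheaf.map (homOfLE (X.basicOpen_le f)).op
      (f ^ (Finset.univ.sup n - n i)) * ·) (ht i)).trans ?_
    refine (mul_assoc (G := Γ(X, X.basicOpen f)) _ _ (freeCoord _ i s)).symm.trans
      (congrArg (fun z : Γ(X, X.basicOpen f) => z * freeCoord _ i s) ?_)
    rw [← Nat.sub_add_cancel (Finset.le_sup (f := n) (Finset.mem_univ i)), pow_add, map_mul,
      Nat.add_sub_cancel]
  · choose n hn using fun i => qcoh_exists_pow_smul_eq_zero hU (Coh.structureModule X) f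
      (freeCoord U i t)
      ((app_resM (freeProj i) (X.basicOpen_le f) t).symm.trans
        ((congrArg _ ht).trans (map_zero _)))
    refine ⟨Finset.univ.sup n, hext _ _ fun i => ?_⟩
    obtain ⟨k, hk⟩ := Nat.exists_eq_add_of_le (Finset.le_sup (f := n) (Finset.mem_univ i))
    refine (Scheme.Modules.Hom.app_smul (freeProj i) _ t).trans ?_
    refine Eq.trans ?_ (map_zero ((freeProj i).app U).hom).symm
    rw [hk, add_comm, pow_add, mul_smul]
    exact (congrArg (f ^ k • ·) (hn i)).trans (smul_zero _)

end Groth.Agent.Coherent
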