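import Groth.Agent.Coherent.InternalHomAdj
import Mathlib.AlgebraicGeometry.Modules.Tilde

/-!
# The tensor product of two tildes
-/

set_option autoImplicit false
set_option backward.isDefEq.respectTransparency false

universe u

open CategoryTheory CategoryTheory.Limits AlgebraicGeometry Opposite TopologicalSpace TensorProduct
open Groth.Agent.Coherent Groth.Agent.PicLib Groth.Agent.AmpleLib

namespace Groth.Agent.Coherent

/-- A morphism as a global family. -/
noncomputable def globalFamily {X : Scheme.{u}} {F N : X.Modules} (g : F ⟶ N) :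
    Γ(internalHom F N, ⊤) :=
  (show locHom F N ⊤ from ⟨fun W _ => (g.app W).hom,
    fun _ _ r a => Scheme.Modules.Hom.app_smul g r a, fun _ _ _ h a => (app_resM g h a).symm⟩)

theorem ev_globalFamily {X : Scheme.{u}} {F N : X.Modules} (g : F ⟶ N) (W : X.Opens) (hW : W ≤ ⊤)
    (a : Γ(F, W)) : ev (secHom (globalFamily g)) W hW a = g.app W a := rfl

/-- A global family as a morphism. -/
noncomputable def familyHom {X : Scheme.{u}} {F N : X.Modules} (φ : Γ(internalHom F N, ⊤)) : F ⟶ N :=
  ⟨PresheafOfModules.homMk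
    { app := fun W => AddCommGrpCat.ofHom ((secHom φ).1 W.unop le_top)
      naturality := fun W _ i => AddCommGrpCat.hom_ext (AddMonoidHom.ext fun a =>
        (ev_res (secHom φ) (W := W.unop) le_top (leOfHom i.unop) a).symm) }
    (fun W r a => ev_smul_arg (secHom φ) W.unop le_top r a)⟩

theorem familyHom_app {X : Scheme.{u}} {F N : X.Modules} (φ : Γ(internalHom F N, ⊤)) (W : X.Opens)
    (a : Γ(F, W)) : (familyHom φ).app W a = ev (secHom φ) W le_top a := rfl

theorem familyHom_injective {X : Scheme.{u}} {F N : X.Modules} :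
    Function.Injective (familyHom : Γ(internalHom F N, ⊤) → (F ⟶ N)) := fun φ ψ h =>
  locHom_ext (φ := secHom φ) (ψ := secHom ψ) fun W _ a => congr($(h).app W a)

variable {R : CommRingCat.{u}}

/-- The global section of `M~` attached to an element. -/
noncomputable def tsec (M : ModuleCat.{u} R) (m : M) : Γ(tilde M, ⊤) := (tilde.toOpen M ⊤).hom m

theorem tsec_add (M : ModuleCat.{u} R) (m m' : M) : tsec M (m + m') = tsec M m + tsec M m' :=
  map_add (tilde.toOpen M ⊤).hom m m'

theorem tsec_smul (M : ModuleCat.{u} R) (r : R) (m : M) : tsec M (r • m) = r • tsec M m :=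
  map_smul (tilde.toOpen M ⊤).hom r m

theorem map_tsec {M N : ModuleCat.{u} R} (f : M ⟶ N) (m : M) :
    (tilde.map f).app ⊤ (tsec M m) = tsec N (f m) :=
  congr($(tilde.toOpen_map_app f ⊤) m)

theorem tilde_hom_ext {M : ModuleCat.{u} R} {T : (Spec R).Modules} {φ ψ : tilde M ⟶ T}
    (h : ∀ m, φ.app ⊤ (tsec M m) = ψ.app ⊤ (tsec M m)) : φ = ψ := by
  apply ((tilde.adjunction (R := R)).homEquiv M T).injective
  rw [Adjunction.homEquiv_unit, Adjunction.homEquiv_unit]
  ext m
  exact h m

theorem homEquiv_symm_tsec {M : ModuleCat.{u} R} {T : (Spec R).Modules}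
    (f : M ⟶ moduleSpecΓFunctor.obj T) (m : M) :
    (((tilde.adjunction (R := R)).homEquiv M T).symm f).app ⊤ (tsec M m) = f m := by
  conv_rhs => rw [← ((tilde.adjunction (R := R)).homEquiv M T).apply_symm_apply f]
  rw [Adjunction.homEquiv_unit]
  rfl

/-- The map out of a tilde attached to a linear map into global sections. -/
noncomputable def tildeDesc {M : ModuleCat.{u} R} {T : (Spec R).Modules} (f : M →ₗ[R] Γ(T, ⊤)) :
    tilde M ⟶ T :=
  ((tilde.adjunction (R := R)).homEquiv M T).symm
    (show M ⟶ moduleSpecΓFunctor.obj T from (ModuleCat.ofHom f : M ⟶ ModuleCat.of R Γ(T, ⊤)))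

theorem tildeDesc_tsec {M : ModuleCat.{u} R} {T : (Spec R).Modules} (f : M →ₗ[R] Γ(T, ⊤)) (m : M) :
    (tildeDesc f).app ⊤ (tsec M m) = f m :=
  homEquiv_symm_tsec (M := M) _ m

variable (P Q : ModuleCat.{u} R)

/-- The comparison `(P ⊗ Q)~ → P~ ⊗ Q~`. -/
noncomputable def tildeTensorHom :
    tilde (ModuleCat.of R (P ⊗[R] Q)) ⟶ CohB1.tensorMod (tilde P) (tilde Q) :=
  tildeDesc (M := ModuleCat.of R (P ⊗[R] Q)) (TensorProduct.lift (LinearMap.mk₂ R
    (fun (p : P) (q : Q) => tmul (tsec P p) (tsec Q q))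
    (fun p p' q => by rw [tsec_add, tmul_add_left])
    (fun r p q => by
      rw [tsec_smul, Scheme.Modules.smul_Spec_def, tmul_smul_left]
      exact (Scheme.Modules.smul_Spec_def r _).symm)
    (fun p q q' => by rw [tsec_add, tmul_add_right])
    (fun r p q => by
      rw [tsec_smul, Scheme.Modules.smul_Spec_def, tmul_smul_right]
      exact (Scheme.Modules.smul_Spec_def r _).symm)))

theorem tildeTensorHom_tsec (p : P) (q : Q) :
    (tildeTensorHom P Q).app ⊤ (tsec _ (p ⊗ₜ[R] q)) = tmul (tsec P p) (tsec Q q) :=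
  (tildeDesc_tsec (M := ModuleCat.of R (P ⊗[R] Q)) _ (p ⊗ₜ[R] q)).trans (TensorProduct.lift.tmul _ _)

/-- The curried comparison. -/
noncomputable def tildeTensorCurry :
    tilde Q ⟶ internalHom (tilde P) (tilde (ModuleCat.of R (P ⊗[R] Q))) :=
  tildeDesc
    { toFun := fun (q : Q) => globalFamily (tilde.map (ModuleCat.ofHom ((TensorProduct.mk R P Q).flip q)))
      map_add' := fun q q' => by
        refine familyHom_injective (tilde_hom_ext fun p => ?_)
        show (tilde.map (ModuleCat.ofHom ((TensorProduct.mk R P Q).flip (q + q')))).app ⊤ (tsec P p) =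
          (tilde.map (ModuleCat.ofHom ((TensorProduct.mk R P Q).flip q))).app ⊤ (tsec P p) +
          (tilde.map (ModuleCat.ofHom ((TensorProduct.mk R P Q).flip q'))).app ⊤ (tsec P p)
        rw [map_tsec, map_tsec, map_tsec]
        refine Eq.trans ?_ (tsec_add _ _ _)
        exact congrArg (tsec _) (tmul_add p q q')
      map_smul' := fun r q => by
        refine familyHom_injective (tilde_hom_ext fun p => ?_)
        show (tilde.map (ModuleCat.ofHom ((TensorProduct.mk R P Q).flip (r • q)))).app ⊤ (tsec P p) =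
          (Spec R).presheaf.map (homOfLE (le_refl (⊤ : (Spec R).Opens))).op
              ((Spec R).presheaf.map (⊤ : (Spec R).Opens).leTop.op ((Scheme.ΓSpecIso R).inv r)) •
            (tilde.map (ModuleCat.ofHom ((TensorProduct.mk R P Q).flip q))).app ⊤ (tsec P p)
        rw [← ConcreteCategory.comp_apply, ← Functor.map_comp, map_tsec, map_tsec]
        refine (congrArg (tsec _) (tmul_smul r p q)).trans ?_
        exact tsec_smul (ModuleCat.of R (P ⊗[R] Q)) r _ }

theorem tildeTensorCurry_tsec (q : Q) :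
    familyHom ((tildeTensorCurry P Q).app ⊤ (tsec Q q)) =
      tilde.map (ModuleCat.ofHom ((TensorProduct.mk R P Q).flip q)) := by
  refine (congrArg familyHom (tildeDesc_tsec (M := Q) _ q)).trans ?_
  exact tilde_hom_ext fun p => rfl

/-- The comparison the other way. -/
noncomputable def tildeTensorInv :
    CohB1.tensorMod (tilde P) (tilde Q) ⟶ tilde (ModuleCat.of R (P ⊗[R] Q)) :=
  (uncurry (tildeTensorCurry P Q)).desc

theorem tildeTensorInv_tmul (p : P) (q : Q) :
    (tildeTensorInv P Q).app ⊤ (tmul (tsec P p) (tsec Q q)) = tsec _ (p ⊗ₜ[R] q) := by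
  refine (Bilin.desc_tmul _ ⊤ (tsec P p) (tsec Q q)).trans ?_
  refine (congr($(tildeTensorCurry_tsec P Q q).app ⊤ (tsec P p))).trans ?_
  exact map_tsec _ p

/-- `(P ⊗ Q)~ ≅ P~ ⊗ Q~`. -/
noncomputable def tildeTensorIso :
    tilde (ModuleCat.of R (P ⊗[R] Q)) ≅ CohB1.tensorMod (tilde P) (tilde Q) where
  hom := tildeTensorHom P Q
  inv := tildeTensorInv P Q
  hom_inv_id := tilde_hom_ext fun z => by
    show (tildeTensorInv P Q).app ⊤ ((tildeTensorHom P Q).app ⊤ (tsec _ z)) = tsec _ z
    let g : P ⊗[R] Q →+ Γ(tilde (ModuleCat.of R (P ⊗[R] Q)), ⊤) :=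
      AddMonoidHom.mk' (fun z => (tildeTensorInv P Q).app ⊤ ((tildeTensorHom P Q).app ⊤ (tsec _ z)))
        fun a b => by rw [tsec_add, map_add, map_add]
    let h : P ⊗[R] Q →+ Γ(tilde (ModuleCat.of R (P ⊗[R] Q)), ⊤) :=
      AddMonoidHom.mk' (fun z => tsec _ z) (fun a b => tsec_add (ModuleCat.of R (P ⊗[R] Q)) a b)
    show g z = h z
    induction z using TensorProduct.induction_on with
    | zero => rw [map_zero, map_zero]
    | add a b ha hb => rw [map_add, map_add, ha, hb]
    | tmul p q =>
      show (tildeTensorInv P Q).app ⊤ ((tildeTensorHom P Q).app ⊤ (tsec _ (p ⊗ₜ[R] q))) = _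
      rw [tildeTensorHom_tsec, tildeTensorInv_tmul]
      rfl
  inv_hom_id := by
    apply (tensorHomEquiv (tilde P) (tilde Q) _).injective
    refine tilde_hom_ext fun q => ?_
    refine familyHom_injective (tilde_hom_ext fun p => ?_)
    show (tildeTensorHom P Q).app ⊤ ((tildeTensorInv P Q).app ⊤
        (tmul (tsec P p) (resM (tilde Q) le_top (tsec Q q)))) =
      tmul (tsec P p) (resM (tilde Q) le_top (tsec Q q))
    rw [PicLib.resM_self, tildeTensorInv_tmul, tildeTensorHom_tsec]

end Groth.Agent.Coherent
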