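import Groth.Agent.Coherent.MayerVietoris
import Mathlib.LinearAlgebra.Finsupp.Supported

/-!
# Cohomology of sheaves with monomial sections on intersections

If a space is covered by `D i` (`i : ι`), a sheaf `F` is acyclic on all nonempty intersections
`D_A`, and `F(D_A)` is free on the set of monomials `e` with `N e ⊆ A`, compatibly with
restriction, then `H^p` is computed by Mayer-Vietoris: `H^0` is free on `N e = ∅`, the top degree
on `N e = univ`, everything else vanishes.
-/

set_option autoImplicit false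

universe u

open CategoryTheory CategoryTheory.Abelian CategoryTheory.Limits Opposite TopologicalSpace

namespace Groth.Agent.Coherent

variable {X : TopCat.{u}}

/-- Sections with monomial description. -/
structure MonoData (F : Sheaf (Opens.grothendieckTopology X) AddCommGrpCat.{u}) {ι : Type}
    (D : ι → Opens X) (R : Type u) [CommRing R] {E : Type} (N : E → Finset ι) where
  /-- the parametrisation of sections -/
  θ : ∀ A : Finset ι, (E →₀ R) →+ Ext (freeSh (A.inf D)) F 0
  compat : ∀ ⦃A B : Finset ι⦄ (_ : A.Nonempty) (h : A ⊆ B) (m : E →₀ R),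
    (∀ e ∈ m.support, N e ⊆ A) → resH F 0 (Finset.inf_mono h) (θ A m) = θ B m
  inj : ∀ ⦃A : Finset ι⦄ (_ : A.Nonempty) (m : E →₀ R),
    (∀ e ∈ m.support, N e ⊆ A) → θ A m = 0 → m = 0
  surj : ∀ ⦃A : Finset ι⦄ (_ : A.Nonempty) (z : Ext (freeSh (A.inf D)) F 0),
    ∃ m : E →₀ R, (∀ e ∈ m.support, N e ⊆ A) ∧ θ A m = z
  acyclic : ∀ ⦃A : Finset ι⦄ (_ : A.Nonempty) (q : ℕ) (x : Ext (freeSh (A.inf D)) F (q + 1)), x = 0
  /-- the action of the scalars -/
  act : R → End F
  act_θ : ∀ ⦃A : Finset ι⦄ (_ : A.Nonempty) (r : R) (m : E →₀ R), (∀ e ∈ m.support, N e ⊆ A) →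
    postH (act r) 0 (A.inf D) (θ A m) = θ A (r • m)

namespace MonoData

variable {F : Sheaf (Opens.grothendieckTopology X) AddCommGrpCat.{u}} {ι : Type} [DecidableEq ι]
  {D : ι → Opens X} {R : Type u} [CommRing R] {E : Type} {N : E → Finset ι}

/-- `(⋃_{i ∈ S} D_i) ∩ D_T`. -/
abbrev opn (D : ι → Opens X) (S T : Finset ι) : Opens X := S.sup D ⊓ T.inf D

theorem inf_insert_le_opn {S : Finset ι} {i : ι} (hi : i ∈ S) (T : Finset ι) :
    (insert i T).inf D ≤ opn D S T := by
  rw [Finset.inf_insert]
  exact inf_le_inf (Finset.le_sup hi) le_rfl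

omit [DecidableEq ι] in
theorem opn_mono {T T' : Finset ι} (S : Finset ι) (h : T ⊆ T') : opn D S T' ≤ opn D S T :=
  inf_le_inf le_rfl (Finset.inf_mono h)

theorem opn_insert (j : ι) (S T : Finset ι) :
    opn D (insert j S) T = opn D S T ⊔ (insert j T).inf D := by
  rw [opn, Finset.sup_insert, Finset.inf_insert, inf_sup_right, sup_comm]

theorem opn_insert_right (j : ι) (S T : Finset ι) :
    opn D S (insert j T) = opn D S T ⊓ (insert j T).inf D := by
  rw [opn, Finset.inf_insert, opn]
  refine le_antisymm (le_inf (inf_le_inf le_rfl inf_le_right) inf_le_right) ?_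
  exact le_inf (inf_le_left.trans inf_le_left) inf_le_right

theorem resH_isoOf {n : ℕ} {U V : Opens X} (h : U ≤ V) (h' : V ≤ U) (x : Ext (freeSh V) F n) :
    resH F n h' (resH F n h x) = x := by
  rw [resH_resH, resH_refl]

theorem resH_eq_zero_iff {n : ℕ} {U V : Opens X} (h : U ≤ V) (h' : V ≤ U)
    (x : Ext (freeSh V) F n) : resH F n h x = 0 ↔ x = 0 :=
  ⟨fun e => by rw [← resH_isoOf h h' x, e, map_zero], fun e => by rw [e, map_zero]⟩

/-- Degree zero classes on `opn S T` are determined on the pieces. -/
theorem eq_zero_of_pieces (S T : Finset ι) (z : Ext (freeSh (opn D S T)) F 0)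
    (hz : ∀ i (hi : i ∈ S), resH F 0 (inf_insert_le_opn hi T) z = 0) : z = 0 := by
  induction S using Finset.induction with
  | empty =>
    have hb : opn D ∅ T ≤ ⊥ := by simp [opn]
    rw [← resH_isoOf (V := opn D ∅ T) bot_le hb z]
    rw [(subsingleton_H'_bot F 0).elim (resH F 0 bot_le z) 0]
    exact map_zero _
  | insert j S _ ih =>
    refine (resH_eq_zero_iff (opn_insert j S T).ge (opn_insert j S T).le z).1 ?_
    refine eq_zero_of_resH_zero ?_ ?_
    · refine ih _ fun i hi => ?_
      rw [resH_resH, resH_resH]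
      exact hz i (Finset.mem_insert_of_mem hi)
    · rw [resH_resH]
      exact hz j (Finset.mem_insert_self j S)

variable (d : MonoData F D R N)

omit [DecidableEq ι] in
theorem θ_inj {A : Finset ι} (hA : A.Nonempty) {m m' : E →₀ R}
    (hm : ∀ e ∈ m.support, N e ⊆ A) (hm' : ∀ e ∈ m'.support, N e ⊆ A) (h : d.θ A m = d.θ A m') :
    m = m' := by
  classical
  refine sub_eq_zero.1 (d.inj hA _ (fun e he => ?_) (by rw [map_sub, h, sub_self]))
  rcases Finset.mem_union.1 (Finsupp.support_sub he) with h₁ | h₁
  exacts [hm e h₁, hm' e h₁]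

include d in
/-- Sections on `opn S T` for at least two pieces. -/
theorem exists_param {S : Finset ι} (hS : 1 < S.card) (T : Finset ι) (_hdis : Disjoint S T)
    (z : Ext (freeSh (opn D S T)) F 0) :
    ∃ m : E →₀ R, (∀ e ∈ m.support, N e ⊆ T) ∧
      ∀ i (hi : i ∈ S), resH F 0 (inf_insert_le_opn hi T) z = d.θ (insert i T) m := by
  choose m hm hmz using fun i (hi : i ∈ S) =>
    d.surj (Finset.insert_nonempty i T) (resH F 0 (inf_insert_le_opn hi T) z)
  have key : ∀ i (hi : i ∈ S) l (hl : l ∈ S), m i hi = m l hl := by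
    intro i hi l hl
    refine d.θ_inj (A := insert i (insert l T)) (Finset.insert_nonempty _ _)
      (fun e he => (hm i hi e he).trans (Finset.insert_subset_insert i (Finset.subset_insert l T)))
      (fun e he => (hm l hl e he).trans (Finset.subset_insert i _)) ?_
    rw [← d.compat (Finset.insert_nonempty i T)
      (Finset.insert_subset_insert i (Finset.subset_insert l T)) _ (hm i hi),
      ← d.compat (Finset.insert_nonempty l T) (Finset.subset_insert i (insert l T)) _ (hm l hl),
      hmz, hmz, resH_resH, resH_resH]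
  obtain ⟨a, ha⟩ := Finset.card_pos.1 (by omega : 0 < S.card)
  refine ⟨m a ha, fun e he x hx => ?_, fun i hi => by rw [key a ha i hi, hmz]⟩
  rcases Finset.mem_insert.1 (hm a ha e he hx) with rfl | h
  · obtain ⟨b, hb, hba⟩ := Finset.exists_mem_ne hS x
    rw [key x ha b hb] at he
    rcases Finset.mem_insert.1 (hm b hb e he hx) with h' | h'
    · exact absurd h'.symm hba
    · exact h'
  · exact h

include d in
/-- Existence of glued sections. -/
theorem exists_glued (S T : Finset ι) (m : E →₀ R) (hm : ∀ e ∈ m.support, N e ⊆ T) :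
    ∃ z : Ext (freeSh (opn D S T)) F 0,
      ∀ i (hi : i ∈ S), resH F 0 (inf_insert_le_opn hi T) z = d.θ (insert i T) m := by
  induction S using Finset.induction with
  | empty => exact ⟨0, fun i hi => absurd hi (Finset.notMem_empty i)⟩
  | insert j S _ ih =>
    obtain ⟨z, hz⟩ := ih
    obtain ⟨x, hxa, hxb⟩ := exists_resH_sup (a := z) (b := d.θ (insert j T) m) (by
      rw [← sub_eq_zero]
      refine (resH_eq_zero_iff (opn_insert_right j S T).le (opn_insert_right j S T).ge _).1 ?_
      refine eq_zero_of_pieces S (insert j T) _ fun i hi => ?_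
      rw [map_sub, map_sub, resH_resH, resH_resH, resH_resH, resH_resH, sub_eq_zero]
      have h₁ := congrArg (resH F 0 (Finset.inf_mono
        (Finset.insert_subset_insert i (Finset.subset_insert j T)))) (hz i hi)
      rw [resH_resH, d.compat (Finset.insert_nonempty i T)
        (Finset.insert_subset_insert i (Finset.subset_insert j T)) m
        (fun e he => (hm e he).trans (Finset.subset_insert i T))] at h₁
      rw [h₁, d.compat (Finset.insert_nonempty j T) (Finset.subset_insert i _) m
        (fun e he => (hm e he).trans (Finset.subset_insert j T))])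
    refine ⟨resH F 0 (opn_insert j S T).le x, fun i hi => ?_⟩
    rw [resH_resH]
    rcases Finset.mem_insert.1 hi with rfl | hi'
    · exact hxb
    · rw [← hz i hi', ← hxa, resH_resH]

/-- The description of the cohomology of `opn S T`. -/
structure TopData (d : MonoData F D R N) (S : Finset ι) (k : ℕ) where
  /-- the parametrisation of the top degree -/
  Φ : ∀ T : Finset ι, (E →₀ R) →+ Ext (freeSh (opn D S T)) F k
  surj : ∀ ⦃T : Finset ι⦄, Disjoint S T → ∀ x : Ext (freeSh (opn D S T)) F k, 0 < k ∨ S.card = 1 →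
    ∃ m : E →₀ R, (∀ e ∈ m.support, N e ⊆ S ∪ T) ∧ Φ T m = x
  nat : ∀ ⦃T T' : Finset ι⦄ (h : T ⊆ T') (m : E →₀ R), (∀ e ∈ m.support, N e ⊆ S ∪ T) →
    resH F k (opn_mono S h) (Φ T m) = Φ T' m
  ker : ∀ ⦃T : Finset ι⦄ (m : E →₀ R), Disjoint S T → (∀ e ∈ m.support, N e ⊆ S ∪ T) →
    (Φ T m = 0 ↔ ∀ e ∈ m.support, 0 < k ∧ ¬ S ⊆ N e)
  vanish : ∀ ⦃T : Finset ι⦄, Disjoint S T → ∀ q : ℕ, q + 1 ≠ k →
    ∀ x : Ext (freeSh (opn D S T)) F (q + 1), x = 0
  baseTo : k = 0 → ∀ ⦃T : Finset ι⦄, T.Nonempty → ∀ B : Ext (freeSh (T.inf D)) F k,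
    ∃ m : E →₀ R, (∀ e ∈ m.support, N e ⊆ T) ∧ resH F k inf_le_right B = Φ T m
  baseFrom : k = 0 → ∀ ⦃T : Finset ι⦄, T.Nonempty → ∀ m : E →₀ R, (∀ e ∈ m.support, N e ⊆ T) →
    ∃ B : Ext (freeSh (T.inf D)) F k, resH F k inf_le_right B = Φ T m
  linear : ∀ ⦃T : Finset ι⦄ (r : R) (m : E →₀ R), (∀ e ∈ m.support, N e ⊆ S ∪ T) →
    postH (d.act r) k (opn D S T) (Φ T m) = Φ T (r • m)

theorem nonempty_topData_singleton (a : ι) : Nonempty (TopData d {a} 0) := by
  have hle : ∀ T : Finset ι, opn D {a} T ≤ (insert a T).inf D := fun T => by simp [opn]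
  have hge : ∀ T : Finset ι, (insert a T).inf D ≤ opn D {a} T := fun T => by simp [opn]
  have hsub : ∀ {T : Finset ι} {m : E →₀ R}, (∀ e ∈ m.support, N e ⊆ {a} ∪ T) →
      ∀ e ∈ m.support, N e ⊆ insert a T := fun hm e he => by
    rw [Finset.insert_eq]; exact hm e he
  refine ⟨⟨fun T => (resH F 0 (hle T)).comp (d.θ (insert a T)), ?_, ?_, ?_, ?_, ?_, ?_, ?_⟩⟩
  · intro T _ x _
    obtain ⟨m, hm, hmx⟩ := d.surj (Finset.insert_nonempty a T) (resH F 0 (hge T) x)
    refine ⟨m, fun e he => by rw [← Finset.insert_eq]; exact hm e he, ?_⟩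
    rw [AddMonoidHom.comp_apply, hmx, resH_isoOf]
  · intro T T' h m hm
    rw [AddMonoidHom.comp_apply, AddMonoidHom.comp_apply, resH_resH,
      ← d.compat (Finset.insert_nonempty a T) (Finset.insert_subset_insert a h) m (hsub hm),
      resH_resH]
  · intro T m _ hm
    rw [AddMonoidHom.comp_apply, resH_eq_zero_iff (hle T) (hge T)]
    constructor
    · intro h
      rw [d.inj (Finset.insert_nonempty a T) m (hsub hm) h]
      intro e he
      simp at he
    · intro h
      have : m = 0 := Finsupp.support_eq_empty.1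
        (Finset.eq_empty_of_forall_notMem fun e he => (lt_irrefl 0 (h e he).1))
      rw [this, map_zero]
  · intro T _ q _ x
    rw [← resH_isoOf (hge T) (hle T) x,
      d.acyclic (Finset.insert_nonempty a T) q (resH F (q + 1) (hge T) x), map_zero]
  · intro _ T hT B
    obtain ⟨m, hm, rfl⟩ := d.surj hT B
    refine ⟨m, hm, ?_⟩
    rw [AddMonoidHom.comp_apply, ← d.compat hT (Finset.subset_insert a T) m hm, resH_resH]
  · intro _ T hT m hm
    refine ⟨d.θ T m, ?_⟩
    rw [AddMonoidHom.comp_apply, ← d.compat hT (Finset.subset_insert a T) m hm, resH_resH]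
  · intro T r m hm
    rw [AddMonoidHom.comp_apply, AddMonoidHom.comp_apply, ← resH_postH,
      d.act_θ (Finset.insert_nonempty a T) r m (hsub hm)]

theorem nonempty_topData_insert {S : Finset ι} {j : ι} {k : ℕ} (hj : j ∉ S) (hk : S.card = k + 1)
    (t : TopData d S k) : Nonempty (TopData d (insert j S) (k + 1)) := by
  classical
  have e₁ : ∀ T : Finset ι, opn D (insert j S) T = opn D S T ⊔ (insert j T).inf D := opn_insert j S
  have e₂ : ∀ T : Finset ι, opn D S (insert j T) = opn D S T ⊓ (insert j T).inf D :=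
    opn_insert_right j S
  have hmem : ∀ {T : Finset ι} {m : E →₀ R}, (∀ e ∈ m.support, N e ⊆ insert j S ∪ T) →
      ∀ e ∈ m.support, N e ⊆ S ∪ insert j T := fun hm e he => by
    refine (hm e he).trans (le_of_eq ?_)
    rw [Finset.insert_union, Finset.union_insert]
  let Φ : ∀ T : Finset ι, (E →₀ R) →+ Ext (freeSh (opn D (insert j S) T)) F (k + 1) := fun T =>
    (resH F (k + 1) (e₁ T).le).comp ((deltaH F (opn D S T) ((insert j T).inf D) k).comp
      ((resH F k (e₂ T).ge).comp (t.Φ (insert j T))))
  have hΦ : ∀ T m, Φ T m = resH F (k + 1) (e₁ T).le (deltaH F (opn D S T) ((insert j T).inf D) k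
      (resH F k (e₂ T).ge (t.Φ (insert j T) m))) := fun T m => rfl
  refine ⟨⟨Φ, ?_, ?_, ?_, ?_, fun h => absurd h k.succ_ne_zero, fun h => absurd h k.succ_ne_zero, ?_⟩⟩
  · intro T hdis x _
    obtain ⟨hjT, hST⟩ := Finset.disjoint_insert_left.1 hdis
    have hdis' : Disjoint S (insert j T) := Finset.disjoint_insert_right.2 ⟨hj, hST⟩
    obtain ⟨w, hw⟩ := exists_deltaH (x := resH F (k + 1) (e₁ T).ge x)
      (t.vanish hST k (by omega) _) (d.acyclic (Finset.insert_nonempty j T) k _)
    rcases Nat.eq_zero_or_pos k with rfl | hk0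
    · obtain ⟨m, hm, hmw⟩ := t.surj hdis' (resH F 0 (e₂ T).le w) (Or.inr (by omega))
      refine ⟨m, fun e he => ?_, ?_⟩
      · rw [Finset.insert_union, ← Finset.union_insert]; exact hm e he
      · rw [hΦ, hmw, resH_isoOf, hw, resH_isoOf]
    · obtain ⟨m, hm, hmw⟩ := t.surj hdis' (resH F k (e₂ T).le w) (Or.inl hk0)
      refine ⟨m, fun e he => ?_, ?_⟩
      · rw [Finset.insert_union, ← Finset.union_insert]; exact hm e he
      · rw [hΦ, hmw, resH_isoOf, hw, resH_isoOf]
  · intro T T' h m hm
    have hjh : insert j T ⊆ insert j T' := Finset.insert_subset_insert j h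
    rw [hΦ, hΦ, resH_resH, ← t.nat hjh m (hmem hm)]
    have := resH_deltaH (F := F) (U := opn D S T) (V := (insert j T).inf D) (U' := opn D S T')
      (V' := (insert j T').inf D) (opn_mono S h) (Finset.inf_mono hjh) k
      (resH F k (e₂ T).ge (t.Φ (insert j T) m))
    rw [resH_resH] at this
    rw [resH_resH, ← this, resH_resH]
  · intro T m hdis hm
    obtain ⟨hjT, hST⟩ := Finset.disjoint_insert_left.1 hdis
    have hdis' : Disjoint S (insert j T) := Finset.disjoint_insert_right.2 ⟨hj, hST⟩
    rw [hΦ, resH_eq_zero_iff (e₁ T).le (e₁ T).ge]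
    constructor
    · intro h
      obtain ⟨A, B, hAB⟩ := exists_of_deltaH_eq_zero h
      have hA : ∃ mA : E →₀ R, (∀ e ∈ mA.support, N e ⊆ S ∪ T) ∧ t.Φ T mA = A := by
        rcases Nat.eq_zero_or_pos k with rfl | hk0
        exacts [t.surj hST A (Or.inr (by omega)), t.surj hST A (Or.inl hk0)]
      obtain ⟨mA, hmA, rfl⟩ := hA
      have hA' : ∀ e ∈ mA.support, N e ⊆ S ∪ insert j T := fun e he =>
        (hmA e he).trans (Finset.union_subset_union le_rfl (Finset.subset_insert j T))
      have hnat := t.nat (Finset.subset_insert j T) mA hmA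
      have hAB' := congrArg (resH F k (e₂ T).le) hAB
      rw [resH_isoOf, map_sub, resH_resH, resH_resH, hnat] at hAB'
      intro e he
      refine ⟨Nat.succ_pos k, fun hsub => ?_⟩
      have hSe : S ⊆ N e := (Finset.subset_insert j S).trans hsub
      have hje : j ∈ N e := hsub (Finset.mem_insert_self j S)
      have hAe : e ∉ mA.support := fun h' =>
        (Finset.mem_union.1 (hmA e h' hje)).elim hj hjT
      rcases Nat.eq_zero_or_pos k with rfl | hk0
      · obtain ⟨a, rfl⟩ := Finset.card_eq_one.1 (by omega : S.card = 1)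
        obtain ⟨mB, hmB, hres0⟩ := t.baseTo rfl (Finset.insert_nonempty j T) B
        have hB' : ∀ x ∈ mB.support, N x ⊆ {a} ∪ insert j T := fun x hx =>
          (hmB x hx).trans Finset.subset_union_right
        have hres : resH F 0 (le_trans (e₂ T).le inf_le_right) B = t.Φ (insert j T) mB := hres0
        rw [hres, ← map_sub] at hAB'
        have hs : ∀ x ∈ (mA - mB - m).support, N x ⊆ {a} ∪ insert j T := fun x hx => by
          rcases Finset.mem_union.1 (Finsupp.support_sub hx) with h₁ | h₁
          · rcases Finset.mem_union.1 (Finsupp.support_sub h₁) with h₂ | h₂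
            exacts [hA' x h₂, hB' x h₂]
          · exact hmem hm x h₁
        have hz : mA - mB - m = 0 := by
          have := (t.ker _ hdis' hs).1 (by rw [map_sub, hAB', sub_self])
          exact Finsupp.support_eq_empty.1 (Finset.eq_empty_of_forall_notMem fun x hx =>
            lt_irrefl 0 (this x hx).1)
        have hBe : e ∉ mB.support := fun h' => by
          have := hmB e h' (hSe (Finset.mem_singleton_self a))
          rcases Finset.mem_insert.1 this with rfl | h₁
          · exact hj (Finset.mem_singleton_self a)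
          · exact Finset.disjoint_left.1 hST (Finset.mem_singleton_self a) h₁
        rw [Finsupp.mem_support_iff] at he
        have hval := DFunLike.congr_fun hz e
        simp only [Finsupp.sub_apply, Finsupp.notMem_support_iff.1 hAe,
          Finsupp.notMem_support_iff.1 hBe, Finsupp.coe_zero, Pi.zero_apply] at hval
        exact he (by simpa using hval)
      · obtain ⟨q, rfl⟩ : ∃ q, k = q + 1 := ⟨k - 1, by omega⟩
        rw [d.acyclic (Finset.insert_nonempty j T) q B, map_zero, sub_zero] at hAB'
        have hs : ∀ x ∈ (mA - m).support, N x ⊆ S ∪ insert j T := fun x hx => by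
          rcases Finset.mem_union.1 (Finsupp.support_sub hx) with h₁ | h₁
          exacts [hA' x h₁, hmem hm x h₁]
        refine ((t.ker _ hdis' hs).1 (by rw [map_sub, hAB', sub_self]) e ?_).2 hSe
        rw [Finsupp.mem_support_iff, Finsupp.sub_apply, Finsupp.notMem_support_iff.1 hAe, zero_sub,
          neg_ne_zero]
        exact Finsupp.mem_support_iff.1 he
    · intro h
      let mA := m.filter fun e => j ∉ N e
      let mR := m.filter fun e => ¬ j ∉ N e
      have hdec : mA + mR = m := Finsupp.filter_add_filter_not m _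
      have hmA : ∀ e ∈ mA.support, N e ⊆ S ∪ T := fun e he x hx => by
        rw [Finsupp.support_filter, Finset.mem_filter] at he
        have := hm e he.1 hx
        rw [Finset.insert_union, Finset.mem_insert] at this
        rcases this with rfl | h'
        exacts [absurd hx he.2, h']
      have hmR : ∀ e ∈ mR.support, N e ⊆ S ∪ insert j T ∧ ¬ S ⊆ N e := fun e he => by
        rw [Finsupp.support_filter, Finset.mem_filter] at he
        exact ⟨hmem hm e he.1, fun hs => (h e he.1).2
          (Finset.insert_subset (not_not.1 he.2) hs)⟩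
      rw [← hdec, map_add, map_add, ← t.nat (Finset.subset_insert j T) mA hmA, resH_resH, map_add]
      have hA0 : deltaH F (opn D S T) ((insert j T).inf D) k
          (resH F k inf_le_left (t.Φ T mA)) = 0 := by
        have := deltaH_sub_eq_zero (t.Φ T mA) (0 : Ext (freeSh ((insert j T).inf D)) F k)
        rwa [map_zero, sub_zero] at this
      rw [hA0, zero_add]
      rcases Nat.eq_zero_or_pos k with rfl | hk0
      · obtain ⟨a, rfl⟩ := Finset.card_eq_one.1 (by omega : S.card = 1)
        have hB : ∀ e ∈ mR.support, N e ⊆ insert j T := fun e he x hx => by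
          obtain ⟨h₁, h₂⟩ := hmR e he
          rcases Finset.mem_union.1 (h₁ hx) with h₃ | h₃
          · exact absurd (Finset.singleton_subset_iff.2 (Finset.mem_singleton.1 h₃ ▸ hx)) h₂
          · exact h₃
        obtain ⟨B, hres0⟩ := t.baseFrom rfl (Finset.insert_nonempty j T) mR hB
        have hres : resH F 0 inf_le_right B = resH F 0 (e₂ T).ge (t.Φ (insert j T) mR) := by
          rw [← hres0, resH_resH]
        rw [← hres]
        have := deltaH_sub_eq_zero (0 : Ext (freeSh (opn D {a} T)) F 0) B
        rwa [map_zero, zero_sub, map_neg, neg_eq_zero] at this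
      · rw [(t.ker mR hdis' fun e he => (hmR e he).1).2 fun e he => ⟨hk0, (hmR e he).2⟩,
          map_zero, map_zero]
  · intro T hdis q hq x
    obtain ⟨hjT, hST⟩ := Finset.disjoint_insert_left.1 hdis
    have hdis' : Disjoint S (insert j T) := Finset.disjoint_insert_right.2 ⟨hj, hST⟩
    have hra : resH F (q + 1) le_sup_left (resH F (q + 1) (e₁ T).ge x) = 0 := by
      by_cases hqk : q + 1 = k
      · subst hqk
        obtain ⟨m, hm, hmx⟩ := t.surj hST (resH F (q + 1) le_sup_left
          (resH F (q + 1) (e₁ T).ge x)) (Or.inl q.succ_pos)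
        have hm' : ∀ e ∈ m.support, N e ⊆ S ∪ insert j T := fun e he =>
          (hm e he).trans (Finset.union_subset_union le_rfl (Finset.subset_insert j T))
        have h0 : t.Φ (insert j T) m = 0 := by
          rw [← t.nat (Finset.subset_insert j T) m hm, hmx, resH_resH, resH_resH,
            ← resH_resH (h := (e₂ T).le.trans inf_le_right) (h' := le_trans le_sup_right (e₁ T).ge),
            d.acyclic (Finset.insert_nonempty j T) q (resH F (q + 1) _ x), map_zero]
        rw [← hmx]
        exact (t.ker m hST hm).2 ((t.ker m hdis' hm').1 h0)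
      · exact t.vanish hST q hqk _
    obtain ⟨w, hw⟩ := exists_deltaH hra (d.acyclic (Finset.insert_nonempty j T) q _)
    refine (resH_eq_zero_iff (e₁ T).ge (e₁ T).le x).1 ?_
    rw [← hw]
    rcases q with _ | q
    · obtain ⟨m, hm, hmi⟩ := d.exists_param (S := S) (by omega) (insert j T) hdis'
        (resH F 0 (e₂ T).le w)
      have hwb : w = resH F 0 inf_le_right (d.θ (insert j T) m) := by
        rw [← sub_eq_zero]
        refine (resH_eq_zero_iff (e₂ T).le (e₂ T).ge _).1 ?_
        refine eq_zero_of_pieces S (insert j T) _ fun i hi => ?_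
        rw [map_sub, map_sub, hmi i hi, resH_resH, resH_resH,
          d.compat (Finset.insert_nonempty j T) (Finset.subset_insert i _) m hm, sub_self]
      have := deltaH_sub_eq_zero (0 : Ext (freeSh (opn D S T)) F 0) (d.θ (insert j T) m)
      rw [map_zero, zero_sub, map_neg, neg_eq_zero] at this
      rw [hwb, this]
    · rw [← resH_isoOf (e₂ T).le (e₂ T).ge w,
        t.vanish hdis' q (by omega) (resH F (q + 1) (e₂ T).le w), map_zero, map_zero]
  · intro T r m hm
    rw [hΦ, hΦ, ← resH_postH, postH_deltaH, ← resH_postH, t.linear r m (hmem hm)]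

theorem nonempty_topData : ∀ (k : ℕ) (S : Finset ι), S.card = k + 1 → Nonempty (TopData d S k)
  | 0, S, hS => by
    obtain ⟨a, rfl⟩ := Finset.card_eq_one.1 hS
    exact d.nonempty_topData_singleton a
  | k + 1, S, hS => by
    obtain ⟨j, S', hj, rfl, hS'⟩ := Finset.card_eq_succ.1 hS
    obtain ⟨t⟩ := nonempty_topData k S' hS'
    exact d.nonempty_topData_insert hj hS' t

section Global

variable [Fintype ι] (hcov : (Finset.univ : Finset ι).sup D = ⊤)
include hcov

omit [DecidableEq ι] in
theorem top_le_opn : (⊤ : Opens X) ≤ opn D Finset.univ ∅ := by simp [opn, hcov]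

include d in
/-- Vanishing outside degrees `0` and `n`. -/
theorem eq_zero_of_cover {n : ℕ} (hn : Fintype.card ι = n + 1) (q : ℕ) (hq : q + 1 ≠ n)
    (x : Ext (freeSh (⊤ : Opens X)) F (q + 1)) : x = 0 := by
  obtain ⟨t⟩ := d.nonempty_topData n Finset.univ (by rw [Finset.card_univ, hn])
  rw [← resH_isoOf (U := opn D Finset.univ ∅) le_top (top_le_opn hcov) x,
    t.vanish (Finset.disjoint_empty_right _) q hq (resH F (q + 1) le_top x), map_zero]

omit hcov [DecidableEq ι] [Fintype ι] in
theorem mem_supported_subset {T : Finset ι} (m : Finsupp.supported R R {e | N e = T}) :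
    ∀ e ∈ (m : E →₀ R).support, N e ⊆ T := fun _ he =>
  le_of_eq ((Finsupp.mem_supported R _).1 m.2 he)

include d in
/-- The top cohomology. -/
theorem exists_top_equiv {n : ℕ} (hn : Fintype.card ι = n + 1) (hn0 : 0 < n) :
    ∃ e : Finsupp.supported R R {e | N e = Finset.univ} ≃+ Ext (freeSh (⊤ : Opens X)) F n,
      ∀ (r : R) m, postH (d.act r) n ⊤ (e m) = e (r • m) := by
  classical
  obtain ⟨t⟩ := d.nonempty_topData n Finset.univ (by rw [Finset.card_univ, hn])
  let f : Finsupp.supported R R {e | N e = Finset.univ} →+ Ext (freeSh (⊤ : Opens X)) F n :=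
    (resH F n (top_le_opn hcov)).comp ((t.Φ ∅).comp
      (Finsupp.supported R R {e | N e = Finset.univ}).subtype.toAddMonoidHom)
  have hall : ∀ m : E →₀ R, ∀ e ∈ m.support, N e ⊆ Finset.univ ∪ ∅ := fun m e _ => by simp
  have hf : Function.Bijective f := by
    constructor
    · refine (injective_iff_map_eq_zero f).2 fun m hm => ?_
      have h := (t.ker (m : E →₀ R) (Finset.disjoint_empty_right _) (hall _)).1
        ((resH_eq_zero_iff (top_le_opn hcov) le_top _).1 hm)
      refine Subtype.ext (Finsupp.support_eq_empty.1 (Finset.eq_empty_of_forall_notMem fun e he =>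
        (h e he).2 (le_of_eq ?_)))
      exact ((Finsupp.mem_supported R _).1 m.2 he).symm
    · intro x
      obtain ⟨m, -, hmx⟩ := t.surj (Finset.disjoint_empty_right _) (resH F n le_top x) (Or.inl hn0)
      refine ⟨⟨m.filter fun e => N e = Finset.univ, ?_⟩, ?_⟩
      · rw [Finsupp.mem_supported, Finsupp.support_filter]
        exact fun e he => (Finset.mem_filter.1 he).2
      · have hz : t.Φ ∅ (m.filter fun e => ¬ N e = Finset.univ) = 0 := by
          refine (t.ker _ (Finset.disjoint_empty_right _) (hall _)).2 fun e he => ?_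
          rw [Finsupp.support_filter] at he
          exact ⟨hn0, fun hs => (Finset.mem_filter.1 he).2
            (Finset.univ_subset_iff.1 hs)⟩
        change resH F n _ (t.Φ ∅ (m.filter fun e => N e = Finset.univ)) = x
        rw [← add_zero (t.Φ ∅ (m.filter _)), ← hz, ← map_add,
          Finsupp.filter_add_filter_not, hmx, resH_isoOf]
  refine ⟨AddEquiv.ofBijective f hf, fun r m => ?_⟩
  change postH (d.act r) n ⊤ (resH F n _ (t.Φ ∅ m)) = resH F n _ (t.Φ ∅ (r • (m : E →₀ R)))
  rw [← resH_postH, t.linear r _ (hall _)]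

include d in
/-- Global sections. -/
theorem exists_zero_equiv (hn : 1 < Fintype.card ι) :
    ∃ e : Finsupp.supported R R {e | N e = ∅} ≃+ Ext (freeSh (⊤ : Opens X)) F 0,
      ∀ (r : R) m, postH (d.act r) 0 ⊤ (e m) = e (r • m) := by
  classical
  choose z hz using fun m : Finsupp.supported R R {e | N e = ∅} =>
    d.exists_glued Finset.univ ∅ (m : E →₀ R) (mem_supported_subset m)
  have huniq : ∀ {x y : Ext (freeSh (opn D Finset.univ ∅)) F 0},
      (∀ i, resH F 0 (inf_insert_le_opn (Finset.mem_univ i) ∅) x =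
        resH F 0 (inf_insert_le_opn (Finset.mem_univ i) ∅) y) → x = y := fun h =>
    sub_eq_zero.1 (eq_zero_of_pieces _ _ _ fun i _ => by rw [map_sub, h i, sub_self])
  let f : Finsupp.supported R R {e | N e = ∅} →+ Ext (freeSh (⊤ : Opens X)) F 0 :=
    AddMonoidHom.mk' (fun m => resH F 0 (top_le_opn hcov) (z m)) fun a b => by
      rw [← map_add]
      refine congrArg _ (huniq fun i => ?_)
      rw [hz _ i (Finset.mem_univ i), map_add, hz _ i (Finset.mem_univ i),
        hz _ i (Finset.mem_univ i), Submodule.coe_add, map_add]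
  have hf : Function.Bijective f := by
    constructor
    · refine (injective_iff_map_eq_zero f).2 fun m hm => ?_
      have h0 : z m = 0 := (resH_eq_zero_iff (top_le_opn hcov) le_top _).1 hm
      obtain ⟨i, -⟩ := Finset.card_pos.1 (by rw [Finset.card_univ]; omega :
        0 < (Finset.univ : Finset ι).card)
      refine Subtype.ext (d.inj (Finset.insert_nonempty i ∅) _
        (fun e he => (mem_supported_subset m e he).trans (Finset.empty_subset _)) ?_)
      rw [← hz m i (Finset.mem_univ i), h0, map_zero]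
    · intro x
      obtain ⟨m, hm, hmi⟩ := d.exists_param (by rwa [Finset.card_univ]) ∅
        (Finset.disjoint_empty_right _) (resH F 0 (le_top (a := opn D Finset.univ ∅)) x)
      refine ⟨⟨m, (Finsupp.mem_supported R m).2 fun e he => Finset.subset_empty.1 (hm e he)⟩, ?_⟩
      change resH F 0 _ (z _) = x
      rw [← resH_isoOf (U := opn D Finset.univ ∅) le_top (top_le_opn hcov) x]
      refine congrArg _ (huniq fun i => ?_)
      rw [hz _ i (Finset.mem_univ i), hmi i (Finset.mem_univ i)]
  refine ⟨AddEquiv.ofBijective f hf, fun r m => ?_⟩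
  change postH (d.act r) 0 ⊤ (resH F 0 _ (z m)) = resH F 0 _ (z (r • m))
  rw [← resH_postH]
  refine congrArg _ (huniq fun i => ?_)
  rw [resH_postH, hz _ i (Finset.mem_univ i), hz _ i (Finset.mem_univ i), d.act_θ (Finset.insert_nonempty i ∅) r _
    (fun e he => (mem_supported_subset m e he).trans (Finset.empty_subset _))]
  rfl

end Global

end MonoData

end Groth.Agent.Coherent
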