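import Groth.Agent.Coherent.AffineVanishing
import Mathlib.CategoryTheory.Sites.LocallyBijective

/-!
# Presheaves on an affine scheme with localisation property on basic opens

If restriction to basic opens is a localisation, then sheafification does not change global
sections.
-/

set_option autoImplicit false

universe u

open CategoryTheory CategoryTheory.Limits AlgebraicGeometry Opposite TopologicalSpace

namespace Groth.Agent.Coherent

variable {S : Scheme.{u}} {P : S.Opensᵒᵖ ⥤ AddCommGrpCat.{u}}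

/-- A presheaf of abelian groups with an action of global functions, localising on basic opens. -/
structure LocalizingPsh (P : S.Opensᵒᵖ ⥤ AddCommGrpCat.{u}) (ρ : Γ(S, ⊤) →+* End P) : Prop where
  bijective : ∀ (g : Γ(S, ⊤)) (W : S.Opens), W ≤ S.basicOpen g →
    Function.Bijective ((ρ g).app (op W))
  eq_zero : ∀ (g h : Γ(S, ⊤)) (W' W : S.Opens) (le : W' ≤ W), W = S.basicOpen g →
    W' = W ⊓ S.basicOpen h → ∀ x : P.obj (op W), P.map (homOfLE le).op x = 0 →
      ∃ n : ℕ, (ρ (h ^ n)).app (op W) x = 0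
  surj : ∀ (g h : Γ(S, ⊤)) (W' W : S.Opens) (le : W' ≤ W), W = S.basicOpen g →
    W' = W ⊓ S.basicOpen h → ∀ y : P.obj (op W'),
      ∃ (n : ℕ) (x : P.obj (op W)), P.map (homOfLE le).op x = (ρ (h ^ n)).app (op W') y

section

variable {ρ : Γ(S, ⊤) →+* End P}

theorem act_mul (a b : Γ(S, ⊤)) (W : S.Opens) (x : P.obj (op W)) :
    (ρ (a * b)).app (op W) x = (ρ a).app (op W) ((ρ b).app (op W) x) := by
  rw [map_mul, End.mul_def]
  rfl

theorem act_one (W : S.Opens) (x : P.obj (op W)) : (ρ 1).app (op W) x = x := by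
  rw [map_one, End.one_def]
  rfl

theorem act_add (a b : Γ(S, ⊤)) (W : S.Opens) (x : P.obj (op W)) :
    (ρ (a + b)).app (op W) x = (ρ a).app (op W) x + (ρ b).app (op W) x := by
  rw [map_add]
  rfl

theorem act_res (a : Γ(S, ⊤)) {W' W : S.Opens} (le : W' ≤ W) (x : P.obj (op W)) :
    P.map (homOfLE le).op ((ρ a).app (op W) x) =
      (ρ a).app (op W') (P.map (homOfLE le).op x) :=
  (ConcreteCategory.congr_hom ((ρ a).naturality (homOfLE le).op) x).symm

theorem res_res {W'' W' W : S.Opens} (le : W' ≤ W) (le' : W'' ≤ W') (x : P.obj (op W)) :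
    P.map (homOfLE le').op (P.map (homOfLE le).op x) = P.map (homOfLE (le'.trans le)).op x :=
  (ConcreteCategory.congr_hom (P.map_comp (homOfLE le).op (homOfLE le').op) x).symm

theorem act_sum {ι : Type*} (s : Finset ι) (a : ι → Γ(S, ⊤)) (W : S.Opens) (x : P.obj (op W)) :
    (ρ (∑ i ∈ s, a i)).app (op W) x = ∑ i ∈ s, (ρ (a i)).app (op W) x := by
  classical
  induction s using Finset.induction with
  | empty => rw [Finset.sum_empty, Finset.sum_empty, map_zero]; rfl
  | insert i s hi ih => rw [Finset.sum_insert hi, Finset.sum_insert hi, act_add, ih]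

end

/-- Restriction of the canonical map to the sheafification. -/
theorem toSheafify_res {W' W : S.Opens} (le : W' ≤ W) (x : P.obj (op W)) :
    (sheafify (Opens.grothendieckTopology S) P).map (homOfLE le).op
        ((toSheafify (Opens.grothendieckTopology S) P).app (op W) x) =
      (toSheafify (Opens.grothendieckTopology S) P).app (op W') (P.map (homOfLE le).op x) :=
  (ConcreteCategory.congr_hom
    ((toSheafify (Opens.grothendieckTopology S) P).naturality (homOfLE le).op) x).symm

variable {ρ : Γ(S, ⊤) →+* End P}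

theorem LocalizingPsh.injective_toSheafify [IsAffine S] (hP : LocalizingPsh P ρ) (g : Γ(S, ⊤))
    {W : S.Opens} (hW : W = S.basicOpen g) :
    Function.Injective ((toSheafify (Opens.grothendieckTopology S) P).app (op W)) := by
  rw [injective_iff_map_eq_zero]
  intro x hx
  let I : Ideal Γ(S, ⊤) :=
    { carrier := {a | (ρ a).app (op W) x = 0}
      add_mem' := fun {a b} (ha : _ = 0) (hb : _ = 0) => by
        change _ = 0
        rw [act_add, ha, hb, add_zero]
      zero_mem' := by change _ = 0; rw [map_zero]; rfl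
      smul_mem' := fun a b (hb : _ = 0) => by
        change _ = 0
        rw [smul_eq_mul, act_mul, hb, map_zero] }
  have hI : W ≤ ⨆ a : I, S.basicOpen (a : Γ(S, ⊤)) := by
    intro p hp
    obtain ⟨V, i, hi, hpV⟩ := Presheaf.equalizerSieve_mem (Opens.grothendieckTopology S)
      (toSheafify (Opens.grothendieckTopology S) P) x 0 (hx.trans (map_zero _).symm) p hp
    obtain ⟨h, hh, hph⟩ := (isAffineOpen_top S).exists_basicOpen_le ⟨p, hpV⟩ (Opens.mem_top p)
    have le : W ⊓ S.basicOpen h ≤ W := inf_le_left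
    have hz : P.map (homOfLE le).op x = 0 := by
      have hi' : P.map i.op x = P.map i.op 0 := hi
      rw [map_zero] at hi'
      rw [← res_res (leOfHom i) (inf_le_right.trans hh) x]
      exact (congrArg _ hi').trans (map_zero _)
    obtain ⟨n, hn⟩ := hP.eq_zero g h _ W le hW rfl x hz
    refine Opens.mem_iSup.mpr ⟨⟨h ^ (n + 1), ?_⟩, ?_⟩
    · change _ = 0
      rw [pow_succ', act_mul, hn, map_zero]
    · rw [Scheme.basicOpen_pow S h (Nat.succ_pos n)]
      exact hph
  have hg : g ∈ I.radical := by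
    rw [← PrimeSpectrum.vanishingIdeal_zeroLocus_eq_radical, PrimeSpectrum.mem_vanishingIdeal]
    intro q hq
    by_contra hgq
    have hqg : q ∈ PrimeSpectrum.basicOpen g := hgq
    rw [← (isAffineOpen_top S).fromSpec_preimage_basicOpen] at hqg
    obtain ⟨⟨a, ha⟩, haq⟩ := Opens.mem_iSup.mp (hI (hW ▸ hqg))
    have : q ∈ (PrimeSpectrum.basicOpen a : Opens _) := by
      rw [← (isAffineOpen_top S).fromSpec_preimage_basicOpen]
      exact haq
    exact this (hq ha)
  obtain ⟨N, hN : (ρ (g ^ N)).app (op W) x = 0⟩ := hg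
  have : ∀ N : ℕ, (ρ (g ^ N)).app (op W) x = 0 → x = 0 := by
    intro N
    induction N with
    | zero => intro h; rwa [pow_zero, act_one] at h
    | succ N ih =>
      intro h
      refine ih ((hP.bijective g W hW.le).1 ?_)
      rwa [← act_mul, ← pow_succ', map_zero]
  exact this N hN

theorem LocalizingPsh.surjective_toSheafify [IsAffine S] (hP : LocalizingPsh P ρ) (g : Γ(S, ⊤))
    {W : S.Opens} (hW : W = S.basicOpen g) :
    Function.Surjective ((toSheafify (Opens.grothendieckTopology S) P).app (op W)) := by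
  classical
  intro s
  let Q := (presheafToSheaf (Opens.grothendieckTopology S) AddCommGrpCat.{u}).obj P
  have key : ∀ p : W, ∃ h : Γ(S, ⊤), (p : S) ∈ S.basicOpen h ∧ ∃ hle : S.basicOpen h ≤ W,
      ∃ x : P.obj (op (S.basicOpen h)),
      (toSheafify (Opens.grothendieckTopology S) P).app (op (S.basicOpen h)) x =
        (sheafify (Opens.grothendieckTopology S) P).map (homOfLE hle).op s := by
    intro p
    obtain ⟨V, i, ⟨x, hx⟩, hpV⟩ := Presheaf.imageSieve_mem (Opens.grothendieckTopology S)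
      (toSheafify (Opens.grothendieckTopology S) P) s (p : S) p.2
    obtain ⟨h, hh, hph⟩ := (isAffineOpen_top S).exists_basicOpen_le ⟨(p : S), hpV⟩
      (Opens.mem_top (p : S))
    refine ⟨h, hph, hh.trans (leOfHom i), P.map (homOfLE hh).op x, ?_⟩
    rw [← toSheafify_res hh x, hx]
    exact (ConcreteCategory.congr_hom
      ((sheafify (Opens.grothendieckTopology S) P).map_comp i.op (homOfLE hh).op) s).symm
  choose h hph hle x hx using key
  have hWc : IsCompact (W : Set S) := hW ▸ ((isAffineOpen_top S).basicOpen g).isCompact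
  obtain ⟨t, ht⟩ := hWc.elim_finite_subcover
    (fun p : W => (S.basicOpen (h p) : Set S)) (fun p => (S.basicOpen (h p)).isOpen)
    (fun p hp => Set.mem_iUnion.mpr ⟨⟨p, hp⟩, hph _⟩)
  have hdata : ∀ p, ∃ (n : ℕ) (m : P.obj (op W)),
      P.map (homOfLE (hle p)).op m = (ρ (h p ^ n)).app (op (S.basicOpen (h p))) (x p) :=
    fun p => hP.surj g (h p) _ W (hle p) hW (inf_eq_right.mpr (hle p)).symm (x p)
  choose n₀ m₀ hm₀ using hdata
  obtain ⟨n, hn⟩ : ∃ n, ∀ p ∈ t, n₀ p ≤ n := ⟨t.sup n₀, fun p hp => Finset.le_sup hp⟩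
  have hm' : ∀ p : t, ∃ m : P.obj (op W), P.map (homOfLE (hle p)).op m =
      (ρ (h p ^ n)).app (op (S.basicOpen (h p))) (x p) := fun p =>
    ⟨(ρ (h p ^ (n - n₀ p))).app _ (m₀ p), by
      rw [act_res, hm₀, ← act_mul, ← pow_add, Nat.sub_add_cancel (hn p p.2)]⟩
  choose m hm using hm'
  have hN : ∀ a : t × t, ∃ N : ℕ, (ρ ((h a.1 * h a.2) ^ N)).app (op W)
      ((ρ (h a.2 ^ n)).app _ (m a.1) - (ρ (h a.1 ^ n)).app _ (m a.2)) = 0 := by
    rintro ⟨p, q⟩
    dsimp only
    have l₁ : S.basicOpen (h p * h q) ≤ S.basicOpen (h p) :=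
      (S.basicOpen_mul _ _).trans_le inf_le_left
    have l₂ : S.basicOpen (h p * h q) ≤ S.basicOpen (h q) :=
      (S.basicOpen_mul _ _).trans_le inf_le_right
    have e : P.map (homOfLE l₁).op (x p) = P.map (homOfLE l₂).op (x q) := by
      apply hP.injective_toSheafify (h p * h q) rfl
      rw [← toSheafify_res, ← toSheafify_res, hx, hx]
      exact (ConcreteCategory.congr_hom
        ((sheafify (Opens.grothendieckTopology S) P).map_comp _ (homOfLE l₁).op) s).symm.trans
        (ConcreteCategory.congr_hom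
        ((sheafify (Opens.grothendieckTopology S) P).map_comp _ (homOfLE l₂).op) s)
    refine hP.eq_zero g (h p * h q) _ W (l₁.trans (hle p)) hW
      (inf_eq_right.mpr (l₁.trans (hle p))).symm _ ?_
    rw [map_sub, act_res, act_res, ← res_res (hle p) l₁ (m p), ← res_res (hle q) l₂ (m q), hm p,
      hm q, act_res, act_res, e, ← act_mul, ← act_mul, mul_comm (h q ^ n), sub_self]
  choose N₀ hN₀ using hN
  obtain ⟨N, hN, hNpos⟩ : ∃ N, (∀ a, N₀ a ≤ N) ∧ 0 < N :=
    ⟨Finset.univ.sup N₀ + 1, fun a => (Finset.le_sup (Finset.mem_univ a)).trans (Nat.le_succ _),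
      Nat.succ_pos _⟩
  have hcross : ∀ p q : t, (ρ (h p ^ N * h q ^ (N + n))).app (op W) (m p) =
      (ρ (h q ^ N * h p ^ (N + n))).app (op W) (m q) := by
    intro p q
    have := congrArg ((ρ ((h p * h q) ^ (N - N₀ (p, q)))).app (op W)) (hN₀ (p, q))
    rw [← act_mul, ← pow_add, Nat.sub_add_cancel (hN _), map_zero, map_sub, sub_eq_zero,
      ← act_mul, ← act_mul] at this
    calc (ρ (h p ^ N * h q ^ (N + n))).app (op W) (m p)
        = (ρ ((h p * h q) ^ N * h q ^ n)).app (op W) (m p) := by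
          rw [show h p ^ N * h q ^ (N + n) = (h p * h q) ^ N * h q ^ n by ring]
      _ = (ρ ((h p * h q) ^ N * h p ^ n)).app (op W) (m q) := this
      _ = _ := by rw [show h q ^ N * h p ^ (N + n) = (h p * h q) ^ N * h p ^ n by ring]
  have hspan : g ∈ (Ideal.span (Set.range fun p : t => h p ^ (N + n))).radical := by
    rw [← PrimeSpectrum.vanishingIdeal_zeroLocus_eq_radical, PrimeSpectrum.mem_vanishingIdeal]
    intro q hq
    by_contra hgq
    have hqg : q ∈ PrimeSpectrum.basicOpen g := hgq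
    rw [← (isAffineOpen_top S).fromSpec_preimage_basicOpen] at hqg
    obtain ⟨p, hp, hpq⟩ := Set.mem_iUnion₂.mp (ht (hW ▸ hqg))
    have : q ∈ (PrimeSpectrum.basicOpen (h p ^ (N + n)) : Opens _) := by
      rw [← (isAffineOpen_top S).fromSpec_preimage_basicOpen,
        Scheme.basicOpen_pow S (h p) (show 0 < N + n by omega)]
      exact hpq
    exact this (hq (Ideal.subset_span ⟨⟨p, hp⟩, rfl⟩))
  obtain ⟨K, hK⟩ := hspan
  have hK' := Ideal.mul_mem_left _ g hK
  rw [← pow_succ', Ideal.mem_span_range_iff_exists_fun] at hK'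
  obtain ⟨c, hc⟩ := hK'
  have hgK : W ≤ S.basicOpen (g ^ (K + 1)) :=
    hW.le.trans (S.basicOpen_pow g (Nat.succ_pos K)).ge
  obtain ⟨mf, hmf₀⟩ := (hP.bijective _ W hgK).2 (∑ p, (ρ (c p * h p ^ N)).app _ (m p))
  have hmf : ∀ q : t, (ρ (h q ^ (N + n))).app (op W) mf =
      (ρ (h q ^ N)).app (op W) (m q) := by
    intro q
    refine (hP.bijective _ W hgK).1 ?_
    calc (ρ (g ^ (K + 1))).app (op W) ((ρ (h q ^ (N + n))).app (op W) mf)
        = ∑ p, (ρ (c p)).app _ ((ρ (h p ^ N * h q ^ (N + n))).app _ (m p)) := by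
          rw [← act_mul, mul_comm, act_mul, hmf₀, map_sum]
          refine Finset.sum_congr rfl fun p _ => ?_
          rw [← act_mul, ← act_mul, mul_comm (h q ^ (N + n)), mul_assoc]
      _ = ∑ p, (ρ (c p * h p ^ (N + n) * h q ^ N)).app _ (m q) := by
          refine Finset.sum_congr rfl fun p _ => ?_
          rw [hcross, ← act_mul, mul_comm (h q ^ N), mul_assoc]
      _ = _ := by rw [← act_sum, ← Finset.sum_mul, hc, act_mul]
  refine ⟨mf, ?_⟩
  refine TopCat.Sheaf.eq_of_locally_eq' (C := AddCommGrpCat.{u}) Q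
    (fun p : t => S.basicOpen (h p)) W (fun p => homOfLE (hle p)) (fun q hq => ?_) _ _ fun q => ?_
  · obtain ⟨p, hp, hq'⟩ := Set.mem_iUnion₂.mp (ht hq)
    exact Opens.mem_iSup.mpr ⟨⟨p, hp⟩, hq'⟩
  refine (toSheafify_res (hle q) mf).trans ?_
  rw [← hx]
  refine congrArg _ ((hP.bijective (h q ^ (N + n)) _
    (S.basicOpen_pow (h q) (show 0 < N + n by omega)).ge).1 ?_)
  rw [← act_res, hmf, act_res, hm, ← act_mul, ← pow_add]

theorem LocalizingPsh.bijective_toSheafify [IsAffine S] (hP : LocalizingPsh P ρ) :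
    Function.Bijective ((toSheafify (Opens.grothendieckTopology S) P).app (op (⊤ : S.Opens))) :=
  ⟨hP.injective_toSheafify 1 (Scheme.basicOpen_of_isUnit (hf := isUnit_one)).symm,
    hP.surjective_toSheafify 1 (Scheme.basicOpen_of_isUnit (hf := isUnit_one)).symm⟩

end Groth.Agent.Coherent
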