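import Groth.Agent.Coherent.NormalPush
import Groth.Agent.DimLib.Morphism

/-!
# Fibrations between varieties of the same dimension are birational
-/

set_option autoImplicit false
set_option backward.isDefEq.respectTransparency false

universe u

open CategoryTheory CategoryTheory.Limits AlgebraicGeometry Opposite TopologicalSpace
open Groth.Agent.DimLib

namespace Groth.Agent.Coherent

variable {k : Type u} [Field k] {X Y : Scheme.{u}} [IsIntegral X] [IsIntegral Y]

theorem apply_genericPoint_of_specializes (f : X ⟶ Y)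
    (h : f.base (genericPoint X) ⤳ genericPoint Y) : f (genericPoint X) = genericPoint Y :=
  (h.antisymm (genericPoint_specializes _)).eq

/-- For varieties of the same dimension only the generic point lies over the generic point. -/
theorem eq_genericPoint_of_apply_eq (p : Y ⟶ Spec (.of k)) (f : X ⟶ Y) [LocallyOfFiniteType p]
    [LocallyOfFiniteType (f ≫ p)] (hdim : topologicalKrullDim X = topologicalKrullDim Y) {z : X}
    (hz : f z = genericPoint Y) : z = genericPoint X := by
  by_contra hne
  have h1 := ptDim_lt_of_specializes (f ≫ p) (genericPoint_specializes z) (Ne.symm hne)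
  have h2 := ptDim_apply_le p f z
  rw [topologicalKrullDim_eq_ptDim_genericPoint (f ≫ p),
    topologicalKrullDim_eq_ptDim_genericPoint p] at hdim
  have h3 : ptDim (f ≫ p) (genericPoint X) = ptDim p (genericPoint Y) := by exact_mod_cast hdim
  rw [hz] at h2
  omega

/-- `f_* O_X = O_Y` and a single point over the generic point force birationality. -/
theorem bijective_stalkToFunctionField (f : X ⟶ Y) [IsProper f] [Y.IsSeparated]
    (h : f.base (genericPoint X) ⤳ genericPoint Y) (hf : ∀ U : Y.Opens, IsIso (f.app U))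
    (hgen : ∀ z : X, f z = genericPoint Y → z = genericPoint X) :
    Function.Bijective (CohIII.stalkToFunctionField f (genericPoint Y) h) := by
  refine ⟨RingHom.injective _, fun x => ?_⟩
  obtain ⟨_, ⟨U, hU, rfl⟩, hUη, -⟩ :=
    X.isBasis_affineOpens.exists_subset_of_mem_open (Set.mem_univ (genericPoint X)) isOpen_univ
  let U : X.Opens := U
  have hU : IsAffineOpen U := hU
  have hC : IsClosed (f '' (U : Set X)ᶜ) := f.isClosedMap _ U.2.isClosed_compl
  obtain ⟨_, ⟨V, hV, rfl⟩, hη, hVsub⟩ :=
    Y.isBasis_affineOpens.exists_subset_of_mem_open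
      (show genericPoint Y ∈ (f '' (U : Set X)ᶜ)ᶜ from fun ⟨z, hz, hfz⟩ => hz (hgen z hfz ▸ hUη))
      hC.isOpen_compl
  let V : Y.Opens := V
  have hV : IsAffineOpen V := hV
  have hle : f ⁻¹ᵁ V ≤ U := fun z hz => by
    by_contra hzU
    exact hVsub hz ⟨z, hzU, rfl⟩
  have : IsAffine U.toScheme := hU
  have : IsAffineHom (U.ι ≫ f) := by
    have : IsAffineHom ((U.ι ≫ f) ≫ terminal.from Y) := inferInstance
    exact IsAffineHom.of_comp (U.ι ≫ f) (terminal.from Y)
  have hW : IsAffineOpen (f ⁻¹ᵁ V) := by
    have h1 := (hV.preimage (U.ι ≫ f)).image_of_isOpenImmersion U.ι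
    rwa [Scheme.Hom.comp_preimage, Scheme.Hom.image_preimage_eq_opensRange_inf,
      Scheme.Opens.opensRange_ι, inf_eq_right.2 hle] at h1
  have hV' : genericPoint X ∈ f ⁻¹ᵁ V := h.mem_open V.isOpen hη
  have : Nonempty (f ⁻¹ᵁ V : X.Opens) := ⟨⟨_, hV'⟩⟩
  have := functionField_isFractionRing_of_isAffineOpen X (f ⁻¹ᵁ V) hW
  obtain ⟨a, b, -, rfl⟩ := IsFractionRing.div_surjective (A := Γ(X, f ⁻¹ᵁ V)) x
  have := hf V
  obtain ⟨r, rfl⟩ := (ConcreteCategory.bijective_of_isIso (f.app V)).2 a
  obtain ⟨s, rfl⟩ := (ConcreteCategory.bijective_of_isIso (f.app V)).2 b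
  refine ⟨Y.presheaf.germ V _ hη r / Y.presheaf.germ V _ hη s, ?_⟩
  rw [map_div₀, stalkToFunctionField_germ f h V hη hV', stalkToFunctionField_germ f h V hη hV']
  rfl

end Groth.Agent.Coherent
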