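import Groth.Agent.Coherent.CechModule
import Groth.Agent.Coherent.Vanishing
import Groth.Agent.Coherent.AffinenessApps
import Mathlib.Algebra.Category.ModuleCat.Kernels
import Mathlib.Algebra.Homology.ShortComplex.PreservesHomology
import Mathlib.Algebra.Homology.ShortComplex.Linear

/-!
# Čech complexes of modules compute cohomology, naturally and linearly
-/

set_option autoImplicit false
set_option backward.isDefEq.respectTransparency false

universe u

open CategoryTheory CategoryTheory.Limits CategoryTheory.Abelian AlgebraicGeometry Opposite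
  TopologicalSpace TensorProduct
open Groth.Agent.Coherent Groth.Agent.SiteCoh

namespace Groth.Agent.Coherent.CohBC

variable (A : Type u) [CommRing A] {X : Scheme.{u}} [X.Over (Spec (CommRingCat.of A))]
variable {ι : Type u} (W : ι → X.Opens) {M N : X.Modules}

/-- The map on cochains attached to a map of modules. -/
noncomputable def cxMapX (φ : M ⟶ N) (p : ℕ) :
    (∀ a : Fin (p + 1) → ι, Γ(M, cinter W a)) →ₗ[A] (∀ a : Fin (p + 1) → ι, Γ(N, cinter W a)) where
  toFun x a := φ.app (cinter W a) (x a)
  map_add' x y := funext fun a => map_add (φ.app (cinter W a)).hom (x a) (y a)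
  map_smul' r x := funext fun a => app_smulA φ _ r (x a)

/-- The map of Čech complexes attached to a map of modules. -/
noncomputable def cxMapA (φ : M ⟶ N) : cxA A W M ⟶ cxA A W N where
  f p := ModuleCat.ofHom (cxMapX A W φ p)
  comm' i j hij := by
    obtain rfl : i + 1 = j := hij
    rw [cxA_d, cxA_d]
    refine ModuleCat.hom_ext (LinearMap.ext fun x => funext fun a => ?_)
    show ∑ j : Fin (i + 2), (-1 : ℤ) ^ (j : ℕ) • resM N (cinter_face W a j) (φ.app _ (x (a ∘ j.succAbove))) =
      φ.app _ (∑ j : Fin (i + 2), (-1 : ℤ) ^ (j : ℕ) • resM M (cinter_face W a j) (x (a ∘ j.succAbove)))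
    rw [map_sum]
    refine Finset.sum_congr rfl fun j _ => ?_
    rw [map_zsmul, app_resM]

/-- The complex of abelian groups underlying the Čech complex of modules. -/
noncomputable abbrev cxAb (M : X.Modules) : CochainComplex AddCommGrpCat.{u} ℕ :=
  ((forget₂ (ModuleCat.{u} A) AddCommGrpCat.{u}).mapHomologicalComplex _).obj (cxA A W M)

/-- The underlying complex is the Čech complex of abelian groups. -/
noncomputable def cechIso (M : X.Modules) : cxAb A W M ≅ Cech.cx (E := X.Opens) M.presheaf W :=
  HomologicalComplex.Hom.isoOfComponents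
    (fun p => (AddEquiv.ofBijective (toCech W M p) (bijective_toCech W M p)).toAddCommGrpIso)
    fun i j hij => by
      obtain rfl : i + 1 = j := hij
      ext x
      show (Cech.cx (E := X.Opens) M.presheaf W).d i (i + 1) (toCech W M i x) =
        toCech W M (i + 1) ((cxA A W M).d i (i + 1) x)
      rw [cxA_d]
      exact (toCech_d A W M i x).symm

/-- A map of complexes of modules inducing a given map of abelian sheaves. -/
def Compat (f : cxA A W M ⟶ cxA A W N) (η : Coh.toAb M ⟶ Coh.toAb N) : Prop :=
  ∀ p (x : ∀ a : Fin (p + 1) → ι, Γ(M, cinter W a)),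
    toCech W N p (f.f p x) =
      Cech.map (E := X.Opens) (P := M.presheaf) (Q := N.presheaf) W η.hom (toCech W M p x)

theorem compat_cxMapA (φ : M ⟶ N) : Compat A W (cxMapA A W φ) ((toAbFunctor X).map φ) := fun p x => by
  refine Cech.ext _ W fun a => ?_
  rw [Cech.ev_map, ev_toCech, ev_toCech]
  exact (app_resM φ _ _).symm

theorem compat_smul (M : X.Modules) (r : A) :
    Compat A W (r • 𝟙 (cxA A W M)) (smulEndAb M (Coh.toGlobal (X ↘ Spec (CommRingCat.of A)) r)) :=
  fun p x => by
  refine Cech.ext _ W fun a => ?_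
  rw [Cech.ev_map, ev_toCech, ev_toCech]
  show resM M (inter_le W a) (r • x a) = toΓ A (Cech.inter W a) r • resM M (inter_le W a) (x a)
  exact resM_smulA M _ r (x a)

theorem cechIso_compat {f : cxA A W M ⟶ cxA A W N} {η : Coh.toAb M ⟶ Coh.toAb N}
    (hf : Compat A W f η) :
    ((forget₂ (ModuleCat.{u} A) AddCommGrpCat.{u}).mapHomologicalComplex _).map f ≫
        (cechIso A W N).hom =
      (cechIso A W M).hom ≫ Cech.cxMap (E := X.Opens) (P := M.presheaf) (Q := N.presheaf) W η.hom := by
  ext p x
  exact hf p x

/-- Homology of the underlying complex. -/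
noncomputable def forgetHomologyIso (M : X.Modules) (n : ℕ) :
    (cxAb A W M).homology n ≅
      (forget₂ (ModuleCat.{u} A) AddCommGrpCat.{u}).obj ((cxA A W M).homology n) :=
  ((cxA A W M).sc n).mapHomologyIso (forget₂ (ModuleCat.{u} A) AddCommGrpCat.{u})

theorem forgetHomologyIso_naturality (f : cxA A W M ⟶ cxA A W N) (n : ℕ) :
    HomologicalComplex.homologyMap
        (((forget₂ (ModuleCat.{u} A) AddCommGrpCat.{u}).mapHomologicalComplex _).map f) n ≫
        (forgetHomologyIso A W N n).hom =
      (forgetHomologyIso A W M n).hom ≫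
        (forget₂ (ModuleCat.{u} A) AddCommGrpCat.{u}).map (HomologicalComplex.homologyMap f n) :=
  ShortComplex.mapHomologyIso_hom_naturality
    ((HomologicalComplex.shortComplexFunctor (ModuleCat.{u} A) _ n).map f)
    (forget₂ (ModuleCat.{u} A) AddCommGrpCat.{u})

variable (M) in
/-- Čech cohomology of modules and of abelian groups. -/
noncomputable def cechHomologyEquiv (n : ℕ) :
    (Cech.cx (E := X.Opens) M.presheaf W).homology n ≃+ (cxA A W M).homology n :=
  ((HomologicalComplex.homologyMapIso (cechIso A W M) n).symm ≪≫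
    forgetHomologyIso A W M n).addCommGroupIsoToAddEquiv

theorem cechHomologyEquiv_naturality {f : cxA A W M ⟶ cxA A W N} {η : Coh.toAb M ⟶ Coh.toAb N}
    (hf : Compat A W f η) (n : ℕ) (z : (Cech.cx (E := X.Opens) M.presheaf W).homology n) :
    cechHomologyEquiv A W N n (HomologicalComplex.homologyMap
        (Cech.cxMap (E := X.Opens) (P := M.presheaf) (Q := N.presheaf) W η.hom) n z) =
      HomologicalComplex.homologyMap f n (cechHomologyEquiv A W M n z) := by
  refine ConcreteCategory.congr_hom (?_ : HomologicalComplex.homologyMap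
      (Cech.cxMap (E := X.Opens) (P := M.presheaf) (Q := N.presheaf) W η.hom) n ≫
      (HomologicalComplex.homologyMapIso (cechIso A W N) n).inv ≫ (forgetHomologyIso A W N n).hom =
    ((HomologicalComplex.homologyMapIso (cechIso A W M) n).inv ≫ (forgetHomologyIso A W M n).hom) ≫
      (forget₂ (ModuleCat.{u} A) AddCommGrpCat.{u}).map (HomologicalComplex.homologyMap f n)) z
  rw [Category.assoc, ← forgetHomologyIso_naturality, ← Category.assoc, ← Category.assoc]
  refine congrArg (· ≫ _) ?_
  rw [HomologicalComplex.homologyMapIso_inv, HomologicalComplex.homologyMapIso_inv,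
    ← HomologicalComplex.homologyMap_comp, ← HomologicalComplex.homologyMap_comp]
  refine congrArg (HomologicalComplex.homologyMap · n) ?_
  rw [Iso.comp_inv_eq, Category.assoc, cechIso_compat A W hf, Iso.inv_hom_id_assoc]

variable (hcov : ⨆ i, W i = ⊤)
  (hW : ∀ (p : ℕ) (a : Fin (p + 1) → ι), IsAffineOpen (cinter W a))
include hcov

/-- The comparison in one degree, natural in the sheaf. -/
noncomputable def good (n : ℕ) :
    CechNat.Good (J := Opens.grothendieckTopology X) (𝟭 X.Opens) (⊤ : X.Opens) W n :=
  CechNat.good (J := Opens.grothendieckTopology X) (𝟭 X.Opens) W (fun i => homOfLE le_top)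
    (fun _ _ _ _ _ => rfl)
    (ofArrows_mem_of_le (X := X.toTopCat) W (fun i => le_top) hcov.ge)
    (fun Z i j f g _ => ⟨Z, 𝟙 Z, f, g, Category.id_comp _, Category.id_comp _⟩)
    (fun I _ q => isZero_cechHTop_of_injective (X := X.toTopCat) I W q) n

include hW in
omit hcov in
theorem mem_qcoh (M : X.Modules) [Coh.IsQCoh M] :
    CechNat.Mem (J := Opens.grothendieckTopology X) (𝟭 X.Opens) W (Coh.toAb M) := fun p a q =>
  subsingleton_H'_qcoh_pos M (U := Cech.inter W a)
    (by rw [show (Cech.inter W a : X.Opens) = cinter W a from inter_eq_iInf (X := X.toTopCat) W a]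
        exact hW p a) q.succ_pos

/-- Cohomology as homology of the Čech complex, additively. -/
noncomputable def hhCechAdd (M : X.Modules) [Coh.IsQCoh M] (n : ℕ) :
    Coh.HH X M n ≃+ (cxA A W M).homology n :=
  ((HHTopEquiv M n).trans ((good W hcov n).1 (Coh.toAb M) (mem_qcoh W hW M))).trans
    (cechHomologyEquiv A W M n)

theorem hhCechAdd_naturality [Coh.IsQCoh M] [Coh.IsQCoh N] {f : cxA A W M ⟶ cxA A W N}
    {η : Coh.toAb M ⟶ Coh.toAb N} (hf : Compat A W f η) (n : ℕ) (x : Coh.HH X M n) :
    hhCechAdd A W hcov hW N n (Sheaf.H.map η n x) =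
      HomologicalComplex.homologyMap f n (hhCechAdd A W hcov hW M n x) := by
  obtain ⟨y, rfl⟩ := (HHTopEquiv M n).symm.surjective x
  show cechHomologyEquiv A W N n ((good W hcov n).1 _ (mem_qcoh W hW N)
      (HHTopEquiv N n (Sheaf.H.map η n ((HHTopEquiv M n).symm y)))) =
    HomologicalComplex.homologyMap f n (cechHomologyEquiv A W M n ((good W hcov n).1 _ (mem_qcoh W hW M)
      (HHTopEquiv M n ((HHTopEquiv M n).symm y))))
  have h : HHTopEquiv N n (Sheaf.H.map η n ((HHTopEquiv M n).symm y)) =
      y.comp (Ext.mk₀ η) (add_zero n) := by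
    apply (HHTopEquiv N n).symm.injective
    rw [AddEquiv.symm_apply_apply]
    exact (H'TopEquiv_naturality (X := X.toTopCat) η n y).symm
  rw [AddEquiv.apply_symm_apply, h]
  refine Eq.trans (congrArg (cechHomologyEquiv A W N n)
    ((good W hcov n).2 (mem_qcoh W hW M) (mem_qcoh W hW N) η y)) ?_
  exact cechHomologyEquiv_naturality A W hf n _

/-- Cohomology as homology of the Čech complex of modules. -/
noncomputable def hhCech (M : X.Modules) [Coh.IsQCoh M] (n : ℕ) :
    Coh.HH X M n ≃ₗ[A] (cxA A W M).homology n :=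
  { hhCechAdd A W hcov hW M n with
    map_smul' := fun r x => by
      refine (hhCechAdd_naturality A W hcov hW (compat_smul A W M r) n x).trans ?_
      show HomologicalComplex.homologyMap (r • 𝟙 (cxA A W M)) n _ = r • _
      have h : (HomologicalComplex.shortComplexFunctor (ModuleCat.{u} A) (ComplexShape.up ℕ) n).map
          (r • 𝟙 (cxA A W M)) = r • 𝟙 ((cxA A W M).sc n) := by
        ext <;> rfl
      show ShortComplex.homologyMap ((HomologicalComplex.shortComplexFunctor (ModuleCat.{u} A)
          (ComplexShape.up ℕ) n).map (r • 𝟙 (cxA A W M))) _ = r • _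
      rw [h, ShortComplex.homologyMap_smul, ShortComplex.homologyMap_id]
      rfl }

theorem hhCech_naturality [Coh.IsQCoh M] [Coh.IsQCoh N] (φ : M ⟶ N) (n : ℕ) (x : Coh.HH X M n) :
    hhCech A W hcov hW N n (Sheaf.H.map ((toAbFunctor X).map φ) n x) =
      HomologicalComplex.homologyMap (cxMapA A W φ) n (hhCech A W hcov hW M n x) :=
  hhCechAdd_naturality A W hcov hW (compat_cxMapA A W φ) n x

end Groth.Agent.Coherent.CohBC
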