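import Groth.Agent.Coherent.TensorA
import Groth.Agent.SiteCoh.CechNatural
import Groth.Agent.SiteCoh.Criterion
import Mathlib.Algebra.Category.ModuleCat.Abelian

/-!
# The Čech complex as a complex of modules over the base ring
-/

set_option autoImplicit false
set_option backward.isDefEq.respectTransparency false

universe u

open CategoryTheory CategoryTheory.Limits AlgebraicGeometry Opposite TopologicalSpace TensorProduct
open Groth.Agent.Coherent Groth.Agent.SiteCoh

namespace Groth.Agent.Coherent.CohBC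

variable (A : Type u) [CommRing A] {X : Scheme.{u}} [X.Over (Spec (CommRingCat.of A))]
variable {ι : Type u} (W : ι → X.Opens) (F : X.Modules)

/-- The intersection indexed by a tuple. -/
noncomputable abbrev cinter {p : ℕ} (a : Fin (p + 1) → ι) : X.Opens := ⨅ k, W (a k)

theorem cinter_face {p : ℕ} (a : Fin (p + 2) → ι) (j : Fin (p + 2)) :
    cinter W a ≤ cinter W (a ∘ j.succAbove) :=
  le_iInf fun k => iInf_le (fun k => W (a k)) (j.succAbove k)

/-- The cochains. -/
noncomputable abbrev cxX (p : ℕ) : ModuleCat.{u} A :=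
  ModuleCat.of A (∀ a : Fin (p + 1) → ι, Γ(F, cinter W a))

/-- The differential. -/
noncomputable def cxD (p : ℕ) :
    (∀ a : Fin (p + 1) → ι, Γ(F, cinter W a)) →ₗ[A] (∀ a : Fin (p + 2) → ι, Γ(F, cinter W a)) where
  toFun x a := ∑ j : Fin (p + 2), (-1 : ℤ) ^ (j : ℕ) • resM F (cinter_face W a j) (x (a ∘ j.succAbove))
  map_add' x y := funext fun a => by
    simp only [Pi.add_apply, map_add, smul_add, Finset.sum_add_distrib]
  map_smul' r x := funext fun a => by
    simp only [Pi.smul_apply, RingHom.id_apply, resM_smulA, Finset.smul_sum]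
    exact Finset.sum_congr rfl fun j _ => smul_comm _ _ _

theorem inter_le {p : ℕ} (a : Fin (p + 1) → ι) :
    (Cech.inter W a : X.Opens) ≤ cinter W a :=
  (inter_eq_iInf (X := X.toTopCat) W a).le

/-- The comparison with the Čech complex of abelian groups. -/
noncomputable def toCech (p : ℕ) :
    (∀ a : Fin (p + 1) → ι, Γ(F, cinter W a)) →+ (Cech.cx (E := X.Opens) F.presheaf W).X p :=
  AddMonoidHom.mk' (fun x => Cech.mk (E := X.Opens) F.presheaf W fun a => resM F (inter_le W a) (x a))
    fun x y => Cech.mk_add W F.presheaf _ _ _ fun a => map_add (resM F (inter_le W a)) (x a) (y a)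

theorem ev_toCech (p : ℕ) (x : ∀ a : Fin (p + 1) → ι, Γ(F, cinter W a)) (a : Fin (p + 1) → ι) :
    Cech.ev (E := X.Opens) F.presheaf W a (toCech W F p x) = resM F (inter_le W a) (x a) :=
  Cech.ev_mk ..

theorem bijective_toCech (p : ℕ) : Function.Bijective (toCech W F p) := by
  refine ⟨fun x y h => funext fun a => ?_, fun z => ?_⟩
  · have := congrArg (Cech.ev (E := X.Opens) F.presheaf W a) h
    rw [ev_toCech, ev_toCech] at this
    exact (resM_bijective_of_eq F (inter_le W a) (inter_eq_iInf (X := X.toTopCat) W a).symm).1 this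
  · choose x hx using fun a =>
      (resM_bijective_of_eq F (inter_le W a) (inter_eq_iInf (X := X.toTopCat) W a).symm).2
        (Cech.ev (E := X.Opens) F.presheaf W a z)
    exact ⟨x, Cech.ext _ W fun a => (ev_toCech W F p x a).trans (hx a)⟩

theorem toCech_d (p : ℕ) (x : ∀ a : Fin (p + 1) → ι, Γ(F, cinter W a)) :
    toCech W F (p + 1) (cxD A W F p x) =
      (Cech.cx (E := X.Opens) F.presheaf W).d p (p + 1) (toCech W F p x) := by
  refine Cech.ext _ W fun a => ?_
  rw [ev_toCech, Cech.ev_d]
  show resM F (inter_le W a) (∑ j : Fin (p + 2), (-1 : ℤ) ^ (j : ℕ) •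
      resM F (cinter_face W a j) (x (a ∘ j.succAbove))) = _
  rw [map_sum]
  refine Finset.sum_congr rfl fun j _ => ?_
  rw [map_zsmul, ev_toCech]
  refine congrArg ((-1 : ℤ) ^ (j : ℕ) • ·) ?_
  exact (resM_resM F _ _ _).trans (resM_resM F _ _ _).symm

theorem cxD_comp (p : ℕ) : cxD A W F (p + 1) ∘ₗ cxD A W F p = 0 := by
  refine LinearMap.ext fun x => (bijective_toCech W F (p + 2)).1 ?_
  rw [LinearMap.zero_apply, map_zero, LinearMap.comp_apply, toCech_d, toCech_d]
  exact ConcreteCategory.congr_hom ((Cech.cx (E := X.Opens) F.presheaf W).d_comp_d p (p + 1) (p + 2))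
    (toCech W F p x)

/-- The Čech complex of `A`-modules. -/
noncomputable def cxA : CochainComplex (ModuleCat.{u} A) ℕ :=
  CochainComplex.of (cxX A W F) (fun p => ModuleCat.ofHom (cxD A W F p)) fun p => by
    rw [← ModuleCat.ofHom_comp, cxD_comp]
    rfl

theorem cxA_d (p : ℕ) : (cxA A W F).d p (p + 1) = ModuleCat.ofHom (cxD A W F p) :=
  CochainComplex.of_d (X := cxX A W F) (fun q => ModuleCat.ofHom (cxD A W F q)) p

end Groth.Agent.Coherent.CohBC
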