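import Groth.Agent.Coherent.AffinenessApps
import Mathlib.Algebra.Module.LocalizedModule.Basic

/-!
# Cohomology on opens as modules over global functions; localization
-/

set_option autoImplicit false

universe u

open CategoryTheory CategoryTheory.Abelian CategoryTheory.Limits AlgebraicGeometry Opposite
  TopologicalSpace

namespace Groth.Agent.Coherent

variable {X : Scheme.{u}}

/-- Spelled on the underlying space, as the types below are. -/
local instance (priority := 20000) hasExtTopCat :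
    HasExt.{u} (Sheaf (Opens.grothendieckTopology X.toTopCat) AddCommGrpCat.{u}) :=
  hasExtAb X.toTopCat

/-- `H^q(U, M)` with its module structure over `Γ(X, O_X)`. -/
def HMod (M : X.Modules) (U : X.Opens) (q : ℕ) : Type u :=
  Ext (freeSh (X := X.toTopCat) U) (Coh.toAb M) q

noncomputable instance (M : X.Modules) (U : X.Opens) (q : ℕ) : AddCommGroup (HMod M U q) :=
  inferInstanceAs (AddCommGroup (Ext (freeSh (X := X.toTopCat) U) (Coh.toAb M) q))

/-- The action of global functions on `H^q(U, M)`. -/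
noncomputable def cohActEnd (M : X.Modules) (U : X.Opens) (q : ℕ) :
    Γ(X, ⊤) →+* AddMonoid.End (HMod M U q) where
  toFun r := postH (X := X.toTopCat) (smulEndAb M r) q U
  map_one' := DFunLike.ext _ _ fun x => postH_smulEndAb_one M q U x
  map_mul' r r' := DFunLike.ext _ _ fun x => postH_smulEndAb_mul M r r' q U x
  map_zero' := DFunLike.ext _ _ fun x => postH_smulEndAb_zero M q U x
  map_add' r r' := DFunLike.ext _ _ fun x => postH_smulEndAb_add M r r' q U x

noncomputable instance (M : X.Modules) (U : X.Opens) (q : ℕ) : Module Γ(X, ⊤) (HMod M U q) :=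
  Module.compHom _ (cohActEnd M U q)

theorem HMod_smul_def (M : X.Modules) (U : X.Opens) (q : ℕ) (r : Γ(X, ⊤)) (x : HMod M U q) :
    r • x = postH (X := X.toTopCat) (smulEndAb M r) q U x := rfl

theorem HMod_pow_smul (M : X.Modules) (U : X.Opens) (q n : ℕ) (r : Γ(X, ⊤)) (x : HMod M U q) :
    r ^ n • x = powH (X := X.toTopCat) (smulEndAb M r) n q U x :=
  congrArg (fun φ : End (Coh.toAb M) => postH (X := X.toTopCat) φ q U x) (smulEndAb_pow M r n).symm

/-- Restriction, linearly. -/
noncomputable def resHLin (M : X.Modules) {U V : X.Opens} (h : U ≤ V) (q : ℕ) :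
    HMod M V q →ₗ[Γ(X, ⊤)] HMod M U q where
  toFun := resH (X := X.toTopCat) (Coh.toAb M) q h
  map_add' := map_add _
  map_smul' r x := resH_postH (X := X.toTopCat) (smulEndAb M r) q h x

/-- Global cohomology, additively. -/
noncomputable def HHTopAdd (M : X.Modules) (q : ℕ) : Coh.HH X M q ≃+ HMod M (⊤ : X.Opens) q :=
  HHTopEquiv M q

theorem HHTopAdd_smul (M : X.Modules) (q : ℕ) (r : Γ(X, ⊤)) (x : Coh.HH X M q) :
    HHTopAdd M q (r • x) = r • HHTopAdd M q x := by
  obtain ⟨z, rfl⟩ := (HHTopEquiv M q).symm.surjective x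
  exact ((congrArg (HHTopEquiv M q) (smul_HH_eq M q r z)).trans
    ((HHTopEquiv M q).apply_symm_apply _)).trans
    (congrArg (postH (X := X.toTopCat) (smulEndAb M r) q (⊤ : X.Opens))
      ((HHTopEquiv M q).apply_symm_apply z).symm)

/-- Global cohomology, linearly. -/
noncomputable def HHLinEquiv (M : X.Modules) (q : ℕ) :
    Coh.HH X M q ≃ₗ[Γ(X, ⊤)] HMod M (⊤ : X.Opens) q :=
  (HHTopAdd M q).toLinearEquiv (HHTopAdd_smul M q)

theorem isLocalizedModule_resHLin [CompactSpace X] [QuasiSeparatedSpace X] (M : X.Modules)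
    [Coh.IsQCoh M] (f : Γ(X, ⊤)) {U W : X.Opens} (hU : IsCompact (U : Set X)) (h : W ≤ U)
    (hW : W = U ⊓ X.basicOpen f) (q : ℕ) :
    IsLocalizedModule (Submonoid.powers f) (resHLin M h q) := by
  have hWf : W ≤ X.basicOpen f := hW.le.trans inf_le_right
  have hloc := isLocRes_of_isCompact M f hU q W h hW
  have hbij : ∀ n : ℕ, Function.Bijective fun y : HMod M W q => f ^ n • y := fun n => by
    refine bijective_postH_of_le (X := X.toTopCat) (F := Coh.toAb M) (G := Coh.toAb M)
      (smulEndAb M (f ^ n)) W (fun (V : X.Opens) hV => ?_) q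
    exact IsUnit.smul_bijective (α := Γ(X, V)) (β := Γ(M, V))
      (isUnit_res_pow f (le_top (a := V)) (hV.trans hWf) n)
  refine ⟨fun x => ?_, fun y => ?_, fun {x₁ x₂} he => ?_⟩
  · obtain ⟨_, n, rfl⟩ := x
    exact (Module.End.isUnit_iff _).2 (hbij n)
  · obtain ⟨n, x, hx⟩ := hloc.surj y
    exact ⟨(x, ⟨f ^ n, n, rfl⟩), (HMod_pow_smul M W q n f y).trans hx.symm⟩
  · have h0 : resHLin M h q (x₁ - x₂) = 0 := by rw [map_sub, he, sub_self]
    obtain ⟨n, hn⟩ := hloc.eq_zero (x₁ - x₂) h0
    refine ⟨⟨f ^ n, n, rfl⟩, sub_eq_zero.1 ?_⟩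
    rw [← smul_sub]
    exact (HMod_pow_smul M U q n f (x₁ - x₂)).trans hn

end Groth.Agent.Coherent
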