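import Mathlib.Algebra.Homology.DerivedCategory.Ext.EnoughInjectives
import Mathlib.Algebra.Homology.DerivedCategory.Ext.ExactSequences
import Mathlib.CategoryTheory.Abelian.Exact
import Mathlib.CategoryTheory.Preadditive.Injective.Basic

/-!
# Dimension shifting for `Ext`

* `subsingleton_ext_of_class`: a class of objects stable under cokernels of monos into injectives,
  on which `Hom(A, -)` is exact, has vanishing higher `Ext(A, -)`.
* `ShiftData`: comparison `Ext A G n ≃+ Ext A' (Φ G) n`, natural in `G`, for `G` in such a class.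
-/

set_option autoImplicit false

universe w w' v v' u u'

open CategoryTheory CategoryTheory.Abelian CategoryTheory.Limits

namespace Groth.Agent.Coherent

variable {C : Type u} [Category.{v} C] [Abelian C]

/-- The short complex `G → I → I/G` for an injective presentation of `G`. -/
noncomputable abbrev injSES [EnoughInjectives C] (G : C) : ShortComplex C :=
  ShortComplex.mk (Injective.ι G) (cokernel.π (Injective.ι G)) (cokernel.condition _)

theorem injSES_shortExact [EnoughInjectives C] (G : C) : (injSES G).ShortExact where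
  exact := ShortComplex.exact_cokernel _

variable [HasExt.{w} C]

theorem exists_comp_extClass_eq {A : C} {S : ShortComplex C} (hS : S.ShortExact) {n : ℕ}
    [Subsingleton (Ext A S.X₂ (n + 1))] (x : Ext A S.X₁ (n + 1)) :
    ∃ y : Ext A S.X₃ n, y.comp hS.extClass rfl = x :=
  Ext.covariant_sequence_exact₁ A hS x (Subsingleton.elim _ _) rfl

theorem comp_extClass_eq_zero_iff {A : C} {S : ShortComplex C} (hS : S.ShortExact) {n : ℕ}
    (x : Ext A S.X₃ n) :
    x.comp hS.extClass rfl = 0 ↔ ∃ y : Ext A S.X₂ n, y.comp (Ext.mk₀ S.g) (add_zero n) = x := by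
  refine ⟨fun h => Ext.covariant_sequence_exact₃ A hS x rfl h, ?_⟩
  rintro ⟨y, rfl⟩
  rw [Ext.comp_assoc_of_second_deg_zero, hS.comp_extClass, Ext.comp_zero]

/-- Vanishing of higher `Ext(A, -)` on a class of objects. -/
theorem subsingleton_ext_of_class [EnoughInjectives C] (A : C) (P : C → Prop)
    (quot : ∀ ⦃S : ShortComplex C⦄, S.ShortExact → P S.X₁ → Injective S.X₂ → P S.X₃)
    (surj : ∀ ⦃S : ShortComplex C⦄, S.ShortExact → P S.X₁ → Injective S.X₂ →
      ∀ φ : A ⟶ S.X₃, ∃ ψ : A ⟶ S.X₂, ψ ≫ S.g = φ) (n : ℕ) :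
    ∀ G : C, P G → Subsingleton (Ext A G (n + 1)) := by
  induction n with
  | zero =>
    intro G hG
    have hI : Injective (injSES G).X₂ := inferInstanceAs (Injective (Injective.under G))
    refine subsingleton_of_forall_eq 0 fun x => ?_
    have : Subsingleton (Ext A (injSES G).X₂ (0 + 1)) := Ext.subsingleton_of_injective A _ 0
    obtain ⟨y, rfl⟩ := exists_comp_extClass_eq (injSES_shortExact G) (n := 0) x
    obtain ⟨φ, rfl⟩ := Ext.addEquiv₀.symm.surjective y
    obtain ⟨ψ, hψ⟩ := surj (injSES_shortExact G) hG hI φ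
    rw [comp_extClass_eq_zero_iff]
    refine ⟨Ext.mk₀ ψ, ?_⟩
    rw [Ext.mk₀_comp_mk₀, hψ]
    rfl
  | succ n ih =>
    intro G hG
    have hI : Injective (injSES G).X₂ := inferInstanceAs (Injective (Injective.under G))
    have := ih _ (quot (injSES_shortExact G) hG hI)
    refine subsingleton_of_forall_eq 0 fun x => ?_
    have : Subsingleton (Ext A (injSES G).X₂ (n + 1 + 1)) := Ext.subsingleton_of_injective A _ _
    obtain ⟨y, rfl⟩ := exists_comp_extClass_eq (injSES_shortExact G) (n := n + 1) x
    rw [Subsingleton.elim y 0, Ext.zero_comp]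

variable {D : Type u'} [Category.{v'} D] [Abelian D] [HasExt.{w'} D]

/-- The input of the comparison `Ext A G n ≃+ Ext A' (Φ G) n` for `G` in the class `mem`. -/
structure ShiftData (Φ : C ⥤ D) [Φ.Additive] (A : C) (A' : D) where
  mem : C → Prop
  injective_mem : ∀ I : C, Injective I → mem I
  quot_mem : ∀ ⦃S : ShortComplex C⦄, S.ShortExact → mem S.X₁ → Injective S.X₂ → mem S.X₃
  map_shortExact : ∀ ⦃S : ShortComplex C⦄, S.ShortExact → mem S.X₁ → Injective S.X₂ →
    (S.map Φ).ShortExact
  acyclic : ∀ I : C, Injective I → ∀ n : ℕ, Subsingleton (Ext A' (Φ.obj I) (n + 1))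
  e₀ : ∀ G : C, (A ⟶ G) ≃+ (A' ⟶ Φ.obj G)
  e₀_naturality : ∀ {G G' : C} (f : G ⟶ G') (φ : A ⟶ G), e₀ G' (φ ≫ f) = e₀ G φ ≫ Φ.map f

namespace ShiftData

variable {Φ : C ⥤ D} [Φ.Additive] {A : C} {A' : D}

/-- The statement proved by induction on the degree. -/
abbrev Good (s : ShiftData Φ A A') (n : ℕ) : Type _ :=
  { e : ∀ G : C, s.mem G → (Ext.{w} A G n ≃+ Ext.{w'} A' (Φ.obj G) n) //
    ∀ {G G' : C} (h : s.mem G) (h' : s.mem G') (f : G ⟶ G') (x : Ext A G n),
      e G' h' (x.comp (Ext.mk₀ f) (add_zero n)) =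
        (e G h x).comp (Ext.mk₀ (Φ.map f)) (add_zero n) }

/-- Degree zero. -/
noncomputable def goodZero (s : ShiftData Φ A A') : s.Good 0 :=
  ⟨fun G _ => (Ext.addEquiv₀.trans (s.e₀ G)).trans Ext.addEquiv₀.symm, by
    intro G G' h h' f x
    obtain ⟨φ, rfl⟩ := Ext.addEquiv₀.symm.surjective x
    change Ext.addEquiv₀.symm (s.e₀ G' (Ext.addEquiv₀ ((Ext.mk₀ φ).comp (Ext.mk₀ f) _))) =
      (Ext.mk₀ (s.e₀ G (Ext.addEquiv₀ (Ext.addEquiv₀.symm φ)))).comp (Ext.mk₀ (Φ.map f)) _
    rw [Ext.mk₀_comp_mk₀, Ext.mk₀_comp_mk₀, ← Ext.addEquiv₀_symm_apply,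
      AddEquiv.apply_symm_apply, AddEquiv.apply_symm_apply, s.e₀_naturality]
    rfl⟩

variable [EnoughInjectives C] (s : ShiftData Φ A A') {n : ℕ} (e : s.Good n)

/-- The connecting map of the target composed with the equivalence in degree `n`. -/
noncomputable def stepAux (G : C) (h : s.mem G) :
    Ext.{w} A (injSES G).X₃ n →+ Ext.{w'} A' (Φ.obj G) (n + 1) :=
  ((s.map_shortExact (injSES_shortExact G) h
      (inferInstanceAs (Injective (Injective.under G)))).extClass.postcomp A' rfl).comp
    (e.1 _ (s.quot_mem (injSES_shortExact G) h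
      (inferInstanceAs (Injective (Injective.under G))))).toAddMonoidHom

omit [EnoughInjectives C] in
theorem subsingleton_source (I : C) [Injective I] : Subsingleton (Ext.{w} A I (n + 1)) :=
  Ext.subsingleton_of_injective A I n

theorem sourceMap_surjective (G : C) :
    Function.Surjective ((injSES_shortExact G).extClass.postcomp A
      (rfl : n + 1 = n + 1)) := fun x => by
  have : Subsingleton (Ext.{w} A (injSES G).X₂ (n + 1)) :=
    subsingleton_source (A := A) (Injective.under G)
  exact exists_comp_extClass_eq (injSES_shortExact G) x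

theorem stepAux_surjective (G : C) (h : s.mem G) : Function.Surjective (s.stepAux e G h) := by
  intro y
  have := s.acyclic (injSES G).X₂ (inferInstanceAs (Injective (Injective.under G))) n
  have : Subsingleton (Ext.{w'} A' ((injSES G).map Φ).X₂ (n + 1)) := this
  obtain ⟨z, hz⟩ := exists_comp_extClass_eq (s.map_shortExact (injSES_shortExact G) h
    (inferInstanceAs (Injective (Injective.under G)))) y
  obtain ⟨x, hx⟩ := (e.1 _ (s.quot_mem (injSES_shortExact G) h
    (inferInstanceAs (Injective (Injective.under G))))).surjective z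
  refine ⟨x, ?_⟩
  rw [← hz, ← hx]
  rfl

theorem ker_stepAux (G : C) (h : s.mem G) (x : Ext.{w} A (injSES G).X₃ n) :
    s.stepAux e G h x = 0 ↔ x.comp (injSES_shortExact G).extClass rfl = 0 := by
  have hS := injSES_shortExact G
  have hI : Injective (injSES G).X₂ := inferInstanceAs (Injective (Injective.under G))
  rw [comp_extClass_eq_zero_iff]
  constructor
  · intro hx
    obtain ⟨y, hy⟩ := (comp_extClass_eq_zero_iff _ _).1 hx
    obtain ⟨w₂, rfl⟩ := (e.1 _ (s.injective_mem _ hI)).surjective y
    refine ⟨w₂, (e.1 _ (s.quot_mem hS h hI)).injective ?_⟩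
    rw [e.2 (s.injective_mem _ hI)]
    exact hy
  · rintro ⟨y, rfl⟩
    refine (comp_extClass_eq_zero_iff _ _).2 ⟨e.1 _ (s.injective_mem _ hI) y, ?_⟩
    exact (e.2 (s.injective_mem _ hI) (s.quot_mem hS h hI) _ y).symm

/-- The equivalence in degree `n + 1`. -/
noncomputable def stepEquiv (G : C) (h : s.mem G) :
    Ext.{w} A G (n + 1) ≃+ Ext.{w'} A' (Φ.obj G) (n + 1) :=
  AddEquiv.ofBijective
    (((injSES_shortExact G).extClass.postcomp A (rfl : n + 1 = n + 1)).liftOfSurjective
      (sourceMap_surjective G) ⟨s.stepAux e G h, fun x hx => (s.ker_stepAux e G h x).2 hx⟩) (by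
    refine ⟨(injective_iff_map_eq_zero _).2 fun x hx => ?_, fun y => ?_⟩
    · obtain ⟨x', rfl⟩ := sourceMap_surjective (A := A) (n := n) G x
      erw [AddMonoidHom.liftOfRightInverse_comp_apply] at hx
      exact (s.ker_stepAux e G h x').1 hx
    · obtain ⟨x', hx'⟩ := s.stepAux_surjective e G h y
      refine ⟨(injSES_shortExact G).extClass.postcomp A rfl x', ?_⟩
      erw [AddMonoidHom.liftOfRightInverse_comp_apply]
      exact hx')

theorem stepEquiv_comp_extClass (G : C) (h : s.mem G) (x : Ext.{w} A (injSES G).X₃ n) :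
    s.stepEquiv e G h (x.comp (injSES_shortExact G).extClass rfl) = s.stepAux e G h x :=
  AddMonoidHom.liftOfRightInverse_comp_apply
    ((injSES_shortExact G).extClass.postcomp A (rfl : n + 1 = n + 1)) _
    (Function.rightInverse_surjInv (sourceMap_surjective G))
    ⟨s.stepAux e G h, fun x hx => (s.ker_stepAux e G h x).2 hx⟩ x

/-- The inductive step. -/
noncomputable def goodSucc : s.Good (n + 1) :=
  ⟨fun G h => s.stepEquiv e G h, by
    intro G G' h h' f x
    obtain ⟨x', rfl⟩ := sourceMap_surjective (A := A) (n := n) G x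
    let g₂ : (injSES G).X₂ ⟶ (injSES G').X₂ :=
      Injective.factorThru (f ≫ Injective.ι G') (Injective.ι G)
    have hg₂ : Injective.ι G ≫ g₂ = f ≫ Injective.ι G' := Injective.comp_factorThru _ _
    let g₃ : (injSES G).X₃ ⟶ (injSES G').X₃ :=
      cokernel.map (Injective.ι G) (Injective.ι G') f g₂ hg₂
    let τ : injSES G ⟶ injSES G' :=
      { τ₁ := f
        τ₂ := g₂
        τ₃ := g₃
        comm₁₂ := hg₂.symm
        comm₂₃ := (cokernel.π_desc _ _ _).symm }
    have hI : Injective (injSES G).X₂ := inferInstanceAs (Injective (Injective.under G))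
    have hI' : Injective (injSES G').X₂ := inferInstanceAs (Injective (Injective.under G'))
    have key : (x'.comp (injSES_shortExact G).extClass (rfl : n + 1 = n + 1)).comp (Ext.mk₀ f)
        (add_zero _) = (x'.comp (Ext.mk₀ g₃) (add_zero n)).comp
          (injSES_shortExact G').extClass rfl := by
      rw [Ext.comp_assoc_of_third_deg_zero, Ext.comp_assoc_of_second_deg_zero]
      exact congrArg (fun z => x'.comp z (rfl : n + 1 = n + 1))
        (ShortComplex.ShortExact.extClass_naturality (injSES_shortExact G) (injSES_shortExact G') τ)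
    refine (congrArg (s.stepEquiv e G' h') key).trans ?_
    refine (s.stepEquiv_comp_extClass e G' h' _).trans ?_
    refine Eq.trans ?_ (congrArg (fun z => z.comp (Ext.mk₀ (Φ.map f)) (add_zero (n + 1)))
      (s.stepEquiv_comp_extClass e G h x')).symm
    have hS := s.map_shortExact (injSES_shortExact G) h hI
    have hS' := s.map_shortExact (injSES_shortExact G') h' hI'
    have he : e.1 _ (s.quot_mem (injSES_shortExact G') h' hI') (x'.comp (Ext.mk₀ g₃) (add_zero n)) =
        (e.1 _ (s.quot_mem (injSES_shortExact G) h hI) x').comp (Ext.mk₀ (Φ.map g₃)) (add_zero n) :=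
      e.2 _ _ g₃ x'
    have hnat : hS.extClass.comp (Ext.mk₀ (Φ.map f)) (add_zero 1) =
        (Ext.mk₀ (Φ.map g₃)).comp hS'.extClass (zero_add 1) :=
      ShortComplex.ShortExact.extClass_naturality hS hS' (Φ.mapShortComplex.map τ)
    refine (congrArg (fun z : Ext A' (Φ.obj (injSES G').X₃) n =>
      z.comp hS'.extClass (rfl : n + 1 = n + 1)) he).trans ?_
    refine (Ext.comp_assoc_of_second_deg_zero _ _ _ (rfl : n + 1 = n + 1)).trans ?_
    refine (congrArg (fun z : Ext (Φ.obj (injSES G).X₃) (Φ.obj G') 1 =>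
      (e.1 _ (s.quot_mem (injSES_shortExact G) h hI) x').comp z (rfl : n + 1 = n + 1)) hnat.symm).trans ?_
    exact (Ext.comp_assoc_of_third_deg_zero _ _ _ (rfl : n + 1 = n + 1)).symm⟩

/-- The comparison in all degrees. -/
noncomputable def good (s : ShiftData Φ A A') : ∀ n : ℕ, s.Good n
  | 0 => s.goodZero
  | n + 1 => s.goodSucc (s.good n)

/-- `Ext A G n ≃+ Ext A' (Φ G) n` for `G` in the class. -/
noncomputable def equiv (G : C) (h : s.mem G) (n : ℕ) :
    Ext.{w} A G n ≃+ Ext.{w'} A' (Φ.obj G) n :=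
  (s.good n).1 G h

theorem equiv_naturality {G G' : C} (h : s.mem G) (h' : s.mem G') (f : G ⟶ G') (n : ℕ)
    (x : Ext.{w} A G n) :
    s.equiv G' h' n (x.comp (Ext.mk₀ f) (add_zero n)) =
      (s.equiv G h n x).comp (Ext.mk₀ (Φ.map f)) (add_zero n) :=
  (s.good n).2 h h' f x

end ShiftData

end Groth.Agent.Coherent
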