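import Groth.Agent.Coherent.FormalFunctions
import Groth.Agent.Coherent.RpushSupport

/-!
# Formal functions for coherent modules with proper support
-/

set_option autoImplicit false

universe u

open CategoryTheory CategoryTheory.Limits AlgebraicGeometry Opposite TopologicalSpace

namespace Groth.Agent.Coherent

variable {X S : Scheme.{u}}

theorem finite_HA_of_isProperOver [IsAffine S] [IsLocallyNoetherian S] (f : X ⟶ S)
    [LocallyOfFiniteType f] [CompactSpace X] {N : X.Modules} (hN : Coh.IsCoh N)
    (hs : ClSub.IsProperOver f (CohB1.support N)) (q : ℕ) :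
    Module.Finite Γ(S, ⊤) (HA f.appTop.hom N (⊤ : X.Opens) q) := by
  have : IsLocallyNoetherian X := LocallyOfFiniteType.isLocallyNoetherian f
  have := hasInjectiveResolutions_modules X
  have := hN.1
  have hfin : Module.Finite Γ(S, ⊤) Γ((Coh.Rpush f q).obj N, ⊤) :=
    ((isCoh_iff_finite_sections _).1 (isCoh_rpush_of_isProperOver f hN hs q)).2 ⊤
      (isAffineOpen_top S)
  let g : HA f.appTop.hom N (⊤ : X.Opens) q →ₗ[Γ(S, ⊤)] Γ((Coh.Rpush f q).obj N, ⊤) :=
    { toFun := toRpush f N q ⊤
      map_add' := map_add _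
      map_smul' := fun a x => by
        refine Eq.trans ?_ ((congrArg (fun z : Γ(S, ⊤) => z • toRpush f N q ⊤ x)
          (ConcreteCategory.congr_hom (S.presheaf.map_id (op ⊤)) a)))
        exact (toRpush_smul f N q a ⊤ x).symm }
  have := isNoetherianRing_top S
  exact Module.Finite.of_injective g (toRpush_bijective f N q).1

theorem finiteOnSupp_of_isProperOver {A : Type u} [CommRing A] [IsNoetherianRing A]
    [X.Over (Spec (CommRingCat.of A))] [LocallyOfFiniteType (X ↘ Spec (CommRingCat.of A))]
    [QuasiCompact (X ↘ Spec (CommRingCat.of A))] {M : X.Modules}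
    (hs : ClSub.IsProperOver (X ↘ Spec (CommRingCat.of A)) (CohB1.support M)) :
    FiniteOnSupp A M where
  locNoeth := LocallyOfFiniteType.isLocallyNoetherian (X ↘ Spec (CommRingCat.of A))
  compact := QuasiCompact.compactSpace_of_compactSpace (X ↘ Spec (CommRingCat.of A))
  fin N hN hsub q := by
    have : CompactSpace X :=
      QuasiCompact.compactSpace_of_compactSpace (X ↘ Spec (CommRingCat.of A))
    have hs' := Et18.IsProperOver.of_subset hs
      (isClosed_support N (locallyFinGen_of_isFT N hN.2)) hsub
    have := finite_HA_of_isProperOver (X ↘ Spec (CommRingCat.of A)) hN hs' q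
    refine finite_of_semilinear (A := Γ(Spec (CommRingCat.of A), ⊤)) (A' := A)
      (M := HA (X ↘ Spec (CommRingCat.of A)).appTop.hom N (⊤ : X.Opens) q)
      (M' := HA (baseHom A X) N (⊤ : X.Opens) q)
      (AddMonoidHom.id (HMod N (⊤ : X.Opens) q)) Function.surjective_id
      fun a x => ⟨(Scheme.ΓSpecIso (CommRingCat.of A)).hom a, ?_⟩
    let x' : HMod N (⊤ : X.Opens) q := x
    change (X ↘ Spec (CommRingCat.of A)).appTop.hom a • x' =
      (X ↘ Spec (CommRingCat.of A)).appTop.hom
        ((Scheme.ΓSpecIso (CommRingCat.of A)).inv ((Scheme.ΓSpecIso (CommRingCat.of A)).hom a)) • x'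
    rw [Iso.hom_inv_id_apply]

end Groth.Agent.Coherent
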