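import Groth.Agent.Coherent.PullUnit
import Groth.Agent.Coherent.CohFinite
import Groth.Agent.EGA43.Cons.FibFlatLocus
import Mathlib.RingTheory.Flat.Basic
import Mathlib.AlgebraicGeometry.Morphisms.Flat

/-!
# Flat base change for cohomology of quasi-coherent modules

For `g : X' ⟶ X` affine with `Γ(g⁻¹ U) = Γ(U) ⊗_A B` on affine opens `U` and `B` flat over `A`,
`B ⊗_A H^q(U, M) ≃ H^q(g⁻¹ U, g^* M)` for quasi-compact `U`.
-/

set_option autoImplicit false

universe u

open CategoryTheory CategoryTheory.Abelian CategoryTheory.Limits AlgebraicGeometry Opposite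
  TopologicalSpace TensorProduct

namespace Groth.Agent.Coherent

section Top

variable {X : TopCat.{u}}

/-- Endomorphisms of a sheaf act on its cohomology. -/
noncomputable def postEnd (F : Sheaf (Opens.grothendieckTopology X) AddCommGrpCat.{u}) (U : Opens X)
    (q : ℕ) : End F →+* AddMonoid.End (Ext (freeSh U) F q) where
  toFun φ := postH φ q U
  map_one' := DFunLike.ext _ _ fun x => postH_id q U x
  map_mul' φ ψ := DFunLike.ext _ _ fun x => postH_comp ψ φ q U x
  map_zero' := DFunLike.ext _ _ fun x => by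
    show postH (0 : F ⟶ F) q U x = 0
    rw [postH_apply, Ext.mk₀_zero, Ext.comp_zero]
  map_add' φ ψ := DFunLike.ext _ _ fun x => by
    show postH (φ + ψ : F ⟶ F) q U x = postH φ q U x + postH ψ q U x
    rw [postH_apply, Ext.mk₀_add, Ext.comp_add]
    rfl

end Top

section Scheme

variable {X X' : Scheme.{u}} (g : X' ⟶ X) {A B : Type u} [CommRing A] [CommRing B] [Algebra A B]
  (φ : A →+* Γ(X, ⊤)) (β : B →+* Γ(X', ⊤)) (M : X.Modules)

/-- Global functions on a scheme, acting on a module as endomorphisms of abelian sheaves. -/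
noncomputable def smulEndHom (P : X'.Modules) : Γ(X', ⊤) →+* End (Coh.toAb P) where
  toFun := smulEndAb P
  map_one' := Coh.smulAb_one P
  map_mul' r s := Coh.smulAb_mul P r s
  map_zero' := Coh.smulAb_zero P
  map_add' r s := Coh.smulAb_add P r s

/-- `g^* M`. -/
noncomputable abbrev bcSheaf : X'.Modules := (Scheme.Modules.pullback g).obj M

/-- `g_* g^* M`. -/
noncomputable abbrev bcPush : X.Modules := (Coh.push g).obj (bcSheaf g M)

/-- The unit `M ⟶ g_* g^* M`. -/
noncomputable abbrev bcUnit : M ⟶ bcPush g M :=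
  (Scheme.Modules.pullbackPushforwardAdjunction g).unit.app M

/-- Functions on `X'` act on `g_* g^* M`. -/
noncomputable def bcAct (b : B) : End (Coh.toAb (bcPush g M)) :=
  (pushSh (X := X'.toTopCat) (Y := X.toTopCat) g.base).map (smulEndAb (bcSheaf g M) (β b))

theorem bcAct_app (b : B) (U : X.Opens) (m : Γ(bcSheaf g M, g ⁻¹ᵁ U)) :
    (bcAct g β M b).hom.app (op U) m =
      X'.presheaf.map (homOfLE (le_top (a := g ⁻¹ᵁ U))).op (β b) • m := rfl

/-- The ring homomorphism underlying `bcAct`. -/
noncomputable def bcActHom : B →+* End (Coh.toAb (bcPush g M)) where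
  toFun := bcAct g β M
  map_one' := by
    unfold bcAct
    rw [map_one]
    exact (congrArg _ (Coh.smulAb_one _)).trans (CategoryTheory.Functor.map_id _ _)
  map_mul' b c := by
    unfold bcAct
    rw [map_mul]
    exact (congrArg _ (Coh.smulAb_mul _ _ _)).trans (CategoryTheory.Functor.map_comp _ _ _)
  map_zero' := by
    unfold bcAct
    rw [map_zero]
    exact (congrArg _ (Coh.smulAb_zero _)).trans (CategoryTheory.Functor.map_zero _ _ _)
  map_add' b c := by
    unfold bcAct
    rw [map_add]
    exact (congrArg _ (Coh.smulAb_add _ _ _)).trans (CategoryTheory.Functor.map_add _)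

/-- `H^q(U, g_* g^* M)` as a module over `B`. -/
@[nolint unusedArguments]
def BCMod (_β : B →+* Γ(X', ⊤)) (U : X.Opens) (q : ℕ) : Type u :=
  Ext (freeSh (X := X.toTopCat) U) (Coh.toAb (bcPush g M)) q

noncomputable instance (U : X.Opens) (q : ℕ) : AddCommGroup (BCMod g M β U q) :=
  inferInstanceAs (AddCommGroup (Ext (freeSh (X := X.toTopCat) U) (Coh.toAb (bcPush g M)) q))

noncomputable instance (U : X.Opens) (q : ℕ) : Module B (BCMod g M β U q) :=
  Module.compHom (Ext (freeSh (X := X.toTopCat) U) (Coh.toAb (bcPush g M)) q)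
    ((postEnd (X := X.toTopCat) (Coh.toAb (bcPush g M)) U q).comp (bcActHom g β M))

noncomputable instance (U : X.Opens) (q : ℕ) : Module A (BCMod g M β U q) :=
  Module.compHom _ (algebraMap A B)

instance (U : X.Opens) (q : ℕ) : IsScalarTower A B (BCMod g M β U q) :=
  IsScalarTower.of_algebraMap_smul fun _ _ => rfl

theorem BCMod_smul_def (U : X.Opens) (q : ℕ) (b : B) (x : BCMod g M β U q) :
    b • x = postH (X := X.toTopCat) (bcAct g β M b) q U x := rfl

/-- Restriction. -/
noncomputable def resBC {U V : X.Opens} (h : U ≤ V) (q : ℕ) :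
    BCMod g M β V q →ₗ[B] BCMod g M β U q where
  toFun := resH (X := X.toTopCat) (Coh.toAb (bcPush g M)) q h
  map_add' := map_add _
  map_smul' b x := resH_postH (X := X.toTopCat) (bcAct g β M b) q h x

/-- The Mayer-Vietoris connecting map. -/
noncomputable def mvBC (U V : X.Opens) (q : ℕ) :
    BCMod g M β (U ⊓ V) q →ₗ[B] BCMod g M β (U ⊔ V) (q + 1) where
  toFun := deltaH (X := X.toTopCat) (Coh.toAb (bcPush g M)) U V q
  map_add' := map_add _
  map_smul' b x := (postH_deltaH (X := X.toTopCat) (bcAct g β M b) q x).symm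

/-- The Mayer-Vietoris connecting map. -/
noncomputable def mvA (U V : X.Opens) (q : ℕ) :
    HA φ M (U ⊓ V) q →ₗ[A] HA φ M (U ⊔ V) (q + 1) where
  toFun := deltaH (X := X.toTopCat) (Coh.toAb M) U V q
  map_add' := map_add _
  map_smul' a x := (postH_deltaH (X := X.toTopCat) (smulEndAb M (φ a)) q x).symm

/-- `H^q(U, M) → H^q(U, M) × H^q(V, M)`. -/
noncomputable def mvRes (U V : X.Opens) (q : ℕ) :
    HA φ M (U ⊔ V) q →ₗ[A] HA φ M U q × HA φ M V q :=
  (resA φ M le_sup_left q).prod (resA φ M le_sup_right q)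

/-- The difference of restrictions. -/
noncomputable def mvDiff (U V : X.Opens) (q : ℕ) :
    HA φ M U q × HA φ M V q →ₗ[A] HA φ M (U ⊓ V) q :=
  (resA φ M inf_le_left q).coprod (-(resA φ M inf_le_right q))

theorem mvRes_injective_zero (U V : X.Opens) : Function.Injective (mvRes φ M U V 0) := by
  intro x y h
  rw [← sub_eq_zero]
  have h' : mvRes φ M U V 0 (x - y) = 0 := by rw [map_sub, h, sub_self]
  exact eq_zero_of_resH_zero (X := X.toTopCat) (congrArg Prod.fst h') (congrArg Prod.snd h')

theorem exact_mvA_mvRes (U V : X.Opens) (q : ℕ) :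
    Function.Exact (mvA φ M U V q) (mvRes φ M U V (q + 1)) := fun _ =>
  ⟨fun h => exists_deltaH (X := X.toTopCat) (congrArg Prod.fst h) (congrArg Prod.snd h),
    fun ⟨w, hw⟩ => hw ▸ Prod.ext (resH_deltaH_left (X := X.toTopCat) w)
      (resH_deltaH_right (X := X.toTopCat) w)⟩

theorem exact_mvRes_mvDiff (U V : X.Opens) (q : ℕ) :
    Function.Exact (mvRes φ M U V q) (mvDiff φ M U V q) := fun p => by
  constructor
  · intro h
    have h' : resA φ M inf_le_left q p.1 = resA φ M inf_le_right q p.2 := by
      simpa [mvDiff, ← sub_eq_add_neg, sub_eq_zero] using h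
    obtain ⟨x, hx₁, hx₂⟩ := exists_resH_sup (X := X.toTopCat) (F := Coh.toAb M) h'
    exact ⟨x, Prod.ext hx₁ hx₂⟩
  · rintro ⟨x, rfl⟩
    simp only [mvDiff, mvRes, LinearMap.coprod_apply, LinearMap.prod_apply, Function.prod_apply,
      LinearMap.neg_apply, ← sub_eq_add_neg, sub_eq_zero]
    exact (resH_resH (X := X.toTopCat) q inf_le_left le_sup_left x).trans
      (resH_resH (X := X.toTopCat) q inf_le_right le_sup_right x).symm

theorem mvA_comp_mvDiff (U V : X.Opens) (q : ℕ) :
    mvA φ M U V q ∘ₗ mvDiff φ M U V q = 0 := by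
  refine LinearMap.ext fun p => ?_
  have e : mvDiff φ M U V q p =
      resA φ M inf_le_left q p.1 - resA φ M inf_le_right q p.2 := by
    simp [mvDiff, ← sub_eq_add_neg]
  show mvA φ M U V q (mvDiff φ M U V q p) = 0
  rw [e]
  exact deltaH_sub_eq_zero (X := X.toTopCat) (F := Coh.toAb M) p.1 p.2

variable (hcomm : ∀ a, g.appTop (φ a) = β (algebraMap A B a))

include hcomm in
theorem smulEndAb_comp_bcUnit (a : A) :
    smulEndAb M (φ a) ≫ (toAbFunctor X).map (bcUnit g M) =
      (toAbFunctor X).map (bcUnit g M) ≫ bcAct g β M (algebraMap A B a) := by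
  ext U m
  refine ((bcUnit g M).app_smul _ m).trans ?_
  change g.app U.unop (X.presheaf.map (homOfLE (le_top (a := U.unop))).op (φ a)) •
      (show Γ(bcSheaf g M, g ⁻¹ᵁ U.unop) from (bcUnit g M).app U.unop m) =
    X'.presheaf.map (homOfLE (le_top (a := g ⁻¹ᵁ U.unop))).op (β (algebraMap A B a)) •
      (show Γ(bcSheaf g M, g ⁻¹ᵁ U.unop) from (bcUnit g M).app U.unop m)
  rw [← hcomm a]
  exact congrArg (fun r : Γ(X', g ⁻¹ᵁ U.unop) =>
      r • (show Γ(bcSheaf g M, g ⁻¹ᵁ U.unop) from (bcUnit g M).app U.unop m))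
    congr($(g.naturality (homOfLE (le_top (a := U.unop))).op) (φ a))

/-- Functoriality in the unit, linearly. -/
noncomputable def bcEta (U : X.Opens) (q : ℕ) : HA φ M U q →ₗ[A] BCMod g M β U q where
  toFun := postH (X := X.toTopCat) ((toAbFunctor X).map (bcUnit g M)) q U
  map_add' := map_add _
  map_smul' a x := (postH_comp (X := X.toTopCat) _ _ q U x).symm.trans
    ((congrArg (fun z => postH (X := X.toTopCat) z q U x)
      (smulEndAb_comp_bcUnit g φ β M hcomm a)).trans (postH_comp (X := X.toTopCat) _ _ q U x))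

/-- The base change map `B ⊗ H^q(U, M) → H^q(U, g_* g^* M)`. -/
noncomputable def bcMap (U : X.Opens) (q : ℕ) : B ⊗[A] HA φ M U q →ₗ[B] BCMod g M β U q :=
  (bcEta g φ β M hcomm U q).liftBaseChange B

theorem bcMap_res {U V : X.Opens} (h : U ≤ V) (q : ℕ) (z : B ⊗[A] HA φ M V q) :
    bcMap g φ β M hcomm U q ((resA φ M h q).baseChange B z) =
      resBC g β M h q (bcMap g φ β M hcomm V q z) := by
  induction z using TensorProduct.induction_on with
  | zero => simp
  | add u v hu hv => simp only [map_add, hu, hv]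
  | tmul b x =>
    simp only [LinearMap.baseChange_tmul, bcMap, LinearMap.liftBaseChange_tmul, map_smul]
    exact congrArg (b • ·)
      (resH_postH (X := X.toTopCat) ((toAbFunctor X).map (bcUnit g M)) q h x).symm

theorem bcMap_mv (U V : X.Opens) (q : ℕ) (z : B ⊗[A] HA φ M (U ⊓ V) q) :
    bcMap g φ β M hcomm (U ⊔ V) (q + 1) ((mvA φ M U V q).baseChange B z) =
      mvBC g β M U V q (bcMap g φ β M hcomm (U ⊓ V) q z) := by
  induction z using TensorProduct.induction_on with
  | zero => simp
  | add u v hu hv => simp only [map_add, hu, hv]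
  | tmul b x =>
    simp only [LinearMap.baseChange_tmul, bcMap, LinearMap.liftBaseChange_tmul, map_smul]
    exact congrArg (b • ·) (postH_deltaH (X := X.toTopCat) ((toAbFunctor X).map (bcUnit g M)) q x)

/-- The two components of a base changed product map. -/
theorem baseChange_prod_eq_zero_iff {P Q R : Type u} [AddCommGroup P] [AddCommGroup Q]
    [AddCommGroup R] [Module A P] [Module A Q] [Module A R] (f : P →ₗ[A] Q) (h : P →ₗ[A] R)
    (z : B ⊗[A] P) :
    (f.prod h).baseChange B z = 0 ↔ f.baseChange B z = 0 ∧ h.baseChange B z = 0 := by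
  have e : ∀ z, TensorProduct.prodRight A B B Q R ((f.prod h).baseChange B z) =
      (f.baseChange B z, h.baseChange B z) := fun z => by
    induction z using TensorProduct.induction_on with
    | zero => simp only [map_zero]; rfl
    | add u v hu hv => simp only [map_add, hu, hv, Prod.mk_add_mk]
    | tmul b x => simp
  rw [← LinearEquiv.map_eq_zero_iff (TensorProduct.prodRight A B B Q R), e, Prod.mk_eq_zero]

/-- Mayer-Vietoris step. -/
theorem bijective_bcMap_sup [Module.Flat A B] {U V : X.Opens}
    (hU : ∀ q, Function.Bijective (bcMap g φ β M hcomm U q))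
    (hV : ∀ q, Function.Bijective (bcMap g φ β M hcomm V q))
    (hI : ∀ q, Function.Bijective (bcMap g φ β M hcomm (U ⊓ V) q)) (q : ℕ) :
    Function.Bijective (bcMap g φ β M hcomm (U ⊔ V) q) := by
  have hδρ : ∀ q, Function.Exact ((mvA φ M U V q).baseChange B)
      ((mvRes φ M U V (q + 1)).baseChange B) := fun q =>
    Module.Flat.lTensor_exact B (exact_mvA_mvRes φ M U V q)
  have hρσ : ∀ q, Function.Exact ((mvRes φ M U V q).baseChange B)
      ((mvDiff φ M U V q).baseChange B) := fun q =>
    Module.Flat.lTensor_exact B (exact_mvRes_mvDiff φ M U V q)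
  have hdiff : ∀ q (a : B ⊗[A] HA φ M U q) (b : B ⊗[A] HA φ M V q),
      (mvDiff φ M U V q).baseChange B ((TensorProduct.prodRight A B B _ _).symm (a, b)) =
        (resA φ M inf_le_left q).baseChange B a - (resA φ M inf_le_right q).baseChange B b := by
    intro q a b
    obtain ⟨z, hz⟩ := (TensorProduct.prodRight A B B (HA φ M U q) (HA φ M V q)).surjective (a, b)
    rw [← hz, LinearEquiv.symm_apply_apply]
    obtain ⟨rfl, rfl⟩ := Prod.ext_iff.1 hz
    clear hz
    induction z using TensorProduct.induction_on with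
    | zero => simp
    | add u v hu hv =>
      simp only [map_add, Prod.fst_add, Prod.snd_add, hu, hv]
      abel
    | tmul b x =>
      simp [mvDiff, ← sub_eq_add_neg, TensorProduct.tmul_sub]
  constructor
  · rw [injective_iff_map_eq_zero]
    intro z hz
    have hr : (mvRes φ M U V q).baseChange B z = 0 := by
      refine (baseChange_prod_eq_zero_iff _ _ z).2 ⟨(hU q).1 ?_, (hV q).1 ?_⟩ <;>
        rw [bcMap_res, hz, map_zero, map_zero]
    rcases q with _ | q
    · exact (injective_iff_map_eq_zero _).1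
        (Module.Flat.lTensor_preserves_injective_linearMap (M := B) _
          (mvRes_injective_zero φ M U V)) z hr
    obtain ⟨w, rfl⟩ := (hδρ q z).1 hr
    rw [bcMap_mv] at hz
    obtain ⟨a, b, hab⟩ := exists_of_deltaH_eq_zero (X := X.toTopCat)
      (F := Coh.toAb (bcPush g M)) (w := (bcMap g φ β M hcomm (U ⊓ V) q w)) hz
    obtain ⟨a', ha'⟩ := (hU q).2 a
    obtain ⟨b', hb'⟩ := (hV q).2 b
    have hw : w = (mvDiff φ M U V q).baseChange B ((TensorProduct.prodRight A B B _ _).symm (a', b')) := by
      rw [hdiff]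
      apply (hI q).1
      rw [map_sub, bcMap_res, bcMap_res, ha', hb']
      exact hab.symm
    rw [hw, ← LinearMap.comp_apply, ← LinearMap.baseChange_comp, mvA_comp_mvDiff,
      LinearMap.baseChange_zero]
    rfl
  · intro y
    obtain ⟨a, ha⟩ := (hU q).2 (resBC g β M le_sup_left q y)
    obtain ⟨b, hb⟩ := (hV q).2 (resBC g β M le_sup_right q y)
    have h0 : (mvDiff φ M U V q).baseChange B
        ((TensorProduct.prodRight A B B _ _).symm (a, b)) = 0 := by
      rw [hdiff]
      apply (hI q).1
      rw [map_sub, bcMap_res, bcMap_res, ha, hb, map_zero, sub_eq_zero]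
      exact (resH_resH (X := X.toTopCat) q inf_le_left le_sup_left y).trans
        (resH_resH (X := X.toTopCat) q inf_le_right le_sup_right y).symm
    obtain ⟨z, hz⟩ := ((hρσ q) _).1 h0
    have hz' := congrArg (TensorProduct.prodRight A B B _ _) hz
    rw [LinearEquiv.apply_symm_apply] at hz'
    have e : ∀ z, TensorProduct.prodRight A B B _ _ ((mvRes φ M U V q).baseChange B z) =
        ((resA φ M le_sup_left q).baseChange B z, (resA φ M le_sup_right q).baseChange B z) := by
      intro z
      induction z using TensorProduct.induction_on with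
      | zero => simp only [map_zero]; rfl
      | add u v hu hv => simp only [map_add, hu, hv, Prod.mk_add_mk]
      | tmul b x => simp [mvRes]
    rw [e] at hz'
    obtain ⟨rfl, rfl⟩ := Prod.ext_iff.1 hz'
    have z₁ : resBC g β M le_sup_left q (y - bcMap g φ β M hcomm (U ⊔ V) q z) = 0 := by
      rw [map_sub, ← bcMap_res, ← ha, sub_self]
    have z₂ : resBC g β M le_sup_right q (y - bcMap g φ β M hcomm (U ⊔ V) q z) = 0 := by
      rw [map_sub, ← bcMap_res, ← hb, sub_self]
    rcases q with _ | q
    · exact ⟨z, (sub_eq_zero.1 (eq_zero_of_resH_zero (X := X.toTopCat) z₁ z₂)).symm⟩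
    obtain ⟨w', hw'⟩ := exists_deltaH (X := X.toTopCat) z₁ z₂
    obtain ⟨w, rfl⟩ := (hI q).2 w'
    refine ⟨z + (mvA φ M U V q).baseChange B w, ?_⟩
    rw [map_add, bcMap_mv]
    exact (congrArg (bcMap g φ β M hcomm (U ⊔ V) (q + 1) z + ·) hw').trans (add_sub_cancel _ _)

end Scheme

end Groth.Agent.Coherent
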