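import Mathlib.RingTheory.Polynomial.Basic
import Mathlib.RingTheory.Finiteness.Basic
import Mathlib.Algebra.DirectSum.Module
import Mathlib.RingTheory.Adjoin.Basic

/-!
# Eventually generated systems of modules with commuting raising operators

The module-theoretic content of the Artin-Rees lemma, without forming the graded module.
-/

set_option autoImplicit false

universe u v w

open DirectSum

namespace Groth.Agent.Coherent

variable {A : Type u} [CommRing A] {ι : Type} [Fintype ι] {H : ℕ → Type v}
  [∀ n, AddCommGroup (H n)] [∀ n, Module A (H n)]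

/-- Eventually, every element of degree `n + 1` is a combination of raised ones of degree `n`. -/
def EG (T : ι → ∀ n, H n →ₗ[A] H (n + 1)) : Prop :=
  ∃ n₀, ∀ n, n₀ ≤ n → ∀ x : H (n + 1), ∃ y : ι → H n, x = ∑ i, T i n (y i)

variable {T : ι → ∀ n, H n →ₗ[A] H (n + 1)}

/-- A stable system of submodules of an eventually generated system is eventually generated. -/
theorem EG.sub [IsNoetherianRing A] {K : ℕ → Type w} [∀ n, AddCommGroup (K n)]
    [∀ n, Module A (K n)] {S : ι → ∀ n, K n →ₗ[A] K (n + 1)} (hT : EG T)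
    (hfin : ∀ n, Module.Finite A (H n))
    (hcomm : ∀ i j n (x : H n), T i (n + 1) (T j n x) = T j (n + 1) (T i n x))
    (j : ∀ n, K n →ₗ[A] H n) (hj : ∀ n, Function.Injective (j n))
    (hjS : ∀ i n (x : K n), j (n + 1) (S i n x) = T i n (j n x)) : EG S := by
  classical
  obtain ⟨n₀, hn₀⟩ := hT
  let M := ⨁ n, H n
  let of := DirectSum.lof A ℕ H
  let cp := DirectSum.component A ℕ H
  let t : ι → Module.End A M := fun i => DirectSum.toModule A ℕ M fun n => (of (n + 1)) ∘ₗ T i n
  have ht : ∀ i n (x : H n), t i (of n x) = of (n + 1) (T i n x) := fun i n x => by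
    exact DirectSum.toModule_lof A n x
  have hc : ∀ a ∈ Set.range t, ∀ b ∈ Set.range t, a * b = b * a := by
    rintro _ ⟨a, rfl⟩ _ ⟨b, rfl⟩
    refine DirectSum.linearMap_ext A fun n => LinearMap.ext fun x => ?_
    simp only [LinearMap.comp_apply, Module.End.mul_apply]
    change t a (t b (of n x)) = t b (t a (of n x))
    rw [ht, ht, ht, ht, hcomm]
  letI : CommRing (Algebra.adjoin A (Set.range t)) :=
    Algebra.adjoinCommRingOfComm A (fun a ha b hb => hc a ha b hb)
  let ρ : MvPolynomial ι A →ₐ[A] Module.End A M := (Algebra.adjoin A (Set.range t)).val.comp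
    (MvPolynomial.aeval fun i => (⟨t i, Algebra.subset_adjoin ⟨i, rfl⟩⟩ :
      Algebra.adjoin A (Set.range t)))
  letI : Module (MvPolynomial ι A) M := Module.compHom M ρ.toRingHom
  have hC : ∀ (a : A) (m : M), (MvPolynomial.C a : MvPolynomial ι A) • m = a • m := fun a m => by
    change ρ (MvPolynomial.C a) m = a • m
    rw [← MvPolynomial.algebraMap_eq, AlgHom.commutes]
    rfl
  have hX : ∀ i (m : M), (MvPolynomial.X i : MvPolynomial ι A) • m = t i m := fun i m => by
    change ρ (MvPolynomial.X i) m = t i m
    simp [ρ]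
  -- the system is finite over the polynomial ring
  choose G hG using fun n => (hfin n).fg_top
  have : Module.Finite (MvPolynomial ι A) M := by
    let G₀ : Finset M := (Finset.range (n₀ + 1)).biUnion fun n => (G n).image (of n)
    refine ⟨G₀, Submodule.eq_top_iff'.2 fun m => ?_⟩
    induction m using DirectSum.induction_on with
    | zero => exact Submodule.zero_mem _
    | add a b ha hb => exact Submodule.add_mem _ ha hb
    | of n x =>
      change of n x ∈ _
      induction n using Nat.strong_induction_on with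
      | _ n ih =>
        by_cases hn : n ≤ n₀
        · have hx : x ∈ Submodule.span A (G n : Set (H n)) := (hG n).ge trivial
          induction hx using Submodule.span_induction with
          | mem g hg =>
            exact Submodule.subset_span (Finset.mem_biUnion.2
              ⟨n, Finset.mem_range.2 (Nat.lt_succ_of_le hn), Finset.mem_image_of_mem _ hg⟩)
          | zero => rw [map_zero]; exact Submodule.zero_mem _
          | add a b _ _ ha hb => rw [map_add]; exact Submodule.add_mem _ ha hb
          | smul r a _ ha => rw [map_smul, ← hC]; exact Submodule.smul_mem _ _ ha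
        · obtain ⟨k, rfl⟩ : ∃ k, n = k + 1 := ⟨n - 1, by omega⟩
          obtain ⟨y, rfl⟩ := hn₀ k (by omega) x
          rw [map_sum]
          refine Submodule.sum_mem _ fun i _ => ?_
          rw [← ht, ← hX]
          exact Submodule.smul_mem _ _ (ih k (by omega) (y i))
  -- finitely many generators of the subsystem
  let Φ : (Σ n, K n) → M := fun z => of z.1 (j z.1 z.2)
  have hfg : (Submodule.span (MvPolynomial ι A) (Set.range Φ)).FG := IsNoetherian.noetherian _
  obtain ⟨s, hs, hspan⟩ := Submodule.fg_span_iff_fg_span_finset_subset _ |>.1 hfg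
  choose z hz using fun g : s => hs g.2
  let n₁ := Finset.univ.sup fun g : s => (z g).1
  let R : ∀ n, Submodule A (H (n + 1)) := fun n => ⨆ i, LinearMap.range (T i n ∘ₗ j n)
  let Good : M → Prop := fun m =>
    (∀ n, cp n m ∈ LinearMap.range (j n)) ∧ ∀ n, n₁ ≤ n → cp (n + 1) m ∈ R n
  have hadd : ∀ a b, Good a → Good b → Good (a + b) := fun a b ha hb =>
    ⟨fun n => by rw [map_add]; exact add_mem (ha.1 n) (hb.1 n),
      fun n hn => by rw [map_add]; exact add_mem (ha.2 n hn) (hb.2 n hn)⟩
  have hzero : Good 0 := ⟨fun n => by rw [map_zero]; exact zero_mem _,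
    fun n _ => by rw [map_zero]; exact zero_mem _⟩
  have hsucc : ∀ i n m, cp (n + 1) (t i m) = T i n (cp n m) := fun i n m => by
    induction m using DirectSum.induction_on with
    | zero => simp
    | add a b ha hb => simp only [map_add, ha, hb]
    | of k x =>
      change cp (n + 1) (t i (of k x)) = T i n (cp n (of k x))
      rw [ht]
      by_cases hk : k = n
      · subst hk; simp [cp, of]
      · simp [cp, of, DirectSum.component.of, hk]
  have hbot : ∀ i m, cp 0 (t i m) = 0 := fun i m => by
    induction m using DirectSum.induction_on with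
    | zero => simp
    | add a b ha hb => simp only [map_add, ha, hb, add_zero]
    | of k x =>
      change cp 0 (t i (of k x)) = 0
      rw [ht]
      simp [cp, of, DirectSum.component.of]
  have hsmul : ∀ (p : MvPolynomial ι A) m, Good m → Good (p • m) := fun p => by
    induction p using MvPolynomial.induction_on with
    | C a =>
      exact fun m hm => ⟨fun n => by rw [hC, map_smul]; exact Submodule.smul_mem _ _ (hm.1 n),
        fun n hn => by rw [hC, map_smul]; exact Submodule.smul_mem _ _ (hm.2 n hn)⟩
    | add p q hp hq => exact fun m hm => by rw [add_smul]; exact hadd _ _ (hp m hm) (hq m hm)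
    | mul_X p i hp =>
      intro m hm
      rw [mul_smul]
      refine hp _ ⟨fun n => ?_, fun n _ => ?_⟩
      · rw [hX]
        rcases n with _ | n
        · rw [hbot]; exact zero_mem _
        · obtain ⟨k, hk⟩ := hm.1 n
          exact ⟨S i n k, by rw [hjS, hk, hsucc]⟩
      · obtain ⟨k, hk⟩ := hm.1 n
        rw [hX, hsucc, ← hk]
        exact Submodule.mem_iSup_of_mem i ⟨k, rfl⟩
  have hgood : ∀ m ∈ Submodule.span (MvPolynomial ι A) (Set.range Φ), Good m := fun m hm => by
    rw [hspan] at hm
    induction hm using Submodule.span_induction with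
    | mem g hg =>
      have hg' : of (z ⟨g, hg⟩).1 (j _ (z ⟨g, hg⟩).2) = g := hz ⟨g, hg⟩
      rw [← hg']
      refine ⟨fun n => ?_, fun n hn => ?_⟩
      · by_cases hk : (z ⟨g, hg⟩).1 = n
        · subst hk; simp [cp, of]
        · simp [cp, of, DirectSum.component.of, hk]
      · have : (z ⟨g, hg⟩).1 ≤ n₁ :=
          Finset.le_sup (f := fun g : s => (z g).1) (Finset.mem_univ _)
        have hne : (z ⟨g, hg⟩).1 ≠ n + 1 := by omega
        simp [cp, of, DirectSum.component.of, hne]
    | zero => exact hzero
    | add a b _ _ ha hb => exact hadd _ _ ha hb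
    | smul p a _ ha => exact hsmul p a ha
  refine ⟨n₁, fun n hn x => ?_⟩
  have h := (hgood _ (Submodule.subset_span ⟨⟨n + 1, x⟩, rfl⟩)).2 n hn
  have e : cp (n + 1) (Φ ⟨n + 1, x⟩) = j (n + 1) x := by simp [Φ, cp, of]
  rw [e, Submodule.mem_iSup_iff_exists_finsupp] at h
  obtain ⟨f, hmem, hf⟩ := h
  choose y hy using hmem
  refine ⟨y, hj _ ?_⟩
  rw [← hf, Finsupp.sum_fintype _ _ fun i => rfl, map_sum]
  exact Finset.sum_congr rfl fun i _ => (hy i).symm.trans (hjS i n (y i)).symm

/-- A system killed by the last operator is eventually generated by the others. -/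
theorem EG.init {r : ℕ} {T : Fin (r + 1) → ∀ n, H n →ₗ[A] H (n + 1)} (hT : EG T)
    (h : ∀ n x, T (Fin.last r) n x = 0) : EG fun (i : Fin r) => T i.castSucc := by
  obtain ⟨n₀, hn₀⟩ := hT
  refine ⟨n₀, fun n hn x => ?_⟩
  obtain ⟨y, rfl⟩ := hn₀ n hn x
  exact ⟨fun i => y i.castSucc, by rw [Fin.sum_univ_castSucc, h, add_zero]⟩

/-- A quotient system of an eventually generated system, shifted by one degree. -/
theorem EG.quot_succ {K : ℕ → Type w} [∀ n, AddCommGroup (K n)] [∀ n, Module A (K n)]
    {S : ι → ∀ n, K n →ₗ[A] K (n + 1)} (hT : EG T) (p : ∀ n, H (n + 1) →ₗ[A] K n)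
    (hp : ∀ n, Function.Surjective (p n))
    (hpS : ∀ i n (x : H (n + 1)), p (n + 1) (T i (n + 1) x) = S i n (p n x)) : EG S := by
  obtain ⟨n₀, hn₀⟩ := hT
  refine ⟨n₀, fun n hn x => ?_⟩
  obtain ⟨x, rfl⟩ := hp (n + 1) x
  obtain ⟨y, rfl⟩ := hn₀ (n + 1) (by omega) x
  exact ⟨fun i => p n (y i), by rw [map_sum]; exact Finset.sum_congr rfl fun i _ => hpS i n (y i)⟩

/-- Iterating: everything in high degree comes from degree `n₀` by products of operators. -/
theorem EG.mem_span {P : ∀ n, Submodule A (H n)} {n₀ : ℕ}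
    (hn₀ : ∀ n, n₀ ≤ n → ∀ x : H (n + 1), ∃ y : ι → H n, x = ∑ i, T i n (y i))
    (h0 : P n₀ = ⊤) (hP : ∀ i n, n₀ ≤ n → ∀ x ∈ P n, T i n x ∈ P (n + 1)) :
    ∀ n, n₀ ≤ n → P n = ⊤ := fun n hn => by
  induction n, hn using Nat.le_induction with
  | base => exact h0
  | succ n hn ih =>
    refine Submodule.eq_top_iff'.2 fun x => ?_
    obtain ⟨y, rfl⟩ := hn₀ n hn x
    exact Submodule.sum_mem _ fun i _ => hP i n hn _ (ih ▸ trivial)

end Groth.Agent.Coherent
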