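import Groth.Agent.Coherent.InternalHomAdj
import Groth.Agent.Coherent.QcohOps
import Mathlib.Algebra.Category.ModuleCat.Presheaf.Submodule

/-!
# Internal Hom into an injective module is flasque
-/

set_option autoImplicit false
set_option backward.isDefEq.respectTransparency false

universe u

open CategoryTheory CategoryTheory.Limits AlgebraicGeometry Opposite TopologicalSpace
open Groth.Agent.Coherent Groth.Agent.PicLib Groth.Agent.AmpleLib

namespace Groth.Agent.Coherent

variable {X : Scheme.{u}}

/-- The sections vanishing outside the opens inside `U`. -/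
noncomputable def vanishOutside (F : X.Modules) (U : X.Opens) : PresheafOfModules.Submodule F.val where
  obj W :=
    { carrier := {s | ¬ W.unop ≤ U → s = 0}
      add_mem' := fun {a b} ha hb h => by rw [ha h, hb h, add_zero]
      zero_mem' := fun _ => rfl
      smul_mem' := fun r a ha h => by rw [ha h, smul_zero] }
  map {W W'} i s hs h := by
    rw [hs fun hW => h (i.unop.le.trans hW)]
    exact map_zero _

open Classical in
/-- A family on `U`, extended by zero. -/
noncomputable def evZero {F N : X.Modules} {U : X.Opens} (φ : locHom F N U) (W : X.Opens) :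
    Γ(F, W) →+ Γ(N, W) :=
  if h : W ≤ U then φ.1 W h else 0

theorem evZero_pos {F N : X.Modules} {U : X.Opens} (φ : locHom F N U) {W : X.Opens} (h : W ≤ U)
    (a : Γ(F, W)) : evZero φ W a = ev φ W h a := by
  rw [evZero, dif_pos h]
  rfl

/-- The map out of the sections vanishing outside. -/
noncomputable def vanishDesc {F N : X.Modules} {U : X.Opens} (φ : locHom F N U) :
    (vanishOutside F U).toPresheafOfModules ⟶ N.val :=
  PresheafOfModules.homMk
    { app := fun W => AddCommGrpCat.ofHom
        (AddMonoidHom.mk' (fun s => evZero φ W.unop s.1) fun s t => map_add (evZero φ W.unop) _ _)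
      naturality := fun W W' i => AddCommGrpCat.hom_ext (AddMonoidHom.ext fun s => by
        change evZero φ W'.unop (resM F (leOfHom i.unop) s.1) = resM N (leOfHom i.unop) (evZero φ W.unop s.1)
        by_cases h : W.unop ≤ U
        · rw [evZero_pos φ h, evZero_pos φ ((leOfHom i.unop).trans h), ev_res]
        · simp only [show (s.1 : Γ(F, W.unop)) = 0 from s.2 h, map_zero]) }
    (fun W r s => by
      change evZero φ W.unop ((show Γ(X, W.unop) from r) • (show Γ(F, W.unop) from s.1)) =
        (show Γ(X, W.unop) from r) • evZero φ W.unop (show Γ(F, W.unop) from s.1)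
      by_cases h : W.unop ≤ U
      · rw [evZero_pos φ h, evZero_pos φ h, ev_smul_arg]
      · simp only [show (s.1 : Γ(F, W.unop)) = 0 from s.2 h, smul_zero, map_zero])

/-- A family on `U` extends to a morphism into an injective module. -/
theorem exists_hom_extending (F I : X.Modules) [Injective I] {U : X.Opens} (φ : locHom F I U) :
    ∃ Ψ : F ⟶ I, ∀ (W : X.Opens) (h : W ≤ U) (a : Γ(F, W)), Ψ.app W a = ev φ W h a := by
  let L := PresheafOfModules.sheafification.{u} (𝟙 X.ringCatSheaf.obj)
  let adj := PresheafOfModules.sheafificationAdjunction.{u} (𝟙 X.ringCatSheaf.obj)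
  let ι : (vanishOutside F U).toPresheafOfModules ⟶ F.val := (vanishOutside F U).ι
  have hι : Mono ι := PresheafOfModules.mono_of_injective fun W a b h => Subtype.ext h
  have hL : Mono (L.map ι) := inferInstance
  have hm : Mono ((adj.homEquiv _ F).symm ι) := by
    rw [Adjunction.homEquiv_counit]
    exact mono_comp _ _
  obtain ⟨Ψ, hΨ⟩ := Injective.factors ((adj.homEquiv _ I).symm (vanishDesc φ)) ((adj.homEquiv _ F).symm ι)
  refine ⟨Ψ, fun W h a => ?_⟩
  have h1 : ι ≫ Ψ.val = vanishDesc φ := by
    have h2 := congrArg (adj.homEquiv _ I) hΨ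
    rw [Equiv.apply_symm_apply, Adjunction.homEquiv_naturality_right, Equiv.apply_symm_apply] at h2
    exact h2
  exact (ConcreteCategory.congr_hom (congrArg (fun t => PresheafOfModules.Hom.app t (op W)) h1)
    ⟨a, fun h' => absurd h h'⟩).trans (evZero_pos φ h a)

/-- Internal Hom into an injective module is flasque. -/
theorem surjective_resM_internalHom (F I : X.Modules) [Injective I] {U V : X.Opens} (h : U ≤ V) :
    Function.Surjective (resM (internalHom F I) h) := fun φ => by
  obtain ⟨Ψ, hΨ⟩ := exists_hom_extending F I (secHom φ)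
  refine ⟨(show locHom F I V from ⟨fun W _ => (Ψ.app W).hom,
    fun W _ r a => Scheme.Modules.Hom.app_smul Ψ r a,
    fun W W' _ h' a => (app_resM Ψ h' a).symm⟩), locHom_ext (φ := secHom _) (ψ := secHom φ) fun W hW a => hΨ W hW a⟩

end Groth.Agent.Coherent
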