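import Groth.Agent.Coherent.TwistSections
import Groth.Agent.Coherent.MonoCoh
import Groth.Agent.Coherent.CohModule
import Groth.Agent.ProjLib.ProjSpace
import Groth.Prelude.Def_Twist2

/-!
# `H^q(P^n_R, O(d))` by monomials
-/

set_option autoImplicit false

universe u

open CategoryTheory CategoryTheory.Abelian CategoryTheory.Limits AlgebraicGeometry Opposite
  TopologicalSpace

namespace Groth.Agent.Coherent

variable (n : ℕ) (R : Type u) [CommRing R]

local notation "𝒫" => CohB1.polyGrading n R

set_option backward.isDefEq.respectTransparency.types false in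
/-- Constants as global functions on projective space. -/
theorem val_toGlobal (r : R) (x : ProjectiveSpectrum (CohB1.polyGrading n R)) :
    HomogeneousLocalization.val (((CohB1.ProjSpace.toSpec n R).appTop
      ((Scheme.ΓSpecIso (CommRingCat.of R)).inv r) :
        Twist.O (𝒜 := CohB1.polyGrading n R) (op ⊤)).1 ⟨x, trivial⟩) =
      Localization.mk (MvPolynomial.C r) 1 := by
  have h2 : (Scheme.ΓSpecIso (CommRingCat.of R)).inv ≫
      (Spec.map (CommRingCat.ofHom (algebraMap R ↥(CohB1.polyGrading n R 0)))).appTop =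
      CommRingCat.ofHom (algebraMap R ↥(CohB1.polyGrading n R 0)) ≫
        (Scheme.ΓSpecIso (CommRingCat.of ↥(CohB1.polyGrading n R 0))).inv := by
    rw [Scheme.ΓSpecIso_inv_naturality]
  have h3 : (CohB1.ProjSpace.toSpec n R).appTop ((Scheme.ΓSpecIso (CommRingCat.of R)).inv r) =
      (Proj.toSpecZero (CohB1.polyGrading n R)).appTop
        ((Scheme.ΓSpecIso (CommRingCat.of ↥(CohB1.polyGrading n R 0))).inv (algebraMap R (CohB1.polyGrading n R 0) r)) :=
    congrArg (Proj.toSpecZero (CohB1.polyGrading n R)).appTop (ConcreteCategory.congr_hom h2 r)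
  refine (congrArg (fun z => HomogeneousLocalization.val (Subtype.val (p := _) (z : Twist.O (𝒜 := CohB1.polyGrading n R) (op ⊤)) ⟨x, trivial⟩)) h3).trans ?_
  unfold Proj.toSpecZero
  simp [Proj.basicOpenToSpec_app_top]
  have key : ∀ (V : (Proj (CohB1.polyGrading n R)).Opens) (hV : V = ⊤) (g : Proj (CohB1.polyGrading n R) ⟶ (V : Scheme.{u}))
      (_ : g ≫ V.ι = 𝟙 _) (s : Γ((Proj (CohB1.polyGrading n R)), V.ι ''ᵁ ⊤)),
      g.appTop s = (Proj (CohB1.polyGrading n R)).presheaf.map (eqToHom (hV.symm.trans V.ι_image_top.symm)).op s := by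
    intro V hV g hg s
    have hs : s = V.ι.appTop ((Proj (CohB1.polyGrading n R)).presheaf.map
        (eqToHom (hV.symm.trans V.ι_image_top.symm)).op s) := by
      exact (ConcreteCategory.congr_hom (((Proj (CohB1.polyGrading n R)).presheaf.map_comp _ _).symm.trans
        ((congrArg (Proj (CohB1.polyGrading n R)).presheaf.map (Subsingleton.elim _ (𝟙 _))).trans
          ((Proj (CohB1.polyGrading n R)).presheaf.map_id (op (V.ι ''ᵁ ⊤))))) s).symm
    conv_lhs => rw [hs]
    refine (ConcreteCategory.congr_hom (Scheme.Hom.comp_appTop g V.ι).symm _).trans ?_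
    rw [hg]
    rfl
  refine (congrArg (fun z => HomogeneousLocalization.val (Subtype.val (p := _) (z : Twist.O (𝒜 := CohB1.polyGrading n R) (op ⊤)) ⟨x, trivial⟩)) ((ConcreteCategory.congr_hom (Scheme.Hom.comp_appTop (Proj (CohB1.polyGrading n R)).topIso.inv ((Proj (CohB1.polyGrading n R)).isoOfEq (Proj.basicOpen_one (CohB1.polyGrading n R))).inv) _).symm.trans (key _ (Proj.basicOpen_one _) _ (by simp) _))).trans ?_
  exact val_fromZero (𝒜 := CohB1.polyGrading n R) 1 _ _

/-- Exponents of the monomials of degree `d`. -/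
abbrev Expo (d : ℤ) : Type := {e : Fin (n + 1) → ℤ // ∑ i, e i = d}

variable {n} {d : ℤ}

/-- The negative indices of an exponent. -/
def negSet (e : Expo n d) : Finset (Fin (n + 1)) := Finset.univ.filter fun i => e.1 i < 0

theorem mem_negSet {e : Expo n d} {i : Fin (n + 1)} : i ∈ negSet e ↔ e.1 i < 0 := by
  simp [negSet]

/-- Positive part of an exponent. -/
noncomputable def posExp (e : Expo n d) : Fin (n + 1) →₀ ℕ :=
  Finsupp.equivFunOnFinite.symm fun i => (e.1 i).toNat

/-- Negative part of an exponent. -/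
noncomputable def negExp (e : Expo n d) : Fin (n + 1) →₀ ℕ :=
  Finsupp.equivFunOnFinite.symm fun i => (-e.1 i).toNat

theorem posExp_apply (e : Expo n d) (i : Fin (n + 1)) : posExp e i = (e.1 i).toNat := rfl

theorem negExp_apply (e : Expo n d) (i : Fin (n + 1)) : negExp e i = (-e.1 i).toNat := rfl

/-- `k` times the indicator of `A`. -/
noncomputable def kInd (k : ℕ) (A : Finset (Fin (n + 1))) : Fin (n + 1) →₀ ℕ :=
  Finsupp.equivFunOnFinite.symm fun i => if i ∈ A then k else 0

theorem kInd_apply (k : ℕ) (A : Finset (Fin (n + 1))) (i : Fin (n + 1)) :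
    kInd k A i = if i ∈ A then k else 0 := rfl

theorem degree_eq_sum (μ : Fin (n + 1) →₀ ℕ) : μ.degree = ∑ i, μ i := by
  rw [Finsupp.degree_eq_sum]

theorem degree_kInd (k : ℕ) (A : Finset (Fin (n + 1))) : (kInd k A).degree = k * A.card := by
  rw [degree_eq_sum]
  simp [kInd_apply, Finset.sum_ite_mem, mul_comm]

theorem degree_posExp (e : Expo n d) :
    ((posExp e).degree : ℤ) = (negExp e).degree + d := by
  rw [degree_eq_sum, degree_eq_sum]
  have h : ∑ i, ((posExp e i : ℤ) - negExp e i) = ∑ i, e.1 i := Finset.sum_congr rfl fun i _ => by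
    rw [posExp_apply, negExp_apply]
    omega
  rw [Finset.sum_sub_distrib, e.2] at h
  push_cast
  linarith

variable (n)

/-- `D_+(X_i)`. -/
noncomputable abbrev DX (i : Fin (n + 1)) : Opens (ProjectiveSpectrum.top 𝒫) :=
  ProjectiveSpectrum.basicOpen 𝒫 (MvPolynomial.X i)

variable {n}

/-- Sections of `O(d)`. -/
abbrev TSec (d : ℤ) (V : Opens (ProjectiveSpectrum.top 𝒫)) : Type u :=
  ((Twist.twistPre 𝒫 d).obj (op V) : AddCommGrpCat.{u})

variable {R}

theorem monomial_mem_polyGrading (μ : Fin (n + 1) →₀ ℕ) (r : R) :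
    MvPolynomial.monomial μ r ∈ CohB1.polyGrading n R μ.degree :=
  MvPolynomial.isHomogeneous_monomial r rfl

theorem monomial_notMem {A : Finset (Fin (n + 1))} {μ : Fin (n + 1) →₀ ℕ}
    (hμ : ∀ i, μ i ≠ 0 → i ∈ A) {x : ProjectiveSpectrum.top 𝒫}
    (hx : x ∈ A.inf (DX n R)) :
    (MvPolynomial.monomial μ (1 : R)) ∈ x.asHomogeneousIdeal.toIdeal.primeCompl := by
  rw [MvPolynomial.monomial_eq, MvPolynomial.C_1, one_mul]
  refine Submonoid.prod_mem _ fun i hi => Submonoid.pow_mem _ ?_ _
  exact (Finset.inf_le (hμ i (Finsupp.mem_support_iff.1 hi)) :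
    A.inf (DX n R) ≤ DX n R i) hx

theorem negExp_ne_zero {e : Expo n d} {A : Finset (Fin (n + 1))} (h : negSet e ⊆ A)
    (i : Fin (n + 1)) (hi : negExp e i ≠ 0) : i ∈ A :=
  h (mem_negSet.2 (by rw [negExp_apply] at hi; omega))

/-- The section `r X^e` of `O(d)` on `D_A`. -/
noncomputable def monSec (d : ℤ) (A : Finset (Fin (n + 1))) (e : Expo n d) (h : negSet e ⊆ A) :
    R →+ TSec R d (A.inf (DX n R)) :=
  AddMonoidHom.mk' (fun r => fracSec d (A.inf (DX n R))
    ⟨MvPolynomial.monomial (posExp e) r, monomial_mem_polyGrading _ r⟩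
    ⟨MvPolynomial.monomial (negExp e) 1, monomial_mem_polyGrading _ 1⟩
    (fun x => monomial_notMem (negExp_ne_zero h) x.2) (degree_posExp e))
    fun a b => sectN_ext (d := d) fun _ =>
      ((congrArg (fun z => Localization.mk z _) (map_add (MvPolynomial.monomial (posExp e)) a b)).trans
        (Localization.add_mk_self _ _ _).symm)

/-- The sections of `O(d)` on `D_A` attached to finitely supported families. -/
noncomputable def monParam (d : ℤ) (A : Finset (Fin (n + 1))) :
    (Expo n d →₀ R) →+ TSec R d (A.inf (DX n R)) :=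
  Finsupp.liftAddHom fun e => if h : negSet e ⊆ A then monSec d A e h else 0

/-- Evaluation at a point. -/
noncomputable def evalSec {V : Opens (ProjectiveSpectrum.top 𝒫)} (x : V) :
    TSec R d V →+ Twist.Loc 𝒫 x.1 :=
  AddMonoidHom.mk' (fun s => (s.1 x).1) fun _ _ => rfl

theorem monSec_val {A : Finset (Fin (n + 1))} (e : Expo n d) (h : negSet e ⊆ A) (r : R)
    (x : (A.inf (DX n R) : Opens _)) {k : ℕ} {μ : Fin (n + 1) →₀ ℕ}
    (hμ : ∀ i, (μ i : ℤ) = e.1 i + kInd k A i)
    (hs : MvPolynomial.monomial (kInd k A) (1 : R) ∈ x.1.asHomogeneousIdeal.toIdeal.primeCompl) :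
    evalSec x (monSec d A e h r) = Localization.mk (MvPolynomial.monomial μ r) ⟨_, hs⟩ := by
  change Localization.mk (MvPolynomial.monomial (posExp e) r) _ = _
  refine Localization.mk_eq_mk_iff.2 (Localization.r_iff_exists.2 ⟨1, ?_⟩)
  simp only [OneMemClass.coe_one, one_mul, MvPolynomial.monomial_mul]
  congr 2
  ext i
  have := hμ i
  simp only [Finsupp.add_apply, posExp_apply, negExp_apply]
  omega

theorem eval_monParam {A : Finset (Fin (n + 1))} (m : Expo n d →₀ R)
    (hm : ∀ e ∈ m.support, negSet e ⊆ A) (x : (A.inf (DX n R) : Opens _)) {k : ℕ}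
    (μ : Expo n d → Fin (n + 1) →₀ ℕ)
    (hμ : ∀ e ∈ m.support, ∀ i, (μ e i : ℤ) = e.1 i + kInd k A i)
    (hs : MvPolynomial.monomial (kInd k A) (1 : R) ∈ x.1.asHomogeneousIdeal.toIdeal.primeCompl) :
    evalSec x (monParam d A m) =
      Localization.mk (m.sum fun e r => MvPolynomial.monomial (μ e) r) ⟨_, hs⟩ := by
  rw [monParam, Finsupp.liftAddHom_apply, map_finsuppSum, Finsupp.sum, Finsupp.sum]
  simp only [Localization.mk_eq_mk', IsLocalization.mk'_eq_mul_mk'_one (M := x.1.asHomogeneousIdeal.toIdeal.primeCompl) (∑ e ∈ m.support, _),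
    map_sum, Finset.sum_mul]
  refine Finset.sum_congr rfl fun e he => ?_
  rw [dif_pos (hm e he), monSec_val e (hm e he) (m e) x (hμ e he) hs, Localization.mk_eq_mk',
    IsLocalization.mk'_eq_mul_mk'_one]

theorem inf_DX_eq (A : Finset (Fin (n + 1))) :
    A.inf (DX n R) = ProjectiveSpectrum.basicOpen 𝒫 (MvPolynomial.monomial (kInd 1 A) (1 : R)) := by
  induction A using Finset.induction with
  | empty =>
    rw [Finset.inf_empty, show kInd 1 (∅ : Finset (Fin (n + 1))) = 0 from
      Finsupp.ext fun i => by simp [kInd_apply]]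
    exact (ProjectiveSpectrum.basicOpen_one 𝒫).symm
  | insert a s ha ih =>
    rw [Finset.inf_insert, ih, show kInd 1 (insert a s) = Finsupp.single a 1 + kInd 1 s from
      Finsupp.ext fun i => by
        rcases eq_or_ne a i with rfl | h
        · simp [kInd_apply, ha]
        · simp [kInd_apply, h.symm], ← mul_one (1 : R), ← MvPolynomial.monomial_mul, mul_one]
    exact (ProjectiveSpectrum.basicOpen_mul 𝒫 _ _).symm

theorem monomial_kInd (k : ℕ) (A : Finset (Fin (n + 1))) :
    MvPolynomial.monomial (kInd k A) (1 : R) = MvPolynomial.monomial (kInd 1 A) (1 : R) ^ k := by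
  rw [MvPolynomial.monomial_pow, one_pow]
  congr 2
  ext i
  simp [kInd_apply]

theorem kInd_ne_zero {k : ℕ} {A : Finset (Fin (n + 1))} (i : Fin (n + 1)) (hi : kInd k A i ≠ 0) :
    i ∈ A := by
  by_contra h
  exact hi (by simp [kInd_apply, h])

theorem exists_factor {A : Finset (Fin (n + 1))} {a : Fin (n + 1)} (ha : a ∈ A) :
    ∃ f' : MvPolynomial (Fin (n + 1)) R, f' ∈ CohB1.polyGrading n R (A.card - 1) ∧
      MvPolynomial.monomial (kInd 1 A) (1 : R) = MvPolynomial.X a * f' := by
  refine ⟨MvPolynomial.monomial (kInd 1 (A.erase a)) 1, ?_, ?_⟩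
  · have := monomial_mem_polyGrading (kInd 1 (A.erase a)) (1 : R)
    rwa [degree_kInd, one_mul, Finset.card_erase_of_mem ha] at this
  · rw [MvPolynomial.X, MvPolynomial.monomial_mul, one_mul]
    congr 2
    ext i
    rcases eq_or_ne a i with rfl | h
    · simp [kInd_apply, ha]
    · simp [kInd_apply, h.symm]

theorem monParam_injective {A : Finset (Fin (n + 1))} (hA : A.Nonempty) (m : Expo n d →₀ R)
    (hm : ∀ e ∈ m.support, negSet e ⊆ A) (h0 : monParam d A m = 0) : m = 0 := by
  classical
  obtain ⟨a, ha⟩ := hA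
  obtain ⟨f', hf', hf⟩ := exists_factor (R := R) ha
  let k := m.support.sup fun e => (negExp e).degree
  let μ : Expo n d → Fin (n + 1) →₀ ℕ := fun e =>
    Finsupp.equivFunOnFinite.symm fun i => (e.1 i + kInd k A i).toNat
  have hμ : ∀ e ∈ m.support, ∀ i, (μ e i : ℤ) = e.1 i + kInd k A i := by
    intro e he i
    change (((e.1 i + kInd k A i).toNat : ℕ) : ℤ) = _
    refine Int.toNat_of_nonneg ?_
    by_cases hi : e.1 i < 0
    · have h₁ : negExp e i ≤ k := (negExp e).le_degree i |>.trans
        (Finset.le_sup (f := fun e => (negExp e).degree) he)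
      rw [kInd_apply, if_pos (hm e he (mem_negSet.2 hi))]
      rw [negExp_apply] at h₁
      omega
    · omega
  let P := m.sum fun e r => MvPolynomial.monomial (μ e) r
  have hdeg : ∀ e ∈ m.support, ((μ e).degree : ℤ) = k * (((A.card - 1) + 1 : ℕ) : ℤ) + d := by
    intro e he
    rw [degree_eq_sum, Nat.cast_sum, Finset.sum_congr rfl fun i _ => hμ e he i,
      Finset.sum_add_distrib, e.2, ← Nat.cast_sum, ← degree_eq_sum, degree_kInd,
      Nat.sub_add_cancel (Finset.card_pos.2 ⟨a, ha⟩)]
    push_cast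
    ring
  rcases m.support.eq_empty_or_nonempty with hem | ⟨e₀, he₀⟩
  · exact Finsupp.support_eq_empty.1 hem
  have hP : P ∈ CohB1.polyGrading n R (μ e₀).degree := by
    refine Submodule.sum_mem _ fun e he => ?_
    have := monomial_mem_polyGrading (R := R) (μ e) (m e)
    rwa [show (μ e).degree = (μ e₀).degree by
      exact_mod_cast (hdeg e he).trans (hdeg e₀ he₀).symm] at this
  obtain ⟨l, hl⟩ := exists_pow_mul_eq_zero_of_frac (ProjLib.X_mem_polyGrading n R a) d hf' hf
    ⟨P, hP⟩ (k := k) (by exact_mod_cast hdeg e₀ he₀) (fun x => by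
      have hxA : x.1 ∈ A.inf (DX n R) := (inf_DX_eq A).ge x.2
      have hs := monomial_notMem (R := R) (μ := kInd k A) kInd_ne_zero hxA
      have := eval_monParam m hm ⟨x.1, hxA⟩ μ hμ hs
      rw [h0, map_zero] at this
      refine Eq.trans ?_ this.symm
      congr 2
      exact (monomial_kInd k A).symm)
  rw [← monomial_kInd] at hl
  ext e
  by_contra he
  have he' : e ∈ m.support := Finsupp.mem_support_iff.2 he
  have := congrArg (MvPolynomial.coeff (kInd l A + μ e)) hl
  rw [MvPolynomial.coeff_monomial_mul, one_mul, MvPolynomial.coeff_zero] at this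
  refine he ?_
  simp only [P, Finsupp.sum, MvPolynomial.coeff_sum, MvPolynomial.coeff_monomial] at this
  rw [Finset.sum_eq_single e, if_pos rfl] at this
  · exact this
  · intro b hb hbe
    refine if_neg fun heq => hbe (Subtype.ext (funext fun i => ?_))
    have h₁ := hμ b hb i
    have h₂ := hμ e he' i
    rw [heq] at h₁
    omega
  · exact fun h => absurd he' h

theorem exists_frac_of_eq {A : Finset (Fin (n + 1))} (hA : A.Nonempty)
    (V : Opens (ProjectiveSpectrum.top 𝒫))
    (hV : V = ProjectiveSpectrum.basicOpen 𝒫 (MvPolynomial.monomial (kInd 1 A) (1 : R)))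
    (s : Twist.sectN (𝒜 := 𝒫) d (op V)) :
    ∃ (k : ℕ) (P : MvPolynomial (Fin (n + 1)) R),
      (∀ μ ∈ P.support, (μ.degree : ℤ) = k * A.card + d) ∧
      ∀ (x : V) (hs : MvPolynomial.monomial (kInd k A) (1 : R) ∈
        x.1.asHomogeneousIdeal.toIdeal.primeCompl),
        (s.1 x).1 = Localization.mk P ⟨_, hs⟩ := by
  subst hV
  obtain ⟨a, ha⟩ := hA
  obtain ⟨f', hf', hf⟩ := exists_factor (R := R) ha
  obtain ⟨k, i, P, hi, hP⟩ := exists_frac_basicOpen (ProjLib.X_mem_polyGrading n R a) d hf' hf s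
  refine ⟨k, P.1, fun μ hμ => ?_, fun x hs => (hP x).trans ?_⟩
  · have h₁ : μ.degree = i := by
      have := P.2 (MvPolynomial.mem_support_iff.1 hμ)
      rwa [Finsupp.degree_eq_weight_one]
    have h₂ : 0 < A.card := Finset.card_pos.2 ⟨a, ha⟩
    rw [h₁, hi, show ((A.card - 1 : ℕ) : ℤ) + 1 = A.card by omega]
  · congr 2
    exact (monomial_kInd k A).symm

theorem monParam_surjective {A : Finset (Fin (n + 1))} (hA : A.Nonempty)
    (s : TSec R d (A.inf (DX n R))) :
    ∃ m : Expo n d →₀ R, (∀ e ∈ m.support, negSet e ⊆ A) ∧ monParam d A m = s := by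
  classical
  obtain ⟨k, P, hdeg, hP⟩ := exists_frac_of_eq hA _ (inf_DX_eq A) s
  have hsum : ∀ μ ∈ P.support, ∑ i, ((μ i : ℤ) - kInd k A i) = d := fun μ hμ => by
    rw [Finset.sum_sub_distrib, ← Nat.cast_sum, ← Nat.cast_sum, ← degree_eq_sum, ← degree_eq_sum,
      hdeg μ hμ, degree_kInd]
    push_cast
    ring
  let ex : {μ // μ ∈ P.support} → Expo n d := fun μ =>
    ⟨fun i => (μ.1 i : ℤ) - kInd k A i, hsum μ.1 μ.2⟩
  have hex : Function.Injective ex := fun μ ν h => Subtype.ext (Finsupp.ext fun i => by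
    have := congrFun (congrArg Subtype.val h) i
    simp only [ex, sub_left_inj, Nat.cast_inj] at this
    exact this)
  have hneg : ∀ μ, negSet (ex μ) ⊆ A := fun μ i hi => by
    refine kInd_ne_zero (k := k) i ?_
    have := mem_negSet.1 hi
    change (μ.1 i : ℤ) - kInd k A i < 0 at this
    omega
  let m : Expo n d →₀ R := ∑ μ : {μ // μ ∈ P.support}, Finsupp.single (ex μ) (P.coeff μ.1)
  have hm : ∀ e ∈ m.support, negSet e ⊆ A := fun e he => by
    obtain ⟨μ, -, hμ⟩ := Finset.mem_biUnion.1 (Finsupp.support_finsetSum he)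
    obtain rfl := Finset.mem_singleton.1 (Finsupp.support_single_subset hμ)
    exact hneg μ
  refine ⟨m, hm, sectN_ext (d := d) fun x => ?_⟩
  have hs := monomial_notMem (R := R) (μ := kInd k A) kInd_ne_zero x.2
  refine Eq.trans ?_ (hP x hs).symm
  change evalSec x (monParam d A (∑ μ : {μ // μ ∈ P.support}, _)) = _
  rw [map_sum, map_sum]
  conv_rhs => rw [P.as_sum, ← Finset.sum_coe_sort P.support
    (fun μ => MvPolynomial.monomial μ (P.coeff μ)), Localization.mk_eq_mk',
    IsLocalization.mk'_eq_mul_mk'_one, map_sum, Finset.sum_mul]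
  refine Finset.sum_congr rfl fun μ _ => ?_
  rw [monParam, Finsupp.liftAddHom_apply_single, dif_pos (hneg μ),
    monSec_val (ex μ) (hneg μ) _ x (μ := μ.1) (fun i => by simp [ex]) hs, Localization.mk_eq_mk',
    IsLocalization.mk'_eq_mul_mk'_one]

theorem evalSec_monParam_of_subset {A B : Finset (Fin (n + 1))} (h : A ⊆ B) (m : Expo n d →₀ R)
    (hm : ∀ e ∈ m.support, negSet e ⊆ A) (x : (B.inf (DX n R) : Opens _))
    (hxA : x.1 ∈ A.inf (DX n R)) :
    evalSec (⟨x.1, hxA⟩ : (A.inf (DX n R) : Opens _)) (monParam d A m) =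
      evalSec x (monParam d B m) := by
  rw [monParam, monParam, Finsupp.liftAddHom_apply, Finsupp.liftAddHom_apply, map_finsuppSum,
    map_finsuppSum]
  refine Finset.sum_congr rfl fun e he => ?_
  dsimp only
  rw [dif_pos (hm e he), dif_pos ((hm e he).trans h)]
  rfl

theorem C_mul_evalSec_monParam {A : Finset (Fin (n + 1))} (r : R) (m : Expo n d →₀ R)
    (hm : ∀ e ∈ m.support, negSet e ⊆ A) (x : (A.inf (DX n R) : Opens _)) :
    Localization.mk (MvPolynomial.C r) 1 * evalSec x (monParam d A m) =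
      evalSec x (monParam d A (r • m)) := by
  have h0 : ∀ e : Expo n d, evalSec x
      ((if h : negSet e ⊆ A then monSec (R := R) d A e h else 0) 0) = 0 := fun e => by
    rw [map_zero, map_zero]
  rw [monParam, Finsupp.liftAddHom_apply, Finsupp.liftAddHom_apply, map_finsuppSum, map_finsuppSum,
    Finsupp.sum_smul_index h0, Finsupp.sum, Finsupp.sum, Finset.mul_sum]
  refine Finset.sum_congr rfl fun e he => ?_
  rw [dif_pos (hm e he)]
  change Localization.mk (MvPolynomial.C r) 1 * Localization.mk _ _ = Localization.mk _ _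
  rw [Localization.mk_mul, one_mul, MvPolynomial.C_mul_monomial]

variable (n R) (d)

/-- The monomial description of the cohomology of `O(d)`. -/
noncomputable def projSpaceMonoData :
    MonoData (X := (CohB1.ProjSpace n R).toTopCat) (Coh.toAb (Twist.twistProjSpace n R d))
      (fun i => (DX n R i : (CohB1.ProjSpace n R).Opens)) R (negSet (n := n) (d := d)) where
  θ A := (secH (X := (CohB1.ProjSpace n R).toTopCat) (Coh.toAb (Twist.twistProjSpace n R d))
    (A.inf fun i => (DX n R i : (CohB1.ProjSpace n R).Opens))).symm.toAddMonoidHom.comp (monParam d A)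
  compat A B hA h m hm := by
    refine (secH (X := (CohB1.ProjSpace n R).toTopCat) _ _).injective ?_
    refine (secH_resH (X := (CohB1.ProjSpace n R).toTopCat) _ _).trans ?_
    refine (congrArg _ (AddEquiv.apply_symm_apply _ _)).trans ?_
    refine Eq.trans ?_ (AddEquiv.apply_symm_apply _ _).symm
    refine sectN_ext (d := d) fun x => ?_
    exact evalSec_monParam_of_subset h m hm x ((Finset.inf_mono h : B.inf (DX n R) ≤ A.inf (DX n R)) x.2)
  inj A hA m hm h0 := monParam_injective hA m hm
    ((secH (X := (CohB1.ProjSpace n R).toTopCat) (Coh.toAb (Twist.twistProjSpace n R d)) _).symm.injective (h0.trans (map_zero _).symm))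
  surj A hA z := by
    obtain ⟨m, hm, hms⟩ := monParam_surjective hA
      (secH (X := (CohB1.ProjSpace n R).toTopCat) (Coh.toAb (Twist.twistProjSpace n R d)) _ z)
    exact ⟨m, hm, (congrArg _ hms).trans (AddEquiv.symm_apply_apply _ z)⟩
  acyclic A hA q x := by
    have : Coh.IsQCoh (Twist.twistProjSpace n R d) :=
      isQCoh_twist (fun i : ULift.{u} (Fin (n + 1)) => MvPolynomial.X i.down)
        (fun i => ProjLib.X_mem_polyGrading n R i.down)
        (top_unique fun x hx => by
          obtain ⟨i, hi⟩ := TopologicalSpace.Opens.mem_iSup.1 ((ProjLib.iSup_basicOpen_X n R).ge hx)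
          exact TopologicalSpace.Opens.mem_iSup.2 ⟨ULift.up i, hi⟩) d
    have haff : IsAffineOpen (X := CohB1.ProjSpace n R) (A.inf (DX n R)) := by
      have hpos : 0 < (kInd 1 A).degree := by rw [degree_kInd, one_mul]; exact hA.card_pos
      exact Eq.mpr (congrArg (IsAffineOpen (X := CohB1.ProjSpace n R)) (inf_DX_eq A))
        (Proj.isAffineOpen_basicOpen 𝒫 _ (monomial_mem_polyGrading _ 1) hpos)
    exact (subsingleton_H'_qcoh_pos (Twist.twistProjSpace n R d) haff q.succ_pos).elim x 0
  act r := smulEndAb (Twist.twistProjSpace n R d) (Coh.toGlobal (CohB1.ProjSpace.toSpec n R) r)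
  act_θ A hA r m hm := by
    refine (secH (X := (CohB1.ProjSpace n R).toTopCat) _ _).injective ?_
    refine (secH_postH (X := (CohB1.ProjSpace n R).toTopCat) _ _ _).trans ?_
    refine (congrArg _ (AddEquiv.apply_symm_apply _ _)).trans ?_
    refine Eq.trans ?_ (AddEquiv.apply_symm_apply _ _).symm
    refine sectN_ext (d := d) fun x => ?_
    refine (Twist.coe_smul_val d x.1 _ _).trans ?_
    refine (congrArg (· * _) (val_toGlobal n R r x.1)).trans ?_
    exact C_mul_evalSec_monParam r m hm x

end Groth.Agent.Coherent
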