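import Groth.Agent.Coherent.TwistSections
import Groth.Prelude.Def_ega3

/-! Constants as global functions on `Proj` of a graded algebra. -/

set_option autoImplicit false
set_option linter.unusedSectionVars false
set_option backward.isDefEq.respectTransparency.types false

universe u

open CategoryTheory AlgebraicGeometry Opposite TopologicalSpace

namespace Groth.Agent.Coherent

variable {R S : Type u} [CommRing R] [CommRing S] [Algebra R S] (𝒜 : ℕ → Submodule R S) [GradedAlgebra 𝒜]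

theorem val_toGlobal_proj (a : R) (x : ProjectiveSpectrum 𝒜) :
    HomogeneousLocalization.val (((Coh.toGlobal ((Proj 𝒜) ↘ Spec (CommRingCat.of R)) a :
        Twist.O (𝒜 := 𝒜) (op ⊤))).1 ⟨x, trivial⟩) =
      Localization.mk (algebraMap R S a) 1 := by
  have h2 : (Scheme.ΓSpecIso (CommRingCat.of R)).inv ≫
      (Spec.map (CommRingCat.ofHom (algebraMap R ↥(𝒜 0)))).appTop =
      CommRingCat.ofHom (algebraMap R ↥(𝒜 0)) ≫ (Scheme.ΓSpecIso (CommRingCat.of ↥(𝒜 0))).inv := by
    rw [Scheme.ΓSpecIso_inv_naturality]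
  have h3 : Coh.toGlobal ((Proj 𝒜) ↘ Spec (CommRingCat.of R)) a =
      (Proj.toSpecZero 𝒜).appTop
        ((Scheme.ΓSpecIso (CommRingCat.of ↥(𝒜 0))).inv (algebraMap R (𝒜 0) a)) :=
    congrArg (Proj.toSpecZero 𝒜).appTop (ConcreteCategory.congr_hom h2 a)
  refine (congrArg (fun z => HomogeneousLocalization.val (Subtype.val (p := _) (z : Twist.O (𝒜 := 𝒜) (op ⊤)) ⟨x, trivial⟩)) h3).trans ?_
  unfold Proj.toSpecZero
  simp [Proj.basicOpenToSpec_app_top]
  have key : ∀ (V : (Proj 𝒜).Opens) (hV : V = ⊤) (g : Proj 𝒜 ⟶ (V : Scheme.{u}))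
      (_ : g ≫ V.ι = 𝟙 _) (s : Γ((Proj 𝒜), V.ι ''ᵁ ⊤)),
      g.appTop s = (Proj 𝒜).presheaf.map (eqToHom (hV.symm.trans V.ι_image_top.symm)).op s := by
    intro V hV g hg s
    have hs : s = V.ι.appTop ((Proj 𝒜).presheaf.map
        (eqToHom (hV.symm.trans V.ι_image_top.symm)).op s) := by
      exact (ConcreteCategory.congr_hom (((Proj 𝒜).presheaf.map_comp _ _).symm.trans
        ((congrArg (Proj 𝒜).presheaf.map (Subsingleton.elim _ (𝟙 _))).trans
          ((Proj 𝒜).presheaf.map_id (op (V.ι ''ᵁ ⊤))))) s).symm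
    conv_lhs => rw [hs]
    refine (ConcreteCategory.congr_hom (Scheme.Hom.comp_appTop g V.ι).symm _).trans ?_
    rw [hg]
    rfl
  refine (congrArg (fun z => HomogeneousLocalization.val (Subtype.val (p := _) (z : Twist.O (𝒜 := 𝒜) (op ⊤)) ⟨x, trivial⟩)) ((ConcreteCategory.congr_hom (Scheme.Hom.comp_appTop (Proj 𝒜).topIso.inv ((Proj 𝒜).isoOfEq (Proj.basicOpen_one 𝒜)).inv) _).symm.trans (key _ (Proj.basicOpen_one _) _ (by simp) _))).trans ?_
  exact val_fromZero (𝒜 := 𝒜) 1 _ _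

end Groth.Agent.Coherent
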