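import Groth.Agent.Coherent.GeomConnected
import Groth.Agent.Coherent.Stein
import Groth.Agent.Coherent.SteinFibre
import Groth.Agent.Coherent.SteinIntClosure
import Groth.Agent.DVRDom.Basic

/-!
# Geometric connectedness of fibres of universally open morphisms

If every component of every dominant base change dominates the base and the algebraic closure of `R(Y)` in `R(X)`
is purely inseparable, then the finite part of the Stein factorisation is radicial: test it on a
normal local ring dominating the point, where every point is a specialisation of a generic one.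
-/

set_option autoImplicit false
set_option backward.isDefEq.respectTransparency false

universe u

open CategoryTheory CategoryTheory.Limits AlgebraicGeometry TopologicalSpace

namespace Groth.Agent.Coherent

/-- Two morphisms from a scheme with one point into an affine open agree if they agree on sections. -/
theorem eq_of_appLE_eq {T Z : Scheme.{u}} [IsAffine T] (t₁ t₂ : T ⟶ Z) {W : Z.Opens}
    (hW : IsAffineOpen W) (h₁ : (⊤ : T.Opens) ≤ t₁ ⁻¹ᵁ W) (h₂ : (⊤ : T.Opens) ≤ t₂ ⁻¹ᵁ W)
    (h : t₁.appLE W ⊤ h₁ = t₂.appLE W ⊤ h₂) : t₁ = t₂ := by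
  have e₁ := IsAffineOpen.SpecMap_appLE_fromSpec t₁ hW (isAffineOpen_top T) h₁
  have e₂ := IsAffineOpen.SpecMap_appLE_fromSpec t₂ hW (isAffineOpen_top T) h₂
  rw [h, e₂, IsAffineOpen.fromSpec_top, cancel_epi] at e₁
  exact e₁.symm

/-- A noetherian normal local domain dominating a point of an integral scheme. -/
theorem exists_normal_dominating {Y : Scheme.{u}} [AlgebraicGeometry.IsIntegral Y] [IsLocallyNoetherian Y]
    (y : Y) :
    ∃ (R : Type u) (_ : CommRing R) (_ : IsDomain R) (_ : IsNoetherianRing R)
      (_ : IsIntegrallyClosed R) (_ : IsLocalRing R) (g : Spec (CommRingCat.of R) ⟶ Y),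
      g (IsLocalRing.closedPoint R) = y ∧
      g (genericPoint (Spec (CommRingCat.of R))) = genericPoint Y := by
  have hkey : ∀ (R : Type u) [CommRing R] [IsDomain R] [IsLocalRing R]
      (ψ : Y.presheaf.stalk y →+* R), Function.Injective ψ → IsLocalHom ψ →
      (Spec.map (CommRingCat.ofHom ψ) ≫ Y.fromSpecStalk y) (IsLocalRing.closedPoint R) = y ∧
      (Spec.map (CommRingCat.ofHom ψ) ≫ Y.fromSpecStalk y)
        (genericPoint (Spec (CommRingCat.of R))) = genericPoint Y := by
    intro R _ _ _ ψ hψ _
    refine ⟨?_, ?_⟩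
    · rw [Scheme.Hom.comp_apply]
      have : Spec.map (CommRingCat.ofHom ψ) (IsLocalRing.closedPoint R) =
          IsLocalRing.closedPoint (Y.presheaf.stalk y) := IsLocalRing.comap_closedPoint ψ
      exact (congrArg (Y.fromSpecStalk y) this).trans Scheme.fromSpecStalk_closedPoint
    · rw [Scheme.Hom.comp_apply]
      obtain ⟨q, hq⟩ : genericPoint Y ∈ Set.range (Y.fromSpecStalk y) := by
        rw [Scheme.range_fromSpecStalk]; exact genericPoint_specializes y
      have h0 : Spec.map (CommRingCat.ofHom ψ) (genericPoint (Spec (CommRingCat.of R))) ⤳ q := by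
        rw [← PrimeSpectrum.le_iff_specializes, genericPoint_eq_bot_of_affine]
        intro x hx
        have hx' : ψ x = 0 := hx
        rw [← map_zero ψ] at hx'
        rw [hψ hx']
        exact q.asIdeal.zero_mem
      have h1 := h0.map (Y.fromSpecStalk y).continuous
      rw [hq] at h1
      exact (h1.antisymm (genericPoint_specializes _)).eq
  by_cases hF : IsField (Y.presheaf.stalk y)
  · have : IsIntegrallyClosed (Y.presheaf.stalk y) :=
      let _ := hF.toField
      inferInstance
    exact ⟨Y.presheaf.stalk y, inferInstance, inferInstance, inferInstance, this, inferInstance, _,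
      hkey (Y.presheaf.stalk y) (RingHom.id _) Function.injective_id inferInstance⟩
  · obtain ⟨R, _, _, _, ψ, hψ, hψl⟩ := DVRDom.exists_dvr (Y.presheaf.stalk y) hF
    exact ⟨R, inferInstance, inferInstance, inferInstance, inferInstance, inferInstance, _,
      hkey R ψ hψ hψl⟩

variable {X Y : Scheme.{u}} [AlgebraicGeometry.IsIntegral X] [AlgebraicGeometry.IsIntegral Y]
  [IsLocallyNoetherian Y] (f : X ⟶ Y) [IsProper f]

omit [AlgebraicGeometry.IsIntegral X] [AlgebraicGeometry.IsIntegral Y] in
set_option maxHeartbeats 400000 in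
/-- On the base change of the Stein scheme to a domain, torsion sections have empty nonvanishing locus,
provided every component of the base change of `X` is dominant. -/
theorem not_mem_basicOpen_of_torsion (R : Type u) [CommRing R] [IsDomain R]
    (g : Spec (CommRingCat.of R) ⟶ Y)
    (hdense : ∀ Z ∈ irreducibleComponents ↥(pullback f g), Dense ((pullback.snd f g).base '' Z))
    (b : Γ(Spec (CommRingCat.of R), ⊤)) (hb : b ≠ 0) (e : Γ(pullback f.fromNormalization g, ⊤))
    (he : (pullback.snd f.fromNormalization g).appTop b * e = 0)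
    (x₀ : ↥(pullback f.fromNormalization g)) :
    x₀ ∉ (pullback f.fromNormalization g).basicOpen e := by
  let ν := f.fromNormalization
  intro hx
  obtain ⟨a₀, ha₀⟩ := surjective_toNormalization f (pullback.fst ν g x₀)
  obtain ⟨z, hz₁, hz₂⟩ := Scheme.Pullback.exists_preimage_pullback (f := f.toNormalization)
    (g := pullback.fst ν g) a₀ x₀ ha₀
  let em : pullback f.toNormalization (pullback.fst ν g) ⟶ pullback f g :=
    (pullbackRightPullbackFstIso ν g f.toNormalization).hom ≫
      (pullback.congrHom f.toNormalization_fromNormalization rfl).hom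
  let h : pullback f g ⟶ pullback ν g := pullback.lift (pullback.fst f g ≫ f.toNormalization)
    (pullback.snd f g) (by rw [Category.assoc, f.toNormalization_fromNormalization, pullback.condition])
  have heh : em ≫ h = pullback.snd f.toNormalization (pullback.fst ν g) := by
    apply pullback.hom_ext
    · simp only [em, h, Category.assoc, pullback.lift_fst, pullback.congrHom_hom,
        pullback.lift_fst_assoc, Category.comp_id]
      exact (pullbackRightPullbackFstIso_hom_fst_assoc ν g f.toNormalization _).trans pullback.condition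
    · simp only [em, h, Category.assoc, pullback.lift_snd, pullback.congrHom_hom, Category.comp_id]
      exact pullbackRightPullbackFstIso_hom_snd ν g f.toNormalization
  let z' := em z
  have hz' : h z' = x₀ := by
    show h (em z) = x₀
    rw [← Scheme.Hom.comp_apply, heh]
    exact hz₂
  obtain ⟨ζ, hζ⟩ := QuasiSober.sober (α := ↥(pullback f g)) (S := irreducibleComponent z')
    isIrreducible_irreducibleComponent isClosed_irreducibleComponent
  have hζz : ζ ⤳ z' := hζ.specializes mem_irreducibleComponent
  have hbot : pullback.snd f g ζ = genericPoint (Spec (CommRingCat.of R)) := by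
    refine ((genericPoint_spec (Spec (CommRingCat.of R))).eq ?_).symm
    rw [isGenericPoint_def]
    refine Set.eq_univ_of_univ_subset ?_
    rw [← (hdense _ (irreducibleComponent_mem_irreducibleComponents z')).closure_eq]
    refine closure_minimal ?_ isClosed_closure
    rintro _ ⟨w, hw, rfl⟩
    exact specializes_iff_mem_closure.mp ((hζ.specializes hw).map (pullback.snd f g).continuous)
  have hsnd : pullback.snd ν g (h ζ) = genericPoint (Spec (CommRingCat.of R)) := by
    rw [← Scheme.Hom.comp_apply, pullback.lift_snd, hbot]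
  have h1 : h ζ ∈ (pullback ν g).basicOpen e :=
    (hz' ▸ hζz.map h.continuous : h ζ ⤳ x₀).mem_open ((pullback ν g).basicOpen e).2 hx
  have h2 : h ζ ∈ (pullback ν g).basicOpen ((pullback.snd ν g).appTop b) := by
    rw [← Scheme.preimage_basicOpen_top]
    show pullback.snd ν g (h ζ) ∈ (Spec (CommRingCat.of R)).basicOpen b
    rw [hsnd]
    refine ((genericPoint_spec (Spec (CommRingCat.of R))).mem_open_set_iff
      ((Spec (CommRingCat.of R)).basicOpen b).2).mpr ?_
    simp only [Set.univ_inter]
    exact Set.nonempty_iff_ne_empty.mpr fun he' => hb ((basicOpen_eq_bot_iff b).mp (Opens.ext he'))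
  have h3 : h ζ ∈ (pullback ν g).basicOpen ((pullback.snd ν g).appTop b * e) := by
    rw [Scheme.basicOpen_mul]; exact ⟨h2, h1⟩
  rw [show (pullback.snd ν g).appTop b * e = 0 from he, Scheme.basicOpen_zero] at h3
  exact h3

variable (hdom : f.base (genericPoint X) ⤳ genericPoint Y)

set_option maxHeartbeats 400000 in
/-- A power of a section of the Stein scheme becomes a fraction of sections of the base, which is
integral in every normal domain dominating the base. -/
theorem exists_pow_fraction
    (hrad : ∀ x : X.functionField,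
      (∃ q : Polynomial Y.functionField, q ≠ 0 ∧
        Polynomial.eval₂ (CohIII.stalkToFunctionField f (genericPoint Y) hdom) x q = 0) →
      ∃ e : ℕ, x ^ (ringExpChar X.functionField ^ e) ∈
        Set.range (CohIII.stalkToFunctionField f (genericPoint Y) hdom))
    (R : Type u) [CommRing R] [IsDomain R] [IsIntegrallyClosed R]
    (U : Y.Opens) (hU : IsAffineOpen U) (hgU : genericPoint Y ∈ U)
    (ρ : Γ(Y, U) →+* R) (hρ : Function.Injective ρ)
    (c : Γ(f.normalization, f.fromNormalization ⁻¹ᵁ U)) :
    ∃ (n : ℕ) (a s : Γ(Y, U)) (r : R), ρ s ≠ 0 ∧ ρ s * r = ρ a ∧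
      f.fromNormalization.app U s * c ^ (ringExpChar X.functionField ^ n) =
        f.fromNormalization.app U a := by
  have : Nonempty U := ⟨⟨_, hgU⟩⟩
  have := functionField_isFractionRing_of_isAffineOpen Y U hU
  let γ : Γ(Y, U) →+* Y.functionField := (Y.presheaf.germ U (genericPoint Y) hgU).hom
  let ν := f.fromNormalization
  have hgX : genericPoint X ∈ f ⁻¹ᵁ U := hdom.mem_open U.2 hgU
  have hgX' : genericPoint X ∈ f.toNormalization ⁻¹ᵁ (ν ⁻¹ᵁ U) := by
    show ν (f.toNormalization (genericPoint X)) ∈ U
    rw [← Scheme.Hom.comp_apply, f.toNormalization_fromNormalization]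
    exact hgX
  let σ := CohIII.stalkToFunctionField f (genericPoint Y) hdom
  let emb : Γ(f.normalization, ν ⁻¹ᵁ U) →+* X.functionField :=
    (X.presheaf.germ _ (genericPoint X) hgX').hom.comp (f.toNormalization.app (ν ⁻¹ᵁ U)).hom
  have hemb : Function.Injective emb :=
    (germ_injective_of_isIntegral X _ hgX').comp
      (bijective_toNormalization_app_preimage f ⟨U, hU⟩).1
  have hσ : ∀ a, σ (γ a) = emb (ν.app U a) := fun a => by
    refine (stalkToFF_germ_apply f _ hdom U hgU hgX a).trans ?_
    show _ = X.presheaf.germ _ _ hgX' (f.toNormalization.app (ν ⁻¹ᵁ U) (ν.app U a))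
    rw [← CommRingCat.comp_apply (ν.app U) (f.toNormalization.app (ν ⁻¹ᵁ U)), ← Scheme.Hom.comp_app,
      Scheme.Hom.congr_app f.toNormalization_fromNormalization U, CommRingCat.comp_apply,
      TopCat.Presheaf.germ_res_apply']
  obtain ⟨p, hp, hpc⟩ := IsIntegralHom.isIntegral_app ν U hU c
  have hcomp : σ.comp γ = emb.comp (ν.app U).hom := RingHom.ext hσ
  have hroot : (p.map γ).eval₂ σ (emb c) = 0 := by
    rw [Polynomial.eval₂_map, hcomp, ← Polynomial.hom_eval₂, hpc, map_zero]
  obtain ⟨n, κ, hκ⟩ := hrad (emb c) ⟨p.map γ, (hp.map γ).ne_zero, hroot⟩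
  let N := ringExpChar X.functionField ^ n
  obtain ⟨⟨a, s⟩, has⟩ := IsLocalization.surj (nonZeroDivisors Γ(Y, U)) κ
  have has' : κ * γ (s : Γ(Y, U)) = γ a := has
  let L := FractionRing R
  let j₀ : Γ(Y, U) →+* L := (algebraMap R L).comp ρ
  have hj₀ : Function.Injective j₀ := fun a b h => hρ (IsFractionRing.injective R L h)
  let j : Y.functionField →+* L := IsFractionRing.lift (A := Γ(Y, U)) hj₀
  have hj : ∀ a, j (γ a) = algebraMap R L (ρ a) := fun a =>
    IsFractionRing.lift_algebraMap (K := Y.functionField) hj₀ a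
  have hκint : ∃ q : Polynomial Γ(Y, U), q.Monic ∧ q.eval₂ γ κ = 0 := by
    let _ : Algebra Γ(Y, U) Γ(f.normalization, ν ⁻¹ᵁ U) := (ν.app U).hom.toAlgebra
    obtain ⟨q, hq, hqc⟩ := (show _root_.IsIntegral Γ(Y, U) c from ⟨p, hp, hpc⟩).pow N
    refine ⟨q, hq, σ.injective ?_⟩
    rw [Polynomial.hom_eval₂, map_zero, hcomp, hκ, ← map_pow]
    show Polynomial.eval₂ (emb.comp (ν.app U).hom) (emb (c ^ N)) q = 0
    rw [← Polynomial.hom_eval₂]
    exact (congrArg emb hqc).trans (map_zero _)
  obtain ⟨q, hq, hqκ⟩ := hκint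
  have hjint : _root_.IsIntegral R (j κ) := by
    refine ⟨q.map ρ, hq.map _, ?_⟩
    have hc2 : (algebraMap R L).comp ρ = j.comp γ := RingHom.ext fun a => (hj a).symm
    rw [Polynomial.eval₂_map, hc2, ← Polynomial.hom_eval₂, hqκ, map_zero]
  obtain ⟨r, hr⟩ := IsIntegrallyClosed.isIntegral_iff.mp hjint
  refine ⟨n, a, s, r, fun h0 => nonZeroDivisors.ne_zero s.2 (hρ (h0.trans (map_zero ρ).symm)), ?_, ?_⟩
  · refine IsFractionRing.injective R L ?_
    rw [map_mul, hr, ← hj, ← hj, ← map_mul, mul_comm]
    exact congrArg j has'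
  · refine hemb ?_
    rw [map_mul, map_pow, ← hσ, ← hσ, ← hκ, ← map_mul, mul_comm]
    exact congrArg σ has'

set_option maxHeartbeats 400000 in
/-- Over a normal local domain dominating the base, the Stein scheme is radicial. -/
theorem stein_hom_ext_of_dominating
    (hrad : ∀ x : X.functionField,
      (∃ q : Polynomial Y.functionField, q ≠ 0 ∧
        Polynomial.eval₂ (CohIII.stalkToFunctionField f (genericPoint Y) hdom) x q = 0) →
      ∃ e : ℕ, x ^ (ringExpChar X.functionField ^ e) ∈
        Set.range (CohIII.stalkToFunctionField f (genericPoint Y) hdom))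
    (R : Type u) [CommRing R] [IsDomain R] [IsIntegrallyClosed R] [IsLocalRing R]
    (g : Spec (CommRingCat.of R) ⟶ Y)
    (hg : g (genericPoint (Spec (CommRingCat.of R))) = genericPoint Y)
    (hdense : ∀ Z ∈ irreducibleComponents ↥(pullback f g), Dense ((pullback.snd f g).base '' Z))
    (Ω : Type u) [Field Ω] (s₀ : Spec (CommRingCat.of Ω) ⟶ Spec (CommRingCat.of R))
    (t₁ t₂ : Spec (CommRingCat.of Ω) ⟶ f.normalization)
    (h₁ : t₁ ≫ f.fromNormalization = s₀ ≫ g) (h₂ : t₂ ≫ f.fromNormalization = s₀ ≫ g) :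
    t₁ = t₂ := by
  classical
  let ν := f.fromNormalization
  obtain ⟨_, ⟨U₀, hU₀, rfl⟩, hy₀, -⟩ := Y.isBasis_affineOpens.exists_subset_of_mem_open
    (Set.mem_univ (g (IsLocalRing.closedPoint R))) isOpen_univ
  let U : Y.Opens := U₀
  have hU : IsAffineOpen U := hU₀
  have hgU : genericPoint Y ∈ U := (genericPoint_specializes _).mem_open U.2 hy₀
  have : Nonempty U := ⟨⟨_, hgU⟩⟩
  have hgtop : (⊤ : (Spec (CommRingCat.of R)).Opens) ≤ g ⁻¹ᵁ U := fun x _ =>
    ((IsLocalRing.specializes_closedPoint x).map g.continuous).mem_open U.2 hy₀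
  let W := ν ⁻¹ᵁ U
  have hW : IsAffineOpen W := hU.preimage ν
  let eR : Γ(Spec (CommRingCat.of R), ⊤) ≃+* R :=
    (Scheme.ΓSpecIso (CommRingCat.of R)).commRingCatIsoToRingEquiv
  let ρ : Γ(Y, U) →+* R := eR.toRingHom.comp (g.appLE U ⊤ hgtop).hom
  have hρ : Function.Injective ρ := by
    refine (injective_iff_map_eq_zero _).mpr fun a ha => ?_
    by_contra ha'
    have h0 : g.appLE U ⊤ hgtop a = 0 := eR.injective (ha.trans (map_zero eR).symm)
    have hmem : genericPoint Y ∈ Y.basicOpen a := by
      refine ((genericPoint_spec Y).mem_open_set_iff (Y.basicOpen a).2).mpr ?_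
      simp only [Set.univ_inter]
      exact Set.nonempty_iff_ne_empty.mpr fun he =>
        ha' ((basicOpen_eq_bot_iff a).mp (Opens.ext he))
    rw [← hg] at hmem
    have : genericPoint (Spec (CommRingCat.of R)) ∈
        (Spec (CommRingCat.of R)).basicOpen (g.appLE U ⊤ hgtop a) := by
      rw [Scheme.basicOpen_appLE]
      exact ⟨trivial, hmem⟩
    rw [h0, Scheme.basicOpen_zero] at this
    exact this
  let P := pullback ν g
  have hPtop : (⊤ : P.Opens) ≤ pullback.fst ν g ⁻¹ᵁ W := fun x _ => by
    show (pullback.fst ν g ≫ ν) x ∈ U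
    rw [pullback.condition]
    exact hgtop trivial
  let α : Γ(f.normalization, W) →+* Γ(P, ⊤) := ((pullback.fst ν g).appLE W ⊤ hPtop).hom
  let β : R →+* Γ(P, ⊤) := (pullback.snd ν g).appTop.hom.comp eR.symm.toRingHom
  have hαβ : ∀ a, α (ν.app U a) = β (ρ a) := fun a => by
    have key : ∀ (m₁ m₂ : P ⟶ Y) (hm : m₁ = m₂) (e₁ : (⊤ : P.Opens) ≤ m₁ ⁻¹ᵁ U)
        (e₂ : (⊤ : P.Opens) ≤ m₂ ⁻¹ᵁ U), m₁.appLE U ⊤ e₁ a = m₂.appLE U ⊤ e₂ a := by
      rintro _ _ rfl _ _; rfl
    have e1 : ((pullback.fst ν g) ≫ ν).appLE U ⊤ (fun x hx => hPtop hx) a = α (ν.app U a) := by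
      rw [← Scheme.Hom.appLE_comp_appLE (pullback.fst ν g) ν U W ⊤ le_rfl hPtop,
        CommRingCat.comp_apply]
      show α (ν.appLE U (ν ⁻¹ᵁ U) le_rfl a) = _
      rw [Scheme.Hom.appLE_eq_app]
    have e2 : ((pullback.snd ν g) ≫ g).appLE U ⊤
        (fun x hx => hgtop (show pullback.snd ν g x ∈ (⊤ : (Spec (CommRingCat.of R)).Opens) from trivial)) a
        = β (ρ a) := by
      rw [← Scheme.Hom.appLE_comp_appLE (pullback.snd ν g) g U ⊤ ⊤ hgtop le_top, CommRingCat.comp_apply]
      show _ = (pullback.snd ν g).appTop (eR.symm (eR (g.appLE U ⊤ hgtop a)))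
      rw [RingEquiv.symm_apply_apply, Scheme.Hom.appLE]
      erw [P.presheaf.map_id]
      rfl
    rw [← e1, ← e2]
    exact key _ _ pullback.condition _ _
  have hmem : ∀ (t : Spec (CommRingCat.of Ω) ⟶ f.normalization), t ≫ ν = s₀ ≫ g →
      (⊤ : (Spec (CommRingCat.of Ω)).Opens) ≤ t ⁻¹ᵁ W := fun t ht x _ => by
    show (t ≫ ν) x ∈ U
    rw [ht]
    exact hgtop trivial
  refine eq_of_appLE_eq t₁ t₂ hW (hmem _ h₁) (hmem _ h₂) (CommRingCat.hom_ext (RingHom.ext fun c => ?_))
  obtain ⟨n, a, s, r, hs, hR, hC⟩ := exists_pow_fraction f hdom hrad R U hU hgU ρ hρ c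
  let N := ringExpChar X.functionField ^ n
  -- the evaluation of a section of the Stein scheme is determined up to a power of `p`
  have hr : ∀ (t : Spec (CommRingCat.of Ω) ⟶ f.normalization) (ht : t ≫ ν = s₀ ≫ g)
      (htop : (⊤ : (Spec (CommRingCat.of Ω)).Opens) ≤ t ⁻¹ᵁ W),
      t.appLE W ⊤ htop c ^ N = s₀.appTop (eR.symm r) := by
    intro t ht htop
    let e : Γ(P, ⊤) := α c ^ N - β r
    have he : β (ρ s) * e = 0 := by
      rw [mul_sub, ← hαβ, ← map_pow, ← map_mul, hC, hαβ, hαβ, ← map_mul, hR, sub_self]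
    let p₀ : Spec (CommRingCat.of Ω) ⟶ P := pullback.lift t s₀ ht
    have hx₀ := not_mem_basicOpen_of_torsion f R g hdense (eR.symm (ρ s))
      (fun h0 => hs (by simpa using congrArg eR h0)) e he (p₀ (IsLocalRing.closedPoint Ω))
    have hpe : p₀.appTop e = 0 := by
      refine (basicOpen_eq_bot_iff _).mp (Opens.ext (Set.eq_empty_iff_forall_notMem.mpr fun w hw => hx₀ ?_))
      rw [← Scheme.preimage_basicOpen_top] at hw
      have : Subsingleton (Spec (CommRingCat.of Ω)) :=
        inferInstanceAs (Subsingleton (PrimeSpectrum Ω))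
      show p₀ (IsLocalRing.closedPoint Ω) ∈ P.basicOpen e
      rw [Subsingleton.elim (α := ↥(Spec (CommRingCat.of Ω))) (IsLocalRing.closedPoint Ω) w]
      exact hw
    have hp1 : p₀.appTop (α c) = t.appLE W ⊤ htop c := by
      have key : ∀ (m₁ m₂ : Spec (CommRingCat.of Ω) ⟶ f.normalization) (hm : m₁ = m₂)
          (e₁ : ⊤ ≤ m₁ ⁻¹ᵁ W) (e₂ : ⊤ ≤ m₂ ⁻¹ᵁ W), m₁.appLE W ⊤ e₁ c = m₂.appLE W ⊤ e₂ c := by
        rintro _ _ rfl _ _; rfl
      refine Eq.trans ?_ (key _ t (pullback.lift_fst t s₀ ht) (fun x _ => hPtop (x := p₀ x) trivial) htop)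
      rw [← Scheme.Hom.appLE_comp_appLE p₀ (pullback.fst ν g) W ⊤ ⊤ hPtop le_top,
        CommRingCat.comp_apply]
      show _ = p₀.appLE ⊤ (p₀ ⁻¹ᵁ ⊤) le_rfl (α c)
      rw [Scheme.Hom.appLE_eq_app]
      rfl
    have hp2 : p₀.appTop (β r) = s₀.appTop (eR.symm r) := by
      show p₀.appTop ((pullback.snd ν g).appTop (eR.symm r)) = _
      rw [← CommRingCat.comp_apply, ← Scheme.Hom.comp_appTop]
      simp only [p₀, pullback.lift_snd]
    simp only [e, map_sub, map_pow, hp1, hp2, sub_eq_zero] at hpe
    exact hpe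
  have h := (hr t₁ h₁ (hmem _ h₁)).trans (hr t₂ h₂ (hmem _ h₂)).symm
  rcases CharP.exists X.functionField with ⟨p, hp⟩
  rcases CharP.char_is_prime_or_zero X.functionField p with hprime | rfl
  · have : Fact p.Prime := ⟨hprime⟩
    have hN : N = p ^ n := congrArg (· ^ n) (ringExpChar.eq X.functionField p)
    rw [hN] at h
    let σ := CohIII.stalkToFunctionField f (genericPoint Y) hdom
    have hY : CharP Y.functionField p := (RingHom.charP_iff σ σ.injective p).mpr hp
    have hA : CharP Γ(Y, U) p :=
      (RingHom.charP_iff (Y.presheaf.germ U (genericPoint Y) hgU).hom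
        (germ_injective_of_isIntegral Y _ hgU) p).mpr hY
    have hp0 : (p : Γ(Spec (CommRingCat.of Ω), ⊤)) = 0 := by
      rw [← map_natCast (s₀.appTop.hom.comp (eR.symm.toRingHom.comp ρ)), CharP.cast_eq_zero, map_zero]
    let eΩ : Γ(Spec (CommRingCat.of Ω), ⊤) ≃+* Ω :=
      (Scheme.ΓSpecIso (CommRingCat.of Ω)).commRingCatIsoToRingEquiv
    have : CharP Ω p := by
      refine (CharP.charP_iff_prime_eq_zero hprime).mpr ?_
      rw [← map_natCast eΩ, hp0, map_zero]
    have h' := congrArg eΩ h
    rw [map_pow, map_pow] at h'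
    exact eΩ.injective (iterateFrobenius_inj Ω p n h')
  · have : CharZero X.functionField := CharP.charP_to_charZero _
    have hN : N = 1 := by
      show ringExpChar X.functionField ^ n = 1
      rw [ringExpChar.eq_one, one_pow]
    rw [hN, pow_one, pow_one] at h
    exact h

omit [AlgebraicGeometry.IsIntegral X] [AlgebraicGeometry.IsIntegral Y] [IsLocallyNoetherian Y] in
/-- The source of a geometrically connected morphism to a point is connected. -/
theorem connectedSpace_of_geometricallyConnected_subsingleton {A B : Scheme.{u}} (u : A ⟶ B)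
    [GeometricallyConnected u] [Subsingleton B] (b : B) : ConnectedSpace A := by
  have h := u.isConnected_preimage_singleton b
  rw [Set.eq_univ_of_forall (fun a => show a ∈ u ⁻¹' {b} from Subsingleton.elim _ _)] at h
  exact connectedSpace_iff_univ.mpr h

set_option maxHeartbeats 400000 in
theorem connectedSpace_pullback_of_dominating
    (hrad : ∀ x : X.functionField,
      (∃ q : Polynomial Y.functionField, q ≠ 0 ∧
        Polynomial.eval₂ (CohIII.stalkToFunctionField f (genericPoint Y) hdom) x q = 0) →
      ∃ e : ℕ, x ^ (ringExpChar X.functionField ^ e) ∈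
        Set.range (CohIII.stalkToFunctionField f (genericPoint Y) hdom))
    (R : Type u) [CommRing R] [IsDomain R] [IsIntegrallyClosed R] [IsLocalRing R]
    (g : Spec (CommRingCat.of R) ⟶ Y)
    (hg : g (genericPoint (Spec (CommRingCat.of R))) = genericPoint Y)
    (hdense : ∀ Z ∈ irreducibleComponents ↥(pullback f g), Dense ((pullback.snd f g).base '' Z))
    (Ω : Type u) [Field Ω] (s₀ : Spec (CommRingCat.of Ω) ⟶ Spec (CommRingCat.of R)) :
    ConnectedSpace ↥(pullback f (s₀ ≫ g)) := by
  let ν := f.fromNormalization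
  let q := s₀ ≫ g
  have : Subsingleton (Spec (CommRingCat.of Ω)) :=
    inferInstanceAs (Subsingleton (PrimeSpectrum Ω))
  have hsurj : Function.Surjective f := fun y => by
    have hη : genericPoint Y ∈ Set.range f :=
      ⟨genericPoint X, (hdom.antisymm (genericPoint_specializes _)).eq⟩
    exact (genericPoint_specializes y).mem_closed f.isClosedMap.isClosed_range hη
  have hsub : Subsingleton ↥(pullback ν q) := ⟨fun a b => by
    obtain ⟨c, hca, hcb⟩ := Scheme.Pullback.exists_preimage_pullback (f := pullback.snd ν q)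
      (g := pullback.snd ν q) a b
      (Subsingleton.elim (α := ↥(Spec (CommRingCat.of Ω))) _ _)
    let Q := pullback (pullback.snd ν q) (pullback.snd ν q)
    let m := Q.fromSpecResidueField c
    let k₁ := m ≫ pullback.fst (pullback.snd ν q) (pullback.snd ν q)
    let k₂ := m ≫ pullback.snd (pullback.snd ν q) (pullback.snd ν q)
    have hk : k₁ ≫ pullback.snd ν q = k₂ ≫ pullback.snd ν q := by
      simp only [k₁, k₂, Category.assoc, pullback.condition]
    have hw : ∀ k : Spec (Q.residueField c) ⟶ pullback ν q,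
        (k ≫ pullback.fst ν q) ≫ ν = ((k ≫ pullback.snd ν q) ≫ s₀) ≫ g := fun k => by
      simp only [Category.assoc]
      rw [pullback.condition]
    have h := stein_hom_ext_of_dominating f hdom hrad R g hg hdense (Q.residueField c)
      ((k₁ ≫ pullback.snd ν q) ≫ s₀) (k₁ ≫ pullback.fst ν q) (k₂ ≫ pullback.fst ν q)
      (hw k₁) (by rw [hk]; exact hw k₂)
    have hkk : k₁ = k₂ := pullback.hom_ext h hk
    have := congrArg (fun k : Spec (Q.residueField c) ⟶ pullback ν q =>
      k (IsLocalRing.closedPoint (Q.residueField c))) hkk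
    simp only [k₁, k₂, Scheme.Hom.comp_apply, m, Scheme.fromSpecResidueField_apply] at this
    rwa [hca, hcb] at this⟩
  have := isLocallyNoetherian_normalization f
  have := isProper_toNormalization f
  have := geometricallyConnected_of_isIso_app f.toNormalization (isIso_toNormalization_app f)
  let u := pullback.snd f.toNormalization (pullback.fst ν q)
  have hu : GeometricallyConnected u := inferInstance
  let e : pullback f.toNormalization (pullback.fst ν q) ≅ pullback f q :=
    pullbackRightPullbackFstIso ν q f.toNormalization ≪≫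
      pullback.congrHom f.toNormalization_fromNormalization rfl
  obtain ⟨x, hx⟩ := hsurj (q (IsLocalRing.closedPoint Ω))
  obtain ⟨z, -, -⟩ := Scheme.Pullback.exists_preimage_pullback (f := f) (g := q) x
    (IsLocalRing.closedPoint Ω) hx
  have := connectedSpace_of_geometricallyConnected_subsingleton u (u (e.inv z))
  exact e.hom.surjective.connectedSpace e.hom.continuous

set_option maxHeartbeats 400000 in
/-- Geometric connectedness of the fibres of a universally open proper morphism with purely
inseparable algebraic closure of the base function field. -/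
theorem geometricallyConnected_fibre_of_dominating
    (hrad : ∀ x : X.functionField,
      (∃ q : Polynomial Y.functionField, q ≠ 0 ∧
        Polynomial.eval₂ (CohIII.stalkToFunctionField f (genericPoint Y) hdom) x q = 0) →
      ∃ e : ℕ, x ^ (ringExpChar X.functionField ^ e) ∈
        Set.range (CohIII.stalkToFunctionField f (genericPoint Y) hdom))
    (hopen : ∀ (Y' : Scheme.{u}) (g : Y' ⟶ Y), IrreducibleSpace ↥Y' → IsLocallyNoetherian Y' →
      IsDominant g → ∀ Z ∈ irreducibleComponents ↥(pullback f g), Dense ((pullback.snd f g).base '' Z))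
    (y : Y) : GeometricallyConnected (f.fiberToSpecResidueField y) := by
  obtain ⟨R, _, _, _, _, _, g, hgy, hg⟩ := exists_normal_dominating y
  have : IsDominant g := ⟨dense_iff_closure_eq.mpr (Set.eq_univ_of_univ_subset fun z _ =>
    (genericPoint_specializes z).mem_closed isClosed_closure (subset_closure ⟨_, hg⟩))⟩
  have hdense := hopen (Spec (CommRingCat.of R)) g inferInstance inferInstance this
  rw [geometricallyConnected_iff, geometrically_iff_of_isClosedUnderIsomorphisms]
  intro K _ i
  let ι := Y.fromSpecResidueField y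
  have hpt : (i ≫ ι) (IsLocalRing.closedPoint K) = g (IsLocalRing.closedPoint R) := by
    rw [Scheme.Hom.comp_apply, hgy]
    exact Scheme.fromSpecResidueField_apply y _
  obtain ⟨c, -, -⟩ := Scheme.Pullback.exists_preimage_pullback (f := i ≫ ι) (g := g)
    (IsLocalRing.closedPoint K) (IsLocalRing.closedPoint R) hpt
  let m := (pullback (i ≫ ι) g).fromSpecResidueField c
  let Ω := (pullback (i ≫ ι) g).residueField c
  let s₀ : Spec Ω ⟶ Spec (CommRingCat.of R) := m ≫ pullback.snd (i ≫ ι) g
  let π : Spec Ω ⟶ Spec (CommRingCat.of K) := m ≫ pullback.fst (i ≫ ι) g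
  have hπ : π ≫ i ≫ ι = s₀ ≫ g := by
    simp only [π, s₀, Category.assoc, pullback.condition]
  have := connectedSpace_pullback_of_dominating f hdom hrad R g hg hdense Ω s₀
  have hπs : Surjective π := ⟨fun k => ⟨IsLocalRing.closedPoint Ω,
    Subsingleton.elim (α := ↥(Spec (CommRingCat.of K))) _ _⟩⟩
  let e₁ : pullback (pullback.snd f (i ≫ ι)) π ≅ pullback f (s₀ ≫ g) :=
    pullbackLeftPullbackSndIso f (i ≫ ι) π ≪≫ pullback.congrHom rfl hπ
  let e₂ : pullback (f.fiberToSpecResidueField y) i ≅ pullback f (i ≫ ι) :=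
    pullbackLeftPullbackSndIso f ι i
  have : ConnectedSpace ↥(pullback (pullback.snd f (i ≫ ι)) π) :=
    e₁.inv.surjective.connectedSpace e₁.inv.continuous
  have : Surjective (pullback.fst (pullback.snd f (i ≫ ι)) π) :=
    MorphismProperty.pullback_fst _ _ hπs
  have : ConnectedSpace ↥(pullback f (i ≫ ι)) :=
    (pullback.fst (pullback.snd f (i ≫ ι)) π).surjective.connectedSpace
      (pullback.fst (pullback.snd f (i ≫ ι)) π).continuous
  exact e₂.inv.surjective.connectedSpace e₂.inv.continuous

end Groth.Agent.Coherent
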