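import Groth.Agent.Coherent.CohLocalize
import Groth.Agent.Coherent.BasisSheafify
import Groth.Agent.Coherent.RpushVanish

/-!
# Sections of higher direct images over an affine base

`Γ(S, R^q f_* M) = H^q(X, M)` for `f` qcqs, `S` affine, `M` quasi-coherent.
-/

set_option autoImplicit false

universe u

open CategoryTheory CategoryTheory.Abelian CategoryTheory.Limits AlgebraicGeometry Opposite
  TopologicalSpace

namespace Groth.Agent.Coherent

section Top

variable {X : TopCat.{u}}

/-- A morphism bijective on opens in `U` acts bijectively on cohomology of `U`. -/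
theorem bijective_postH_of_le {F G : Sheaf (Opens.grothendieckTopology X) AddCommGrpCat.{u}}
    (φ : F ⟶ G) (U : Opens X) (h : ∀ V ≤ U, Function.Bijective (φ.hom.app (op V))) (n : ℕ) :
    Function.Bijective (postH φ n U) := by
  have hj : Topology.IsOpenEmbedding (Opens.inclusion' U) := U.isOpenEmbedding
  have hle : ∀ V, hj.functor.obj V ≤ U := by
    rintro V _ ⟨y, -, rfl⟩
    exact y.2
  have eU : hj.functor.obj ⊤ = U :=
    le_antisymm (hle ⊤) fun x hx => ⟨⟨x, hx⟩, trivial, rfl⟩
  let ψ := (restrictSh hj).map φ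
  have : ∀ V, IsIso (ψ.hom.app V) := fun V =>
    (ConcreteCategory.isIso_iff_bijective _).2 (h _ (hle V.unop))
  have : IsIso ψ.hom := NatIso.isIso_of_isIso_app _
  have : IsIso ψ :=
    @isIso_of_reflects_iso _ _ _ _ _ _ ψ
      (sheafToPresheaf (Opens.grothendieckTopology _) AddCommGrpCat.{u}) this inferInstance
  have hψ : Function.Bijective (postH ψ n ⊤) := by
    refine Function.bijective_iff_has_inverse.2 ⟨postH (inv ψ) n ⊤, fun x => ?_, fun x => ?_⟩
    · rw [← postH_comp, IsIso.hom_inv_id, postH_id]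
    · rw [← postH_comp, IsIso.inv_hom_id, postH_id]
  let eF := (H'Congr F n eU.symm).trans (H'RestrictEquiv hj F ⊤ n)
  let eG := (H'Congr G n eU.symm).trans (H'RestrictEquiv hj G ⊤ n)
  have hn : ∀ x, eG (postH φ n U x) = postH ψ n ⊤ (eF x) := by
    intro x
    refine (congrArg (H'RestrictEquiv hj G ⊤ n) (H'Congr_naturality φ n eU.symm x)).trans ?_
    exact H'RestrictEquiv_naturality hj φ ⊤ n _
  constructor
  · intro a b hab
    apply eF.injective
    apply hψ.1
    rw [← hn, ← hn, hab]
  · intro y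
    obtain ⟨z, hz⟩ := hψ.2 (eG y)
    refine ⟨eF.symm z, eG.injective ((hn _).trans ?_)⟩
    exact (congrArg (postH ψ n ⊤) (eF.apply_symm_apply z)).trans hz

/-- The cohomology presheaf sends a morphism to `postH`. -/
theorem cohomologyPresheafFunctor_map_apply {F G : Sheaf (Opens.grothendieckTopology X) AddCommGrpCat.{u}}
    (φ : F ⟶ G) (n : ℕ) (U : Opens X) (x : Ext (freeSh U) F n) :
    ((Sheaf.cohomologyPresheafFunctor (Opens.grothendieckTopology X) n).map φ).app (op U) x =
      postH φ n U x := rfl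

/-- The cohomology presheaf restricts by `resH`. -/
theorem cohomologyPresheaf_map_apply (F : Sheaf (Opens.grothendieckTopology X) AddCommGrpCat.{u})
    (n : ℕ) {U V : Opens X} (h : U ≤ V) (x : Ext (freeSh V) F n) :
    (F.cohomologyPresheaf n).map (homOfLE h).op x = resH F n h x := rfl

end Top

variable {X S : Scheme.{u}}

/-- The presheaf `V ↦ H^q(f⁻¹ V, M)`. -/
noncomputable abbrev cohPsh (f : X ⟶ S) (M : X.Modules) (q : ℕ) : S.Opensᵒᵖ ⥤ AddCommGrpCat.{u} :=
  (Opens.map f.base).op ⋙ (Coh.toAb M).cohomologyPresheaf q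

theorem postH_smulEndAb_one (M : X.Modules) (n : ℕ) (U : X.Opens)
    (x : Ext (freeSh (X := X.toTopCat) U) (Coh.toAb M) n) :
    postH (X := X.toTopCat) (smulEndAb M 1) n U x = x :=
  (congrArg (fun z => postH (X := X.toTopCat) z n U x) (Coh.smulAb_one M)).trans (postH_id n U x)

theorem postH_smulEndAb_zero (M : X.Modules) (n : ℕ) (U : X.Opens)
    (x : Ext (freeSh (X := X.toTopCat) U) (Coh.toAb M) n) :
    postH (X := X.toTopCat) (smulEndAb M 0) n U x = 0 := by
  rw [show smulEndAb M 0 = 0 from Coh.smulAb_zero M, postH_apply, Ext.mk₀_zero, Ext.comp_zero]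

theorem postH_smulEndAb_mul (M : X.Modules) (r r' : Γ(X, ⊤)) (n : ℕ) (U : X.Opens)
    (x : Ext (freeSh (X := X.toTopCat) U) (Coh.toAb M) n) :
    postH (X := X.toTopCat) (smulEndAb M (r * r')) n U x =
      postH (X := X.toTopCat) (smulEndAb M r) n U
        (postH (X := X.toTopCat) (smulEndAb M r') n U x) :=
  (congrArg (fun z => postH (X := X.toTopCat) z n U x) (Coh.smulAb_mul M r r')).trans
    (postH_comp _ _ n U x)

theorem postH_smulEndAb_add (M : X.Modules) (r r' : Γ(X, ⊤)) (n : ℕ) (U : X.Opens)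
    (x : Ext (freeSh (X := X.toTopCat) U) (Coh.toAb M) n) :
    postH (X := X.toTopCat) (smulEndAb M (r + r')) n U x =
      postH (X := X.toTopCat) (smulEndAb M r) n U x +
        postH (X := X.toTopCat) (smulEndAb M r') n U x := by
  rw [show smulEndAb M (r + r') = smulEndAb M r + smulEndAb M r' from Coh.smulAb_add M _ _,
    postH_apply, Ext.mk₀_add, Ext.comp_add]
  rfl

/-- Global functions act on the cohomology presheaf. -/
noncomputable def cohAct (f : X ⟶ S) (M : X.Modules) (q : ℕ) :
    Γ(S, ⊤) →+* End (cohPsh f M q) where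
  toFun a := Functor.whiskerLeft (Opens.map f.base).op
    ((Sheaf.cohomologyPresheafFunctor (Opens.grothendieckTopology X) q).map
      (smulEndAb M (f.appTop a)))
  map_one' := by
    refine NatTrans.ext (funext fun V => AddCommGrpCat.hom_ext (AddMonoidHom.ext fun x => ?_))
    change postH (X := X.toTopCat) (smulEndAb M (f.appTop 1)) q _ x = x
    rw [map_one]
    exact postH_smulEndAb_one M q _ x
  map_mul' a b := by
    refine NatTrans.ext (funext fun V => AddCommGrpCat.hom_ext (AddMonoidHom.ext fun x => ?_))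
    change postH (X := X.toTopCat) (smulEndAb M (f.appTop (a * b))) q _ x =
      postH (X := X.toTopCat) (smulEndAb M (f.appTop a)) q _
        (postH (X := X.toTopCat) (smulEndAb M (f.appTop b)) q _ x)
    rw [map_mul]
    exact postH_smulEndAb_mul M _ _ q _ x
  map_zero' := by
    refine NatTrans.ext (funext fun V => AddCommGrpCat.hom_ext (AddMonoidHom.ext fun x => ?_))
    change postH (X := X.toTopCat) (smulEndAb M (f.appTop 0)) q _ x = 0
    rw [map_zero]
    exact postH_smulEndAb_zero M q _ x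
  map_add' a b := by
    refine NatTrans.ext (funext fun V => AddCommGrpCat.hom_ext (AddMonoidHom.ext fun x => ?_))
    change postH (X := X.toTopCat) (smulEndAb M (f.appTop (a + b))) q _ x =
      postH (X := X.toTopCat) (smulEndAb M (f.appTop a)) q _ x +
        postH (X := X.toTopCat) (smulEndAb M (f.appTop b)) q _ x
    rw [map_add]
    exact postH_smulEndAb_add M _ _ q _ x

theorem preimage_basicOpen_top (f : X ⟶ S) (g : Γ(S, ⊤)) :
    f ⁻¹ᵁ S.basicOpen g = X.basicOpen (f.appTop g) :=
  Scheme.preimage_basicOpen f g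

theorem localizing_cohPsh [CompactSpace X] [QuasiSeparatedSpace X] (f : X ⟶ S) (M : X.Modules)
    [Coh.IsQCoh M] (q : ℕ) : LocalizingPsh (cohPsh f M q) (cohAct f M q) := by
  have hloc : ∀ (g h : Γ(S, ⊤)) (W' W : S.Opens) (le : W' ≤ W), W = S.basicOpen g →
      W' = W ⊓ S.basicOpen h → IsLocResSch M (f.appTop h) q
        (Scheme.Hom.preimage_mono f le : f ⁻¹ᵁ W' ≤ f ⁻¹ᵁ W) := by
    intro g h W' W le hW hW'
    refine isLocRes_of_isCompact M _ ?_ q _ _ ?_
    · rw [hW, preimage_basicOpen_top]
      exact isCompact_basicOpen X (U := ⊤) isCompact_univ _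
    · rw [hW', Scheme.Hom.preimage_inf, preimage_basicOpen_top]
  refine ⟨fun g W hW => bijective_postH_of_le (X := X.toTopCat) _ (f ⁻¹ᵁ W) (fun (V : X.Opens) (hV : V ≤ f ⁻¹ᵁ W) => ?_) q,
    fun g h W' W le hW hW' x hx => ?_, fun g h W' W le hW hW' y => ?_⟩
  · have hV' : V ≤ X.basicOpen (f.appTop g) :=
      hV.trans (by rw [← preimage_basicOpen_top]; exact Scheme.Hom.preimage_mono f hW)
    have hu := isUnit_res_pow (f.appTop g) (le_top (a := V)) hV' 1
    rw [pow_one] at hu
    exact (IsUnit.smul_bijective hu : Function.Bijective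
      fun m : Γ(M, V) => (X.presheaf.map (homOfLE (le_top (a := V))).op (f.appTop g) : Γ(X, V)) • m)
  · obtain ⟨n, hn⟩ := (hloc g h W' W le hW hW').eq_zero x hx
    refine ⟨n, Eq.trans ?_ hn⟩
    change postH (X := X.toTopCat) (smulEndAb M (f.appTop (h ^ n))) q _ x =
      postH (X := X.toTopCat) (smulEndAb M (f.appTop h) ^ n) q _ x
    rw [map_pow, smulEndAb_pow]
  · obtain ⟨n, x, hn⟩ := (hloc g h W' W le hW hW').surj y
    refine ⟨n, x, hn.trans ?_⟩
    change postH (X := X.toTopCat) (smulEndAb M (f.appTop h) ^ n) q _ y =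
      postH (X := X.toTopCat) (smulEndAb M (f.appTop (h ^ n))) q _ y
    rw [map_pow, smulEndAb_pow]

/-- `H^q(X, M) ≃+ Γ(S, R^q f_* M)` over an affine base. -/
noncomputable def rpushAbTopEquiv [IsAffine S] [CompactSpace X] [QuasiSeparatedSpace X]
    (f : X ⟶ S) (M : X.Modules) [Coh.IsQCoh M] (q : ℕ) :
    Coh.HH X M q ≃+ ((Coh.RpushAb f q).obj (Coh.toAb M)).obj.obj (op (⊤ : S.Opens)) :=
  ((HHTopEquiv M q).trans
    (AddEquiv.ofBijective
      ((toSheafify (Opens.grothendieckTopology S) (cohPsh f M q)).app (op (⊤ : S.Opens))).hom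
      (localizing_cohPsh f M q).bijective_toSheafify)).trans
    (((sheafToPresheaf (Opens.grothendieckTopology S) AddCommGrpCat.{u}).mapIso
      ((SiteCoh.rpushTopIso (X := X.toTopCat) (Y := S.toTopCat) f.base q).app (Coh.toAb M))).app
        (op (⊤ : S.Opens))).addCommGroupIsoToAddEquiv.symm

end Groth.Agent.Coherent
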