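import Groth.Agent.Coherent.SecBridge
import Groth.Agent.Coherent.ProjSpaceFinite

/-!
# Cohomology along a morphism by dimension shifting with quasi-coherent acyclic modules
-/

set_option autoImplicit false

universe u

open CategoryTheory CategoryTheory.Abelian CategoryTheory.Limits AlgebraicGeometry Opposite
  TopologicalSpace

namespace Groth.Agent.Coherent

attribute [local instance] hasFiniteBiproducts

variable {X Y : Scheme.{u}}

theorem isAffineHom_of_isAffine_source {U : Scheme.{u}} [IsAffine U] [Y.IsSeparated] (g : U ⟶ Y) :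
    IsAffineHom g := by
  have : IsAffineHom (g ≫ terminal.from Y) := isAffineHom_of_isAffine _
  exact IsAffineHom.of_comp g (terminal.from Y)

/-- Acyclicity of a sum from acyclicity of its factors. -/
theorem subsingleton_H'_of_factor {ι : Type} [Fintype ι] {N : X.Modules} (F : ι → X.Modules)
    (a : ∀ i, N ⟶ F i) (b : ∀ i, F i ⟶ N) (hab : ∑ i, a i ≫ b i = 𝟙 N) (n : ℕ) (U : X.Opens)
    (h : ∀ i, Subsingleton (Sheaf.H' (Coh.toAb (F i)) n U)) :
    Subsingleton (Sheaf.H' (Coh.toAb N) n U) := by
  classical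
  refine ⟨fun p q => ?_⟩
  suffices h' : ∀ x : Ext (freeSh (X := X.toTopCat) U) (Coh.toAb N) n, x = 0 from
    (h' p).trans (h' q).symm
  intro x
  have hsum : ∀ s : Finset ι, postHM (∑ i ∈ s, a i ≫ b i) n U x = 0 := fun s => by
    induction s using Finset.induction with
    | empty => rw [Finset.sum_empty]; exact postHM_zero n U x
    | insert i s hi ih =>
      rw [Finset.sum_insert hi, postHM_add, ih, add_zero]
      exact (postHM_comp (a i) (b i) n U x).trans
        ((congrArg (postHM (b i) n U) ((h i).elim _ 0)).trans (map_zero _))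
  have := hsum Finset.univ
  rw [hab, postHM_id] at this
  exact this

/-- An embedding of `M` into a module acyclic on `X`, on preimages of affines, and after pushing. -/
structure AcycEmb (f : X ⟶ Y) (M : X.Modules) where
  N : X.Modules
  i : M ⟶ N
  mono : Mono i
  qcoh : Coh.IsQCoh N
  acyc : ∀ q, Subsingleton (Sheaf.H' (Coh.toAb N) (q + 1) (⊤ : X.Opens))
  acycPre : ∀ V : Y.Opens, IsAffineOpen V →
    ∀ q, Subsingleton (Sheaf.H' (Coh.toAb N) (q + 1) (f ⁻¹ᵁ V))
  acycPush : ∀ q,
    Subsingleton (Sheaf.H' (Coh.toAb ((Coh.push f).obj N)) (q + 1) (⊤ : Y.Opens))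

/-- Embedding into the direct image from an affine cover. -/
theorem nonempty_acycEmb [X.IsSeparated] [Y.IsSeparated] [CompactSpace X] (f : X ⟶ Y)
    (M : X.Modules) [Coh.IsQCoh M] : Nonempty (AcycEmb f M) := by
  classical
  obtain ⟨s, hs, e⟩ := isCompact_and_isOpen_iff_finite_and_eq_biUnion_affineOpens.1
    (show IsCompact ((⊤ : X.Opens) : Set X) ∧ IsOpen ((⊤ : X.Opens) : Set X) from
      ⟨isCompact_univ, isOpen_univ⟩)
  obtain ⟨k, U, hUr⟩ : ∃ (k : ℕ) (U : Fin k → X.affineOpens), Set.range U = s := by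
    obtain ⟨k, U, -, hU⟩ := hs.fin_param
    exact ⟨k, U, hU⟩
  have hcov : ∀ x : X, ∃ a, x ∈ (U a).1 := fun x => by
    have hx : x ∈ ((⊤ : X.Opens) : Set X) := trivial
    rw [e, Set.mem_iUnion₂] at hx
    obtain ⟨V, hV, hxV⟩ := hx
    rw [← hUr] at hV
    obtain ⟨a, rfl⟩ := hV
    exact ⟨a, hxV⟩
  have : ∀ a, IsAffine ((U a).1 : Scheme.{u}) := fun a => (U a).2
  have hι : ∀ a, IsAffineHom (U a).1.ι := fun a => isAffineHom_of_isAffine_source _
  have hιf : ∀ a, IsAffineHom ((U a).1.ι ≫ f) := fun a => isAffineHom_of_isAffine_source _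
  let G : Fin k → X.Modules := fun a => (Coh.push (U a).1.ι).obj (M.restrict (U a).1.ι)
  have hR : ∀ a, Coh.IsQCoh (M.restrict (U a).1.ι) := fun a =>
    inferInstanceAs (((Scheme.Modules.restrictFunctor (U a).1.ι).obj M).IsQuasicoherent)
  have hG : ∀ a, Coh.IsQCoh (G a) := fun a => isQCoh_push (U a).1.ι _
  let i : M ⟶ ⨁ G :=
    biproduct.lift fun a => (Scheme.Modules.restrictAdjunction (U a).1.ι).unit.app M
  have htot : ∑ a, biproduct.π G a ≫ biproduct.ι G a = 𝟙 (⨁ G) := biproduct.total
  refine ⟨⟨⨁ G, i, ?_, isQCoh_biproduct G hG, fun q => ?_, fun V hV q => ?_, fun q => ?_⟩⟩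
  · refine Preadditive.mono_of_cancel_zero _ fun {P} g hg => ?_
    refine Scheme.Modules.hom_ext _ _ fun W => ConcreteCategory.hom_ext _ _ fun x => ?_
    refine TopCat.Sheaf.eq_of_locally_eq' (⟨M.presheaf, M.isSheaf⟩ : TopCat.Sheaf Ab X)
      (fun a => W ⊓ (U a).1) W (fun a => homOfLE inf_le_left) (fun y hy => ?_) _ _ fun a => ?_
    · obtain ⟨a, ha⟩ := hcov y
      exact TopologicalSpace.Opens.mem_iSup.2 ⟨a, hy, ha⟩
    · have h := congrArg (fun ψ : P ⟶ G a => ψ.app W x)
        (show g ≫ (Scheme.Modules.restrictAdjunction (U a).1.ι).unit.app M = 0 by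
          rw [← show i ≫ biproduct.π G a = (Scheme.Modules.restrictAdjunction (U a).1.ι).unit.app M
            from biproduct.lift_π _ _, ← Category.assoc, hg, zero_comp])
      have hle : W ⊓ (U a).1 ≤ (U a).1.ι ''ᵁ ((U a).1.ι ⁻¹ᵁ W) := by
        rw [Scheme.Hom.image_preimage_eq_opensRange_inf, Scheme.Opens.opensRange_ι, inf_comm]
      have h' : resM M ((U a).1.ι.image_preimage_le W) (g.app W x) = 0 := h
      have h2 := congrArg (resM M hle) h'
      rw [resM_resM, map_zero] at h2
      exact h2.trans (map_zero _).symm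
  · refine subsingleton_H'_of_factor G _ _ htot _ _ fun a => ?_
    exact @Equiv.subsingleton _ _
      (H'AffinePushEquiv (U a).1.ι (M.restrict (U a).1.ι) ⊤ (q + 1)).symm.toEquiv
      (subsingleton_H'_qcoh _ (isAffineOpen_top _) q)
  · refine subsingleton_H'_of_factor G _ _ htot _ _ fun a => ?_
    exact @Equiv.subsingleton _ _
      (H'AffinePushEquiv (U a).1.ι (M.restrict (U a).1.ι) (f ⁻¹ᵁ V) (q + 1)).symm.toEquiv
      (subsingleton_H'_qcoh _ (hV.preimage ((U a).1.ι ≫ f)) q)
  · refine subsingleton_H'_of_factor (fun a => (Coh.push f).obj (G a))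
      (fun a => (Coh.push f).map (biproduct.π G a)) (fun a => (Coh.push f).map (biproduct.ι G a))
      ?_ _ _ fun a => ?_
    · simp only [← Functor.map_comp, ← Functor.map_sum]
      rw [htot]
      exact (Coh.push f).map_id (⨁ G)
    · refine subsingleton_H'_of_iso
        ((Scheme.Modules.pushforwardComp (U a).1.ι f).app (M.restrict (U a).1.ι)).symm _ _ ?_
      exact @Equiv.subsingleton _ _
        (H'AffinePushEquiv ((U a).1.ι ≫ f) (M.restrict (U a).1.ι) ⊤ (q + 1)).symm.toEquiv
        (subsingleton_H'_qcoh _ (isAffineOpen_top _) q)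

section Shift

variable {f : X ⟶ Y} {M : X.Modules} (E : AcycEmb f M)

namespace AcycEmb

/-- `0 → M → N → M' → 0`. -/
noncomputable abbrev seq : ShortComplex X.Modules :=
  ShortComplex.mk E.i (cokernel.π E.i) (cokernel.condition E.i)

theorem seq_shortExact : E.seq.ShortExact :=
  have := E.mono
  { exact := ShortComplex.exact_cokernel E.i
    mono_f := E.mono
    epi_g := inferInstanceAs (Epi (cokernel.π E.i)) }

/-- `f_* N → f_* M'`. -/
noncomputable abbrev pushG : (Coh.push f).obj E.N ⟶ (Coh.push f).obj (cokernel E.i) :=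
  (Coh.push f).map (cokernel.π E.i)

/-- The first higher direct image. -/
noncomputable abbrev R1 : Y.Modules := cokernel E.pushG

/-- Its image. -/
noncomputable abbrev B : Y.Modules := Abelian.image E.pushG

/-- `0 → f_* M → f_* N → B → 0`. -/
noncomputable abbrev seqB : ShortComplex Y.Modules :=
  ShortComplex.mk ((Coh.push f).map E.i) (Abelian.factorThruImage E.pushG) (by
    rw [← cancel_mono (Abelian.image.ι E.pushG), Category.assoc, Abelian.image.fac, zero_comp,
      ← Functor.map_comp, cokernel.condition, Functor.map_zero])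

theorem seqB_shortExact : E.seqB.ShortExact := by
  have := E.mono
  have hk := isLimitForkMapOfIsLimit' (Coh.push f) _ E.seq_shortExact.fIsKernel
  exact
    { mono_f := inferInstanceAs (Mono ((Coh.push f).map E.i))
      epi_g := inferInstanceAs (Epi (Abelian.factorThruImage E.pushG))
      exact := ShortComplex.exact_of_f_is_kernel _
        (isKernelOfComp (f := Abelian.factorThruImage E.pushG) (Abelian.image.ι E.pushG) E.pushG hk
          E.seqB.zero (Abelian.image.fac E.pushG)) }

/-- `0 → B → f_* M' → R1 → 0`. -/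
noncomputable abbrev seqR : ShortComplex Y.Modules :=
  ShortComplex.mk (Abelian.image.ι E.pushG) (cokernel.π E.pushG)
    (kernel.condition (cokernel.π E.pushG))

theorem seqR_shortExact : E.seqR.ShortExact :=
  { exact := ShortComplex.exact_of_f_is_kernel _ (kernelIsKernel (cokernel.π E.pushG))
    mono_f := inferInstanceAs (Mono (kernel.ι (cokernel.π E.pushG)))
    epi_g := inferInstanceAs (Epi (cokernel.π E.pushG)) }

end AcycEmb

end Shift

end Groth.Agent.Coherent
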