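import Groth.Agent.Coherent.Shift

/-!
# Finiteness of cohomology passes along a morphism with coherent higher direct images
-/

set_option autoImplicit false

universe u

open CategoryTheory CategoryTheory.Abelian CategoryTheory.Limits AlgebraicGeometry Opposite
  TopologicalSpace

namespace Groth.Agent.Coherent

section Algebra

variable {A : Type u} [CommRing A] [IsNoetherianRing A] {B P H R : Type u} [AddCommGroup B]
  [AddCommGroup P] [AddCommGroup H] [AddCommGroup R] [Module A B] [Module A P] [Module A H]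
  [Module A R]

/-- A quotient of `B` injecting into a finite module is finite. -/
theorem finite_of_surjective_of_ker_le (p : B →ₗ[A] H) (hp : Function.Surjective p)
    (q : B →ₗ[A] R) (hker : LinearMap.ker q ≤ LinearMap.ker p) [Module.Finite A R] :
    Module.Finite A H := by
  let r : B →ₗ[A] LinearMap.range q := q.rangeRestrict
  have hr : LinearMap.ker r = LinearMap.ker q := LinearMap.ker_rangeRestrict q
  let l : LinearMap.range q →ₗ[A] H :=
    ((LinearMap.ker r).liftQ p (hr.le.trans hker)).comp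
      (r.quotKerEquivOfSurjective (LinearMap.surjective_rangeRestrict q)).symm.toLinearMap
  refine Module.Finite.of_surjective l fun h => ?_
  obtain ⟨b, rfl⟩ := hp h
  refine ⟨r b, ?_⟩
  simp only [l, LinearMap.comp_apply, LinearEquiv.coe_coe]
  rw [show (r.quotKerEquivOfSurjective (LinearMap.surjective_rangeRestrict q)).symm (r b) =
    Submodule.Quotient.mk b from (LinearEquiv.symm_apply_eq _).2 rfl]
  rfl

/-- An extension of two finite modules, through a surjection. -/
theorem finite_of_two_step (d : P →ₗ[A] H) (hd : Function.Surjective d) (i : B →ₗ[A] P)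
    (r : P →ₗ[A] R) (hr : LinearMap.ker r ≤ LinearMap.range i) [Module.Finite A R]
    (hq : (LinearMap.range (d.comp i)).FG) : Module.Finite A H := by
  have : Module.Finite A (LinearMap.range (d.comp i)) := Module.Finite.iff_fg.2 hq
  have : Module.Finite A (H ⧸ LinearMap.range (d.comp i)) :=
    finite_of_surjective_of_ker_le ((LinearMap.range (d.comp i)).mkQ.comp d)
      ((Submodule.mkQ_surjective _).comp hd) r fun x hx => by
        obtain ⟨b, rfl⟩ := hr hx
        exact (Submodule.Quotient.mk_eq_zero _).2 ⟨b, rfl⟩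
  exact Module.Finite.of_submodule_quotient (LinearMap.range (d.comp i))

end Algebra

variable {X Y : Scheme.{u}} (f : X ⟶ Y) {A : Type u} [CommRing A] (φ : A →+* Γ(Y, ⊤))

/-- The composite `A → Γ(Y) → Γ(X)`. -/
noncomputable abbrev pullHom : A →+* Γ(X, ⊤) := f.appTop.hom.comp φ

/-- Global sections of a direct image. -/
noncomputable def pushGA (M : X.Modules) : GA φ ((Coh.push f).obj M) ≃ₗ[A] GA (pullHom f φ) M where
  toFun x := x
  invFun x := x
  map_add' _ _ := rfl
  map_smul' _ _ := rfl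

theorem pushGA_natural {M M' : X.Modules} (g : M ⟶ M') (x : GA φ ((Coh.push f).obj M)) :
    pushGA f φ M' (mapGA φ ((Coh.push f).map g) x) = mapGA (pullHom f φ) g (pushGA f φ M x) := rfl

/-- `H^0(Y, f_* M) ≅ H^0(X, M)`. -/
noncomputable def pushH0 (M : X.Modules) :
    HA φ ((Coh.push f).obj M) (⊤ : Y.Opens) 0 ≃ₗ[A] HA (pullHom f φ) M (⊤ : X.Opens) 0 :=
  ((secA φ _).trans (pushGA f φ M)).trans (secA (pullHom f φ) M).symm

/-- All cohomology is finite. -/
def FinAll {Z : Scheme.{u}} (ψ : A →+* Γ(Z, ⊤)) (M : Z.Modules) : Prop :=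
  ∀ q, Module.Finite A (HA ψ M (⊤ : Z.Opens) q)

/-- Positive degree cohomology is finite. -/
def FinPos {Z : Scheme.{u}} (ψ : A →+* Γ(Z, ⊤)) (M : Z.Modules) : Prop :=
  ∀ q, Module.Finite A (HA ψ M (⊤ : Z.Opens) (q + 1))

variable {f} {P : X.Modules → Prop}

/-- `P` is stable under shifting, with finite first direct images. -/
def ShiftStable (f : X ⟶ Y) (φ : A →+* Γ(Y, ⊤)) (P : X.Modules → Prop) : Prop :=
  ∀ M : X.Modules, Coh.IsQCoh M → P M → ∀ E : AcycEmb f M,
    P (cokernel E.i) ∧ FinAll φ E.R1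

variable [X.IsSeparated] [Y.IsSeparated] [CompactSpace X] [IsNoetherianRing A]

namespace AcycEmb

variable {M : X.Modules} (E : AcycEmb f M)

omit [X.IsSeparated] [Y.IsSeparated] [CompactSpace X] in
theorem finPos_cokernel (h : FinPos (pullHom f φ) M) :
    FinPos (pullHom f φ) (cokernel E.i) := fun q => by
  have hN : Subsingleton (HA (pullHom f φ) E.seq.X₂ (⊤ : X.Opens) (q + 1)) := E.acyc q
  have : Module.Finite A (HA (pullHom f φ) E.seq.X₁ (⊤ : X.Opens) (q + 1 + 1)) := h (q + 1)
  exact finite_right (pullHom f φ) E.seq_shortExact ⊤ (q + 1)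

omit [X.IsSeparated] [Y.IsSeparated] [CompactSpace X] [IsNoetherianRing A] in
theorem qcoh_cokernel [Coh.IsQCoh M] : Coh.IsQCoh (cokernel E.i) :=
  have := E.qcoh
  isQCoh_cokernel E.i

end AcycEmb

set_option maxHeartbeats 1000000 in
/-- From `X` to `Y`: finiteness of the cohomology of `f_* M`. -/
theorem finPos_push (hP : ShiftStable f φ P) (M : X.Modules) (hqc : Coh.IsQCoh M) (hM : P M)
    (h : FinPos (pullHom f φ) M) : FinPos φ ((Coh.push f).obj M) := by
  intro q
  induction q generalizing M with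
  | zero =>
    obtain ⟨E⟩ := nonempty_acycEmb f M
    have hN : Subsingleton (HA φ E.seqB.X₂ (⊤ : Y.Opens) 1) := E.acycPush 0
    have hsX : Module.Finite A (HA (pullHom f φ) E.seq.X₁ (⊤ : X.Opens) 1) := h 0
    let ι' : GA φ E.B →ₗ[A] GA (pullHom f φ) (cokernel E.i) :=
      (pushGA f φ _).toLinearMap.comp (mapGA φ (Abelian.image.ι E.pushG))
    refine finite_of_surjective_of_ker_le (deltaG φ E.seqB_shortExact)
      (deltaG_surjective φ E.seqB_shortExact hN)
      ((deltaG (pullHom f φ) E.seq_shortExact).comp ι') fun x hx => ?_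
    obtain ⟨y, hy⟩ := (deltaG_eq_zero_iff (pullHom f φ) E.seq_shortExact _).1 hx
    refine (deltaG_eq_zero_iff φ E.seqB_shortExact x).2 ⟨(pushGA f φ E.N).symm y, ?_⟩
    refine sections_injective E.seqR_shortExact ⊤ ?_
    refine Eq.trans ?_ hy
    exact congrArg (fun ψ : (Coh.push f).obj E.N ⟶ (Coh.push f).obj (cokernel E.i) =>
      mapGA φ ψ ((pushGA f φ E.N).symm y)) (Abelian.image.fac E.pushG)
  | succ q ih =>
    obtain ⟨E⟩ := nonempty_acycEmb f M
    have hqc' := E.qcoh_cokernel
    obtain ⟨hP', hR⟩ := hP M hqc hM E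
    have : Module.Finite A (HA φ E.seqR.X₂ (⊤ : Y.Opens) (q + 1)) :=
      ih (cokernel E.i) hqc' hP' (E.finPos_cokernel φ h)
    have : Module.Finite A (HA φ E.seqR.X₃ (⊤ : Y.Opens) q) := hR q
    have : Module.Finite A (HA φ E.seqB.X₃ (⊤ : Y.Opens) (q + 1)) :=
      finite_left φ E.seqR_shortExact ⊤ q
    have : Subsingleton (HA φ E.seqB.X₂ (⊤ : Y.Opens) (q + 1 + 1)) := E.acycPush (q + 1)
    exact finite_left φ E.seqB_shortExact ⊤ (q + 1)

/-- From `Y` to `X`. -/
theorem finPos_of_push (hP : ShiftStable f φ P) (M : X.Modules) (hqc : Coh.IsQCoh M) (hM : P M)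
    (h : FinPos φ ((Coh.push f).obj M)) : FinPos (pullHom f φ) M := by
  intro q
  induction q generalizing M with
  | zero =>
    obtain ⟨E⟩ := nonempty_acycEmb f M
    obtain ⟨-, hR⟩ := hP M hqc hM E
    let g : GA (pullHom f φ) (cokernel E.i) →ₗ[A] GA φ E.R1 :=
      (mapGA φ (cokernel.π E.pushG)).comp (pushGA f φ _).symm.toLinearMap
    let ι' : GA φ E.B →ₗ[A] GA (pullHom f φ) (cokernel E.i) :=
      (pushGA f φ _).toLinearMap.comp (mapGA φ (Abelian.image.ι E.pushG))
    have hN : Subsingleton (HA (pullHom f φ) E.seq.X₂ (⊤ : X.Opens) 1) := E.acyc 0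
    have hN' : Subsingleton (HA φ E.seqB.X₂ (⊤ : Y.Opens) 1) := E.acycPush 0
    have : Module.Finite A (GA φ E.R1) := have := hR 0; Module.Finite.equiv (secA φ E.R1)
    refine finite_of_two_step (deltaG (pullHom f φ) E.seq_shortExact)
      (deltaG_surjective (pullHom f φ) E.seq_shortExact hN) ι' g (fun x hx => ?_) ?_
    · obtain ⟨b, hb⟩ := sections_exact E.seqR_shortExact ((pushGA f φ _).symm x) hx
      exact ⟨b, hb⟩
    · have : Module.Finite A (HA φ E.seqB.X₁ (⊤ : Y.Opens) 1) := h 0
      let c := (deltaG (pullHom f φ) E.seq_shortExact).comp ι'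
      have : Module.Finite A (LinearMap.range c) := by
        refine finite_of_surjective_of_ker_le c.rangeRestrict (LinearMap.surjective_rangeRestrict c)
          (deltaG φ E.seqB_shortExact) fun x hx => ?_
        rw [LinearMap.ker_rangeRestrict]
        obtain ⟨y, hy⟩ := (deltaG_eq_zero_iff φ E.seqB_shortExact x).1 hx
        refine (deltaG_eq_zero_iff (pullHom f φ) E.seq_shortExact _).2 ⟨pushGA f φ E.N y, ?_⟩
        refine Eq.trans ?_ (congrArg (mapGA φ (Abelian.image.ι E.pushG)) hy)
        exact (congrArg (fun ψ : (Coh.push f).obj E.N ⟶ (Coh.push f).obj (cokernel E.i) =>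
          mapGA φ ψ y) (Abelian.image.fac E.pushG)).symm
      exact Module.Finite.iff_fg.1 this
  | succ q ih =>
    obtain ⟨E⟩ := nonempty_acycEmb f M
    have hqc' := E.qcoh_cokernel
    obtain ⟨hP', hR⟩ := hP M hqc hM E
    have hB : ∀ p, Module.Finite A (HA φ E.seqR.X₁ (⊤ : Y.Opens) (p + 1)) := fun p => by
      have : Subsingleton (HA φ E.seqB.X₂ (⊤ : Y.Opens) (p + 1)) := E.acycPush p
      have : Module.Finite A (HA φ E.seqB.X₁ (⊤ : Y.Opens) (p + 1 + 1)) := h (p + 1)
      exact finite_right φ E.seqB_shortExact ⊤ (p + 1)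
    have h' : FinPos φ ((Coh.push f).obj (cokernel E.i)) := fun p => by
      have := hB p
      have : Module.Finite A (HA φ E.seqR.X₃ (⊤ : Y.Opens) (p + 1)) := hR (p + 1)
      exact finite_middle φ E.seqR_shortExact ⊤ (p + 1)
    have : Module.Finite A (HA (pullHom f φ) E.seq.X₃ (⊤ : X.Opens) (q + 1)) :=
      ih (cokernel E.i) hqc' hP' h'
    have : Subsingleton (HA (pullHom f φ) E.seq.X₂ (⊤ : X.Opens) (q + 1 + 1)) := E.acyc (q + 1)
    exact finite_left (pullHom f φ) E.seq_shortExact ⊤ (q + 1)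

/-- All degrees, from `Y` to `X`. -/
theorem finAll_of_push (hP : ShiftStable f φ P) (M : X.Modules) (hqc : Coh.IsQCoh M) (hM : P M)
    (h : FinAll φ ((Coh.push f).obj M)) : FinAll (pullHom f φ) M
  | 0 => have := h 0; Module.Finite.equiv (pushH0 f φ M)
  | q + 1 => finPos_of_push φ hP M hqc hM (fun p => h (p + 1)) q

/-- All degrees, from `X` to `Y`. -/
theorem finAll_push (hP : ShiftStable f φ P) (M : X.Modules) (hqc : Coh.IsQCoh M) (hM : P M)
    (h : FinAll (pullHom f φ) M) : FinAll φ ((Coh.push f).obj M)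
  | 0 => have := h 0; Module.Finite.equiv (pushH0 f φ M).symm
  | q + 1 => finPos_push φ hP M hqc hM (fun p => h (p + 1)) q

end Groth.Agent.Coherent
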