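import Groth.Agent.Coherent.QcohOps
import Groth.Agent.Coherent.FiniteType
import Groth.Agent.AssSch12.Ass
import Mathlib.Algebra.Category.ModuleCat.Presheaf.Submodule
import Mathlib.Order.Zorn

/-!
# Extending quasi-coherent submodules of finite type from open subsets

Submodules are handled as families of sections `SubM F`; such a family is quasi-coherent of finite
type as soon as it is locally generated by finitely many sections (`Good`).
-/

set_option autoImplicit false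

universe u v

open CategoryTheory CategoryTheory.Limits AlgebraicGeometry Opposite TopologicalSpace
  Groth.Agent.AssSch12

namespace Groth.Agent.Coherent

variable {X : Scheme.{u}} (F : X.Modules)

/-- A submodule sheaf of `F`, given by its sections. -/
structure SubM where
  /-- the sections over an open -/
  carrier : ∀ W : X.Opens, Submodule Γ(X, W) Γ(F, W)
  res : ∀ {W W' : X.Opens} (h : W' ≤ W) {a : Γ(F, W)}, a ∈ carrier W → resM F h a ∈ carrier W'
  of_local : ∀ {W : X.Opens} (a : Γ(F, W)),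
    (∀ y ∈ W, ∃ (W' : X.Opens) (h : W' ≤ W), y ∈ W' ∧ resM F h a ∈ carrier W') → a ∈ carrier W

variable {F}

theorem resM_mem_span {W W' : X.Opens} (h : W' ≤ W) {I : Type*} {s : I → Γ(F, W)} {a : Γ(F, W)}
    (ha : a ∈ Submodule.span Γ(X, W) (Set.range s)) :
    resM F h a ∈ Submodule.span Γ(X, W') (Set.range fun i => resM F h (s i)) := by
  induction ha using Submodule.span_induction with
  | mem x hx => obtain ⟨i, rfl⟩ := hx; exact Submodule.subset_span ⟨i, rfl⟩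
  | zero => rw [map_zero]; exact zero_mem _
  | add x y _ _ hx hy => rw [map_add]; exact add_mem hx hy
  | smul c x _ hx => rw [resM_smul]; exact Submodule.smul_mem _ _ hx

theorem resM_mem_span' {V W W' : X.Opens} (hWV : W ≤ V) (h : W' ≤ W) {I : Type*} {s : I → Γ(F, V)}
    {a : Γ(F, W)} (ha : a ∈ Submodule.span Γ(X, W) (Set.range fun i => resM F hWV (s i))) :
    resM F h a ∈ Submodule.span Γ(X, W') (Set.range fun i => resM F (h.trans hWV) (s i)) := by
  have := resM_mem_span h ha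
  simpa only [resM_resM] using this

variable (F) in
/-- Sections which, inside `V`, are locally combinations of the `s i`. -/
def SubM.locSpan (V : X.Opens) {I : Type*} (s : I → Γ(F, V)) : SubM F where
  carrier W :=
    { carrier := {a | ∀ y ∈ W, y ∈ V → ∃ (W' : X.Opens) (hW : W' ≤ W) (hV : W' ≤ V), y ∈ W' ∧
        resM F hW a ∈ Submodule.span Γ(X, W') (Set.range fun i => resM F hV (s i))}
      zero_mem' := fun y hy hyV => ⟨W ⊓ V, inf_le_left, inf_le_right, ⟨hy, hyV⟩, by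
        rw [map_zero]; exact zero_mem _⟩
      add_mem' := fun {a b} ha hb y hy hyV => by
        obtain ⟨W₁, h₁, h₁', hy₁, m₁⟩ := ha y hy hyV
        obtain ⟨W₂, h₂, h₂', hy₂, m₂⟩ := hb y hy hyV
        refine ⟨W₁ ⊓ W₂, inf_le_left.trans h₁, inf_le_left.trans h₁', ⟨hy₁, hy₂⟩, ?_⟩
        rw [map_add]
        refine add_mem ?_ ?_
        · have := resM_mem_span' h₁' (inf_le_left : W₁ ⊓ W₂ ≤ W₁) m₁
          rwa [resM_resM] at this
        · have := resM_mem_span' h₂' (inf_le_right : W₁ ⊓ W₂ ≤ W₂) m₂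
          rwa [resM_resM] at this
      smul_mem' := fun c a ha y hy hyV => by
        obtain ⟨W₁, h₁, h₁', hy₁, m₁⟩ := ha y hy hyV
        refine ⟨W₁, h₁, h₁', hy₁, ?_⟩
        rw [resM_smul]
        exact Submodule.smul_mem _ _ m₁ }
  res {W W'} h {a} ha y hy hyV := by
    obtain ⟨W₁, h₁, h₁', hy₁, m₁⟩ := ha y (h hy) hyV
    refine ⟨W₁ ⊓ W', inf_le_right, inf_le_left.trans h₁', ⟨hy₁, hy⟩, ?_⟩
    have := resM_mem_span' h₁' (inf_le_left : W₁ ⊓ W' ≤ W₁) m₁
    rw [resM_resM] at this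
    rwa [resM_resM]
  of_local {W} a ha y hy hyV := by
    obtain ⟨W₁, h₁, hy₁, m₁⟩ := ha y hy
    obtain ⟨W₂, h₂, h₂', hy₂, m₂⟩ := m₁ y hy₁ hyV
    refine ⟨W₂, h₂.trans h₁, h₂', hy₂, ?_⟩
    rwa [resM_resM] at m₂

theorem SubM.mem_locSpan_self {V : X.Opens} {I : Type*} (s : I → Γ(F, V)) (i : I) :
    s i ∈ (SubM.locSpan F V s).carrier V :=
  fun _ hy _ => ⟨V, le_rfl, le_rfl, hy, Submodule.subset_span ⟨i, rfl⟩⟩

/-- Sections whose restriction to `U` lies in `P`. -/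
def SubM.satur (U : X.Opens) (P : SubM F) : SubM F where
  carrier W :=
    { carrier := {a : Γ(F, W) | resM F (inf_le_left : W ⊓ U ≤ W) a ∈ P.carrier (W ⊓ U)}
      zero_mem' := by
        show resM F (inf_le_left : W ⊓ U ≤ W) (0 : Γ(F, W)) ∈ P.carrier (W ⊓ U)
        rw [map_zero]; exact zero_mem _
      add_mem' := fun {a b} ha hb => by
        show resM F (inf_le_left : W ⊓ U ≤ W) (a + b) ∈ P.carrier (W ⊓ U)
        rw [map_add]; exact add_mem ha hb
      smul_mem' := fun c a ha => by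
        show resM F (inf_le_left : W ⊓ U ≤ W) (c • a) ∈ P.carrier (W ⊓ U)
        rw [resM_smul]; exact Submodule.smul_mem _ _ ha }
  res {W W'} h {a} ha := by
    show resM F (inf_le_left : W' ⊓ U ≤ W') (resM F h a) ∈ P.carrier (W' ⊓ U)
    have := P.res (inf_le_inf_right U h : W' ⊓ U ≤ W ⊓ U) ha
    rw [resM_resM] at this
    rwa [resM_resM]
  of_local {W} a ha := by
    refine P.of_local _ fun y hy => ?_
    obtain ⟨W', h, hy', hm⟩ := ha y hy.1
    refine ⟨W' ⊓ U, inf_le_inf_right U h, ⟨hy', hy.2⟩, ?_⟩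
    have hm' : resM F inf_le_left (resM F h a) ∈ P.carrier (W' ⊓ U) := hm
    rw [resM_resM] at hm'
    rwa [resM_resM]

noncomputable instance : Min (SubM F) where
  min P Q :=
    { carrier := fun W => P.carrier W ⊓ Q.carrier W
      res := fun {_ _} h {_a} ha => ⟨P.res h ha.1, Q.res h ha.2⟩
      of_local := fun {_} a ha => ⟨P.of_local a fun y hy => by
          obtain ⟨W', h, h', hm⟩ := ha y hy; exact ⟨W', h, h', hm.1⟩,
        Q.of_local a fun y hy => by
          obtain ⟨W', h, h', hm⟩ := ha y hy; exact ⟨W', h, h', hm.2⟩⟩ }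

/-- `P` is generated by the `s i` inside `V`. -/
def SubM.GenBy (P : SubM F) (V : X.Opens) {I : Type*} (s : I → Γ(F, V)) : Prop :=
  (∀ i, s i ∈ P.carrier V) ∧ ∀ (W : X.Opens), W ≤ V → ∀ a ∈ P.carrier W,
    a ∈ (SubM.locSpan F V s).carrier W

theorem SubM.GenBy.restrict {P : SubM F} {V : X.Opens} {I : Type*} {s : I → Γ(F, V)}
    (h : P.GenBy V s) {V' : X.Opens} (hV : V' ≤ V) : P.GenBy V' fun i => resM F hV (s i) := by
  refine ⟨fun i => P.res hV (h.1 i), fun W hW a ha y hy hyV' => ?_⟩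
  obtain ⟨W', h₁, h₂, hy', m⟩ := h.2 W (hW.trans hV) a ha y hy (hV hyV')
  refine ⟨W', h₁, h₁.trans hW, hy', ?_⟩
  simpa only [resM_resM] using m

/-- `P` is locally finitely generated on `U`. -/
def SubM.Good (P : SubM F) (U : X.Opens) : Prop :=
  ∀ x ∈ U, ∃ V : X.Opens, V ≤ U ∧ x ∈ V ∧
    ∃ (I : Type u) (_ : Finite I) (s : I → Γ(F, V)), P.GenBy V s

/-- Local membership in a span gives membership up to a power. -/
theorem exists_pow_smul_mem_span [Coh.IsQCoh F] {V : X.Opens} (hV : IsAffineOpen V) {I : Type*}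
    (s : I → Γ(F, V)) (t : Γ(F, V)) (f : Γ(X, V))
    (h : resM F (X.basicOpen_le f) t ∈ (SubM.locSpan F V s).carrier (X.basicOpen f)) :
    ∃ n : ℕ, f ^ n • t ∈ Submodule.span Γ(X, V) (Set.range s) := by
  let J : Ideal Γ(X, V) :=
    (Submodule.span Γ(X, V) (Set.range s)).comap (LinearMap.toSpanSingleton Γ(X, V) Γ(F, V) t)
  suffices hf : f ∈ J.radical from hf
  rw [Ideal.radical_eq_sInf, Submodule.mem_sInf]
  rintro p ⟨hJp, hp⟩
  by_contra hfp
  let q : PrimeSpectrum Γ(X, V) := ⟨p, hp⟩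
  have hbasic : ∀ g : Γ(X, V), hV.fromSpec q ∈ X.basicOpen g ↔ g ∉ p := fun g => by
    have := hV.fromSpec_preimage_basicOpen g
    exact (SetLike.ext_iff.1 this q)
  have hxf : hV.fromSpec q ∈ X.basicOpen f := (hbasic f).2 hfp
  obtain ⟨W', hW'f, hW'V, hxW', hm⟩ := h _ hxf (X.basicOpen_le f hxf)
  rw [resM_resM] at hm
  obtain ⟨g, hgW, hxg⟩ := hV.exists_basicOpen_le ⟨_, hxW'⟩ (X.basicOpen_le f hxf)
  have hm' := resM_mem_span' hW'V hgW hm
  rw [resM_resM] at hm'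
  have := hV.isLocalization_basicOpen g
  let r := X.presheaf.map (homOfLE (X.basicOpen_le g)).op
  have key : ∀ b ∈ Submodule.span Γ(X, X.basicOpen g)
      (Set.range fun i => resM F (hgW.trans hW'V) (s i)),
      ∃ (k : ℕ) (m : Γ(F, V)), m ∈ Submodule.span Γ(X, V) (Set.range s) ∧
        resM F (X.basicOpen_le g) m = r (g ^ k) • b := by
    intro b hb
    induction hb using Submodule.span_induction with
    | mem x hx =>
      obtain ⟨i, rfl⟩ := hx
      exact ⟨0, s i, Submodule.subset_span ⟨i, rfl⟩, by rw [pow_zero, map_one, one_smul]⟩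
    | zero => exact ⟨0, 0, zero_mem _, by rw [map_zero, smul_zero]⟩
    | add x y _ _ hx hy =>
      obtain ⟨k, m, hm₁, hm₂⟩ := hx
      obtain ⟨l, n, hn₁, hn₂⟩ := hy
      refine ⟨k + l, g ^ l • m + g ^ k • n,
        add_mem (Submodule.smul_mem _ _ hm₁) (Submodule.smul_mem _ _ hn₁), ?_⟩
      rw [map_add, resM_smul, resM_smul, hm₂, hn₂, smul_smul, smul_smul, pow_add, map_mul, smul_add,
        mul_comm (r (g ^ l))]
    | smul c x _ hx =>
      obtain ⟨k, m, hm₁, hm₂⟩ := hx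
      obtain ⟨⟨a, ⟨_, l, rfl⟩⟩, hal⟩ := IsLocalization.surj (M := Submonoid.powers g)
        (R := Γ(X, V)) (S := Γ(X, X.basicOpen g)) c
      replace hal : c * r (g ^ l) = r a := hal
      refine ⟨k + l, a • m, Submodule.smul_mem _ _ hm₁, ?_⟩
      rw [resM_smul, hm₂, smul_smul, smul_smul, pow_add, map_mul]
      congr 1
      show r a * r (g ^ k) = r (g ^ k) * r (g ^ l) * c
      rw [← hal]; ring
  obtain ⟨k, m, hm₁, hm₂⟩ := key _ hm'
  have h0 : resM F (X.basicOpen_le g) (g ^ k • t - m) = 0 := by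
    rw [map_sub, resM_smul, hm₂, sub_self]
  obtain ⟨l, hl⟩ := qcoh_exists_pow_smul_eq_zero hV F g _ h0
  rw [smul_sub, sub_eq_zero, smul_smul, ← pow_add] at hl
  have hgJ : g ^ (l + k) ∈ J := by
    show g ^ (l + k) • t ∈ Submodule.span Γ(X, V) (Set.range s)
    rw [hl]
    exact Submodule.smul_mem _ _ hm₁
  exact (hbasic g).1 hxg (hp.mem_of_pow_mem _ (hJp hgJ))

theorem mem_span_of_mem_locSpan [Coh.IsQCoh F] {V : X.Opens} (hV : IsAffineOpen V) {I : Type*}
    (s : I → Γ(F, V)) (t : Γ(F, V)) (h : t ∈ (SubM.locSpan F V s).carrier V) :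
    t ∈ Submodule.span Γ(X, V) (Set.range s) := by
  obtain ⟨n, hn⟩ := exists_pow_smul_mem_span hV s t 1 ((SubM.locSpan F V s).res _ h)
  rwa [one_pow, one_smul] at hn

/-- One step: a finitely generated submodule extends across an affine open with quasi-compact
intersection. -/
theorem exists_genBy_extend [Coh.IsQCoh F] (P : SubM F) (U : X.Opens) (hP : P.Good U) (V : X.Opens)
    (hV : IsAffineOpen V) (hc : IsCompact (↑(U ⊓ V) : Set X)) :
    ∃ (I : Type u) (_ : Finite I) (t : I → Γ(F, V)),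
      (SubM.satur U P ⊓ SubM.locSpan F V t).GenBy V t ∧
      ∀ W : X.Opens, W ≤ U → (SubM.satur U P ⊓ SubM.locSpan F V t).carrier W = P.carrier W := by
  classical
  have hloc : ∀ x : ↥(U ⊓ V), ∃ f : Γ(X, V), x.1 ∈ X.basicOpen f ∧ X.basicOpen f ≤ U ∧
      ∃ (I : Type u) (_ : Finite I) (s : I → Γ(F, X.basicOpen f)), P.GenBy (X.basicOpen f) s := by
    intro x
    obtain ⟨N, hNU, hxN, I, hI, s, hs⟩ := hP x.1 x.2.1
    obtain ⟨f, hf, hxf⟩ := hV.exists_basicOpen_le ⟨x.1, hxN⟩ x.2.2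
    exact ⟨f, hxf, hf.trans hNU, I, hI, _, hs.restrict hf⟩
  choose f hxf hfU I hI s hs using hloc
  obtain ⟨T, hT⟩ := hc.elim_finite_subcover (fun x => (X.basicOpen (f x) : Set X))
    (fun x => (X.basicOpen (f x)).2) fun x hx => Set.mem_iUnion.2 ⟨⟨x, hx⟩, hxf ⟨x, hx⟩⟩
  have hcovT : ∀ y, y ∈ U → y ∈ V → ∃ j ∈ T, y ∈ X.basicOpen (f j) := fun y hyU hyV => by
    obtain ⟨j, hj, hyj⟩ := Set.mem_iUnion₂.1 (hT (show y ∈ (↑(U ⊓ V) : Set X) from ⟨hyU, hyV⟩))
    exact ⟨j, hj, hyj⟩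
  have hlift : ∀ (j : ↥(U ⊓ V)) (i : I j), ∃ (n : ℕ) (t : Γ(F, V)),
      resM F (X.basicOpen_le (f j)) t =
        X.presheaf.map (homOfLE (X.basicOpen_le (f j))).op (f j ^ n) • s j i ∧
      t ∈ (SubM.satur U P).carrier V := by
    intro j i
    obtain ⟨n, t₀, ht₀⟩ := qcoh_exists_pow_smul hV F (f j) (s j i)
    have hm : ∀ l : ↥(U ⊓ V), ∃ m : ℕ,
        resM F (X.basicOpen_le (f l)) (f j ^ m • t₀) ∈ P.carrier (X.basicOpen (f l)) := by
      intro l
      let f' := X.presheaf.map (homOfLE (X.basicOpen_le (f l))).op (f j)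
      have hb : X.basicOpen f' = X.basicOpen (f l) ⊓ X.basicOpen (f j) := Scheme.basicOpen_res ..
      have hle : X.basicOpen f' ≤ X.basicOpen (f j) := hb.le.trans inf_le_right
      obtain ⟨m, hm⟩ := exists_pow_smul_mem_span (hV.basicOpen (f l)) (s l)
        (resM F (X.basicOpen_le (f l)) t₀) f' ((hs l).2 _ (X.basicOpen_le f') _ (by
          rw [resM_resM, ← resM_resM (M := F) (X.basicOpen_le (f j)) hle t₀, ht₀]
          exact P.res hle (Submodule.smul_mem _ _ ((hs j).1 i))))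
      refine ⟨m, ?_⟩
      rw [resM_smul, map_pow]
      exact Submodule.span_le.2 (Set.range_subset_iff.2 (hs l).1) hm
    choose m hm using hm
    refine ⟨T.sup m + n, f j ^ T.sup m • t₀, ?_, ?_⟩
    · rw [resM_smul, ht₀, smul_smul, ← map_mul, ← pow_add]
    · refine P.of_local _ fun y hy => ?_
      obtain ⟨l, hl, hyl⟩ := hcovT y hy.2 hy.1
      refine ⟨X.basicOpen (f l), le_inf (X.basicOpen_le _) (hfU l), hyl, ?_⟩
      rw [resM_resM]
      obtain ⟨d, hd⟩ := Nat.exists_eq_add_of_le (Finset.le_sup (f := m) hl)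
      rw [hd, pow_add, mul_comm, mul_smul, resM_smul]
      exact Submodule.smul_mem _ _ (hm l)
  choose n t ht htP using hlift
  let J := Σ j : T, I j.1
  let g : J → Γ(F, V) := fun a => t a.1.1 a.2
  refine ⟨J, inferInstance, g, ⟨fun a => ⟨htP a.1.1 a.2, SubM.mem_locSpan_self g a⟩,
    fun W _ a ha => ha.2⟩, fun W hW => le_antisymm (fun a ha => ?_) fun a ha => ?_⟩
  · refine P.of_local a fun y hy => ⟨W ⊓ U, inf_le_left, ⟨hy, hW hy⟩, ha.1⟩
  · refine ⟨P.res _ ha, fun y hy hyV => ?_⟩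
    obtain ⟨j, hj, hyj⟩ := hcovT y (hW hy) hyV
    obtain ⟨W', h₁, h₂, hy', hm⟩ := (hs j).2 (W ⊓ X.basicOpen (f j)) inf_le_right _
      (P.res inf_le_left ha) y ⟨hy, hyj⟩ hyj
    rw [resM_resM] at hm
    refine ⟨W', h₁.trans inf_le_left, h₂.trans (X.basicOpen_le _), hy', ?_⟩
    refine Submodule.span_le.2 (Set.range_subset_iff.2 fun i => ?_) hm
    obtain ⟨v, hv⟩ := (isUnit_res_pow (f j) (X.basicOpen_le (f j)) le_rfl (n j i)).exists_left_inv
    have he : s j i = v • resM F (X.basicOpen_le (f j)) (t j i) := by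
      rw [ht, smul_smul, hv, one_smul]
    rw [SetLike.mem_coe, he, resM_smul, resM_resM]
    exact Submodule.smul_mem _ _ (Submodule.subset_span ⟨⟨⟨j, hj⟩, i⟩, rfl⟩)

/-- Compatible good submodules glue. -/
theorem exists_good_union {κ : Type*} (U : κ → X.Opens) (P : κ → SubM F) (hP : ∀ k, (P k).Good (U k))
    (hcomp : ∀ (k l : κ) (W : X.Opens), W ≤ U k → W ≤ U l → (P k).carrier W = (P l).carrier W) :
    ∃ Q : SubM F, Q.Good (⨆ k, U k) ∧
      ∀ (k : κ) (W : X.Opens), W ≤ U k → Q.carrier W = (P k).carrier W := by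
  let Q : SubM F :=
    { carrier := fun W => ⨅ k, (SubM.satur (U k) (P k)).carrier W
      res := fun {_ _} h {_} hx => (Submodule.mem_iInf _).2 fun k =>
        SubM.res _ h ((Submodule.mem_iInf _).1 hx k)
      of_local := fun {_} x hx => (Submodule.mem_iInf _).2 fun k => SubM.of_local _ x fun y hy => by
        obtain ⟨W', h, hy', hm⟩ := hx y hy
        exact ⟨W', h, hy', (Submodule.mem_iInf _).1 hm k⟩ }
  have hQ : ∀ (k : κ) (W : X.Opens), W ≤ U k → Q.carrier W = (P k).carrier W := by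
    intro k W hW
    refine le_antisymm (fun x hx => ?_) fun x hx => (Submodule.mem_iInf _).2 fun l => ?_
    · exact (P k).of_local x fun y hy => ⟨W ⊓ U k, inf_le_left, ⟨hy, hW hy⟩,
        (Submodule.mem_iInf _).1 hx k⟩
    · show resM F (inf_le_left : W ⊓ U l ≤ W) x ∈ (P l).carrier (W ⊓ U l)
      rw [← hcomp k l _ (inf_le_left.trans hW) inf_le_right]
      exact (P k).res _ hx
  refine ⟨Q, fun x hx => ?_, hQ⟩
  obtain ⟨k, hk⟩ := Opens.mem_iSup.1 hx
  obtain ⟨W, hW, hxW, I, hI, s, hs⟩ := hP k x hk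
  refine ⟨W, hW.trans (le_iSup U k), hxW, I, hI, s, fun i => ?_, fun W' hW' b hb => hs.2 W' hW' b ?_⟩
  · rw [hQ k W hW]; exact hs.1 i
  · rwa [hQ k W' (hW'.trans hW)] at hb

theorem SubM.Good.congr {P Q : SubM F} {U : X.Opens} (hP : P.Good U)
    (h : ∀ W : X.Opens, W ≤ U → Q.carrier W = P.carrier W) : Q.Good U := by
  intro x hx
  obtain ⟨W, hW, hxW, I, hI, s, hs⟩ := hP x hx
  refine ⟨W, hW, hxW, I, hI, s, fun i => ?_, fun W' hW' b hb => hs.2 W' hW' b ?_⟩
  · rw [h W hW]; exact hs.1 i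
  · rwa [h W' (hW'.trans hW)] at hb

/-- A state of the transfinite extension. -/
structure ExtState (U : X.Opens) (P : SubM F) {ι : Type v} (V : ι → X.Opens) (A : Set ι → Prop) where
  S : Set ι
  Q : SubM F
  mem : A S
  good : Q.Good (U ⊔ ⨆ i : S, V i)
  agree : ∀ W : X.Opens, W ≤ U → Q.carrier W = P.carrier W

theorem iSup_subtype_mono {ι : Type v} (V : ι → X.Opens) {S S' : Set ι} (h : S ⊆ S') (U : X.Opens) :
    U ⊔ ⨆ i : S, V i ≤ U ⊔ ⨆ i : S', V i := by
  refine sup_le_sup_left ?_ U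
  exact iSup_le fun i => le_iSup (fun j : S' => V j.1) ⟨i.1, h i.2⟩

/-- Zorn's lemma for extensions along an affine cover. -/
theorem exists_good_extension [Coh.IsQCoh F] {ι : Type v} (V : ι → X.Opens)
    (hV : ∀ i, IsAffineOpen (V i)) (hcov : ⨆ i, V i = ⊤) (U : X.Opens) (P : SubM F) (hP : P.Good U)
    (A : Set ι → Prop) (h0 : A ∅)
    (hchain : ∀ c : Set (Set ι), IsChain (· ⊆ ·) c → (∀ S ∈ c, A S) → c.Nonempty → A (⋃₀ c))
    (hstep : ∀ S, A S → S ≠ Set.univ →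
      ∃ l, l ∉ S ∧ A (insert l S) ∧ IsCompact (↑((U ⊔ ⨆ i : S, V i) ⊓ V l) : Set X)) :
    ∃ Q : SubM F, Q.Good ⊤ ∧ ∀ W : X.Opens, W ≤ U → Q.carrier W = P.carrier W := by
  classical
  have hU0 : U ⊔ ⨆ i : (∅ : Set ι), V i = U := sup_eq_left.2 (iSup_le fun i => i.2.elim)
  let a₀ : ExtState U P V A := ⟨∅, P, h0, hU0.symm ▸ hP, fun _ _ => rfl⟩
  let r : ExtState U P V A → ExtState U P V A → Prop := fun a b => a.S ⊆ b.S ∧
    ∀ W : X.Opens, W ≤ (U ⊔ ⨆ i : a.S, V i) → b.Q.carrier W = a.Q.carrier W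
  obtain ⟨M, hM⟩ : ∃ M, ∀ a, r M a → r a M := by
    refine exists_maximal_of_chains_bounded (r := r) (fun c hc => ?_)
      (fun {a b d} hab hbd => ⟨hab.1.trans hbd.1, fun W hW =>
        (hbd.2 W (hW.trans (iSup_subtype_mono V hab.1 U))).trans (hab.2 W hW)⟩)
    rcases c.eq_empty_or_nonempty with rfl | ⟨a₁, ha₁⟩
    · exact ⟨a₀, fun a ha => ha.elim⟩
    obtain ⟨Q, hgood, hQ⟩ := exists_good_union (fun a : c => U ⊔ ⨆ i : a.1.S, V i)
      (fun a : c => a.1.Q) (fun a => a.1.good) (fun a b W ha hb => by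
        rcases eq_or_ne a.1 b.1 with hab | hab
        · rw [hab]
        rcases hc a.2 b.2 hab with h | h
        · exact (h.2 W ha).symm
        · exact h.2 W hb)
    let Sc : Set ι := ⋃₀ (ExtState.S '' c)
    have hsub : ∀ a ∈ c, a.S ⊆ Sc := fun a ha i hi => ⟨_, ⟨a, ha, rfl⟩, hi⟩
    have hA : A Sc := hchain _ (hc.image_of_map_rel r (fun x y : Set ι => x ⊆ y) ExtState.S fun _ _ h => h.1)
      (by rintro _ ⟨a, -, rfl⟩; exact a.mem) ⟨_, a₁, ha₁, rfl⟩
    have hUeq : (U ⊔ ⨆ i : Sc, V i) = ⨆ a : c, U ⊔ ⨆ i : a.1.S, V i := by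
      refine le_antisymm (sup_le (le_iSup_of_le ⟨a₁, ha₁⟩ le_sup_left) (iSup_le fun i => ?_))
        (iSup_le fun a => iSup_subtype_mono V (hsub a.1 a.2) U)
      obtain ⟨_, ⟨a, ha, rfl⟩, hia⟩ := i.2
      exact le_iSup_of_le ⟨a, ha⟩ (le_trans (le_iSup_of_le (⟨i.1, hia⟩ : a.S) le_rfl) le_sup_right)
    exact ⟨⟨Sc, Q, hA, hUeq ▸ hgood, fun W hW =>
      (hQ ⟨a₁, ha₁⟩ W (hW.trans le_sup_left)).trans (a₁.agree W hW)⟩,
      fun a ha => ⟨hsub a ha, fun W hW => hQ ⟨a, ha⟩ W hW⟩⟩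
  by_cases hS : M.S = Set.univ
  · refine ⟨M.Q, ?_, M.agree⟩
    have : U ⊔ ⨆ i : M.S, V i = ⊤ := by
      refine top_le_iff.1 (le_trans ?_ le_sup_right)
      rw [← hcov]
      exact iSup_le fun i => le_iSup_of_le (⟨i, hS ▸ trivial⟩ : M.S) le_rfl
    exact this ▸ M.good
  obtain ⟨l, hl, hAl, hc⟩ := hstep M.S M.mem hS
  obtain ⟨I, hI, t, ht, hQ'⟩ := exists_genBy_extend M.Q _ M.good (V l) (hV l) hc
  let Q' := SubM.satur (U ⊔ ⨆ i : M.S, V i) M.Q ⊓ SubM.locSpan F (V l) t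
  have hgood' : Q'.Good (U ⊔ ⨆ i : (insert l M.S : Set ι), V i) := by
    intro x hx
    by_cases hxS : x ∈ U ⊔ ⨆ i : M.S, V i
    · obtain ⟨W, hW, hxW, rest⟩ := (M.good.congr hQ') x hxS
      exact ⟨W, hW.trans (iSup_subtype_mono V (Set.subset_insert _ _) U), hxW, rest⟩
    · refine ⟨V l, le_trans (le_iSup_of_le (⟨l, Set.mem_insert _ _⟩ : (insert l M.S : Set ι)) le_rfl)
        le_sup_right, ?_, I, hI, t, ht⟩
      rcases hx with hx | hx
      · exact absurd (Or.inl hx) hxS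
      · obtain ⟨⟨i, hi⟩, hxi⟩ := Opens.mem_iSup.1 hx
        rcases hi with rfl | hi
        · exact hxi
        · exact absurd (Or.inr (Opens.mem_iSup.2 ⟨⟨i, hi⟩, hxi⟩)) hxS
  have := (hM ⟨insert l M.S, Q', hAl, hgood', fun W hW =>
    (hQ' W (hW.trans le_sup_left)).trans (M.agree W hW)⟩ ⟨Set.subset_insert _ _, hQ'⟩).1
  exact absurd (this (Set.mem_insert _ _)) hl

end Groth.Agent.Coherent
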