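import Groth.Agent.Coherent.SubFTMod

/-!
# Extension of finite type submodules: the standard hypotheses
-/

set_option autoImplicit false

universe u v

open CategoryTheory CategoryTheory.Limits AlgebraicGeometry Opposite TopologicalSpace

namespace Groth.Agent.Coherent

variable {X : Scheme.{u}} {F : X.Modules} [Coh.IsQCoh F] (U : X.Opens)
  {G : (U : Scheme.{u}).Modules} (i : G ⟶ F.restrict U.ι) [Mono i]

theorem exists_noetherian_affine_cover
    (hX : ∀ x : X, ∃ W : X.Opens, x ∈ W ∧ NoetherianSpace (W : Set X)) :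
    ∃ V : X → X.Opens, (∀ x, IsAffineOpen (V x)) ∧ ⨆ x, V x = ⊤ ∧
      ∀ (x : X) (W : X.Opens), IsCompact (↑(W ⊓ V x) : Set X) := by
  choose W hxW hW using hX
  choose V hV hxV hVW using fun x => Opens.isBasis_iff_nbhd.mp X.isBasis_affineOpens (hxW x)
  refine ⟨V, hV, eq_top_iff.2 fun x _ => Opens.mem_iSup.2 ⟨x, hxV x⟩, fun x W' => ?_⟩
  have := hW x
  exact noetherianSpace_set_iff _ |>.1 this _ (Set.inter_subset_right.trans (hVW x))

/-- Extension on a scheme with locally noetherian underlying space. -/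
theorem exists_finiteType_extension_locallyNoetherian (hG : CohB1.IsFT G)
    (hX : ∀ x : X, ∃ W : X.Opens, x ∈ W ∧ NoetherianSpace (W : Set X)) :
    ∃ (G' : X.Modules) (i' : G' ⟶ F) (e : G'.restrict U.ι ≅ G), Mono i' ∧ Coh.IsQCoh G' ∧
      CohB1.IsFT G' ∧ e.hom ≫ i = (Scheme.Modules.restrictFunctor U.ι).map i' := by
  obtain ⟨V, hV, hcov, hc⟩ := exists_noetherian_affine_cover hX
  refine exists_finiteType_extension U i hG V hV hcov (fun _ => True) trivial
    (fun _ _ _ _ => trivial) fun S _ hS => ?_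
  obtain ⟨l, hl⟩ := (Set.ne_univ_iff_exists_notMem S).1 hS
  exact ⟨l, hl, trivial, hc l _⟩

/-- Extension from a quasi-compact open of a quasi-compact quasi-separated scheme. -/
theorem exists_finiteType_extension_qcqs [CompactSpace X] [QuasiSeparatedSpace X]
    (hG : CohB1.IsFT G) (hU : IsCompact (U : Set X)) :
    ∃ (G' : X.Modules) (i' : G' ⟶ F) (e : G'.restrict U.ι ≅ G), Mono i' ∧ Coh.IsQCoh G' ∧
      CohB1.IsFT G' ∧ e.hom ≫ i = (Scheme.Modules.restrictFunctor U.ι).map i' := by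
  classical
  obtain ⟨s, hs, hcov⟩ := isCompact_iff_finite_and_eq_biUnion_affineOpens.1
    (show IsCompact ((⊤ : X.Opens) : Set X) from isCompact_univ)
  have := hs.to_subtype
  refine exists_finiteType_extension U i hG (fun j : s => j.1.1) (fun j => j.1.2) ?_ (fun _ => True)
    trivial (fun _ _ _ _ => trivial) fun S _ hS => ?_
  · refine eq_top_iff.2 fun x hx => ?_
    rw [hcov] at hx
    simp only [Opens.mem_iSup] at hx ⊢
    obtain ⟨j, hj, hxj⟩ := hx
    exact ⟨⟨j, hj⟩, hxj⟩
  obtain ⟨l, hl⟩ := (Set.ne_univ_iff_exists_notMem S).1 hS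
  refine ⟨l, hl, trivial, ?_⟩
  have h1 : IsCompact (↑(U ⊔ ⨆ j : S, j.1.1.1) : Set X) := by
    rw [Opens.coe_sup, Opens.coe_iSup]
    exact hU.union (isCompact_iUnion fun j => j.1.1.2.isCompact)
  rw [Opens.coe_inf]
  exact QuasiSeparatedSpace.inter_isCompact _ _ (U ⊔ ⨆ j : S, j.1.1.1).2 h1 l.1.1.2 l.1.2.isCompact

/-- Extension along a well-ordered affine cover. -/
theorem exists_finiteType_extension_wellOrdered {L : Type v} [LinearOrder L] [WellFoundedLT L]
    (V : L → X.Opens) (hV : ∀ l, IsAffineOpen (V l)) (hcov : ⨆ l, V l = ⊤)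
    (hW : ∀ l, IsCompact ((V l : Set X) ∩ ⋃ m ∈ Set.Iio l, (V m : Set X)))
    [QuasiCompact U.ι] (hG : CohB1.IsFT G) :
    ∃ (G' : X.Modules) (i' : G' ⟶ F) (e : G'.restrict U.ι ≅ G), Mono i' ∧ Coh.IsQCoh G' ∧
      CohB1.IsFT G' ∧ e.hom ≫ i = (Scheme.Modules.restrictFunctor U.ι).map i' := by
  refine exists_finiteType_extension U i hG V hV hcov IsLowerSet
    (fun _ _ _ h => h.elim) (fun c _ h _ => isLowerSet_sUnion h) fun S hS hne => ?_
  obtain ⟨l, hl, hmin⟩ := (wellFounded_lt (α := L)).has_min Sᶜ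
    (Set.nonempty_compl.2 hne)
  have hSeq : S = Set.Iio l := by
    ext m
    refine ⟨fun hm => lt_of_not_ge fun h => hl (hS h hm), fun hm => ?_⟩
    by_contra hm'
    exact hmin m hm' hm
  refine ⟨l, hl, ?_, ?_⟩
  · intro a b hba ha
    rcases eq_or_ne b l with rfl | hb
    · exact Set.mem_insert _ _
    · refine Set.mem_insert_of_mem _ ?_
      rcases ha with rfl | ha
      · rw [hSeq]; exact lt_of_le_of_ne hba hb
      · exact hS hba ha
  · subst hSeq
    have h1 : IsCompact ((U : Set X) ∩ (V l : Set X)) := by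
      have h := U.ι.isCompact_preimage (U := V l) (hV l).isCompact
      have := h.image U.ι.continuous
      rwa [Scheme.Hom.coe_preimage, Set.image_preimage_eq_inter_range, Scheme.Opens.range_ι,
        Set.inter_comm] at this
    have : (↑((U ⊔ ⨆ j : Set.Iio l, V j) ⊓ V l) : Set X) =
        ((U : Set X) ∩ V l) ∪ ((V l : Set X) ∩ ⋃ m ∈ Set.Iio l, (V m : Set X)) := by
      simp only [Opens.coe_inf, Opens.coe_sup, Opens.coe_iSup, Set.union_inter_distrib_right,
        Set.biUnion_eq_iUnion, Set.inter_comm (V l : Set X)]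
    rw [this]
    exact h1.union (hW l)

end Groth.Agent.Coherent
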