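import Groth.Agent.Coherent.TensorBasis
import Groth.Agent.Coherent.QcohLocal
import Groth.Agent.DCat.PullTensor
import Groth.Agent.TwistLib.G.Map
import Mathlib.CategoryTheory.Abelian.Exact

/-!
# Tensoring with a finite locally free module is exact
-/

set_option autoImplicit false
set_option backward.isDefEq.respectTransparency false

universe u

open CategoryTheory CategoryTheory.Limits AlgebraicGeometry Opposite TopologicalSpace
open Groth.Agent.Coherent Groth.Agent.PicLib Groth.Agent.AmpleLib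

namespace Groth.Agent.Coherent

variable {X : Scheme.{u}} (E : X.Modules)

/-- `E ⊗ -`. -/
noncomputable abbrev tensE : X.Modules ⥤ X.Modules := (DCoh.tensorBi (X := X)).obj E

/-- `E ⊗ g`, between the tensor products. -/
noncomputable def tE {M N : X.Modules} (g : M ⟶ N) : CohB1.tensorMod E M ⟶ CohB1.tensorMod E N :=
  (tensE E).map g

theorem tensE_map_tmul {M N : X.Modules} (g : M ⟶ N) (U : X.Opens) (a : Γ(E, U)) (b : Γ(M, U)) :
    (tE E g).app U (tmul a b) = tmul a (g.app U b) :=
  DCat.PullTensor.tensorBi_obj_map_tmul g U a b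

theorem tensE_map_sum {M N : X.Modules} (g : M ⟶ N) {V : X.Opens} {I : Type u} [Fintype I]
    (a : I → Γ(E, V)) (b : I → Γ(M, V)) :
    (tE E g).app V (∑ i, tmul (a i) (b i)) = ∑ i, tmul (a i) (g.app V (b i)) := by
  rw [map_sum]
  exact Finset.sum_congr rfl fun i _ => tensE_map_tmul E g V (a i) (b i)

variable {E} (hE : FlatMod.IsFinLocFree E)
include hE

theorem exists_basis_nhd (y : X) (V : X.Opens) (hy : y ∈ V) :
    ∃ (U : X.Opens) (n : ℕ) (e : ULift.{u} (Fin n) → Γ(E, U)),
      y ∈ U ∧ U ≤ V ∧ IsBasisOn E U e := by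
  obtain ⟨U, n, e, hyU, he⟩ := exists_isBasisOn hE y
  refine ⟨U ⊓ V, n, fun i => resM E inf_le_left (e i), ⟨hyU, hy⟩, inf_le_right, fun W hW => ?_⟩
  have h := he (hW.trans inf_le_left)
  simpa only [resM_resM] using h

theorem tensE_map_injective {M N : X.Modules} (g : M ⟶ N)
    (hg : ∀ V : X.Opens, Function.Injective (g.app V)) (V : X.Opens) :
    Function.Injective ((tE E g).app V) := by
  intro z z' h
  refine sec_ext _ z z' fun y hy => ?_
  obtain ⟨U, n, e, hyU, hUV, he⟩ := exists_basis_nhd hE y V hy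
  refine ⟨U, hUV, hyU, ?_⟩
  obtain ⟨m, hm⟩ := (bijective_sum_tmul he M U le_rfl).2 (resM _ hUV z)
  obtain ⟨m', hm'⟩ := (bijective_sum_tmul he M U le_rfl).2 (resM _ hUV z')
  have h1 := congrArg (resM _ hUV) h
  rw [← app_resM, ← app_resM, ← hm, ← hm', tensE_map_sum, tensE_map_sum] at h1
  have h2 := (bijective_sum_tmul he N U le_rfl).1 (a₁ := fun i => g.app U (m i))
    (a₂ := fun i => g.app U (m' i)) h1
  rw [← hm, ← hm']
  rw [show m = m' from funext fun i => hg U (congrFun h2 i)]

theorem mono_tensE_map {M N : X.Modules} (g : M ⟶ N) [Mono g] : Mono (tE E g) :=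
  ⟨fun u v h => Scheme.Modules.hom_ext _ _ fun V => by
    ext a
    exact tensE_map_injective hE g (app_injective_of_mono g) V
      (congr($h |>.app V a))⟩

theorem epi_tensE_map {M N : X.Modules} (g : M ⟶ N) [Epi g] : Epi (tE E g) := by
  refine epi_of_locally_surjective _ fun W a y hy => ?_
  obtain ⟨U, n, e, hyU, hUW, he⟩ := exists_basis_nhd hE y W hy
  obtain ⟨m, hm⟩ := (bijective_sum_tmul he N U le_rfl).2 (resM _ hUW a)
  choose V hV hyV b hb using fun i => exists_lift_of_epi g U (m i) y hyU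
  let V₀ : X.Opens := ⟨U ∩ ⋂ i, (V i : Set X), U.2.inter (isOpen_iInter_of_finite fun i => (V i).2)⟩
  have h0 : V₀ ≤ U := fun z hz => hz.1
  have hi : ∀ i, V₀ ≤ V i := fun i z hz => Set.mem_iInter.1 hz.2 i
  refine ⟨V₀, h0.trans hUW, ⟨hyU, Set.mem_iInter.2 hyV⟩,
    ∑ i, tmul (resM E h0 (e i)) (resM M (hi i) (b i)), ?_⟩
  rw [tensE_map_sum, ← resM_resM (CohB1.tensorMod E N) hUW h0 a]
  refine Eq.trans ?_ (congrArg (resM _ h0) hm)
  rw [map_sum]
  refine Finset.sum_congr rfl fun i _ => ?_
  rw [resM_tmul, app_resM, hb, resM_resM, resM_self]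

theorem exact_tensE_map {S : ShortComplex X.Modules} (hS : S.ShortExact) :
    (S.map (tensE E)).ShortExact := by
  have := hS.mono_f
  have := hS.epi_g
  have hz : tE E S.f ≫ tE E S.g = 0 := (S.map (tensE E)).zero
  let T : ShortComplex X.Modules := ShortComplex.mk (tE E S.f) (tE E S.g) hz
  suffices hT : T.ShortExact from hT
  have : Mono T.f := mono_tensE_map hE S.f
  have : Epi T.g := epi_tensE_map hE S.g
  refine { exact := ?_ }
  rw [ShortComplex.exact_iff_epi_kernel_lift]
  refine epi_of_locally_surjective _ fun W k y hy => ?_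
  obtain ⟨U, n, e, hyU, hUW, he⟩ := exists_basis_nhd hE y W hy
  let z : Γ(CohB1.tensorMod E S.X₂, W) := (kernel.ι T.g).app W k
  obtain ⟨m, hm⟩ := (bijective_sum_tmul he S.X₂ U le_rfl).2 (resM _ hUW z)
  have h0 : (tE E S.g).app U (∑ i, tmul (resM E le_rfl (e i)) (m i)) = 0 := by
    refine (congrArg ((tE E S.g).app U) hm).trans ?_
    rw [app_resM]
    exact (congrArg _ (kernel_ι_app_zero T.g W k)).trans (map_zero _)
  rw [tensE_map_sum] at h0
  have hg : ∀ i, S.g.app U (m i) = 0 := by
    have := (bijective_sum_tmul he S.X₃ U le_rfl).1 (a₁ := fun i => S.g.app U (m i)) (a₂ := 0)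
      (h0.trans (by simp [tmul_zero_right]))
    exact congrFun this
  choose b hb using fun i => sections_exact hS (m i) (hg i)
  refine ⟨U, hUW, hyU, ∑ i, tmul (resM E le_rfl (e i)) (b i),
    app_injective_of_mono (kernel.ι T.g) U ?_⟩
  rw [app_resM]
  refine Eq.trans ?_ hm
  refine (congr($(kernel.lift_ι T.g T.f T.zero).app U
    (∑ i, tmul (resM E le_rfl (e i)) (b i)))).trans ?_
  refine (tensE_map_sum E S.f _ b).trans ?_
  simp only [hb]

theorem preservesFiniteLimits_tensE : PreservesFiniteLimits (tensE E) := by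
  have := ((Functor.exact_tfae (tensE E)).out 0 3).1 fun S hS => exact_tensE_map hE hS
  exact this.1

theorem preservesFiniteColimits_tensE : PreservesFiniteColimits (tensE E) := by
  have := ((Functor.exact_tfae (tensE E)).out 0 3).1 fun S hS => exact_tensE_map hE hS
  exact this.2

end Groth.Agent.Coherent
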