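import Groth.Agent.Coherent.CohFinite
import Groth.Agent.PicLib.Invertible

/-!
# Coherent modules as quotients of sums of negative twists
-/

set_option autoImplicit false

universe u

open CategoryTheory CategoryTheory.Limits AlgebraicGeometry Opposite TopologicalSpace
  Groth.Agent.PicLib

namespace Groth.Agent.Coherent

attribute [local instance] hasFiniteBiproducts

variable {X : Scheme.{u}}

/-- Affine cover by non-vanishing loci of a family of "coordinate ratios" `g j i = x_i / x_j`. -/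
structure PowCover (X : Scheme.{u}) where
  ι : Type
  [finite : Finite ι]
  D : ι → X.Opens
  isAffine : ∀ i, IsAffineOpen (D i)
  cover : iSup D = ⊤
  g : ∀ j, ι → Γ(X, D j)
  basicOpen_g : ∀ j i, X.basicOpen (g j i) = D j ⊓ D i
  g_self : ∀ i, g i i = 1
  cocycle : ∀ i j k, PicLib.res (inf_le_left : D i ⊓ D j ≤ D i) (g i j) *
    PicLib.res (inf_le_right : D i ⊓ D j ≤ D j) (g j k) = PicLib.res inf_le_left (g i k)

namespace PowCover

variable (C : PowCover X)

/-- A family of generators with the transition functions of the `-N`th twist. -/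
structure Gens (L : X.Modules) (N : ℕ) where
  τ : ∀ i, Γ(L, C.D i)
  isGen : ∀ i, IsGen L (C.D i) (τ i)
  rel : ∀ i j, resM L (inf_le_left : C.D i ⊓ C.D j ≤ C.D i) (τ i) =
    PicLib.res (inf_le_left : C.D i ⊓ C.D j ≤ C.D i) (C.g i j) ^ N • resM L (inf_le_right : C.D i ⊓ C.D j ≤ C.D j) (τ j)

variable {M : X.Modules} [Coh.IsQCoh M]

/-- A compatible family for the `-N`th twist. -/
def Compat (M : X.Modules) (N : ℕ) (t : ∀ i, Γ(M, C.D i)) : Prop :=
  ∀ i j, resM M (inf_le_left : C.D i ⊓ C.D j ≤ C.D i) (t i) =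
    PicLib.res (inf_le_left : C.D i ⊓ C.D j ≤ C.D i) (C.g i j) ^ N • resM M (inf_le_right : C.D i ⊓ C.D j ≤ C.D j) (t j)

/-- A section on one chart extends to a twisted global section. -/
theorem exists_compat (i₀ : C.ι) (m : Γ(M, C.D i₀)) :
    ∃ N₀ : ℕ, ∀ N, N₀ ≤ N → ∃ t : ∀ i, Γ(M, C.D i), C.Compat M N t ∧ t i₀ = m := by
  have := C.finite
  have hg : ∀ j, X.basicOpen (C.g j i₀) ≤ C.D i₀ := fun j =>
    (C.basicOpen_g j i₀).le.trans inf_le_right
  -- extensions
  have ext : ∀ j, ∃ (n : ℕ) (t : Γ(M, C.D j)), resM M (X.basicOpen_le (C.g j i₀)) t =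
      PicLib.res (X.basicOpen_le (C.g j i₀)) (C.g j i₀ ^ n) • resM M (hg j) m := fun j =>
    qcoh_exists_pow_smul (C.isAffine j) M (C.g j i₀) (resM M (hg j) m)
  choose n t ht using ext
  cases nonempty_fintype C.ι
  let n₀ := Finset.univ.sup n
  obtain ⟨t', ht'def⟩ : ∃ t' : ∀ j, Γ(M, C.D j), ∀ j, t' j = C.g j i₀ ^ (n₀ - n j) • t j :=
    ⟨_, fun _ => rfl⟩
  have ht' : ∀ j (W : X.Opens) (h : W ≤ C.D j) (h' : W ≤ C.D i₀), resM M h (t' j) =
      PicLib.res h (C.g j i₀) ^ n₀ • resM M h' m := by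
    intro j W h h'
    have hW : W ≤ X.basicOpen (C.g j i₀) := (le_inf h h').trans (C.basicOpen_g j i₀).ge
    have e := congrArg (resM M hW) (ht j)
    rw [resM_smul, resM_resM, resM_resM] at e
    rw [ht'def, resM_smul, e, smul_smul]
    refine congrArg (· • _) ?_
    change PicLib.res h (C.g j i₀ ^ (n₀ - n j)) *
      PicLib.res hW (PicLib.res (X.basicOpen_le _) (C.g j i₀ ^ n j)) = _
    rw [PicLib.res_res, ← map_mul, ← pow_add, Nat.sub_add_cancel (Finset.le_sup (Finset.mem_univ j)), map_pow]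
  -- defects
  have defect : ∀ p : C.ι × C.ι, ∃ c : ℕ,
      PicLib.res (inf_le_left : C.D p.1 ⊓ C.D p.2 ≤ C.D p.1) (C.g p.1 i₀) ^ c •
        (resM M (inf_le_left : C.D p.1 ⊓ C.D p.2 ≤ C.D p.1) (t' p.1) -
          PicLib.res (inf_le_left : C.D p.1 ⊓ C.D p.2 ≤ C.D p.1) (C.g p.1 p.2) ^ n₀ •
            resM M (inf_le_right : C.D p.1 ⊓ C.D p.2 ≤ C.D p.2) (t' p.2)) = 0 := by
    rintro ⟨j, k⟩
    have hjk : IsAffineOpen (C.D j ⊓ C.D k) :=
      C.basicOpen_g j k ▸ (C.isAffine j).basicOpen (C.g j k)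
    refine qcoh_exists_pow_smul_eq_zero hjk M (PicLib.res inf_le_left (C.g j i₀)) _ ?_
    set W := X.basicOpen (PicLib.res (inf_le_left : C.D j ⊓ C.D k ≤ C.D j) (C.g j i₀))
    have hW : W ≤ C.D j ⊓ C.D k := X.basicOpen_le _
    have hWj : W ≤ C.D j := hW.trans inf_le_left
    have hWk : W ≤ C.D k := hW.trans inf_le_right
    have hW0 : W ≤ C.D i₀ := (X.basicOpen_res _ _).le.trans (inf_le_right.trans (hg j))
    rw [map_sub, resM_smul, resM_resM, resM_resM, ht' j W hWj hW0, ht' k W hWk hW0, smul_smul,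
      sub_eq_zero]
    refine congrArg (· • _) ?_
    change PicLib.res hWj (C.g j i₀) ^ n₀ = PicLib.res hW (PicLib.res inf_le_left (C.g j k) ^ n₀) *
      PicLib.res hWk (C.g k i₀) ^ n₀
    rw [map_pow, ← mul_pow]
    refine congrArg (· ^ n₀) ?_
    rw [← PicLib.res_res inf_le_right hW (C.g k i₀), ← map_mul, C.cocycle j k i₀, PicLib.res_res]
  choose c hc using defect
  let c₀ := Finset.univ.sup c
  refine ⟨n₀ + c₀, fun N hN => ?_⟩
  obtain ⟨e, he, hce⟩ : ∃ e, N = n₀ + e ∧ c₀ ≤ e := ⟨N - n₀, by omega, by omega⟩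
  refine ⟨fun j => C.g j i₀ ^ e • t' j, fun j k => ?_, ?_⟩
  · obtain ⟨d, hd⟩ := Nat.exists_eq_add_of_le ((Finset.le_sup (Finset.mem_univ (j, k))).trans hce)
    have h0 := congrArg
      (fun z => PicLib.res (inf_le_left : C.D j ⊓ C.D k ≤ C.D j) (C.g j i₀) ^ d • z) (hc (j, k))
    simp only [smul_smul, ← pow_add, smul_zero, smul_sub, sub_eq_zero] at h0
    rw [show d + c (j, k) = e by omega] at h0
    have hcoc := C.cocycle j k i₀
    rw [resM_smul, resM_smul, smul_smul]
    change PicLib.res inf_le_left (C.g j i₀ ^ e) • _ =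
      (PicLib.res inf_le_left (C.g j k) ^ N * PicLib.res inf_le_right (C.g k i₀ ^ e)) • _
    rw [map_pow, map_pow, h0, he, ← hcoc, mul_pow, pow_add]
    congr 1
    rw [show e = c (j, k) + d by omega]
    ring
  · change C.g i₀ i₀ ^ e • t' i₀ = m
    have h := ht' i₀ (C.D i₀) le_rfl le_rfl
    rw [resM_self, resM_self, C.g_self, map_one, one_pow, one_smul] at h
    rw [C.g_self, one_pow, one_smul, h]

omit [Coh.IsQCoh M] in
/-- The morphism attached to a compatible family. -/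
theorem exists_hom {L : X.Modules} {N : ℕ} (G : C.Gens L N) (t : ∀ i, Γ(M, C.D i))
    (ht : C.Compat M N t) : ∃ φ : L ⟶ M, ∀ i, φ.app (C.D i) (G.τ i) = t i := by
  obtain ⟨φ, hφ⟩ := exists_hom_of_gen (fun i : ULift.{u} C.ι => C.D i.down)
    (by rw [← C.cover]; exact Equiv.ulift.surjective.iSup_comp C.D)
    (fun i => G.τ i.down) (fun i => G.isGen i.down) (fun i => t i.down) (fun i j W hi hj c hc => by
      have hW : W ≤ C.D i.down ⊓ C.D j.down := le_inf hi hj
      have h1 := congrArg (resM L hW) (G.rel i.down j.down)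
      have h2 := congrArg (resM M hW) (ht i.down j.down)
      rw [resM_smul, resM_resM, resM_resM] at h1 h2
      have hcc : c = PicLib.res hW (PicLib.res inf_le_left (C.g i.down j.down) ^ N) :=
        ((G.isGen j.down) W hj).1 (hc.symm.trans h1)
      rw [h2, hcc])
  exact ⟨φ, fun i => hφ ⟨i⟩⟩

/-- Every coherent module is a quotient of a sum of copies of a negative enough twist. -/
theorem exists_epi (hM : Coh.IsCoh M) :
    ∃ N₀ : ℕ, ∀ N, N₀ ≤ N → ∀ L : X.Modules, C.Gens L N →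
      ∃ (k : ℕ) (π : (⨁ fun _ : Fin k => L) ⟶ M), Epi π := by
  have := C.finite
  cases nonempty_fintype C.ι
  have hfin : ∀ i, Module.Finite Γ(X, C.D i) Γ(M, C.D i) := fun i =>
    ((isCoh_iff_finite_sections M).1 hM).2 _ (C.isAffine i)
  choose r s hs using fun i => (hfin i).exists_fin
  choose N₀ hN₀ using fun p : (Σ i, Fin (r i)) => C.exists_compat (M := M) p.1 (s p.1 p.2)
  refine ⟨Finset.univ.sup N₀, fun N hN L G => ?_⟩
  choose t ht ht0 using fun p : (Σ i, Fin (r i)) =>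
    hN₀ p N ((Finset.le_sup (Finset.mem_univ p)).trans hN)
  choose φ hφ using fun p => C.exists_hom G (t p) (ht p)
  let e := Fintype.equivFin (Σ i, Fin (r i))
  refine ⟨_, biproduct.desc fun q => φ (e.symm q), epi_of_locally_surjective _ fun W a y hy => ?_⟩
  obtain ⟨i, hi⟩ := TopologicalSpace.Opens.mem_iSup.1 (C.cover.ge (Set.mem_univ y))
  have hgen : GenOn M (C.D i) (fun l : ULift.{u} (Fin (r i)) => s i l.down) :=
    genOn_of_span_top M (C.isAffine i) _ (by
      rw [← hs i]; exact congrArg _ (Equiv.ulift.surjective.range_comp (s i)))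
  obtain ⟨W', hW', hy', c, hc⟩ := hgen (W ⊓ C.D i) inf_le_right (resM M inf_le_left a) y ⟨hy, hi⟩
  rw [resM_resM] at hc
  refine ⟨W', hW'.trans inf_le_left, hy', ∑ l : ULift.{u} (Fin (r i)),
    c l • (biproduct.ι (fun _ => L) (e ⟨i, l.down⟩)).app W'
      (resM L (hW'.trans inf_le_right) (G.τ i)), ?_⟩
  rw [map_sum, hc]
  refine Finset.sum_congr rfl fun l _ => ?_
  rw [Scheme.Modules.Hom.app_smul, ← ConcreteCategory.comp_apply, ← Scheme.Modules.Hom.comp_app,
    biproduct.ι_desc, app_resM, Equiv.symm_apply_apply, hφ, ht0]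

end PowCover

end Groth.Agent.Coherent
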