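import Groth.Agent.Coherent.SteinIntClosure
import Groth.Prelude.Def_CAlg2
import Mathlib

/-! Maximal ideals of the integral closure of a unibranch local ring in a field extension. -/

set_option autoImplicit false
universe u

open IsLocalRing Polynomial

namespace Groth.Agent.Coherent

theorem isLocalRing_integralClosure_of_isUnibranch (A K : Type u) [CommRing A] [IsDomain A]
    [IsLocalRing A] [Field K] [Algebra A K] [IsFractionRing A K] (hA : CAlg2.IsUnibranch A) :
    IsLocalRing (integralClosure A K) := by
  have : IsDomain (CAlg2.red A) := hA.1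
  have := hA.2
  have hnil : nilradical A = ⊥ := nilradical_eq_zero A
  let e : CAlg2.red A ≃+* A := (Ideal.quotEquivOfEq hnil).trans (RingEquiv.quotientBot A)
  let E : FractionRing (CAlg2.red A) ≃+* K := IsFractionRing.ringEquivOfRingEquiv e
  have hE : ∀ a, E (algebraMap _ _ a) = algebraMap A K (e a) :=
    fun a => IsFractionRing.ringEquivOfRingEquiv_algebraMap e a
  have hcomp : (E.toRingHom.comp (algebraMap (CAlg2.red A) (FractionRing (CAlg2.red A)))) =
      (algebraMap A K).comp e.toRingHom := RingHom.ext hE
  have hint : ∀ x : FractionRing (CAlg2.red A),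
      x ∈ integralClosure (CAlg2.red A) (FractionRing (CAlg2.red A)) →
        E x ∈ (integralClosure A K).toSubring := by
    rintro x ⟨p, hp, hpx⟩
    refine ⟨p.map e.toRingHom, hp.map _, ?_⟩
    rw [eval₂_map, ← hcomp]
    show Polynomial.eval₂ _ (E.toRingHom x) p = 0
    rw [← hom_eval₂, hpx, map_zero]
  let φ : CAlg2.normRed A →+* integralClosure A K :=
    (E.toRingHom.comp (integralClosure (CAlg2.red A)
      (FractionRing (CAlg2.red A))).val.toRingHom).codRestrict (integralClosure A K).toSubring
      fun x => hint x x.2
  refine IsLocalRing.of_surjective' φ fun y => ?_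
  obtain ⟨p, hp, hpy⟩ := y.2
  have hcomp' : (E.symm.toRingHom.comp (algebraMap A K)) =
      (algebraMap (CAlg2.red A) (FractionRing (CAlg2.red A))).comp e.symm.toRingHom :=
    RingHom.ext fun a => E.injective (by
      simp only [RingHom.comp_apply, RingEquiv.toRingHom_eq_coe, RingEquiv.coe_toRingHom,
        RingEquiv.apply_symm_apply, hE])
  refine ⟨⟨E.symm y.1, p.map e.symm.toRingHom, hp.map _, ?_⟩, Subtype.ext (E.apply_symm_apply _)⟩
  rw [eval₂_map, ← hcomp']
  show Polynomial.eval₂ _ (E.symm.toRingHom y.1) p = 0
  rw [← hom_eval₂, hpy, map_zero]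

variable {R K M : Type u} [CommRing R] [IsLocalRing R] [Field K] [Field M]
  [Algebra R K] [Algebra K M] [Algebra R M] [IsScalarTower R K M]

/-- If the integral closure of `R` in `K` is local, the maximal ideals of the integral closure in `M`
inject into the `K`-embeddings of the algebraic closure of `K` in `M` into `AlgebraicClosure K`. -/
theorem exists_maximalSpectrum_to_emb (hloc : IsLocalRing (integralClosure R K))
    [Finite (algebraicClosure K M →ₐ[K] AlgebraicClosure K)] :
    ∃ T : MaximalSpectrum (integralClosure R M) → (algebraicClosure K M →ₐ[K] AlgebraicClosure K),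
      Function.Injective T := by
  classical
  let Ω := AlgebraicClosure K
  let L := algebraicClosure K M
  let C := integralClosure R M
  let A' := integralClosure R K
  obtain ⟨V, hV⟩ := exists_valuationSubring_dominating (algebraMap R Ω)
  -- elements integral over `R` lie in `V`
  have hVint : ∀ x : Ω, _root_.IsIntegral R x → x ∈ V := by
    intro x hx
    obtain ⟨p, hp, hpx⟩ := hx
    let σ' : R →+* V := (algebraMap R Ω).codRestrict V.toSubring fun o => (hV o).1
    have hint : _root_.IsIntegral V x := by
      refine ⟨p.map σ', hp.map σ', ?_⟩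
      rw [eval₂_map]
      exact hpx
    obtain ⟨z, rfl⟩ := IsIntegrallyClosed.isIntegral_iff.mp hint
    exact z.2
  have hCL : ∀ c : C, (c : M) ∈ L := fun c =>
    mem_algebraicClosure_iff.mpr
      ((IsIntegral.tower_top (R := R) (A := K) c.2 : _root_.IsIntegral K (c : M)).isAlgebraic)
  let j : C →+* L := (Subalgebra.val C).toRingHom.codRestrict L.toSubalgebra.toSubring hCL
  have hj : ∀ r : R, j (algebraMap R C r) = algebraMap K L (algebraMap R K r) := fun r =>
    Subtype.ext (IsScalarTower.algebraMap_apply R K M r)
  have hτint : ∀ (τ : L →ₐ[K] Ω) (c : C), _root_.IsIntegral R (τ (j c)) := by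
    intro τ c
    obtain ⟨p, hp, hpc⟩ := c.2
    have hc0 : Polynomial.eval₂ (algebraMap R C) c p = 0 := by
      apply Subtype.ext
      show (Subalgebra.val C).toRingHom _ = _
      rw [hom_eval₂]
      exact hpc
    refine ⟨p, hp, ?_⟩
    have e : (τ.toRingHom.comp (j.comp (algebraMap R C))) = algebraMap R Ω := RingHom.ext fun r =>
      (congrArg τ (hj r)).trans ((τ.commutes _).trans (IsScalarTower.algebraMap_apply R K Ω r).symm)
    rw [← e, ← RingHom.comp_assoc]
    show Polynomial.eval₂ ((τ.toRingHom.comp j).comp _) ((τ.toRingHom.comp j) c) p = 0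
    rw [← hom_eval₂, hc0, map_zero]
  let ι : (L →ₐ[K] Ω) → C →+* V := fun τ =>
    (τ.toRingHom.comp j).codRestrict V.toSubring fun c => hVint _ (hτint τ c)
  let qτ : (L →ₐ[K] Ω) → Ideal C := fun τ => (maximalIdeal V).comap (ι τ)
  have hqτ : ∀ τ c, c ∈ qτ τ ↔ τ (j c) ∈ V.nonunits := fun τ c =>
    (ValuationSubring.coe_mem_nonunits_iff (A := V) (a := ι τ c)).symm
  -- the maximal ideal of `A'`
  let a : A' →+* C := ((algebraMap K M).comp (Subalgebra.val A').toRingHom).codRestrict C.toSubring
    fun x => (x.2 : _root_.IsIntegral R (x : K)).algebraMap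
  let b : A' →+* V := ((algebraMap K Ω).comp (Subalgebra.val A').toRingHom).codRestrict V.toSubring
    fun x => hVint _ (x.2 : _root_.IsIntegral R (x : K)).algebraMap
  have hbmax : (maximalIdeal V).comap b = maximalIdeal A' := by
    refine IsLocalRing.eq_maximalIdeal (Ideal.isMaximal_of_isIntegral_of_isMaximal_comap
      (R := R) _ ?_)
    have : ((maximalIdeal V).comap b).comap (algebraMap R A') = maximalIdeal R := by
      ext o
      have he : (b (algebraMap R A' o) : Ω) = algebraMap R Ω o :=
        (IsScalarTower.algebraMap_apply R K Ω o).symm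
      rw [Ideal.mem_comap, Ideal.mem_comap,
        ← ValuationSubring.coe_mem_nonunits_iff, he]
      exact (hV o).2.symm
    rw [this]; infer_instance
  have key : ∀ (q : Ideal C), q.IsMaximal → ∀ c ∈ q, ∃ τ, c ∈ qτ τ := by
    intro q hq c hc
    have hK : _root_.IsIntegral K (c : M) := IsIntegral.tower_top c.2
    obtain ⟨p, hp, hpc⟩ := c.2
    have hdvd : minpoly K (c : M) ∣ p.map (algebraMap R K) := by
      refine minpoly.dvd _ _ ?_
      rw [aeval_map_algebraMap]
      exact hpc
    obtain ⟨g, hg⟩ := integralClosure.mem_lifts_of_monic_of_dvd_map K hp (minpoly.monic hK) hdvd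
    -- constant term lies in the maximal ideal
    have h0 : g.coeff 0 ∈ maximalIdeal A' := by
      have hcm : (q.comap a) = maximalIdeal A' := by
        refine IsLocalRing.eq_maximalIdeal (Ideal.isMaximal_of_isIntegral_of_isMaximal_comap
          (R := R) _ ?_)
        have : (q.comap a).comap (algebraMap R A') = q.comap (algebraMap R C) := by
          rw [Ideal.comap_comap]
          congr 1
          exact RingHom.ext fun r => Subtype.ext (IsScalarTower.algebraMap_apply R K M r).symm
        rw [this]
        exact Ideal.isMaximal_comap_of_isIntegral_of_isMaximal q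
      rw [← hcm, Ideal.mem_comap]
      have hgc : Polynomial.eval₂ a c g = 0 := by
        apply Subtype.ext
        show (Subalgebra.val C).toRingHom _ = _
        rw [hom_eval₂]
        have : ((Subalgebra.val C).toRingHom).comp a =
            (algebraMap K M).comp (algebraMap A' K) := rfl
        rw [this, ← eval₂_map]
        have hg' : g.map (algebraMap A' K) = minpoly K (c : M) := hg
        rw [hg']
        exact minpoly.aeval K (c : M)
      rw [← divX_mul_X_add g, eval₂_add, eval₂_mul, eval₂_X, eval₂_C] at hgc
      rw [eq_neg_of_add_eq_zero_right hgc]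
      exact q.neg_mem (q.mul_mem_left _ hc)
    -- some conjugate is a non-unit
    have hcoeff : algebraMap K Ω ((minpoly K (c : M)).coeff 0) ∈ V.nonunits := by
      have e : (minpoly K (c : M)).coeff 0 = (g.coeff 0 : A').1 := by
        have hg' : g.map (algebraMap A' K) = minpoly K (c : M) := hg
        rw [← hg', coeff_map]
        rfl
      rw [e]
      exact (ValuationSubring.coe_mem_nonunits_iff (A := V) (a := b (g.coeff 0))).mpr
        (by rw [← hbmax] at h0; exact h0)
    let P := (minpoly K (c : M)).map (algebraMap K Ω)
    have hsplit : P.Splits := IsAlgClosed.splits P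
    have hroot : ∃ r ∈ P.roots, r ∈ V.nonunits := by
      by_contra hno
      push Not at hno
      have hP : P.Monic := (minpoly.monic hK).map _
      have hprod := hsplit.coeff_zero_eq_prod_roots_of_monic hP
      rw [show P.coeff 0 = algebraMap K Ω ((minpoly K (c : M)).coeff 0) from coeff_map _ _] at hprod
      rw [hprod, ValuationSubring.mem_nonunits_iff, map_mul, map_pow, Valuation.map_neg, map_one,
        one_pow, one_mul, map_multiset_prod] at hcoeff
      refine hcoeff.ne (Multiset.prod_eq_one fun v hv => ?_)
      obtain ⟨r, hr, rfl⟩ := Multiset.mem_map.mp hv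
      have hrV : r ∈ V := by
        refine hVint r ⟨p, hp, ?_⟩
        have hroot' := (mem_roots (hP.ne_zero)).mp hr
        obtain ⟨s, hs⟩ := hdvd
        have : (p.map (algebraMap R Ω)) = P * s.map (algebraMap K Ω) := by
          rw [← Polynomial.map_mul, ← hs, Polynomial.map_map, ← IsScalarTower.algebraMap_eq]
        rw [← eval_map, this, eval_mul, hroot'.eq_zero, zero_mul]
      refine le_antisymm ((V.valuation_le_one_iff r).mpr hrV) ?_
      exact not_lt.mp fun h => hno r hr ((ValuationSubring.mem_nonunits_iff V).mpr h)
    obtain ⟨r, hr, hrn⟩ := hroot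
    have hrL : aeval r (minpoly K (j c)) = 0 := by
      have e : minpoly K (j c) = minpoly K (c : M) :=
        (minpoly.algHom_eq L.val Subtype.val_injective (j c)).symm
      rw [e, aeval_def, ← eval_map]
      exact ((mem_roots ((minpoly.monic hK).map _).ne_zero).mp hr).eq_zero
    have : Algebra.IsAlgebraic K L := algebraicClosure.isAlgebraic K M
    obtain ⟨τ, hτ⟩ := IntermediateField.exists_algHom_of_splits_of_aeval
      (fun s : L => ⟨(Algebra.IsAlgebraic.isAlgebraic s).isIntegral, IsAlgClosed.splits _⟩) hrL
    exact ⟨τ, (hqτ τ c).mpr (hτ ▸ hrn)⟩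
  have : ∀ q : MaximalSpectrum C, ∃ τ, q.asIdeal = qτ τ := by
    intro q
    have : Fintype (L →ₐ[K] Ω) := Fintype.ofFinite _
    obtain ⟨τ₀, -⟩ := key q.asIdeal q.isMaximal 0 q.asIdeal.zero_mem
    have hsub : (q.asIdeal : Set C) ⊆ ⋃ τ ∈ (↑(Finset.univ : Finset (L →ₐ[K] Ω)) : Set _),
        (qτ τ : Set C) := by
      intro c hc
      obtain ⟨τ, hτ⟩ := key q.asIdeal q.isMaximal c hc
      exact Set.mem_biUnion (Finset.mem_univ τ) hτ
    obtain ⟨τ, -, hτ⟩ := (Ideal.subset_union_prime τ₀ τ₀ fun τ _ _ _ =>
      Ideal.IsPrime.comap (ι τ)).mp hsub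
    exact ⟨τ, q.isMaximal.eq_of_le (Ideal.comap_ne_top _ (maximalIdeal.isMaximal V).ne_top) hτ⟩
  choose T hT using this
  exact ⟨T, fun p q h => MaximalSpectrum.ext ((hT p).trans (h ▸ (hT q).symm))⟩

end Groth.Agent.Coherent

open CategoryTheory AlgebraicGeometry

namespace Groth.Agent.Coherent

/-- Over a unibranch point the components of the fibre inject into the embeddings of the algebraic
closure of the function field of the base in that of the source. -/
theorem exists_components_to_emb {X Y : Scheme.{u}} [AlgebraicGeometry.IsIntegral X]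
    [AlgebraicGeometry.IsIntegral Y] [IsLocallyNoetherian Y] (f : X ⟶ Y) [IsProper f]
    (hdom : f.base (genericPoint X) ⤳ genericPoint Y) [Algebra Y.functionField X.functionField]
    (halg : algebraMap Y.functionField X.functionField =
      CohIII.stalkToFunctionField f (genericPoint Y) hdom)
    [Finite (algebraicClosure Y.functionField X.functionField →ₐ[Y.functionField]
      AlgebraicClosure Y.functionField)]
    (y : Y) (hy : CAlg2.IsUnibranch (Y.presheaf.stalk y)) :
    ∃ g : _root_.ConnectedComponents ↥(f.fiber y) →
      (algebraicClosure Y.functionField X.functionField →ₐ[Y.functionField]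
        AlgebraicClosure Y.functionField), Function.Injective g := by
  have h : f.base (genericPoint X) ⤳ y := hdom.trans (genericPoint_specializes y)
  let _ : Algebra (Y.presheaf.stalk y) X.functionField :=
    (CohIII.stalkToFunctionField f y h).toAlgebra
  have : IsScalarTower (Y.presheaf.stalk y) Y.functionField X.functionField := by
    refine IsScalarTower.of_algebraMap_eq fun r => ?_
    rw [halg]
    show f.stalkMap (genericPoint X) (Y.presheaf.stalkSpecializes h r) =
      f.stalkMap (genericPoint X) (Y.presheaf.stalkSpecializes hdom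
        (Y.presheaf.stalkSpecializes (genericPoint_specializes y) r))
    congr 1
    exact congr($((TopCat.Presheaf.stalkSpecializes_comp Y.presheaf
      hdom (genericPoint_specializes y)).symm) r)
  obtain ⟨T, hT⟩ := exists_maximalSpectrum_to_emb (M := X.functionField)
    (isLocalRing_integralClosure_of_isUnibranch (Y.presheaf.stalk y) Y.functionField hy)
  obtain ⟨M, hM⟩ := exists_stein_maximal f y h
  obtain ⟨-, -, hcomp⟩ := stein_fibre f y
  let φ := CohIII.fiberMapOver f.toNormalization f f.fromNormalization
    f.toNormalization_fromNormalization y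
  let g : f.fiber y → {w : f.normalization // f.fromNormalization w = y} := fun x =>
    ⟨f.fromNormalization.fiberι y (φ.base x), by
      have := Set.mem_range_self (f := f.fromNormalization.fiberι y) (φ.base x)
      rw [f.fromNormalization.range_fiberι] at this
      exact this⟩
  let G : _root_.ConnectedComponents (f.fiber y) →
      {w : f.normalization // f.fromNormalization w = y} :=
    Quotient.lift g fun a b hab => Subtype.ext
      (congrArg (f.fromNormalization.fiberι y) ((hcomp a b).mpr hab))
  refine ⟨T ∘ M ∘ G, hT.comp (hM.comp ?_)⟩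
  rintro ⟨a⟩ ⟨b⟩ hab
  exact Quotient.sound ((hcomp a b).mp
    ((f.fromNormalization.fiberι y).isEmbedding.injective (congrArg Subtype.val hab)))

/-- Proper dominant morphisms of integral schemes are surjective. -/
theorem nonempty_fiber_of_dominant {X Y : Scheme.{u}} [AlgebraicGeometry.IsIntegral X]
    [AlgebraicGeometry.IsIntegral Y] (f : X ⟶ Y) [IsProper f]
    (hdom : f.base (genericPoint X) ⤳ genericPoint Y) (y : Y) : Nonempty ↥(f.fiber y) := by
  have hc : IsClosed (Set.range f) := f.isClosedMap.isClosed_range
  have : y ∈ Set.range f :=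
    (hdom.trans (genericPoint_specializes y)).mem_closed hc ⟨_, rfl⟩
  rw [← Set.singleton_subset_iff] at this
  obtain ⟨x, hx⟩ := this rfl
  have : x ∈ Set.range (f.fiberι y) := by rw [f.range_fiberι]; exact hx
  exact ⟨this.choose⟩

end Groth.Agent.Coherent
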